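import Cfsg.Agent.Helper50.BRGTBase

/-!
# Brauer–Reynolds group theory (helper25, #7006): (GT1) `t` is a power of `2`

An odd prime `q ∣ t` divides `p - 1 = e t` but none of `p`, `e`, `p - e`; so a Sylow `q`-subgroup
`R` has order dividing `p - 1`, all its elements have `x ^ e = 1` (by `exp`), and `R = 1`:
contradiction.
-/

set_option autoImplicit false
set_option linter.unusedSectionVars false

namespace Cfsg.Agent.Helper50.BR

open Cfsg Cfsg.Agent.Helper25.BR

universe u

variable {G : Type u} [Group G] [Finite G] {p e t k : ℕ} [Fact p.Prime] {P : Sylow p G}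

/-- every prime divisor of `t` is `2` -/
theorem prime_dvd_t_eq_two (h : Config p e t k P) (q : ℕ) (hq : q.Prime) (hqt : q ∣ t) :
    q = 2 := by
  have hp : p.Prime := Fact.out
  by_contra hq2
  have : Fact q.Prime := ⟨hq⟩
  have hep := config_e_lt_p h
  have he2 := config_e_pos h
  -- `q ∣ p - 1`
  have hqp1 : q ∣ p - 1 := by
    rw [← h.het]
    exact dvd_mul_of_dvd_right hqt e
  -- `q ∤ e`
  have hqtk : q ∣ t * k := dvd_mul_of_dvd_left hqt k
  have hqe : ¬ q ∣ e := by
    intro hqe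
    rw [h.hek] at hqe
    have h2 : q ∣ 2 := (Nat.dvd_add_left hqtk).1 hqe
    exact hq2 ((Nat.prime_dvd_prime_iff_eq hq Nat.prime_two).1 h2)
  -- `q ≠ p`
  have hqp : q ≠ p := by
    rintro rfl
    exact config_not_p_dvd_pred h hqp1
  -- `q ∤ p - e`
  have hqpe : ¬ q ∣ p - e := by
    intro hd
    have h1 : q ∣ (p - 1) - (p - e) := Nat.dvd_sub hqp1 hd
    have h2 : (p - 1) - (p - e) = e - 1 := by omega
    rw [h2] at h1
    have h3 : e - 2 = t * k := by
      have := h.hek
      omega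
    have h4 : q ∣ (e - 1) - (e - 2) := Nat.dvd_sub h1 (h3 ▸ hqtk)
    have h5 : (e - 1) - (e - 2) = 1 := by omega
    rw [h5] at h4
    exact hq.one_lt.ne' (Nat.dvd_one.1 h4)
  -- a Sylow `q`-subgroup
  obtain ⟨R⟩ : Nonempty (Sylow q G) := inferInstance
  have hRcard : Nat.card R = q ^ (Nat.card G).factorization q := Sylow.card_eq_multiplicity R
  have hRG : Nat.card R ∣ Nat.card G := Subgroup.card_subgroup_dvd_card _
  have hRp1 : Nat.card R ∣ p - 1 := by
    rw [h.cardG] at hRG
    have hc1 : (Nat.card R).Coprime (p - e) := by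
      rw [hRcard]
      exact Nat.Coprime.pow_left _ ((Nat.Prime.coprime_iff_not_dvd hq).2 hqpe)
    have hc2 : (Nat.card R).Coprime p := by
      rw [hRcard]
      exact Nat.Coprime.pow_left _ ((Nat.coprime_primes hq hp).2 hqp)
    exact hc2.dvd_of_dvd_mul_left (hc1.dvd_of_dvd_mul_right hRG)
  -- `R = ⊥`
  have hbot : (R : Subgroup G) = ⊥ := by
    refine (Subgroup.eq_bot_iff_forall _).2 fun x hx => ?_
    have h1 : orderOf x ∣ e := orderOf_dvd_of_pow_eq_one (pow_e_eq_one_of_mem h R hRp1 x hx)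
    have h2 : orderOf x ∣ Nat.card R := Subgroup.orderOf_dvd_natCard _ hx
    have hc : (Nat.card R).Coprime e := by
      rw [hRcard]
      exact Nat.Coprime.pow_left _ ((Nat.Prime.coprime_iff_not_dvd hq).2 hqe)
    have h3 : orderOf x ∣ 1 := by
      have := Nat.dvd_gcd h2 h1
      rwa [hc.gcd_eq_one] at this
    exact orderOf_eq_one_iff.1 (Nat.dvd_one.1 h3)
  refine Sylow.ne_bot_of_dvd_card R ?_ hbot
  rw [h.cardG]
  exact dvd_mul_of_dvd_left (dvd_mul_of_dvd_right hqp1 p) _

/-- **(GT1)** `t` is a power of `2`, at least `4`. -/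
theorem gt1 (h : Config p e t k P) : ∃ c : ℕ, 2 ≤ c ∧ t = 2 ^ c := by
  have ht := h.ht
  have ht0 : t ≠ 0 := by omega
  have hpow : t = 2 ^ t.primeFactorsList.length :=
    Nat.eq_prime_pow_of_unique_prime_dvd ht0 fun {d} hd hdt => prime_dvd_t_eq_two h d hd hdt
  refine ⟨t.primeFactorsList.length, ?_, hpow⟩
  by_contra hlt
  have hlt' : t.primeFactorsList.length ≤ 1 := by omega
  have : t ≤ 2 ^ 1 := by
    rw [hpow]
    exact Nat.pow_le_pow_right (by norm_num) hlt'
  omega

end Cfsg.Agent.Helper50.BR
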