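import Cfsg.Agent.Helper50.BRGTBase

/-!
# Brauer–Reynolds group theory (helper25, #7006): (GT2) Sylow `2`-subgroups

With `t = 2 ^ c`, `c ≥ 2`: `e = 2 (1 + 2 ^ (c - 1) k)` with odd cofactor, `p` and `p - e` are odd,
so `|G|₂ = 2 t`; a Sylow `2`-subgroup `S` has order `2 t ∣ p - 1`, so by `exp` each `g ∈ S` has
`g ^ e = 1`, and `g ^ (2 t) = 1`, whence `g ^ 2 = 1`.
-/

set_option autoImplicit false
set_option linter.unusedSectionVars false

namespace Cfsg.Agent.Helper50.BR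

open Cfsg Cfsg.Agent.Helper25.BR

universe u

variable {G : Type u} [Group G] [Finite G] {p e t k : ℕ} [Fact p.Prime] {P : Sylow p G}

/-- **(GT2)** a Sylow `2`-subgroup has order `2 t` and exponent dividing `2`. -/
theorem gt2 (h : Config p e t k P) (hc : ∃ c : ℕ, 2 ≤ c ∧ t = 2 ^ c) (S : Sylow 2 G) :
    Nat.card S = 2 * t ∧ ∀ g ∈ (S : Subgroup G), g ^ 2 = 1 := by
  have hp : p.Prime := Fact.out
  obtain ⟨c, hc2, rfl⟩ := hc
  have hep := config_e_lt_p h
  have he2 := config_e_pos h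
  have hpodd : Odd p := hp.odd_of_ne_two h.hp2
  -- `e = 2 * m` with `m` odd
  obtain ⟨c', rfl⟩ : ∃ c', c = c' + 1 := ⟨c - 1, by omega⟩
  set m : ℕ := 1 + 2 ^ c' * k with hm
  have hem : e = 2 * m := by
    rw [h.hek, hm, pow_succ]
    ring
  have hmodd : Odd m := by
    obtain ⟨c'', rfl⟩ : ∃ c'', c' = c'' + 1 := ⟨c' - 1, by omega⟩
    rw [hm, pow_succ]
    exact ⟨2 ^ c'' * k, by ring⟩
  -- `p - e` is odd
  have hpeodd : Odd (p - e) := by
    obtain ⟨a, ha⟩ := hpodd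
    refine ⟨a - m, ?_⟩
    omega
  -- `|G| = 2 ^ (c' + 2) * odd`
  have hG : Nat.card G = 2 ^ (c' + 2) * (p * m * (p - e)) := by
    rw [h.cardG, ← h.het, hem]
    ring
  have hoddpart : Odd (p * m * (p - e)) := (hpodd.mul hmodd).mul hpeodd
  have hfac : (Nat.card G).factorization 2 = c' + 2 := by
    rw [hG, Nat.factorization_mul (by positivity) hoddpart.pos.ne', Finsupp.add_apply,
      Nat.Prime.factorization_pow Nat.prime_two,
      Nat.factorization_eq_zero_of_not_dvd (by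
        rw [← Nat.not_even_iff_odd, even_iff_two_dvd] at hoddpart
        exact hoddpart)]
    simp
  have hS : Nat.card S = 2 * 2 ^ (c' + 1) := by
    rw [Sylow.card_eq_multiplicity, hfac]
    ring
  refine ⟨hS, fun g hg => ?_⟩
  -- `|S| ∣ p - 1`
  have hSp1 : Nat.card S ∣ p - 1 := by
    rw [hS, ← h.het, hem]
    exact ⟨m, by ring⟩
  have h1 : orderOf g ∣ 2 * m := by
    rw [← hem]
    exact orderOf_dvd_of_pow_eq_one (pow_e_eq_one_of_mem h S hSp1 g hg)
  have h2 : orderOf g ∣ 2 * 2 ^ (c' + 1) := by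
    rw [← hS]
    exact Subgroup.orderOf_dvd_natCard _ hg
  have h3 : orderOf g ∣ 2 := by
    have h4 := Nat.dvd_gcd h1 h2
    rw [Nat.gcd_mul_left] at h4
    have hcop : Nat.Coprime m (2 ^ (c' + 1)) :=
      Nat.Coprime.pow_right _ (Nat.coprime_two_right.2 hmodd)
    rwa [hcop.gcd_eq_one, mul_one] at h4
  exact orderOf_dvd_iff_pow_eq_one.1 h3

end Cfsg.Agent.Helper50.BR
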