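import Cfsg.Agent.Helper50.BRGT5

/-!
# Brauer–Reynolds group theory (helper25, #7006): (GT3) involutions

All involutions are conjugate (each normalizes a Sylow `p`-subgroup by `exp`; move the Sylow
subgroups onto each other and use (GT0)), and `|C_G(z)| = p - 1` (count the pairs `(Q, y)`,
`y` an involution normalizing `Q`, in two ways).
-/

set_option autoImplicit false
set_option linter.unusedSectionVars false

namespace Cfsg.Agent.Helper50.BR

open Cfsg Cfsg.Agent.Helper25.BR

universe u

variable {G : Type u} [Group G] [Finite G] {p e t k : ℕ} [Fact p.Prime] {P : Sylow p G}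

/-- every involution normalizes a Sylow `p`-subgroup -/
theorem hasFP_of_orderOf_eq_two (h : Config p e t k P) (y : G) (hy : orderOf y = 2) :
    HasFP p y := by
  have hp : p.Prime := Fact.out
  have hpodd : Odd p := hp.odd_of_ne_two h.hp2
  have h2p1 : 2 ∣ p - 1 := by
    obtain ⟨a, ha⟩ := hpodd
    exact ⟨a, by omega⟩
  refine h.exp (Subgroup.zpowers y) ?_ y (Subgroup.mem_zpowers y)
  rw [Nat.card_zpowers, hy]
  exact h2p1

/-- the number of Sylow `p`-subgroups -/
theorem card_sylow_mul (h : Config p e t k P) :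
    Nat.card (Sylow p G) * (p * e) = p * (p - 1) * (p - e) := by
  have h1 := Subgroup.card_mul_index (Subgroup.normalizer ((P : Subgroup G) : Set G))
  have h2 : Nat.card (Sylow p G) = (Subgroup.normalizer ((P : Subgroup G) : Set G)).index :=
    Sylow.card_eq_index_normalizer P
  rw [← h2, h.cardN, h.cardG] at h1
  rw [mul_comm, h1]

/-- **(GT3)** involutions are conjugate and their centralizers have order `p - 1` -/
theorem gt3 (h : Config p e t k P)
    (h0 : ∀ Q : Sylow p G, Nat.card {y : G // orderOf y = 2 ∧ y • Q = Q} = p ∧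
      (∀ y z : G, orderOf y = 2 → y • Q = Q → orderOf z = 2 → z • Q = Q →
        ∃ u ∈ (Q : Subgroup G), u * y * u⁻¹ = z)) :
    (∀ y z : G, orderOf y = 2 → orderOf z = 2 → IsConj y z) ∧
    ∀ z : G, orderOf z = 2 → Nat.card (Subgroup.centralizer ({z} : Set G)) = p - 1 := by
  classical
  have hp : p.Prime := Fact.out
  have hpodd : Odd p := hp.odd_of_ne_two h.hp2
  have hp3 : 3 ≤ p := by
    have := hp.two_le
    have := h.hp2
    omega
  have hconj : ∀ y z : G, orderOf y = 2 → orderOf z = 2 → IsConj y z := by
    intro y z hy hz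
    obtain ⟨Q1, hQ1⟩ := hasFP_of_orderOf_eq_two h y hy
    obtain ⟨Q2, hQ2⟩ := hasFP_of_orderOf_eq_two h z hz
    obtain ⟨g, hg⟩ := MulAction.exists_smul_eq G Q1 Q2
    have hy' : orderOf (g * y * g⁻¹) = 2 := by
      rw [← MulAut.conj_apply, MulEquiv.orderOf_eq, hy]
    have hy'Q : (g * y * g⁻¹) • Q2 = Q2 := by
      rw [← hg, mul_smul, mul_smul, inv_smul_smul, hQ1]
    obtain ⟨u, -, hu⟩ := (h0 Q2).2 _ z hy' hy'Q hz hQ2
    rw [isConj_iff]
    refine ⟨u * g, ?_⟩
    rw [← hu]
    group
  refine ⟨hconj, fun z hz => ?_⟩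
  let _ : Fintype (Sylow p G) := Fintype.ofFinite _
  let _ : Fintype {y : G // orderOf y = 2} := Fintype.ofFinite _
  -- double counting of the pairs `(Q, y)`
  let e1 : {x : Sylow p G × G // orderOf x.2 = 2 ∧ x.2 • x.1 = x.1} ≃
      Σ Q : Sylow p G, {y : G // orderOf y = 2 ∧ y • Q = Q} :=
    { toFun := fun x => ⟨x.1.1, x.1.2, x.2⟩
      invFun := fun s => ⟨(s.1, s.2.1), s.2.2⟩
      left_inv := fun _ => rfl
      right_inv := fun _ => rfl }
  let e2 : {x : Sylow p G × G // orderOf x.2 = 2 ∧ x.2 • x.1 = x.1} ≃
      Σ y : {y : G // orderOf y = 2}, MulAction.fixedBy (Sylow p G) (y : G) :=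
    { toFun := fun x => ⟨⟨x.1.2, x.2.1⟩, ⟨x.1.1, x.2.2⟩⟩
      invFun := fun s => ⟨(s.2.1, s.1.1), s.1.2, s.2.2⟩
      left_inv := fun _ => rfl
      right_inv := fun _ => rfl }
  have hcount : Nat.card (Sylow p G) * p = Nat.card {y : G // orderOf y = 2} * t := by
    have h1 := Nat.card_congr (e1.symm.trans e2)
    rw [Nat.card_sigma, Nat.card_sigma] at h1
    have h2 : ∀ Q : Sylow p G, Nat.card {y : G // orderOf y = 2 ∧ y • Q = Q} = p :=
      fun Q => (h0 Q).1
    have h3 : ∀ y : {y : G // orderOf y = 2},
        Nat.card (MulAction.fixedBy (Sylow p G) (y : G)) = t := by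
      intro y
      refine h.fixt y ?_ ?_ (hasFP_of_orderOf_eq_two h y y.2)
      · intro h1
        have := y.2
        rw [h1, orderOf_one] at this
        omega
      · rw [y.2]
        intro hd
        have := Nat.le_of_dvd (by norm_num) hd
        omega
    simp only [h2, h3, Finset.sum_const, Finset.card_univ, smul_eq_mul] at h1
    rw [Nat.card_eq_fintype_card, Nat.card_eq_fintype_card]
    exact h1
  -- the involutions form the class of `z`
  have hI : Nat.card {y : G // orderOf y = 2} *
      Nat.card (Subgroup.centralizer ({z} : Set G)) = p * (p - 1) * (p - e) := by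
    rw [← h.cardG, ← card_isConj_mul_card_centralizer z]
    congr 1
    refine Nat.card_congr (Equiv.subtypeEquivRight fun y => ?_)
    constructor
    · intro hy
      exact hconj y z hy hz
    · intro hyz
      rw [orderOf_eq_of_isConj' hyz, hz]
  have hsyl := card_sylow_mul h
  have het := h.het
  have hep := config_e_lt_p h
  have hpos : 0 < p * (p - 1) * (p - e) := by
    have h1 : 0 < p - 1 := by omega
    have h2 : 0 < p - e := by omega
    positivity
  generalize Nat.card (Sylow p G) = n at hcount hsyl
  generalize Nat.card {y : G // orderOf y = 2} = I at hcount hI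
  generalize Nat.card (Subgroup.centralizer ({z} : Set G)) = c at hI ⊢
  generalize p - 1 = a at *
  generalize p - e = b at *
  have key : c * (p * a * b) = a * (p * a * b) := by
    calc c * (p * a * b) = c * (n * (p * e)) := by rw [hsyl]
      _ = c * (n * p) * e := by ring
      _ = c * (I * t) * e := by rw [hcount]
      _ = (I * c) * (e * t) := by ring
      _ = (p * a * b) * a := by rw [hI, het]
      _ = a * (p * a * b) := by ring
  exact Nat.eq_of_mul_eq_mul_right hpos key

end Cfsg.Agent.Helper50.BR
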