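import Cfsg.Agent.Helper50.BRGT2

/-!
# Brauer–Reynolds group theory (helper25, #7006): (GT5) `|Syl₂ G| = p` when `k = 0`

With `k = 0`: `e = 2`, `p - 1 = 2 t`.  A Sylow `2`-subgroup `S` has order `p - 1` and exponent `2`,
so for every involution `y ∈ S`, `S = C_G(y)` (orders).  Hence every involution lies in exactly one
Sylow `2`-subgroup, each Sylow `2`-subgroup contains `p - 2` involutions, and there are
`|G| / (p - 1) = p (p - 2)` involutions (one class): `|Syl₂ G| = p`.
-/

set_option autoImplicit false
set_option linter.unusedSectionVars false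

namespace Cfsg.Agent.Helper50.BR

open Cfsg Cfsg.Agent.Helper25.BR

universe u

variable {G : Type u} [Group G] [Finite G] {p e t k : ℕ} [Fact p.Prime] {P : Sylow p G}

/-- conjugate elements have the same order -/
theorem orderOf_eq_of_isConj' {y z : G} (hyz : IsConj y z) : orderOf y = orderOf z := by
  obtain ⟨c, hc⟩ := isConj_iff.1 hyz
  rw [← hc, ← MulAut.conj_apply, MulEquiv.orderOf_eq]

/-- the number of conjugates of `z` -/
theorem card_isConj_mul_card_centralizer (z : G) :
    Nat.card {y : G // IsConj y z} * Nat.card (Subgroup.centralizer ({z} : Set G)) =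
      Nat.card G := by
  have h1 := MulAction.index_stabilizer (ConjAct G) z
  have h2 := Subgroup.card_mul_index (MulAction.stabilizer (ConjAct G) z)
  rw [h1, ← Subgroup.nat_card_centralizer_nat_card_stabilizer] at h2
  have h3 : Nat.card {y : G // IsConj y z} = (MulAction.orbit (ConjAct G) z).ncard := by
    rw [← Nat.card_coe_set_eq]
    refine Nat.card_congr (Equiv.subtypeEquivRight fun y => ?_)
    exact ConjAct.mem_orbit_conjAct.symm
  rw [h3, mul_comm, h2]
  exact Nat.card_congr ConjAct.ofConjAct.toEquiv

/-- **(GT5)** there are exactly `p` Sylow `2`-subgroups -/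
theorem gt5 (h : Config p e t 0 P) (hc : ∃ c : ℕ, 2 ≤ c ∧ t = 2 ^ c)
    (h3 : (∀ y z : G, orderOf y = 2 → orderOf z = 2 → IsConj y z) ∧
      ∀ z : G, orderOf z = 2 → Nat.card (Subgroup.centralizer ({z} : Set G)) = p - 1) :
    Nat.card (Sylow 2 G) = p := by
  classical
  have hp : p.Prime := Fact.out
  have he : e = 2 := by
    have := h.hek
    omega
  have hpt : p - 1 = 2 * t := by
    rw [← h.het, he]
  have ht := h.ht
  have hp7 : 7 ≤ p := by omega
  have h2 := gt2 h hc
  -- a Sylow `2`-subgroup is the centralizer of each of its involutions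
  have hcent : ∀ (y : G), orderOf y = 2 → ∀ S : Sylow 2 G, y ∈ (S : Subgroup G) →
      (S : Subgroup G) = Subgroup.centralizer ({y} : Set G) := by
    intro y hy S hyS
    have : Finite (Subgroup.centralizer ({y} : Set G)) := inferInstance
    refine Subgroup.eq_of_le_of_card_ge ?_ ?_
    · intro x hx
      rw [Subgroup.mem_centralizer_singleton_iff]
      -- elements of `S` square to `1`, so `S` is commutative
      have hx2 : x ^ 2 = 1 := (h2 S).2 x hx
      have hy2 : y ^ 2 = 1 := (h2 S).2 y hyS
      have hxy2 : (x * y) ^ 2 = 1 := (h2 S).2 _ (mul_mem hx hyS)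
      have hxi : x⁻¹ = x := by
        rw [inv_eq_iff_mul_eq_one, ← sq, hx2]
      have hyi : y⁻¹ = y := by
        rw [inv_eq_iff_mul_eq_one, ← sq, hy2]
      have hxyi : (x * y)⁻¹ = x * y := by
        rw [inv_eq_iff_mul_eq_one, ← sq, hxy2]
      rw [mul_inv_rev, hxi, hyi] at hxyi
      exact hxyi.symm
    · rw [h3.2 y hy, (h2 S).1, hpt]
  -- the type of involutions
  -- every involution lies in a Sylow `2`-subgroup
  have hex : ∀ y : {y : G // orderOf y = 2}, ∃ S : Sylow 2 G, (y : G) ∈ (S : Subgroup G) := by
    rintro ⟨y, hy⟩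
    have hpg : IsPGroup 2 (Subgroup.zpowers y) := by
      refine IsPGroup.of_card (n := 1) ?_
      rw [Nat.card_zpowers, hy, pow_one]
    obtain ⟨S, hS⟩ := hpg.exists_le_sylow
    exact ⟨S, hS (Subgroup.mem_zpowers y)⟩
  choose f hf using hex
  have hfS : ∀ (y : {y : G // orderOf y = 2}) (S : Sylow 2 G),
      f y = S ↔ (y : G) ∈ (S : Subgroup G) := by
    intro y S
    constructor
    · rintro rfl
      exact hf y
    · intro hyS
      apply Sylow.ext
      rw [hcent y y.2 (f y) (hf y), hcent y y.2 S hyS]
  -- an involution exists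
  have h2G : 2 ∣ Nat.card G := by
    rw [h.cardG, hpt]
    exact dvd_mul_of_dvd_left (dvd_mul_of_dvd_right (dvd_mul_right 2 t) p) _
  obtain ⟨z, hz⟩ := exists_prime_orderOf_dvd_card' 2 h2G
  -- the number of involutions
  have hI : Nat.card {y : G // orderOf y = 2} = p * (p - 2) := by
    have h4 := card_isConj_mul_card_centralizer z
    rw [h3.2 z hz, h.cardG, he] at h4
    have h5 : Nat.card {y : G // orderOf y = 2} = Nat.card {y : G // IsConj y z} := by
      refine Nat.card_congr (Equiv.subtypeEquivRight fun y => ?_)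
      constructor
      · intro hy
        exact h3.1 y z hy hz
      · intro hyz
        rw [orderOf_eq_of_isConj' hyz, hz]
    rw [h5]
    have hpos : 0 < p - 1 := by omega
    apply Nat.eq_of_mul_eq_mul_right hpos
    rw [h4]
    ring
  -- the fibres of `f`
  have hfib : ∀ S : Sylow 2 G, Nat.card {y : {y : G // orderOf y = 2} // f y = S} = p - 2 := by
    intro S
    have e1 : {y : {y : G // orderOf y = 2} // f y = S} ≃
        ((((S : Subgroup G) : Set G) \ {1} : Set G)) :=
      { toFun := fun y => ⟨(y.1 : G), (hfS y.1 S).1 y.2, by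
          have h1 : orderOf (y.1 : G) = 2 := y.1.2
          intro h1'
          rw [Set.mem_singleton_iff] at h1'
          rw [h1', orderOf_one] at h1
          omega⟩
        invFun := fun x => ⟨⟨(x : G), orderOf_eq_prime ((h2 S).2 _ x.2.1) x.2.2⟩,
          (hfS _ S).2 x.2.1⟩
        left_inv := fun y => rfl
        right_inv := fun x => rfl }
    rw [Nat.card_congr e1, Nat.card_coe_set_eq,
      Set.ncard_sdiff_singleton_of_mem (one_mem (S : Subgroup G))]
    have h6 : ((S : Subgroup G) : Set G).ncard = Nat.card S := by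
      rw [← Nat.card_coe_set_eq]
      rfl
    rw [h6, (h2 S).1]
    omega
  -- count
  have hcount := Nat.card_congr (Equiv.sigmaFiberEquiv f)
  let _ : Fintype (Sylow 2 G) := Fintype.ofFinite _
  rw [Nat.card_sigma, hI] at hcount
  simp only [hfib, Finset.sum_const, Finset.card_univ, smul_eq_mul] at hcount
  rw [Nat.card_eq_fintype_card]
  have hpos : 0 < p - 2 := by omega
  exact Nat.eq_of_mul_eq_mul_right hpos hcount

end Cfsg.Agent.Helper50.BR
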