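import Cfsg.Agent.Helper25.NPCSimple
import Cfsg.Agent.Helper22.PComponent
import Cfsg.Agent.Lib.Cores

/-!
# Brauer–Reynolds (helper25, #6979): (R1) reduction of S4701 to the simple case

A perfect finite group `G` with `p ∣ |G| < p ^ 3`, a non-normal Sylow `p`-subgroup and no normal
subgroup of order `2` is simple (and not cyclic).

* `not_normal_of_perfect`: a perfect group has no normal Sylow `p`-subgroup of order `p`
  (Burnside's transfer);
* `card_ge_of_hyps` (L): a group with a non-normal Sylow `p`-subgroup of order `p` and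
  `O_{p'} = 1` has order at least `p (p ^ 2 - 1) / 2` (strong induction, the simple case is
  `Helper25.NPCSimple.card_ge_of_simple`).
-/

set_option autoImplicit false

namespace Cfsg.Agent.Helper50.BR

open Cfsg
open scoped commutatorElement

universe u

/-- commutators centralize a normal subgroup of prime order -/
theorem commutator_le_centralizer_of_card_prime {N : Type*} [Group N] {p : ℕ} [Fact p.Prime]
    (P : Subgroup N) [P.Normal] (hP : Nat.card P = p) :
    commutator N ≤ Subgroup.centralizer (P : Set N) := by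
  have : IsCyclic P := isCyclic_of_prime_card hP
  have hcomm : ∀ φ ψ : MulAut P, φ * ψ = ψ * φ := by
    intro φ ψ
    apply (IsCyclic.mulAutMulEquiv P).injective
    rw [map_mul, map_mul, mul_comm]
  rw [_root_.commutator_def, Subgroup.commutator_le]
  intro n _ m _
  rw [Subgroup.mem_centralizer_iff]
  intro x hx
  have h1 : MulAut.conjNormal (H := P) ⁅n, m⁆ = 1 := by
    rw [commutatorElement_def, map_mul, map_mul, map_mul, map_inv, map_inv,
      hcomm (MulAut.conjNormal n), mul_assoc (MulAut.conjNormal m), mul_inv_cancel, mul_one,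
      mul_inv_cancel]
  have h2 := congrArg (fun φ : MulAut P => ((φ ⟨x, hx⟩ : P) : N)) h1
  simp only [MulAut.conjNormal_apply, MulAut.one_apply] at h2
  calc x * ⁅n, m⁆ = (⁅n, m⁆ * x * ⁅n, m⁆⁻¹) * ⁅n, m⁆ := by rw [h2]
    _ = ⁅n, m⁆ * x := by group

/-- a perfect finite group has no normal Sylow `p`-subgroup of order `p` -/
theorem not_normal_of_perfect {H : Type*} [Group H] [Finite H] (hperf : commutator H = ⊤) {p : ℕ}
    [Fact p.Prime] (Q : Sylow p H) (hQ : Nat.card Q = p) : ¬ (Q : Subgroup H).Normal := by
  intro hn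
  have hp : p.Prime := Fact.out
  have hcen : ∀ x : H, x ∈ Subgroup.centralizer ((Q : Subgroup H) : Set H) := by
    intro x
    have h1 := commutator_le_centralizer_of_card_prime (Q : Subgroup H) hQ
    rw [hperf] at h1
    exact h1 (Subgroup.mem_top x)
  have hNC : Subgroup.normalizer ((Q : Subgroup H) : Set H) ≤
      Subgroup.centralizer ((Q : Subgroup H) : Set H) := fun x _ => hcen x
  have hc := MonoidHom.ker_transferSylow_isComplement' Q hNC
  have hker : (MonoidHom.transferSylow Q hNC).ker = ⊤ := by
    rw [eq_top_iff, ← hperf, _root_.commutator_def, Subgroup.commutator_le]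
    intro a _ b _
    rw [MonoidHom.mem_ker, map_commutatorElement, commutatorElement_eq_one_iff_mul_comm]
    apply Subtype.ext
    have h1 := hcen ((MonoidHom.transferSylow Q hNC) a : H)
    rw [Subgroup.mem_centralizer_iff] at h1
    rw [Subgroup.coe_mul, Subgroup.coe_mul]
    exact (h1 _ (MonoidHom.transferSylow Q hNC b).2).symm
  have h1 := hc.card_mul_card
  rw [hker, Subgroup.card_top, hQ] at h1
  have hpos : 0 < Nat.card H := Nat.card_pos
  have h2 : Nat.card H * p = Nat.card H * 1 := by rw [h1, mul_one]
  have := Nat.eq_of_mul_eq_mul_left hpos h2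
  exact hp.one_lt.ne' this

section L

variable {X : Type u} [Group X] [Finite X] {p : ℕ} [Fact p.Prime]

/-- `v_p(|X|) = 1` when a Sylow `p`-subgroup has order `p` -/
theorem factorization_eq_one_of_card_sylow (P : Sylow p X) (hP : Nat.card P = p) :
    (Nat.card X).factorization p = 1 := by
  have hp : p.Prime := Fact.out
  have h1 := Sylow.card_eq_multiplicity P
  rw [hP] at h1
  exact (Nat.pow_right_injective hp.two_le (a₁ := 1) (by simpa using h1)).symm

/-- transfer of the hypotheses of (L) to a non-trivial normal subgroup -/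
theorem hyps_of_normal (P : Sylow p X) (hP : Nat.card P = p) (hPn : ¬ (P : Subgroup X).Normal)
    (hO : Cfsg.pPrimeCore p X = ⊥) (L : Subgroup X) [hLn : L.Normal] (hL : L ≠ ⊥) :
    (∀ Q : Sylow p L, Nat.card Q = p ∧ ¬ (Q : Subgroup L).Normal) ∧
      Cfsg.pPrimeCore p L = ⊥ := by
  have hp : p.Prime := Fact.out
  have hfX := factorization_eq_one_of_card_sylow P hP
  -- `p ∣ |L|`
  have hpL : p ∣ Nat.card L := by
    by_contra hnd
    have hcop : (Nat.card L).Coprime p := ((Nat.Prime.coprime_iff_not_dvd hp).2 hnd).symm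
    have := Cfsg.Agent.Lib.le_pPrimeCore hLn hcop
    rw [hO, le_bot_iff] at this
    exact hL this
  have hL0 : Nat.card L ≠ 0 := Nat.card_pos.ne'
  have hX0 : Nat.card X ≠ 0 := Nat.card_pos.ne'
  have hfL : (Nat.card L).factorization p = 1 := by
    have h1 : 0 < (Nat.card L).factorization p := hp.factorization_pos_of_dvd hL0 hpL
    have h2 : (Nat.card L).factorization p ≤ (Nat.card X).factorization p :=
      (Nat.factorization_le_iff_dvd hL0 hX0).2 (Subgroup.card_subgroup_dvd_card L) p
    omega
  refine ⟨fun Q => ?_, ?_⟩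
  · have hQ : Nat.card Q = p := by
      rw [Sylow.card_eq_multiplicity, hfL, pow_one]
    refine ⟨hQ, fun hQn => ?_⟩
    have hchar : (Q : Subgroup L).Characteristic := Sylow.characteristic_of_normal Q hQn
    have hnorm : ((Q : Subgroup L).map L.subtype).Normal :=
      ConjAct.normal_of_characteristic_of_normal
    have hcard : Nat.card ((Q : Subgroup L).map L.subtype) = p := by
      rw [Subgroup.card_map_of_injective L.subtype_injective, hQ]
    have hpg : IsPGroup p ((Q : Subgroup L).map L.subtype) :=
      IsPGroup.of_card (n := 1) (by rw [hcard, pow_one])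
    obtain ⟨P', hP'⟩ := hpg.exists_le_sylow
    have hP'card : Nat.card P' = p := by
      rw [Sylow.card_eq_multiplicity, hfX, pow_one]
    have heq : (Q : Subgroup L).map L.subtype = (P' : Subgroup X) :=
      Subgroup.eq_of_le_of_card_ge hP' (by rw [hP'card, hcard])
    have hP'n : (P' : Subgroup X).Normal := heq ▸ hnorm
    obtain ⟨g, hg⟩ := MulAction.exists_smul_eq X P' P
    rw [Sylow.smul_eq_of_normal] at hg
    exact hPn (hg ▸ hP'n)
  · have hchar : (Cfsg.pPrimeCore p L).Characteristic :=
      Cfsg.Agent.Lib.pPrimeCore_characteristic p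
    have hnorm : ((Cfsg.pPrimeCore p L).map L.subtype).Normal :=
      ConjAct.normal_of_characteristic_of_normal
    have hcop : (Nat.card ((Cfsg.pPrimeCore p L).map L.subtype)).Coprime p := by
      rw [Subgroup.card_map_of_injective L.subtype_injective]
      exact Cfsg.Agent.Lib.card_pPrimeCore_coprime p
    have := Cfsg.Agent.Lib.le_pPrimeCore hnorm hcop
    rw [hO, le_bot_iff] at this
    exact (Subgroup.map_eq_bot_iff_of_injective _ L.subtype_injective).1 this

/-- **(L)** a group with a non-normal Sylow `p`-subgroup of order `p` and `O_{p'} = 1` has order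
at least `p (p ^ 2 - 1) / 2`. -/
theorem card_ge_of_hyps (p : ℕ) [Fact p.Prime] (hp2 : p ≠ 2) :
    ∀ (n : ℕ) (X : Type u) [Group X] [Finite X], Nat.card X = n → ∀ P : Sylow p X,
      Nat.card P = p → ¬ (P : Subgroup X).Normal → Cfsg.pPrimeCore p X = ⊥ →
      p * (p ^ 2 - 1) / 2 ≤ n := by
  intro n
  induction n using Nat.strong_induction_on with
  | _ n ih =>
  intro X _ _ hn P hP hPn hO
  have hp : p.Prime := Fact.out
  by_cases hs : IsSimpleGroup X
  · rw [← hn]
    exact Cfsg.Agent.Helper25.NPCSimple.card_ge_of_simple p hp2 (fun h => hPn (h P))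
  · have hnt : Nontrivial X := by
      rw [← Finite.one_lt_card_iff_nontrivial]
      have h1 : Nat.card P ≤ Nat.card X := Subgroup.card_le_card_group _
      have := hp.two_le
      omega
    obtain ⟨L, hLn, hLb, hLt⟩ : ∃ L : Subgroup X, L.Normal ∧ L ≠ ⊥ ∧ L ≠ ⊤ := by
      by_contra hcon
      push Not at hcon
      refine hs (IsSimpleGroup.mk fun H hH => ?_)
      by_cases hb : H = ⊥
      · exact Or.inl hb
      · exact Or.inr (hcon H hH hb)
    obtain ⟨hQ, hOL⟩ := hyps_of_normal P hP hPn hO L hLb
    obtain ⟨Q⟩ : Nonempty (Sylow p L) := inferInstance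
    have hle : Nat.card L ≤ Nat.card X := Subgroup.card_le_card_group _
    have hne : Nat.card L ≠ Nat.card X := fun h => hLt ((Subgroup.card_eq_iff_eq_top L).1 h)
    have hlt : Nat.card L < n := by omega
    have := ih (Nat.card L) hlt L rfl Q (hQ Q).1 (hQ Q).2 hOL
    omega

end L

/-- a normal subgroup of index at most `2` of a perfect group is the whole group -/
theorem eq_top_of_index_le_two {G : Type*} [Group G] [Finite G] (hperf : commutator G = ⊤)
    (N : Subgroup G) [N.Normal] (h : N.index ≤ 2) : N = ⊤ := by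
  have h0 : N.index ≠ 0 := Subgroup.index_ne_zero_of_finite
  rcases (by omega : N.index = 1 ∨ N.index = 2) with h1 | h2
  · exact Subgroup.index_eq_one.1 h1
  · have hcard : Nat.card (G ⧸ N) = 2 := by rw [← Subgroup.index_eq_card, h2]
    have : Fact (Nat.Prime 2) := ⟨Nat.prime_two⟩
    have hcyc : IsCyclic (G ⧸ N) := isCyclic_of_prime_card hcard
    have hcomm : IsMulCommutative (G ⧸ N) :=
      ⟨⟨fun a b => (IsCyclic.commGroup (α := G ⧸ N)).mul_comm a b⟩⟩
    have := Subgroup.Normal.quotient_commutative_iff_commutator_le.1 hcomm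
    rw [hperf] at this
    exact top_le_iff.1 this

/-- the case `p = 2` of (R1) is impossible -/
theorem two_case_false {G : Type*} [Group G] [Finite G] (hperf : commutator G = ⊤)
    (h2 : 2 ∣ Nat.card G) (h8 : Nat.card G < 8) (P : Sylow 2 G)
    (hP : ¬ (P : Subgroup G).Normal) : False := by
  have hpos : 0 < Nat.card G := Nat.card_pos
  obtain ⟨m, hm⟩ := h2
  have hcases : Nat.card G = 2 ^ 1 ∨ Nat.card G = 2 ^ 2 ∨ Nat.card G = 6 := by omega
  have hpg : ∀ n : ℕ, Nat.card G = 2 ^ n → False := by
    intro n hn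
    have hG : IsPGroup 2 G := IsPGroup.of_card hn
    have htop : (⊤ : Subgroup G) = P := P.is_maximal' (hG.to_subgroup ⊤) le_top
    apply hP
    rw [← htop]
    infer_instance
  rcases hcases with h | h | h
  · exact hpg 1 h
  · exact hpg 2 h
  · have : Fact (Nat.Prime 3) := ⟨Nat.prime_three⟩
    obtain ⟨x, hx⟩ := exists_prime_orderOf_dvd_card' 3 (by rw [h]; norm_num : 3 ∣ Nat.card G)
    have hcard : Nat.card (Subgroup.zpowers x) = 3 := by rw [Nat.card_zpowers, hx]
    have hidx : (Subgroup.zpowers x).index = 2 := by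
      have := Subgroup.card_mul_index (Subgroup.zpowers x)
      rw [hcard, h] at this
      omega
    have hn : (Subgroup.zpowers x).Normal := Subgroup.normal_of_index_eq_two hidx
    have := eq_top_of_index_le_two hperf (Subgroup.zpowers x) (by omega)
    rw [this, Subgroup.card_top, h] at hcard
    omega

/-- **(R1)** a perfect finite group with `p ∣ |G| < p ^ 3`, a non-normal Sylow `p`-subgroup and
no normal subgroup of order `2` is simple and not cyclic. -/
theorem simple_of_perfect {G : Type u} [Group G] [Finite G] (hperf : commutator G = ⊤) (p : ℕ)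
    [Fact p.Prime] (hdvd : p ∣ Nat.card G) (hbig : Nat.card G < p ^ 3) (P : Sylow p G)
    (hP : ¬ (P : Subgroup G).Normal) (h2 : ∀ N : Subgroup G, N.Normal → Nat.card N ≠ 2) :
    IsSimpleGroup G ∧ ¬ IsCyclic G := by
  have hp : p.Prime := Fact.out
  -- `p ≠ 2`
  have hp2 : p ≠ 2 := by
    rintro rfl
    exact two_case_false hperf hdvd (by norm_num at hbig; exact hbig) P hP
  have hp3 : 3 ≤ p := by
    have := hp.two_le
    omega
  -- `|P| = p`
  have hPcard : Nat.card P = p := by
    have h1 := Sylow.card_eq_multiplicity P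
    have ha1 : 0 < (Nat.card G).factorization p :=
      hp.factorization_pos_of_dvd Nat.card_pos.ne' hdvd
    generalize (Nat.card G).factorization p = a at h1 ha1
    by_contra hne
    have ha2 : 2 ≤ a := by
      rcases Nat.lt_or_ge a 2 with h | h
      · exfalso
        apply hne
        have : a = 1 := by omega
        rw [h1, this, pow_one]
      · exact h
    have hidx : (P : Subgroup G).index < p := by
      have h3 := Subgroup.card_mul_index (P : Subgroup G)
      have h4 : p ^ 2 ≤ Nat.card P := by
        rw [h1]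
        exact Nat.pow_le_pow_right hp.pos ha2
      by_contra hge
      push Not at hge
      have h5 : p ^ 2 * p ≤ Nat.card P * (P : Subgroup G).index := Nat.mul_le_mul h4 hge
      rw [h3] at h5
      have h6 : p ^ 3 = p ^ 2 * p := by ring
      omega
    have hdv := Sylow.card_dvd_index P
    have hmod := card_sylow_modEq_one p G
    have hle : Nat.card (Sylow p G) ≤ (P : Subgroup G).index :=
      Nat.le_of_dvd (Nat.pos_of_ne_zero Subgroup.index_ne_zero_of_finite) hdv
    have hlt : Nat.card (Sylow p G) < p := lt_of_le_of_lt hle hidx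
    have hone : Nat.card (Sylow p G) = 1 := by
      unfold Nat.ModEq at hmod
      rw [Nat.mod_eq_of_lt hlt, Nat.mod_eq_of_lt hp.one_lt] at hmod
      exact hmod
    apply hP
    have h5 : Nat.card (Sylow p G) = (Subgroup.normalizer ((P : Subgroup G) : Set G)).index :=
      Sylow.card_eq_index_normalizer P
    rw [hone] at h5
    exact Subgroup.normalizer_eq_top_iff.1 (Subgroup.index_eq_one.1 h5.symm)
  -- the bound
  have hBarith : ∀ m : ℕ, 3 ≤ m → ¬ (m * (p * (p ^ 2 - 1) / 2) < p ^ 3) := by
    intro m hm hlt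
    generalize hB : p * (p ^ 2 - 1) / 2 = B at hlt
    have h1 : p * (p ^ 2 - 1) ≤ 2 * B + 1 := by
      have h1a := Nat.div_add_mod (p * (p ^ 2 - 1)) 2
      have h1b := Nat.mod_lt (p * (p ^ 2 - 1)) (by norm_num : 0 < 2)
      omega
    have h2' : p ^ 2 - 1 + 1 = p ^ 2 := Nat.sub_add_cancel (Nat.one_le_pow _ _ hp.pos)
    have h3 : 3 * B ≤ m * B := Nat.mul_le_mul_right B hm
    generalize p ^ 2 - 1 = q at h1 h2'
    have h4 : p ^ 3 = p * q + p := by
      have : p ^ 3 = p * p ^ 2 := by ring
      rw [this, ← h2']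
      ring
    have hq : 8 ≤ q := by nlinarith
    have h5 : p * 8 ≤ p * q := Nat.mul_le_mul_left p hq
    generalize p * q = r at *
    omega
  -- `O_{p'}(G) = 1`
  have hR : Cfsg.pPrimeCore p G = ⊥ := by
    have hperf' : commutator (G ⧸ Cfsg.pPrimeCore p G) = ⊤ := by
      rw [_root_.commutator_def, ← Subgroup.map_top_of_surjective
        (QuotientGroup.mk' (Cfsg.pPrimeCore p G)) (QuotientGroup.mk'_surjective _),
        ← Subgroup.map_commutator, ← _root_.commutator_def, hperf]
    obtain ⟨Q⟩ : Nonempty (Sylow p (G ⧸ Cfsg.pPrimeCore p G)) := inferInstance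
    have hRcop : (Nat.card (Cfsg.pPrimeCore p G)).Coprime p :=
      Cfsg.Agent.Lib.card_pPrimeCore_coprime p
    have hcardG : Nat.card G = Nat.card (G ⧸ Cfsg.pPrimeCore p G) *
        Nat.card (Cfsg.pPrimeCore p G) :=
      Subgroup.card_eq_card_quotient_mul_card_subgroup _
    have hQcard : Nat.card Q = p := by
      rw [Sylow.card_eq_multiplicity]
      have h1 : (Nat.card G).factorization p = 1 := factorization_eq_one_of_card_sylow P hPcard
      rw [hcardG, Nat.factorization_mul Nat.card_pos.ne' Nat.card_pos.ne', Finsupp.add_apply,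
        Nat.factorization_eq_zero_of_not_dvd (n := Nat.card (Cfsg.pPrimeCore p G))
          ((Nat.Prime.coprime_iff_not_dvd hp).1 hRcop.symm), add_zero] at h1
      rw [h1, pow_one]
    have hQn := not_normal_of_perfect hperf' Q hQcard
    have hO' : Cfsg.pPrimeCore p (G ⧸ Cfsg.pPrimeCore p G) = ⊥ :=
      Cfsg.Agent.Helper22.pPrimeCore_quotient_eq_bot p
    have hge := card_ge_of_hyps p hp2 (Nat.card (G ⧸ Cfsg.pPrimeCore p G))
      (G ⧸ Cfsg.pPrimeCore p G) rfl Q hQcard hQn hO'
    have hRle : Nat.card (Cfsg.pPrimeCore p G) < 3 := by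
      by_contra h3
      push Not at h3
      apply hBarith (Nat.card (Cfsg.pPrimeCore p G)) h3
      calc Nat.card (Cfsg.pPrimeCore p G) * (p * (p ^ 2 - 1) / 2)
          ≤ Nat.card (Cfsg.pPrimeCore p G) * Nat.card (G ⧸ Cfsg.pPrimeCore p G) :=
            Nat.mul_le_mul_left _ hge
        _ = Nat.card G := by rw [hcardG, mul_comm]
        _ < p ^ 3 := hbig
    have hRpos : 0 < Nat.card (Cfsg.pPrimeCore p G) := Nat.card_pos
    have hR2 := h2 (Cfsg.pPrimeCore p G) inferInstance
    have hone : Nat.card (Cfsg.pPrimeCore p G) = 1 := by omega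
    exact Subgroup.card_eq_one.1 hone
  have hnt : Nontrivial G := by
    rw [← Finite.one_lt_card_iff_nontrivial]
    have h1 := Nat.le_of_dvd Nat.card_pos hdvd
    have h2 := hp.two_le
    omega
  refine ⟨?_, ?_⟩
  · refine IsSimpleGroup.mk fun L hLn => ?_
    by_contra hcon
    push Not at hcon
    obtain ⟨hLb, hLt⟩ := hcon
    obtain ⟨hQ, hOL⟩ := hyps_of_normal P hPcard hP hR L hLb
    obtain ⟨Q⟩ : Nonempty (Sylow p L) := inferInstance
    have hge := card_ge_of_hyps p hp2 (Nat.card L) L rfl Q (hQ Q).1 (hQ Q).2 hOL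
    have hidx : 3 ≤ L.index := by
      by_contra h
      push Not at h
      exact hLt (eq_top_of_index_le_two hperf L (by omega))
    apply hBarith L.index hidx
    calc L.index * (p * (p ^ 2 - 1) / 2) ≤ L.index * Nat.card L := Nat.mul_le_mul_left _ hge
      _ = Nat.card G := by rw [mul_comm, Subgroup.card_mul_index]
      _ < p ^ 3 := hbig
  · intro hcyc
    have hbot : commutator G = ⊥ := by
      rw [_root_.commutator_def, Subgroup.commutator_eq_bot_iff_le_centralizer]
      intro x _
      rw [Subgroup.mem_centralizer_iff]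
      intro y _
      exact (IsCyclic.commGroup (α := G)).mul_comm y x
    rw [hperf] at hbot
    exact top_ne_bot hbot

end Cfsg.Agent.Helper50.BR
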