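import Cfsg.Agent.Helper52.NormalRankTwo
import Cfsg.Agent.Helper24.Coprime
import Cfsg.Agent.Helper2.CyclicP
import Cfsg.Agent.Lib.Cores
import Cfsg.Prelude.Def_CaseTheorems

set_option autoImplicit false

namespace Cfsg.Agent.Helper50

open Subgroup

variable {G : Type*} [Group G]

/-- for odd `p`, `p`-rank at most one forces cyclic Sylow `p`-subgroups -/
theorem sylow_isCyclic_of_pRankLE_one [Finite G] {p : ℕ} [Fact p.Prime] (hp : p ≠ 2)
    (hrk : Cfsg.PRankLE p 1 G) (P : Sylow p G) : IsCyclic ↥(P : Subgroup G) := by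
  have hpp : p.Prime := Fact.out
  by_contra hnc
  have htop : ¬ IsCyclic (⊤ : Subgroup ↥(P : Subgroup G)) :=
    fun h => hnc ((Subgroup.topEquiv (G := ↥(P : Subgroup G))).isCyclic.mp h)
  obtain ⟨A, -, -, ⟨hAc, hAe⟩, hAcard⟩ :=
    Cfsg.Agent.Helper52.exists_normal_elementaryAbelian_sq hp P.isPGroup'
      (⊤ : Subgroup ↥(P : Subgroup G)) htop
  have h1 : IsMulCommutative ↥(A.map (P : Subgroup G).subtype) := by
    refine ⟨⟨?_⟩⟩
    rintro ⟨_, ⟨a, ha, rfl⟩⟩ ⟨_, ⟨b, hb, rfl⟩⟩
    apply Subtype.ext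
    have := hAc.is_comm.comm ⟨a, ha⟩ ⟨b, hb⟩
    have h2 : a * b = b * a := congrArg Subtype.val this
    show (P : Subgroup G).subtype a * (P : Subgroup G).subtype b
      = (P : Subgroup G).subtype b * (P : Subgroup G).subtype a
    rw [← map_mul, ← map_mul, h2]
  have h2 : ∀ a ∈ A.map (P : Subgroup G).subtype, a ^ p = 1 := by
    rintro _ ⟨a, ha, rfl⟩
    rw [← map_pow, hAe a ha, map_one]
  have h3 := hrk _ h1 h2
  rw [Subgroup.card_map_of_injective (P : Subgroup G).subtype_injective, hAcard, pow_one] at h3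
  have : p < p ^ 2 := by
    calc p = p ^ 1 := (pow_one p).symm
      _ < p ^ 2 := Nat.pow_lt_pow_right hpp.one_lt (by norm_num)
  omega

/-- if `n ^ k` and `n ^ l` lie in `H` with `k`, `l` coprime then `n ∈ H` -/
theorem mem_of_pow_mem_of_coprime {H : Subgroup G} {n : G} {k l : ℕ} (hkl : k.Coprime l)
    (hk : n ^ k ∈ H) (hl : n ^ l ∈ H) : n ∈ H := by
  have h1 : (n ^ k) ^ (Nat.gcdA k l) * (n ^ l) ^ (Nat.gcdB k l) ∈ H :=
    H.mul_mem (H.zpow_mem hk _) (H.zpow_mem hl _)
  have h2 : (n ^ k) ^ (Nat.gcdA k l) * (n ^ l) ^ (Nat.gcdB k l) = n := by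
    rw [← zpow_natCast n k, ← zpow_natCast n l, ← zpow_mul, ← zpow_mul, ← zpow_add,
      ← Nat.gcd_eq_gcd_ab, hkl.gcd_eq_one]
    simp
  rwa [h2] at h1

/-- a cyclic Sylow `p`-subgroup is central in its normalizer as soon as the normalizer centralizes
one of its elements of order `p` -/
theorem normalizer_le_centralizer_of_cyclic [Finite G] {p : ℕ} [Fact p.Prime] (P : Sylow p G)
    (hc : IsCyclic ↥(P : Subgroup G)) (x : G) (hxP : x ∈ P) (hx : orderOf x = p)
    (hcomm : ∀ n ∈ normalizer ((P : Subgroup G) : Set G), n * x = x * n) :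
    normalizer ((P : Subgroup G) : Set G) ≤ centralizer ((P : Subgroup G) : Set G) := by
  have hpp : p.Prime := Fact.out
  have hPab : ∀ a ∈ (P : Subgroup G), ∀ b ∈ (P : Subgroup G), a * b = b * a := by
    intro a ha b hb
    have := hc.isMulCommutative.is_comm.comm ⟨a, ha⟩ ⟨b, hb⟩
    exact congrArg Subtype.val this
  -- elements of order coprime to p
  have hcop : ∀ n ∈ normalizer ((P : Subgroup G) : Set G), (orderOf n).Coprime p →
      n ∈ centralizer ((P : Subgroup G) : Set G) := by
    intro n hn hno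
    have hcard : (orderOf n).Coprime (Nat.card (P : Subgroup G)) := by
      obtain ⟨k, hk⟩ := P.isPGroup'.exists_card_eq
      rw [hk]
      exact Nat.Coprime.pow_right k hno
    have key := Cfsg.Agent.Helper24.commute_of_commute_prime_order (V := (P : Subgroup G)) hPab hn hcard
      (by
        intro v hv hvprime
        -- v has order p
        have hvp : orderOf v = p := by
          obtain ⟨k, hk⟩ := (IsPGroup.iff_orderOf.mp P.isPGroup') ⟨v, hv⟩
          rw [Subgroup.orderOf_mk] at hk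
          have hdvd : orderOf v ∣ p ^ k := hk ▸ dvd_rfl
          exact (Nat.prime_dvd_prime_iff_eq hvprime hpp).mp (hvprime.dvd_of_dvd_pow hdvd)
        -- v ∈ zpowers x inside P
        have hmem := Cfsg.Agent.Helper2.mem_zpowers_of_pow_eq_one_of_isCyclic (C := ↥(P : Subgroup G))
          hpp.pos ⟨x, hxP⟩ ⟨v, hv⟩ (by rw [Subgroup.orderOf_mk]; exact hx)
          (by apply Subtype.ext; simp only [SubgroupClass.coe_pow, OneMemClass.coe_one]; rw [← hvp]; exact pow_orderOf_eq_one v)
        obtain ⟨j, hj⟩ := Subgroup.mem_zpowers_iff.mp hmem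
        have hv' : v = x ^ j := by
          have := congrArg Subtype.val hj
          simpa using this.symm
        rw [hv']
        have : Commute n x := hcomm n hn
        exact (this.zpow_right j).eq)
    rw [mem_centralizer_iff]
    intro v hv
    exact (key v hv).symm
  intro n hn
  obtain ⟨a, m, hm, hnm⟩ := Nat.exists_eq_pow_mul_and_not_dvd (orderOf_pos n).ne' p hpp.ne_one
  have hpam : (p ^ a).Coprime m := Nat.Coprime.pow_left a ((Nat.Prime.coprime_iff_not_dvd hpp).mpr hm)
  apply mem_of_pow_mem_of_coprime hpam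
  · -- n ^ (p ^ a) has order m
    apply hcop _ ((normalizer ((P : Subgroup G) : Set G)).pow_mem hn _)
    have : orderOf (n ^ p ^ a) = m := by
      rw [orderOf_pow_of_dvd (pow_ne_zero a hpp.ne_zero) (hnm ▸ Dvd.intro _ rfl), hnm]
      exact Nat.mul_div_cancel_left m (pow_pos hpp.pos a)
    rw [this]
    exact ((Nat.Prime.coprime_iff_not_dvd hpp).mpr hm).symm
  · -- n ^ m is a p-element of the normalizer, hence in P
    have hord : orderOf (n ^ m) = p ^ a := by
      have hm0 : m ≠ 0 := fun h0 => hm (by rw [h0]; exact dvd_zero p)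
      rw [orderOf_pow_of_dvd hm0 (hnm ▸ Dvd.intro_left _ rfl), hnm]
      exact Nat.mul_div_cancel _ (Nat.pos_of_ne_zero hm0)
    have hT : IsPGroup p (zpowers (n ^ m)) := by
      apply IsPGroup.of_card (n := a)
      rw [Nat.card_zpowers, hord]
    have hle : zpowers (n ^ m) ≤ normalizer ((P : Subgroup G) : Set G) :=
      zpowers_le.mpr ((normalizer ((P : Subgroup G) : Set G)).pow_mem hn _)
    have h1 : zpowers (n ^ m) ⊓ normalizer ((P : Subgroup G) : Set G) = zpowers (n ^ m) ⊓ (P : Subgroup G) :=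
      hT.inf_normalizer_sylow P
    rw [inf_eq_left.mpr hle] at h1
    have hmemP : n ^ m ∈ (P : Subgroup G) := (inf_eq_left.mp h1.symm) (mem_zpowers _)
    rw [mem_centralizer_iff]
    intro v hv
    exact hPab v hv _ hmemP

end Cfsg.Agent.Helper50
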