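import Mathlib
import Cfsg.Agent.Helper62.FrobActAb

set_option autoImplicit false

/-!
# Commutants and eigen-idempotents (helper50)

`commutant σ` is the space of endomorphisms commuting with `σ`.  If `σ` acts by scalars on the
ranges of a family of pairwise orthogonal idempotents, the commutant has dimension at least the
sum of the squares of their ranks; for an operator of prime order `r` without nonzero fixed vectors
over an algebraically closed field of characteristic prime to `r` this gives
`(dim M)^2 ≤ (r - 1) * dim (commutant σ)`.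
-/

namespace Cfsg.Agent.Helper50

open Cfsg.Agent.Helper62.FrobAct

section HH1

variable {K : Type*} [Field K] {M : Type*} [AddCommGroup M] [Module K M]

/-- the commutant of an endomorphism -/
def commutant (σ : Module.End K M) : Submodule K (Module.End K M) where
  carrier := {φ | σ * φ = φ * σ}
  add_mem' := by
    intro a b ha hb
    show σ * (a + b) = (a + b) * σ
    have ha' : σ * a = a * σ := ha
    have hb' : σ * b = b * σ := hb
    rw [mul_add, add_mul, ha', hb']
  zero_mem' := by
    show σ * 0 = 0 * σ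
    rw [mul_zero, zero_mul]
  smul_mem' := by
    intro c a ha
    show σ * (c • a) = (c • a) * σ
    have ha' : σ * a = a * σ := ha
    rw [mul_smul_comm, smul_mul_assoc, ha']

theorem mem_commutant {σ φ : Module.End K M} : φ ∈ commutant σ ↔ σ * φ = φ * σ := Iff.rfl

variable [FiniteDimensional K M]

/-- block-diagonal maps commute -/
theorem sum_sq_rk_le_finrank_commutant {ι : Type*} [Fintype ι] [DecidableEq ι]
    (e : ι → Module.End K M) (he : ∀ i j, e i * e j = if i = j then e i else 0)
    (σ : Module.End K M) (c : ι → K) (h1 : ∀ i, σ * e i = c i • e i)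
    (h2 : ∀ i, e i * σ = c i • e i) :
    ∑ i, (rk (e i)) ^ 2 ≤ Module.finrank K (commutant σ) := by
  classical
  let W : ι → Submodule K M := fun i => LinearMap.range (e i)
  have heW : ∀ i j (w : W j), e i (w : M) = if i = j then (w : M) else 0 := by
    intro i j w
    obtain ⟨v, hv⟩ := w.2
    rw [← hv]
    have := LinearMap.congr_fun (he i j) v
    rw [Module.End.mul_apply] at this
    rw [this]
    split_ifs with h
    · rw [h]
    · rfl
  let Φ : ((i : ι) → Module.End K (W i)) →ₗ[K] Module.End K M :=
    { toFun := fun f => ∑ i, (W i).subtype ∘ₗ f i ∘ₗ (e i).rangeRestrict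
      map_add' := by
        intro f g
        rw [← Finset.sum_add_distrib]
        refine Finset.sum_congr rfl (fun i _ => ?_)
        rw [Pi.add_apply, LinearMap.add_comp, LinearMap.comp_add]
      map_smul' := by
        intro a f
        rw [RingHom.id_apply, Finset.smul_sum]
        refine Finset.sum_congr rfl (fun i _ => ?_)
        rw [Pi.smul_apply, LinearMap.smul_comp, LinearMap.comp_smul] }
  have hΦapply : ∀ f (m : M), Φ f m = ∑ i, ((f i ((e i).rangeRestrict m) : W i) : M) := by
    intro f m
    show (∑ i, (W i).subtype ∘ₗ f i ∘ₗ (e i).rangeRestrict) m = _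
    rw [LinearMap.sum_apply]
    rfl
  have hΦW : ∀ f j (w : W j), Φ f (w : M) = ((f j w : W j) : M) := by
    intro f j w
    rw [hΦapply, Finset.sum_eq_single j]
    · congr 2
      apply Subtype.ext
      show e j (w : M) = (w : M)
      rw [heW j j w, if_pos rfl]
    · intro i _ hij
      have : (e i).rangeRestrict (w : M) = 0 := by
        apply Subtype.ext
        show e i (w : M) = 0
        rw [heW i j w, if_neg hij]
      rw [this, map_zero]
      rfl
    · intro h; exact absurd (Finset.mem_univ j) h
  have hσW : ∀ j (w : W j), σ (w : M) = c j • (w : M) := by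
    intro j w
    obtain ⟨v, hv⟩ := w.2
    rw [← hv]
    have := LinearMap.congr_fun (h1 j) v
    rw [Module.End.mul_apply, LinearMap.smul_apply] at this
    exact this
  have hΦmem : ∀ f, Φ f ∈ commutant σ := by
    intro f
    rw [mem_commutant]
    apply LinearMap.ext
    intro m
    rw [Module.End.mul_apply, Module.End.mul_apply, hΦapply, hΦapply, map_sum]
    refine Finset.sum_congr rfl (fun i _ => ?_)
    rw [hσW i]
    have h3 : (e i).rangeRestrict (σ m) = c i • (e i).rangeRestrict m := by
      apply Subtype.ext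
      show e i (σ m) = c i • e i m
      have := LinearMap.congr_fun (h2 i) m
      rw [Module.End.mul_apply, LinearMap.smul_apply] at this
      exact this
    rw [h3, map_smul]
    rfl
  have hΦinj : Function.Injective (Φ.codRestrict (commutant σ) hΦmem) := by
    rw [← LinearMap.ker_eq_bot, LinearMap.ker_codRestrict, LinearMap.ker_eq_bot]
    rw [injective_iff_map_eq_zero]
    intro f hf
    funext j
    apply LinearMap.ext
    intro w
    apply Subtype.ext
    rw [← hΦW f j w, hf]
    rfl
  have hfin : Module.finrank K ((i : ι) → Module.End K (W i)) = ∑ i, rk (e i) ^ 2 := by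
    rw [Module.finrank_pi_fintype]
    refine Finset.sum_congr rfl (fun i _ => ?_)
    rw [Module.finrank_linearMap]
    unfold rk
    ring
  rw [← hfin]
  exact LinearMap.finrank_le_finrank_of_injective hΦinj

/-- an operator of prime order `r` without nonzero fixed vectors has a large commutant -/
theorem sq_finrank_le_of_prime_order [IsAlgClosed K] {Γ : Type*} [Group Γ] [Finite Γ]
    (ρ : Γ →* Module.End K M) (x : Γ) {r : ℕ} (hxr : orderOf x = r)
    (hrK : (r : K) ≠ 0) (hfix : ∀ m : M, ρ x m = m → m = 0) :
    (Module.finrank K M) ^ 2 ≤ (r - 1) * Module.finrank K (commutant (ρ x)) := by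
  classical
  let G : Subgroup Γ := Subgroup.zpowers x
  have instG : Fintype G := Fintype.ofFinite G
  let σG : G →* Module.End K M := ρ.comp G.subtype
  have hcardG : Nat.card G = r := by rw [Nat.card_zpowers, hxr]
  have hG : (Nat.card G : K) ≠ 0 := by rw [hcardG]; exact hrK
  have hab : ∀ a b : G, a * b * a⁻¹ * b⁻¹ ∈ (⊥ : Subgroup G) := by
    intro a b
    rw [Subgroup.mem_bot]
    obtain ⟨a, ha⟩ := a
    obtain ⟨b, hb⟩ := b
    obtain ⟨i, rfl⟩ := Subgroup.mem_zpowers_iff.mp ha
    obtain ⟨j, rfl⟩ := Subgroup.mem_zpowers_iff.mp hb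
    apply Subtype.ext
    show x ^ i * x ^ j * (x ^ i)⁻¹ * (x ^ j)⁻¹ = 1
    rw [(Commute.zpow_zpow_self x i j).eq]
    group
  let Ψ := {ψ : G →* Kˣ // (⊥ : Subgroup G) ≤ ψ.ker}
  have instΨ : Fintype Ψ := Fintype.ofFinite Ψ
  have instBot : Fintype (⊥ : Subgroup G) := Fintype.ofFinite _
  have hsum : ∑ ψ : Ψ, proj σG ψ.1 = 1 := by
    have h := sum_proj (K := K) hG (⊥ : Subgroup G) hab σG
    rw [h, Subgroup.card_bot, Nat.cast_one, inv_one, one_smul]
    rw [Finset.sum_eq_single (1 : (⊥ : Subgroup G))]
    · simp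
    · intro b _ hb
      exact absurd (Subsingleton.elim b 1) hb
    · intro h; exact absurd (Finset.mem_univ _) h
  have hcardΨ : Fintype.card Ψ = r := by
    have h := card_chars_mul (K := K) hG (⊥ : Subgroup G) hab
    rw [Subgroup.card_bot, mul_one, hcardG, Nat.card_eq_fintype_card] at h
    exact h
  let e : Ψ → Module.End K M := fun ψ => proj σG ψ.1
  have he : ∀ i j : Ψ, e i * e j = if i = j then e i else 0 := by
    intro i j
    have := proj_mul_proj hG σG i.1 j.1
    show proj σG i.1 * proj σG j.1 = _
    rw [this]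
    by_cases h : i = j
    · rw [if_pos h, if_pos (congrArg Subtype.val h)]
    · rw [if_neg h, if_neg (fun h' => h (Subtype.ext h'))]
  let xG : G := ⟨x, Subgroup.mem_zpowers x⟩
  have hσx : σG xG = ρ x := rfl
  have hcomm := sum_sq_rk_le_finrank_commutant e he (ρ x) (fun ψ => ((ψ.1 xG : Kˣ) : K))
    (fun ψ => by rw [← hσx]; exact mul_proj σG ψ.1 xG)
    (fun ψ => by rw [← hσx]; exact proj_mul σG ψ.1 xG)
  -- the trivial character gives the zero idempotent
  let ψ₁ : Ψ := ⟨1, by intro g _; rw [MonoidHom.mem_ker]; rfl⟩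
  have he1 : e ψ₁ = 0 := by
    apply LinearMap.ext
    intro v
    rw [LinearMap.zero_apply]
    apply hfix
    have h := mul_proj σG (1 : G →* Kˣ) xG
    rw [hσx] at h
    have h2 := LinearMap.congr_fun h v
    rw [Module.End.mul_apply, LinearMap.smul_apply] at h2
    rw [MonoidHom.one_apply, Units.val_one, one_smul] at h2
    exact h2
  have hrk1 : rk (e ψ₁) = 0 := by rw [he1, rk_zero]
  have hD : ∑ ψ : Ψ, rk (e ψ) = Module.finrank K M := by
    rw [← rk_sum_of_orth Finset.univ e (fun i _ => by rw [he i i, if_pos rfl])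
      (fun i _ j _ hij => by rw [he i j, if_neg hij])]
    show rk (∑ ψ : Ψ, proj σG ψ.1) = _
    rw [hsum, rk_one]
  -- Cauchy-Schwarz on the nontrivial characters
  have hD' : ∑ ψ ∈ Finset.univ.erase ψ₁, rk (e ψ) = Module.finrank K M := by
    rw [← hD, ← Finset.add_sum_erase Finset.univ (fun ψ => rk (e ψ)) (Finset.mem_univ ψ₁), hrk1,
      zero_add]
  have hcs := sq_sum_le_card_mul_sum_sq (s := Finset.univ.erase ψ₁) (f := fun ψ : Ψ => rk (e ψ))
  rw [hD', Finset.card_erase_of_mem (Finset.mem_univ ψ₁), Finset.card_univ, hcardΨ] at hcs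
  have hle : ∑ ψ ∈ Finset.univ.erase ψ₁, rk (e ψ) ^ 2 ≤ ∑ ψ : Ψ, rk (e ψ) ^ 2 :=
    Finset.sum_le_sum_of_subset (Finset.erase_subset _ _)
  calc Module.finrank K M ^ 2 ≤ (r - 1) * ∑ ψ ∈ Finset.univ.erase ψ₁, rk (e ψ) ^ 2 := hcs
    _ ≤ (r - 1) * ∑ ψ : Ψ, rk (e ψ) ^ 2 := Nat.mul_le_mul_left _ hle
    _ ≤ (r - 1) * Module.finrank K (commutant (ρ x)) := Nat.mul_le_mul_left _ hcomm

end HH1

end Cfsg.Agent.Helper50
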