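import Mathlib
import Cfsg.Agent.Helper50.HH1

set_option autoImplicit false

/-!
# A Hall-Higman / Shult type bound (helper50)

`Q ⊴ Γ` of class at most two with centre `N` acting by scalars (faithfully) on a finite dimensional
space `M` over an algebraically closed field, `x ∈ Γ` of prime order `r` acting fixed-point-freely on
`Q / N`, all orders invertible in the field.  If `x` has no nonzero fixed vector on `M` then
`|Q : N| ≤ (r - 1) ^ 2`.

Proof: `𝔼 = End M` is the direct sum of the `ρ(a) 𝒞`, `a ∈ Q / N`, `𝒞 = End_Q M`; the Frobenius group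
`(Q / N) ⋊ ⟨x⟩` acts on `𝔼` by conjugation, and the rank formula of `Helper62` computes the
commutant of `ρ x`, which is large by `HH1`.
-/

namespace Cfsg.Agent.Helper50

open Cfsg.Agent.Helper62.FrobAct
open scoped commutatorElement

section HH2

variable {K : Type*} [Field K] {M : Type*} [AddCommGroup M] [Module K M]
variable {Γ : Type*} [Group Γ]

theorem rho_mul_inv (ρ : Γ →* Module.End K M) (g : Γ) : ρ g * ρ g⁻¹ = 1 := by
  rw [← map_mul, mul_inv_cancel, map_one]

theorem rho_inv_mul (ρ : Γ →* Module.End K M) (g : Γ) : ρ g⁻¹ * ρ g = 1 := by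
  rw [← map_mul, inv_mul_cancel, map_one]

/-- the conjugation representation on the endomorphism algebra -/
noncomputable def conjRep (ρ : Γ →* Module.End K M) : Γ →* Module.End K (Module.End K M) where
  toFun g :=
    { toFun := fun φ => ρ g * φ * ρ g⁻¹
      map_add' := fun a b => by rw [mul_add, add_mul]
      map_smul' := fun c a => by rw [RingHom.id_apply, mul_smul_comm, smul_mul_assoc] }
  map_one' := by
    apply LinearMap.ext
    intro φ
    show ρ 1 * φ * ρ 1⁻¹ = φ
    rw [inv_one, map_one, one_mul, mul_one]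
  map_mul' := by
    intro g h
    apply LinearMap.ext
    intro φ
    show ρ (g * h) * φ * ρ (g * h)⁻¹ = ρ g * (ρ h * φ * ρ h⁻¹) * ρ g⁻¹
    rw [mul_inv_rev, map_mul, map_mul]
    simp only [mul_assoc]

theorem conjRep_apply (ρ : Γ →* Module.End K M) (g : Γ) (φ : Module.End K M) :
    conjRep ρ g φ = ρ g * φ * ρ g⁻¹ := rfl

/-- left multiplication on the endomorphism algebra -/
noncomputable def lmul (b : Module.End K M) : Module.End K (Module.End K M) :=
  LinearMap.mulLeft K b

theorem lmul_apply (b φ : Module.End K M) : lmul b φ = b * φ := rfl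

theorem lmul_mul (a b : Module.End K M) : lmul a * lmul b = lmul (a * b) := by
  apply LinearMap.ext
  intro φ
  rw [Module.End.mul_apply, lmul_apply, lmul_apply, lmul_apply, mul_assoc]

theorem lmul_one : lmul (1 : Module.End K M) = 1 := by
  apply LinearMap.ext
  intro φ
  rw [lmul_apply, one_mul]
  rfl

variable [FiniteDimensional K M]

theorem shult_bound [IsAlgClosed K] [Nontrivial M] [Finite Γ]
    (ρ : Γ →* Module.End K M) (Q N : Subgroup Γ) [hQn : Q.Normal] (x : Γ)
    (hNc : ∀ z ∈ N, ∀ g : Γ, g * z = z * g)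
    (hcomm : ∀ a ∈ Q, ∀ b ∈ Q, ⁅a, b⁆ ∈ N)
    (hcent : ∀ a ∈ Q, (∀ b ∈ Q, a * b = b * a) → a ∈ N)
    (hscal : ∀ z ∈ N, ∃ s : K, ρ z = s • 1) (hfaith : ∀ z ∈ N, ρ z = 1 → z = 1)
    (hQK : (Nat.card Q : K) ≠ 0) {r : ℕ} (hr : r.Prime) (hrK : (r : K) ≠ 0)
    (hxr : orderOf x = r) (hxN : ∀ y ∈ Subgroup.zpowers x, y ∈ N → y = 1)
    (hfpf : ∀ y ∈ Subgroup.zpowers x, y ≠ 1 → ∀ a ∈ Q, ⁅y, a⁆ ∈ N → a ∈ N)
    (hfix : ∀ m : M, ρ x m = m → m = 0) :
    N.relIndex Q ≤ (r - 1) ^ 2 := by
  classical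
  have hNn : N.Normal := ⟨fun n hn g => by rw [hNc n hn g, mul_inv_cancel_right]; exact hn⟩
  let mk : Γ →* Γ ⧸ N := QuotientGroup.mk' N
  have hmk1 : ∀ g : Γ, mk g = 1 ↔ g ∈ N := fun g => QuotientGroup.eq_one_iff g
  let κ := conjRep ρ
  have hκN : N ≤ κ.ker := by
    intro z hz
    rw [MonoidHom.mem_ker]
    apply LinearMap.ext
    intro φ
    show conjRep ρ z φ = φ
    rw [conjRep_apply]
    obtain ⟨s, hs⟩ := hscal z hz
    have h1 : ρ z * φ = φ * ρ z := by rw [hs, smul_mul_assoc, one_mul, mul_smul_comm, mul_one]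
    rw [h1, mul_assoc, rho_mul_inv, mul_one]
  let κb : Γ ⧸ N →* Module.End K (Module.End K M) := QuotientGroup.lift N κ hκN
  have hκb : ∀ g : Γ, κb (mk g) = conjRep ρ g := fun g => rfl
  let U : Subgroup (Γ ⧸ N) := Q.map mk
  let E : Subgroup (Γ ⧸ N) := (Subgroup.zpowers x).map mk
  have hUn : U.Normal := hQn.map mk (QuotientGroup.mk'_surjective N)
  have hUc : ∀ u ∈ U, ∀ v ∈ U, u * v = v * u := by
    rintro _ ⟨a, ha, rfl⟩ _ ⟨b, hb, rfl⟩
    rw [← map_mul, ← map_mul]
    apply (QuotientGroup.eq).mpr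
    have h := hcomm b⁻¹ (Q.inv_mem hb) a⁻¹ (Q.inv_mem ha)
    have h2 : (a * b)⁻¹ * (b * a) = ⁅b⁻¹, a⁻¹⁆ := by
      rw [commutatorElement_def]; group
    rw [h2]; exact h
  have hUnil : Group.IsNilpotent U := by
    let _ : CommGroup U :=
      { (inferInstance : Group U) with mul_comm := fun a b => Subtype.ext (hUc a a.2 b b.2) }
    exact CommGroup.isNilpotent
  have hcardU : Nat.card U = N.relIndex Q := by
    have h := Subgroup.relIndex_ker Q mk
    rw [QuotientGroup.ker_mk'] at h
    exact h.symm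
  have hUK : (Nat.card U : K) ≠ 0 := by
    intro h0
    apply hQK
    obtain ⟨c, hc⟩ := Subgroup.card_map_dvd Q mk
    rw [hc, Nat.cast_mul]
    have : (Nat.card (Q.map mk) : K) = 0 := h0
    rw [this, zero_mul]
  have hx1 : x ≠ 1 := by
    intro h
    rw [h, orderOf_one] at hxr
    exact hr.ne_one hxr.symm
  have hxnN : x ∉ N := fun h => hx1 (hxN x (Subgroup.mem_zpowers x) h)
  have hcardE : Nat.card E = r := by
    have h1 : E = Subgroup.zpowers (mk x) := MonoidHom.map_zpowers mk x
    rw [h1, Nat.card_zpowers]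
    have : Fact r.Prime := ⟨hr⟩
    apply orderOf_eq_prime
    · rw [← map_pow, ← hxr, pow_orderOf_eq_one, map_one]
    · intro h
      exact hxnN ((hmk1 x).mp h)
  have hEK : (Nat.card E : K) ≠ 0 := by rw [hcardE]; exact hrK
  have hfpf' : ∀ e ∈ E, e ≠ 1 → ∀ u ∈ U, e * u = u * e → u = 1 := by
    rintro _ ⟨y, hy, rfl⟩ hne _ ⟨a, ha, rfl⟩ hcomm'
    rw [hmk1]
    have hy1 : y ≠ 1 := by
      intro h
      apply hne
      rw [h, map_one]
    apply hfpf y hy hy1 a ha
    rw [← hmk1, commutatorElement_def, map_mul, map_mul, map_mul, hcomm', map_inv, map_inv]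
    group
  -- the rank formula on `𝔼 = End M`
  have hform := frob_rank_formula_closed (K := K) κb U E hUK hEK hfpf'
  set P := avg K κb U with hP
  set T := avg K κb E with hT
  rw [hcardE] at hform
  have hPP : P * P = P := avg_idem κb hUK
  have hPκ : ∀ g ∈ Q, P * conjRep ρ g = P := fun g hg => by
    rw [← hκb]; exact avg_mul κb U ⟨g, hg, rfl⟩
  have hκP : ∀ g ∈ Q, conjRep ρ g * P = P := fun g hg => by
    rw [← hκb]; exact mul_avg κb U ⟨g, hg, rfl⟩
  -- the key vanishing
  have hPLP : ∀ c ∈ Q, c ∉ N → P * lmul (ρ c) * P = 0 := by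
    intro c hc hcN
    have hex : ∃ b ∈ Q, c * b ≠ b * c := by
      by_contra hcon
      push Not at hcon
      exact hcN (hcent c hc hcon)
    obtain ⟨b, hb, hbc⟩ := hex
    have hz : ⁅b, c⁆ ∈ N := hcomm b hb c hc
    obtain ⟨s, hs⟩ := hscal _ hz
    have hs1 : s ≠ 1 := by
      intro h
      rw [h, one_smul] at hs
      have := hfaith _ hz hs
      rw [commutatorElement_eq_one_iff_commute] at this
      exact hbc this.eq.symm
    have hswap : conjRep ρ b * lmul (ρ c) = s • (lmul (ρ c) * conjRep ρ b) := by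
      apply LinearMap.ext
      intro φ
      rw [Module.End.mul_apply, LinearMap.smul_apply, Module.End.mul_apply, lmul_apply, lmul_apply,
        conjRep_apply, conjRep_apply]
      have h1 : ρ b * ρ c = (s • (1 : Module.End K M)) * (ρ c * ρ b) := by
        rw [← hs, ← map_mul, ← map_mul, ← map_mul]
        congr 1
        rw [commutatorElement_def]; group
      calc ρ b * (ρ c * φ) * ρ b⁻¹ = (ρ b * ρ c) * φ * ρ b⁻¹ := by simp only [mul_assoc]
        _ = (s • (1 : Module.End K M)) * (ρ c * ρ b) * φ * ρ b⁻¹ := by rw [h1]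
        _ = s • (ρ c * (ρ b * φ * ρ b⁻¹)) := by
          rw [smul_mul_assoc, one_mul, smul_mul_assoc, smul_mul_assoc]
          simp only [mul_assoc]
    have h2 : P * lmul (ρ c) * P = s • (P * lmul (ρ c) * P) := by
      calc P * lmul (ρ c) * P = (P * conjRep ρ b) * lmul (ρ c) * P := by rw [hPκ b hb]
        _ = P * (conjRep ρ b * lmul (ρ c)) * P := by simp only [mul_assoc]
        _ = P * (s • (lmul (ρ c) * conjRep ρ b)) * P := by rw [hswap]
        _ = s • (P * lmul (ρ c) * (conjRep ρ b * P)) := by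
          rw [mul_smul_comm, smul_mul_assoc]
          simp only [mul_assoc]
        _ = s • (P * lmul (ρ c) * P) := by rw [hκP b hb]
    have h3 : (1 - s) • (P * lmul (ρ c) * P) = 0 := by
      have h4 : (1 - s) • (P * lmul (ρ c) * P) =
          (P * lmul (ρ c) * P) - s • (P * lmul (ρ c) * P) := by module
      rw [h4, ← h2, sub_self]
    rcases smul_eq_zero.mp h3 with h | h
    · exact absurd (sub_eq_zero.mp h).symm hs1
    · exact h
  -- the family of orthogonal idempotents
  let pj : Γ → Module.End K (Module.End K M) := fun a => lmul (ρ a) * P * lmul (ρ a⁻¹)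
  have hLL : ∀ a : Γ, lmul (ρ a) * lmul (ρ a⁻¹) = (1 : Module.End K (Module.End K M)) := fun a => by
    rw [lmul_mul, rho_mul_inv, lmul_one]
  have hLL' : ∀ a : Γ, lmul (ρ a⁻¹) * lmul (ρ a) = (1 : Module.End K (Module.End K M)) := fun a => by
    rw [lmul_mul, rho_inv_mul, lmul_one]
  have hpj_idem : ∀ a, pj a * pj a = pj a := by
    intro a
    calc pj a * pj a = lmul (ρ a) * P * (lmul (ρ a⁻¹) * lmul (ρ a)) * P * lmul (ρ a⁻¹) := by
          simp only [pj, mul_assoc]
      _ = lmul (ρ a) * (P * P) * lmul (ρ a⁻¹) := by rw [hLL', mul_one]; simp only [mul_assoc]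
      _ = pj a := by rw [hPP]
  have hpj_orth : ∀ a ∈ Q, ∀ b ∈ Q, a⁻¹ * b ∉ N → pj a * pj b = 0 := by
    intro a ha b hb hab
    have hc : a⁻¹ * b ∈ Q := Q.mul_mem (Q.inv_mem ha) hb
    calc pj a * pj b = lmul (ρ a) * (P * (lmul (ρ a⁻¹) * lmul (ρ b)) * P) * lmul (ρ b⁻¹) := by
          simp only [pj, mul_assoc]
      _ = lmul (ρ a) * (P * lmul (ρ (a⁻¹ * b)) * P) * lmul (ρ b⁻¹) := by
          rw [lmul_mul, ← map_mul]
      _ = 0 := by rw [hPLP _ hc hab, mul_zero, zero_mul]
  have hpj_rk : ∀ a, rk (pj a) = rk P := fun a => rk_conj (hLL a) (hLL' a) P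
  -- choose representatives of the elements of `U`
  have hrep : ∀ u : U, ∃ a ∈ Q, mk a = (u : Γ ⧸ N) := fun u => by
    obtain ⟨a, ha, h⟩ := u.2
    exact ⟨a, ha, h⟩
  choose rep hrepQ hrepmk using hrep
  have instU : Fintype U := Fintype.ofFinite U
  have horth : ∀ u ∈ (Finset.univ : Finset U), ∀ v ∈ (Finset.univ : Finset U), u ≠ v →
      pj (rep u) * pj (rep v) = 0 := by
    intro u _ v _ huv
    apply hpj_orth _ (hrepQ u) _ (hrepQ v)
    intro h
    apply huv
    apply Subtype.ext
    rw [← hrepmk u, ← hrepmk v]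
    exact (QuotientGroup.eq).mpr h
  have hsumrk : Nat.card U * rk P ≤ Module.finrank K (Module.End K M) := by
    have h1 := rk_sum_of_orth (Finset.univ : Finset U) (fun u => pj (rep u))
      (fun u _ => hpj_idem _) horth
    have h2 : ∑ u : U, rk (pj (rep u)) = Nat.card U * rk P := by
      simp only [hpj_rk, Finset.sum_const, Finset.card_univ, smul_eq_mul,
        Nat.card_eq_fintype_card]
    rw [← h2, ← h1]
    exact Submodule.finrank_le _
  -- `rk P ≥ 1`
  have hrkP : 1 ≤ rk P := by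
    have h1 : (1 : Module.End K M) ∈ LinearMap.range P := by
      rw [hP, mem_range_avg_iff κb U hUK]
      rintro _ ⟨a, ha, rfl⟩
      rw [hκb, conjRep_apply, mul_one, rho_mul_inv]
    have h2 : LinearMap.range P ≠ ⊥ := by
      intro h
      rw [h, Submodule.mem_bot] at h1
      exact one_ne_zero h1
    unfold rk
    exact Nat.one_le_iff_ne_zero.mpr (fun h => h2 (Submodule.finrank_eq_zero.mp h))
  -- the commutant of `ρ x`
  have hrange : LinearMap.range T = commutant (ρ x) := by
    ext φ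
    rw [hT, mem_range_avg_iff κb E hEK, mem_commutant]
    constructor
    · intro h
      have h1 := h (mk x) ⟨x, Subgroup.mem_zpowers x, rfl⟩
      rw [hκb, conjRep_apply] at h1
      calc ρ x * φ = ρ x * φ * (ρ x⁻¹ * ρ x) := by rw [rho_inv_mul, mul_one]
        _ = (ρ x * φ * ρ x⁻¹) * ρ x := by simp only [mul_assoc]
        _ = φ * ρ x := by rw [h1]
    · rintro h _ ⟨y, hy, rfl⟩
      rw [hκb, conjRep_apply]
      have hy' := (isOfFinOrder_of_finite x).mem_powers_iff_mem_zpowers.mpr hy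
      obtain ⟨n, rfl⟩ := (Submonoid.mem_powers_iff _ _).mp hy'
      have hk : ∀ n : ℕ, ρ (x ^ n) * φ = φ * ρ (x ^ n) := by
        intro n
        induction n with
        | zero => rw [pow_zero, map_one, one_mul, mul_one]
        | succ n ih =>
          rw [pow_succ, map_mul, mul_assoc, h, ← mul_assoc, ih, mul_assoc]
      rw [hk n, mul_assoc, rho_mul_inv, mul_one]
  have hF : rk T = Module.finrank K (commutant (ρ x)) := by
    unfold rk
    rw [hrange]
  have hC := sq_finrank_le_of_prime_order ρ x hxr hrK hfix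
  rw [← hF] at hC
  have hD2 : Module.finrank K (Module.End K M) = (Module.finrank K M) ^ 2 := by
    rw [Module.finrank_linearMap, sq]
  have hc0 : rk (T * P) ≤ rk P := rk_mul_le_left _ _
  rw [hD2] at hform hsumrk
  rw [hcardU] at hsumrk
  -- arithmetic
  set D2 := (Module.finrank K M) ^ 2
  set c := rk P
  set c0 := rk (T * P)
  set F := rk T
  set n2 := N.relIndex Q
  have hr1 : 1 ≤ r := hr.one_lt.le
  obtain ⟨t, ht⟩ : ∃ t, r = t + 1 := ⟨r - 1, by omega⟩
  rw [ht] at hform hC ⊢
  simp only [Nat.add_sub_cancel] at hC ⊢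
  -- hform : D2 + (t+1) * c0 = (t+1) * F + c ; hC : D2 ≤ t * F ; hsumrk : n2 * c ≤ D2
  have h1 : (t + 1) * F ≤ D2 + t * c := by nlinarith
  have h2 : D2 ≤ t ^ 2 * c := by nlinarith
  have h3 : n2 * c ≤ t ^ 2 * c := le_trans hsumrk h2
  exact Nat.le_of_mul_le_mul_right h3 hrkP

end HH2

end Cfsg.Agent.Helper50
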