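import Mathlib
import Cfsg.Agent.Helper50.HH2

set_option autoImplicit false

/-!
# The Shult type bound for groups of operators on an elementary abelian group (helper50)
-/

namespace Cfsg.Agent.Helper50

open Cfsg.Agent.Helper62.FrobAct
open scoped commutatorElement TensorProduct

section General

variable {K : Type*} [Field K] {V : Type*} [AddCommGroup V] [Module K V]
variable {Γ : Type*} [Group Γ]

/-- restriction of a representation to an invariant subspace -/
noncomputable def restrictRep (ρ : Γ →* Module.End K V) (M : Submodule K V)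
    (hM : ∀ g : Γ, ∀ m ∈ M, ρ g m ∈ M) : Γ →* Module.End K M where
  toFun g := (ρ g).restrict (hM g)
  map_one' := by
    apply LinearMap.ext
    intro m
    apply Subtype.ext
    rw [LinearMap.coe_restrict_apply, map_one]
    rfl
  map_mul' := by
    intro g h
    apply LinearMap.ext
    intro m
    apply Subtype.ext
    rw [LinearMap.coe_restrict_apply, map_mul, Module.End.mul_apply, Module.End.mul_apply,
      LinearMap.coe_restrict_apply, LinearMap.coe_restrict_apply]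

theorem restrictRep_coe (ρ : Γ →* Module.End K V) (M : Submodule K V)
    (hM : ∀ g : Γ, ∀ m ∈ M, ρ g m ∈ M) (g : Γ) (m : M) :
    ((restrictRep ρ M hM g m : M) : V) = ρ g (m : V) := rfl

variable [Finite Γ]

theorem mem_zpowers_exists_pow {x y : Γ} (hy : y ∈ Subgroup.zpowers x) : ∃ n : ℕ, x ^ n = y := by
  have hy' := (isOfFinOrder_of_finite x).mem_powers_iff_mem_zpowers.mpr hy
  exact (Submonoid.mem_powers_iff _ _).mp hy'

theorem fixed_eq_zero_of_avg_eq_zero (ρ : Γ →* Module.End K V) (x : Γ)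
    (hXK : (Nat.card (Subgroup.zpowers x) : K) ≠ 0)
    (h0 : avg K ρ (Subgroup.zpowers x) = 0) (v : V) (hv : ρ x v = v) : v = 0 := by
  have hmem : v ∈ LinearMap.range (avg K ρ (Subgroup.zpowers x)) := by
    rw [mem_range_avg_iff ρ (Subgroup.zpowers x) hXK]
    intro b hb
    obtain ⟨n, rfl⟩ := mem_zpowers_exists_pow hb
    clear hb
    induction n with
    | zero => rw [pow_zero, map_one]; rfl
    | succ n ih => rw [pow_succ, map_mul, Module.End.mul_apply, hv, ih]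
  rw [h0] at hmem
  obtain ⟨w, hw⟩ := hmem
  rw [← hw, LinearMap.zero_apply]

/-- an isotypic component on which a central element of prime order acts by a nontrivial scalar -/
theorem exists_isotypic [IsAlgClosed K] (ρ : Γ →* Module.End K V) (z₀ : Γ) {q : ℕ} (hq : q.Prime)
    (hz₀ : orderOf z₀ = q) (hz₀c : ∀ g : Γ, g * z₀ = z₀ * g) (hqK : (q : K) ≠ 0)
    (hne : ρ z₀ ≠ 1) :
    ∃ M : Submodule K V, (∀ g : Γ, ∀ m ∈ M, ρ g m ∈ M) ∧ M ≠ ⊥ ∧
      (∀ z ∈ Subgroup.zpowers z₀, ∃ s : K, ∀ m ∈ M, ρ z m = s • m) ∧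
      (∀ z ∈ Subgroup.zpowers z₀, (∀ m ∈ M, ρ z m = m) → z = 1) := by
  classical
  let Gz : Subgroup Γ := Subgroup.zpowers z₀
  have instGz : Fintype Gz := Fintype.ofFinite Gz
  let σz : Gz →* Module.End K V := ρ.comp Gz.subtype
  have hcardGz : Nat.card Gz = q := by rw [Nat.card_zpowers, hz₀]
  have hGzK : (Nat.card Gz : K) ≠ 0 := by rw [hcardGz]; exact hqK
  have hcz : ∀ g : Γ, ∀ z ∈ Gz, g * z = z * g := by
    intro g z hz
    obtain ⟨n, rfl⟩ := mem_zpowers_exists_pow hz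
    exact ((Commute.pow_right (hz₀c g) n)).eq
  have habz : ∀ a b : Gz, a * b * a⁻¹ * b⁻¹ ∈ (⊥ : Subgroup Gz) := by
    intro a b
    rw [Subgroup.mem_bot]
    apply Subtype.ext
    show (a : Γ) * b * (a : Γ)⁻¹ * (b : Γ)⁻¹ = 1
    rw [hcz (a : Γ) (b : Γ) b.2]
    group
  let Ψ := {ψ : Gz →* Kˣ // (⊥ : Subgroup Gz) ≤ ψ.ker}
  have instΨ : Fintype Ψ := Fintype.ofFinite Ψ
  have instBot : Fintype (⊥ : Subgroup Gz) := Fintype.ofFinite _
  have hsum : ∑ ψ : Ψ, proj σz ψ.1 = 1 := by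
    have h := sum_proj (K := K) hGzK (⊥ : Subgroup Gz) habz σz
    rw [h, Subgroup.card_bot, Nat.cast_one, inv_one, one_smul]
    rw [Finset.sum_eq_single (1 : (⊥ : Subgroup Gz))]
    · simp
    · intro b _ hb
      exact absurd (Subsingleton.elim b 1) hb
    · intro h; exact absurd (Finset.mem_univ _) h
  let zG : Gz := ⟨z₀, Subgroup.mem_zpowers z₀⟩
  have hσzG : σz zG = ρ z₀ := rfl
  have hex : ∃ ψ : Ψ, ψ.1 ≠ 1 ∧ proj σz ψ.1 ≠ 0 := by
    by_contra hcon
    push Not at hcon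
    let ψ₁ : Ψ := ⟨1, by intro g _; rw [MonoidHom.mem_ker]; rfl⟩
    have h1 : proj σz (1 : Gz →* Kˣ) = 1 := by
      rw [← hsum]
      symm
      apply Finset.sum_eq_single ψ₁
      · intro ψ _ hψ
        apply hcon ψ
        intro h
        exact hψ (Subtype.ext h)
      · intro h; exact absurd (Finset.mem_univ _) h
    have h2 := mul_proj σz (1 : Gz →* Kˣ) zG
    rw [h1, mul_one, MonoidHom.one_apply, Units.val_one, one_smul, hσzG] at h2
    exact hne h2
  obtain ⟨ψ, hψ1, hψ0⟩ := hex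
  have hfcomm : ∀ g : Γ, ρ g * proj σz ψ.1 = proj σz ψ.1 * ρ g := by
    intro g
    unfold proj
    rw [mul_smul_comm, smul_mul_assoc, Finset.mul_sum, Finset.sum_mul]
    congr 1
    refine Finset.sum_congr rfl (fun h _ => ?_)
    rw [mul_smul_comm, smul_mul_assoc]
    congr 1
    show ρ g * ρ (h : Γ) = ρ (h : Γ) * ρ g
    rw [← map_mul, ← map_mul, hcz g (h : Γ) h.2]
  have hscalar : ∀ z (hz : z ∈ Gz), ∀ m ∈ LinearMap.range (proj σz ψ.1),
      ρ z m = ((ψ.1 ⟨z, hz⟩ : Kˣ) : K) • m := by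
    rintro z hz _ ⟨v, rfl⟩
    have h1 := LinearMap.congr_fun (mul_proj σz ψ.1 ⟨z, hz⟩) v
    rw [Module.End.mul_apply, LinearMap.smul_apply] at h1
    exact h1
  have hkerψ : ∀ z (hz : z ∈ Gz), ψ.1 ⟨z, hz⟩ = 1 → z = 1 := by
    intro z hz h
    have : Fact (Nat.card Gz).Prime := ⟨by rw [hcardGz]; exact hq⟩
    rcases Subgroup.eq_bot_or_eq_top_of_prime_card (ψ.1.ker) with hk | hk
    · have hmem : (⟨z, hz⟩ : Gz) ∈ ψ.1.ker := h
      rw [hk, Subgroup.mem_bot] at hmem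
      exact congrArg Subtype.val hmem
    · exfalso
      apply hψ1
      ext g
      have hg : g ∈ ψ.1.ker := by rw [hk]; exact Subgroup.mem_top g
      rw [MonoidHom.mem_ker] at hg
      rw [hg]
      rfl
  have hMne : LinearMap.range (proj σz ψ.1) ≠ ⊥ := fun h => hψ0 (LinearMap.range_eq_bot.mp h)
  refine ⟨LinearMap.range (proj σz ψ.1), ?_, hMne, ?_, ?_⟩
  · rintro g _ ⟨v, rfl⟩
    refine ⟨ρ g v, ?_⟩
    have := LinearMap.congr_fun (hfcomm g) v
    rw [Module.End.mul_apply, Module.End.mul_apply] at this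
    exact this.symm
  · intro z hz
    exact ⟨_, hscalar z hz⟩
  · intro z hz h
    apply hkerψ z hz
    obtain ⟨m, hmM, hm0⟩ := (Submodule.ne_bot_iff _).mp hMne
    have h2 := hscalar z hz m hmM
    rw [h m hmM] at h2
    have h3 : (((ψ.1 ⟨z, hz⟩ : Kˣ) : K) - 1) • m = 0 := by
      rw [sub_smul, one_smul, ← h2, sub_self]
    rcases smul_eq_zero.mp h3 with h4 | h4
    · exact Units.ext (sub_eq_zero.mp h4)
    · exact absurd h4 hm0

end General

section HH3

variable {Γ : Type*} [Group Γ] [Finite Γ] {W : Type*} [CommGroup W] [Finite W]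

theorem shult_action_aux {p : ℕ} [hp : Fact p.Prime] (K : Type*) [Field K] [Algebra (ZMod p) K]
    [IsAlgClosed K] (φ : Γ →* MulAut W) (hexp : ∀ w : W, w ^ p = 1)
    (Q : Subgroup Γ) [Q.Normal] (z₀ x : Γ) {q r : ℕ} (hq : q.Prime) (hr : r.Prime)
    (hz₀ : orderOf z₀ = q) (hz₀c : ∀ g : Γ, g * z₀ = z₀ * g)
    (hcomm : ∀ a ∈ Q, ∀ b ∈ Q, ⁅a, b⁆ ∈ Subgroup.zpowers z₀)
    (hcent : ∀ a ∈ Q, (∀ b ∈ Q, a * b = b * a) → a ∈ Subgroup.zpowers z₀)
    (hpQ : ¬ p ∣ Nat.card Q) (hpq : p ≠ q) (hpr : p ≠ r)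
    (hxr : orderOf x = r) (hxN : ∀ y ∈ Subgroup.zpowers x, y ∈ Subgroup.zpowers z₀ → y = 1)
    (hfpf : ∀ y ∈ Subgroup.zpowers x, y ≠ 1 → ∀ a ∈ Q,
      ⁅y, a⁆ ∈ Subgroup.zpowers z₀ → a ∈ Subgroup.zpowers z₀)
    (hz₀W : ∃ w : W, φ z₀ w ≠ w) (hfix : ∀ w : W, φ x w = w → w = 1) :
    (Subgroup.zpowers z₀).relIndex Q ≤ (r - 1) ^ 2 := by
  classical
  -- the module structure
  have hexp' : ∀ v : Additive W, p • v = 0 := by
    intro v
    have : p • v = Additive.ofMul ((Additive.toMul v) ^ p) := rfl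
    rw [this, hexp]
    rfl
  let _ : Module (ZMod p) (Additive W) := AddCommGroup.zmodModule (n := p) hexp'
  let ρ₀ : Γ →* Module.End (ZMod p) (Additive W) :=
    { toFun := fun a => AddMonoidHom.toZModLinearMap p (MonoidHom.toAdditive (φ a).toMonoidHom)
      map_one' := by
        apply LinearMap.ext
        intro v
        change Additive.ofMul (φ 1 (Additive.toMul v)) = v
        rw [map_one]
        rfl
      map_mul' := by
        intro a b
        apply LinearMap.ext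
        intro v
        change Additive.ofMul (φ (a * b) (Additive.toMul v)) =
          Additive.ofMul (φ a (φ b (Additive.toMul v)))
        rw [map_mul]
        rfl }
  have hρ₀ : ∀ (a : Γ) (v : Additive W), ρ₀ a v = Additive.ofMul (φ a (Additive.toMul v)) :=
    fun _ _ => rfl
  have hcastF : ∀ n : ℕ, ¬ p ∣ n → (n : ZMod p) ≠ 0 := fun n hn h =>
    hn ((ZMod.natCast_eq_zero_iff n p).mp h)
  have hcastK : ∀ n : ℕ, ¬ p ∣ n → (n : K) ≠ 0 := by
    intro n hn
    rw [← map_natCast (algebraMap (ZMod p) K)]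
    exact (map_ne_zero (algebraMap (ZMod p) K)).mpr (hcastF n hn)
  have hpndq : ¬ p ∣ q := fun h => hpq ((Nat.prime_dvd_prime_iff_eq hp.out hq).mp h)
  have hpndr : ¬ p ∣ r := fun h => hpr ((Nat.prime_dvd_prime_iff_eq hp.out hr).mp h)
  -- `x` has no nonzero fixed vectors after base change
  have hcardX : Nat.card (Subgroup.zpowers x) = r := by rw [Nat.card_zpowers, hxr]
  have hXF : (Nat.card (Subgroup.zpowers x) : ZMod p) ≠ 0 := by rw [hcardX]; exact hcastF r hpndr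
  have hXK : (Nat.card (Subgroup.zpowers x) : K) ≠ 0 := by rw [hcardX]; exact hcastK r hpndr
  have havg0 : avg (ZMod p) ρ₀ (Subgroup.zpowers x) = (0 : Module.End (ZMod p) (Additive W)) := by
    apply LinearMap.ext
    intro v
    rw [LinearMap.zero_apply]
    have hmem : avg (ZMod p) ρ₀ (Subgroup.zpowers x) v ∈
        LinearMap.range (avg (ZMod p) ρ₀ (Subgroup.zpowers x)) := ⟨v, rfl⟩
    rw [mem_range_avg_iff ρ₀ (Subgroup.zpowers x) hXF] at hmem
    have h1 := hmem x (Subgroup.mem_zpowers x)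
    rw [hρ₀] at h1
    have h3 := hfix _ (Additive.ofMul.injective h1)
    exact Additive.toMul.injective h3
  have havgK0 : avg K (baseRep K ρ₀) (Subgroup.zpowers x) =
      (0 : Module.End K (K ⊗[ZMod p] (Additive W))) := by
    rw [avg_baseRep, havg0, map_zero]
  have hfixK := fixed_eq_zero_of_avg_eq_zero (baseRep K ρ₀) x hXK havgK0
  -- `z₀` acts nontrivially
  have hne : baseRep K ρ₀ z₀ ≠ 1 := by
    intro h2
    have h3 : ρ₀ z₀ = 1 := by
      apply baseChangeHom_injective (F := ZMod p) (V := Additive W) K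
      rw [map_one]
      exact h2
    obtain ⟨w, hw⟩ := hz₀W
    apply hw
    have h4 := LinearMap.congr_fun h3 (Additive.ofMul w)
    rw [hρ₀] at h4
    exact Additive.ofMul.injective h4
  obtain ⟨M, hMinv, hMne, hMscal, hMfaith⟩ :=
    exists_isotypic (baseRep K ρ₀) z₀ hq hz₀ hz₀c (hcastK q hpndq) hne
  have hMnt : Nontrivial M := (Submodule.nontrivial_iff_ne_bot).mpr hMne
  have hQK : (Nat.card Q : K) ≠ 0 := hcastK _ hpQ
  have hrK : (r : K) ≠ 0 := hcastK r hpndr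
  have hcz : ∀ z ∈ Subgroup.zpowers z₀, ∀ g : Γ, g * z = z * g := by
    intro z hz g
    obtain ⟨n, rfl⟩ := mem_zpowers_exists_pow hz
    exact ((Commute.pow_right (hz₀c g) n)).eq
  apply shult_bound (M := ↥M) (restrictRep (baseRep K ρ₀) M hMinv) Q (Subgroup.zpowers z₀) x hcz hcomm hcent
    ?_ ?_ hQK hr hrK hxr hxN hfpf ?_
  · intro z hz
    obtain ⟨s, hs⟩ := hMscal z hz
    refine ⟨s, ?_⟩
    apply LinearMap.ext
    intro m
    apply Subtype.ext
    rw [restrictRep_coe, LinearMap.smul_apply, Submodule.coe_smul, Module.End.one_apply]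
    exact hs m m.2
  · intro z hz h
    apply hMfaith z hz
    intro m hm
    have h1 := LinearMap.congr_fun h ⟨m, hm⟩
    have h2 := congrArg Subtype.val h1
    rw [restrictRep_coe] at h2
    exact h2
  · intro m hm
    apply Subtype.ext
    apply hfixK
    have := congrArg Subtype.val hm
    rw [restrictRep_coe] at this
    exact this

theorem shult_action {p : ℕ} [hp : Fact p.Prime] (φ : Γ →* MulAut W) (hexp : ∀ w : W, w ^ p = 1)
    (Q : Subgroup Γ) [Q.Normal] (z₀ x : Γ) {q r : ℕ} (hq : q.Prime) (hr : r.Prime)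
    (hz₀ : orderOf z₀ = q) (hz₀c : ∀ g : Γ, g * z₀ = z₀ * g)
    (hcomm : ∀ a ∈ Q, ∀ b ∈ Q, ⁅a, b⁆ ∈ Subgroup.zpowers z₀)
    (hcent : ∀ a ∈ Q, (∀ b ∈ Q, a * b = b * a) → a ∈ Subgroup.zpowers z₀)
    (hpQ : ¬ p ∣ Nat.card Q) (hpq : p ≠ q) (hpr : p ≠ r)
    (hxr : orderOf x = r) (hxN : ∀ y ∈ Subgroup.zpowers x, y ∈ Subgroup.zpowers z₀ → y = 1)
    (hfpf : ∀ y ∈ Subgroup.zpowers x, y ≠ 1 → ∀ a ∈ Q,
      ⁅y, a⁆ ∈ Subgroup.zpowers z₀ → a ∈ Subgroup.zpowers z₀)
    (hz₀W : ∃ w : W, φ z₀ w ≠ w) (hfix : ∀ w : W, φ x w = w → w = 1) :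
    (Subgroup.zpowers z₀).relIndex Q ≤ (r - 1) ^ 2 :=
  shult_action_aux (AlgebraicClosure (ZMod p)) φ hexp Q z₀ x hq hr hz₀ hz₀c hcomm hcent hpQ hpq hpr
    hxr hxN hfpf hz₀W hfix

end HH3

end Cfsg.Agent.Helper50
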