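import Mathlib
import Cfsg.Agent.Helper48.CoprimeGen

set_option autoImplicit false

/-!
# Coprime generation for a group of automorphisms (helper50)

`le_iSup_fixSub`: an abelian group `D ≤ Aut(W)` of exponent `p` and order at least `p ^ 2`, and a
`D`-invariant subgroup `Y` of `W` of order prime to `p`: `Y` is generated by the `Y ∩ C_W(d)`, `1 ≠ d ∈ D`.
-/

namespace Cfsg.Agent.Helper50

section QA1

open SemidirectProduct

variable {W : Type*} [Group W]

/-- The fixed-point subgroup of an automorphism. -/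
def fixSub (d : MulAut W) : Subgroup W where
  carrier := {x | d x = x}
  one_mem' := map_one d
  mul_mem' := by
    intro a b ha hb
    simp only [Set.mem_ofPred_eq] at ha hb ⊢
    rw [map_mul, ha, hb]
  inv_mem' := by
    intro a ha
    simp only [Set.mem_ofPred_eq] at ha ⊢
    rw [map_inv, ha]

theorem mem_fixSub {d : MulAut W} {x : W} : x ∈ fixSub d ↔ d x = x := Iff.rfl

theorem le_iSup_fixSub [Finite W] {p : ℕ} [Fact p.Prime] (D : Subgroup (MulAut W))
    (hcomm : ∀ x ∈ D, ∀ y ∈ D, x * y = y * x) (hexp : ∀ d ∈ D, d ^ p = 1)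
    (hcard : p ^ 2 ≤ Nat.card D) (Y : Subgroup W) (hpY : ¬ p ∣ Nat.card Y)
    (hinv : ∀ d ∈ D, ∀ y ∈ Y, d y ∈ Y) :
    Y ≤ ⨆ d : {d : MulAut W // d ∈ D ∧ d ≠ 1}, Y ⊓ fixSub (d : MulAut W) := by
  classical
  let G := W ⋊[D.subtype] D
  have : Finite G := Finite.of_equiv _ (SemidirectProduct.equivProd (φ := D.subtype)).symm
  let iL : W →* G := SemidirectProduct.inl
  let iR : D →* G := SemidirectProduct.inr
  have hiL : Function.Injective iL := SemidirectProduct.inl_injective
  have hiR : Function.Injective iR := SemidirectProduct.inr_injective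
  have hconj : ∀ (d : D) (w : W), iR d * iL w * (iR d)⁻¹ = iL ((d : MulAut W) w) := by
    intro d w
    have := SemidirectProduct.inl_aut (φ := D.subtype) d w
    rw [map_inv] at this
    exact this.symm
  let K : Subgroup G := Y.map iL
  let A : Subgroup G := (⊤ : Subgroup D).map iR
  have hK : Nat.card K = Nat.card Y := Subgroup.card_map_of_injective hiL
  have hA : Nat.card A = Nat.card D := by
    rw [Subgroup.card_map_of_injective hiR, Subgroup.card_top]
  have hAK : A ≤ Subgroup.normalizer (K : Set G) := by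
    apply Helper48.mem_normalizer_of_forall_conj_mem
    rintro _ ⟨d, -, rfl⟩ _ ⟨y, hy, rfl⟩
    rw [hconj]
    exact ⟨_, hinv d d.2 y hy, rfl⟩
  have hAcomm : ∀ x ∈ A, ∀ y ∈ A, x * y = y * x := by
    rintro _ ⟨d, -, rfl⟩ _ ⟨e, -, rfl⟩
    rw [← map_mul, ← map_mul]
    congr 1
    exact Subtype.ext (hcomm d d.2 e e.2)
  have hAexp : ∀ a ∈ A, a ^ p = 1 := by
    rintro _ ⟨d, -, rfl⟩
    rw [← map_pow]
    have : d ^ p = 1 := Subtype.ext (by simpa using hexp d d.2)
    rw [this, map_one]
  have hgen := Helper48.le_cgen_of_le_card (p := p) K A (by rw [hK]; exact hpY) hAK hAcomm hAexp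
    (by rw [hA]; exact hcard)
  set T : Subgroup W := ⨆ d : {d : MulAut W // d ∈ D ∧ d ≠ 1}, Y ⊓ fixSub (d : MulAut W) with hT
  have hle : Helper48.cgen K A ≤ T.map iL := by
    unfold Helper48.cgen
    apply iSup_le
    rintro ⟨a, ⟨d, -, rfl⟩, ha1⟩
    rintro g ⟨⟨y, hy, rfl⟩, hg2⟩
    have hd1 : (d : MulAut W) ≠ 1 := by
      intro h
      apply ha1
      have : d = 1 := Subtype.ext h
      rw [this, map_one]
    have hfix : (d : MulAut W) y = y := by
      have h1 : iL y * iR d = iR d * iL y := by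
        have := (Subgroup.mem_centralizer_singleton_iff).mp hg2
        exact this
      have h2 : iR d * iL y * (iR d)⁻¹ = iL y := by
        rw [← h1, mul_inv_cancel_right]
      rw [hconj] at h2
      exact hiL h2
    refine ⟨y, ?_, rfl⟩
    have : y ∈ Y ⊓ fixSub (d : MulAut W) := ⟨hy, hfix⟩
    exact (le_iSup (fun d : {d : MulAut W // d ∈ D ∧ d ≠ 1} => Y ⊓ fixSub (d : MulAut W))
      ⟨(d : MulAut W), d.2, hd1⟩) this
  intro y hy
  have h1 : iL y ∈ K := ⟨y, hy, rfl⟩
  have h2 := hle (hgen h1)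
  exact (Subgroup.mem_map_iff_mem hiL).mp h2

end QA1

end Cfsg.Agent.Helper50
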