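import Mathlib
import Cfsg.Agent.Helper73.PGroupCyclic

set_option autoImplicit false

/-!
# Automorphisms of odd order of a 2-group with at most one involution (helper50)
-/

namespace Cfsg.Agent.Helper50

section QA2

open Subgroup

theorem modEq_one_of_pow_odd {m j k : ℕ} (hk : Odd k) (h : j ^ k ≡ 1 [MOD 2 ^ m]) :
    j ≡ 1 [MOD 2 ^ m] := by
  rcases Nat.eq_zero_or_pos m with rfl | hm
  · rw [pow_zero]; exact Nat.modEq_one
  have hk0 : k ≠ 0 := by rintro rfl; simp at hk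
  have h' : ((j : ZMod (2 ^ m)) ^ k) = 1 := by
    have := (ZMod.natCast_eq_natCast_iff (j ^ k) 1 (2 ^ m)).mpr h
    simpa using this
  let u : (ZMod (2 ^ m))ˣ := Units.ofPowEqOne _ k h' hk0
  have hu0 : (u : ZMod (2 ^ m)) = (j : ZMod (2 ^ m)) := rfl
  have hu1 : u ^ k = 1 := by
    ext
    rw [Units.val_pow_eq_pow_val, hu0, h', Units.val_one]
  have hu2 : u ^ (2 ^ m) = 1 := by
    have h1 := ZMod.pow_totient u
    rw [Nat.totient_prime_pow Nat.prime_two hm] at h1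
    have h2 : 2 ^ m = 2 ^ (m - 1) * (2 - 1) * 2 := by
      have h3 : m = (m - 1) + 1 := by omega
      calc 2 ^ m = 2 ^ ((m - 1) + 1) := congrArg (fun e => 2 ^ e) h3
        _ = 2 ^ (m - 1) * (2 - 1) * 2 := by rw [pow_succ]; norm_num
    calc u ^ (2 ^ m) = u ^ (2 ^ (m - 1) * (2 - 1) * 2) := congrArg (fun e => u ^ e) h2
      _ = 1 := by rw [pow_mul, h1, one_pow]
  have hgcd : Nat.gcd k (2 ^ m) = 1 := Nat.Coprime.pow_right m (Nat.coprime_two_right.mpr hk)
  have h3 := (pow_gcd_eq_one (a := u) (m := k) (n := 2 ^ m)).mpr ⟨hu1, hu2⟩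
  rw [hgcd, pow_one] at h3
  have hj : (j : ZMod (2 ^ m)) = 1 := by
    rw [← hu0, h3, Units.val_one]
  exact (ZMod.natCast_eq_natCast_iff j 1 (2 ^ m)).mp (by simpa using hj)

variable {F : Type*} [Group F]

theorem aut_pow_apply_pow {a : F} (σ : MulAut F) {j : ℕ} (hj : σ a = a ^ j) (n : ℕ) :
    (σ ^ n) a = a ^ (j ^ n) := by
  induction n with
  | zero => simp
  | succ n ih =>
    rw [pow_succ', MulAut.mul_apply, ih, map_pow, hj, ← pow_mul, pow_succ']

/-- An automorphism of odd order sending `a` (of 2-power order) into `⟨a⟩` fixes `a`. -/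
theorem aut_fix_of_mem_zpowers {a : F} {m : ℕ} (ha : orderOf a = 2 ^ m)
    (σ : MulAut F) (hσa : σ a ∈ zpowers a) {k : ℕ} (hk : Odd k) (hσk : σ ^ k = 1) : σ a = a := by
  obtain ⟨j, hj⟩ := Helper73.exists_pow_eq_of_mem_zpowers (by rw [ha]; positivity) hσa
  have h1 := aut_pow_apply_pow σ hj k
  rw [hσk, MulAut.one_apply] at h1
  have h2 : a ^ (j ^ k) = a ^ 1 := by rw [← h1, pow_one]
  have h3 : j ^ k ≡ 1 [MOD 2 ^ m] := by
    rw [← ha]; exact pow_eq_pow_iff_modEq.mp h2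
  have h4 := modEq_one_of_pow_odd hk h3
  rw [← ha] at h4
  rw [hj]
  have := pow_eq_pow_iff_modEq.mpr h4
  rw [this, pow_one]

theorem aut_fix_zpowers {a : F} (σ : MulAut F) (h : σ a = a) {c : F} (hc : c ∈ zpowers a) : σ c = c := by
  obtain ⟨i, rfl⟩ := mem_zpowers_iff.mp hc
  rw [map_zpow, h]

/-- cyclic case -/
theorem aut_eq_one_of_isCyclic [Finite F] (hF : IsPGroup 2 F) (hc : IsCyclic F) (σ : MulAut F)
    {k : ℕ} (hk : Odd k) (hσk : σ ^ k = 1) : σ = 1 := by
  obtain ⟨g, hg⟩ := hc.exists_generator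
  obtain ⟨m, hm⟩ := (IsPGroup.iff_orderOf.mp hF) g
  have h1 : σ g = g := aut_fix_of_mem_zpowers hm σ (hg _) hk hσk
  ext y
  rw [MulAut.one_apply]
  exact aut_fix_zpowers σ h1 (hg y)

/-- generalized quaternion presentation: elements outside `⟨a⟩` -/
theorem exists_eq_mul_of_index_two {a x y : F} (hidx : (zpowers a).index = 2) (hx : x ∉ zpowers a)
    (hy : y ∉ zpowers a) : ∃ c ∈ zpowers a, y = c * x := by
  have h1 : y * x⁻¹ ∈ zpowers a := by
    rw [Subgroup.mul_mem_iff_of_index_two hidx, inv_mem_iff]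
    exact ⟨fun h => absurd h hy, fun h => absurd h hx⟩
  exact ⟨y * x⁻¹, h1, by group⟩

theorem conj_zpowers_of_conj_inv {a x c : F} (hconj : x * a * x⁻¹ = a⁻¹) (hc : c ∈ zpowers a) :
    x * c * x⁻¹ = c⁻¹ := by
  obtain ⟨i, rfl⟩ := mem_zpowers_iff.mp hc
  have : x * a ^ i * x⁻¹ = (x * a * x⁻¹) ^ i := by
    have := map_zpow (MulAut.conj x) a i
    simpa only [MulAut.conj_apply] using this
  rw [this, hconj, inv_zpow]

theorem sq_eq_of_conj_inv {a x c : F} (hconj : x * a * x⁻¹ = a⁻¹) (hc : c ∈ zpowers a) :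
    (c * x) ^ 2 = x ^ 2 := by
  have h := conj_zpowers_of_conj_inv hconj hc
  have h2 : x * c = c⁻¹ * x := by
    calc x * c = (x * c * x⁻¹) * x := by group
      _ = c⁻¹ * x := by rw [h]
  calc (c * x) ^ 2 = c * (x * c) * x := by rw [pow_two]; group
    _ = c * (c⁻¹ * x) * x := by rw [h2]
    _ = x ^ 2 := by rw [pow_two]; group

/-- generalized quaternion of order at least 16: automorphisms of odd order are trivial. -/
theorem aut_eq_one_of_quaternion_large [Finite F] {a x : F} {m : ℕ} (hm : 3 ≤ m)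
    (ha : orderOf a = 2 ^ m) (hx : x ∉ zpowers a) (hconj : x * a * x⁻¹ = a⁻¹)
    (hx2 : x ^ 2 = a ^ (2 ^ (m - 1))) (hidx : (zpowers a).index = 2)
    (σ : MulAut F) {k : ℕ} (hk : Odd k) (hσk : σ ^ k = 1) : σ = 1 := by
  have hx4 : x ^ 4 = 1 := by
    have : x ^ 4 = (x ^ 2) ^ 2 := by rw [← pow_mul]
    rw [this, hx2, ← pow_mul, ← pow_succ, Nat.sub_add_cancel (by omega), ← ha, pow_orderOf_eq_one]
  -- elements outside ⟨a⟩ have 4th power 1
  have hout : ∀ y : F, y ∉ zpowers a → y ^ 4 = 1 := by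
    intro y hy
    obtain ⟨c, hc, rfl⟩ := exists_eq_mul_of_index_two hidx hx hy
    have : (c * x) ^ 4 = ((c * x) ^ 2) ^ 2 := by rw [← pow_mul]
    rw [this, sq_eq_of_conj_inv hconj hc, ← pow_mul, hx4]
  have hσa : σ a ∈ zpowers a := by
    by_contra hcon
    have h4 := hout _ hcon
    have ho : orderOf (σ a) = 2 ^ m := by rw [MulEquiv.orderOf_eq, ha]
    have hd : 2 ^ m ∣ 4 := by rw [← ho]; exact orderOf_dvd_of_pow_eq_one h4
    have : (2 : ℕ) ^ m ≤ 4 := Nat.le_of_dvd (by norm_num) hd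
    have h8 : (2 : ℕ) ^ 3 ≤ 2 ^ m := Nat.pow_le_pow_right (by norm_num) hm
    omega
  have hfa : σ a = a := aut_fix_of_mem_zpowers ha σ hσa hk hσk
  have hfH : ∀ c ∈ zpowers a, σ c = c := fun c hc => aut_fix_zpowers σ hfa hc
  have hσx : σ x ∉ zpowers a := by
    intro h
    have := hfH _ h
    have hx' : σ x = x := σ.injective this
    rw [hx'] at h
    exact hx h
  obtain ⟨c, hc, hcx⟩ := exists_eq_mul_of_index_two hidx hx hσx
  have hpow : ∀ n : ℕ, (σ ^ n) x = c ^ n * x := by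
    intro n
    induction n with
    | zero => simp
    | succ n ih =>
      rw [pow_succ', MulAut.mul_apply, ih, map_mul, map_pow, hfH c hc, hcx, pow_succ]
      group
  have h1 := hpow k
  rw [hσk, MulAut.one_apply] at h1
  have hck : c ^ k = 1 := by
    have : c ^ k * x = 1 * x := by rw [← h1, one_mul]
    exact mul_right_cancel this
  have hc2 : c ^ (2 ^ m) = 1 := by
    obtain ⟨i, rfl⟩ := mem_zpowers_iff.mp hc
    rw [← zpow_natCast, ← zpow_mul, mul_comm, zpow_mul, zpow_natCast, ← ha, pow_orderOf_eq_one, one_zpow]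
  have hgcd : Nat.gcd k (2 ^ m) = 1 := Nat.Coprime.pow_right m (Nat.coprime_two_right.mpr hk)
  have h3 := (pow_gcd_eq_one (a := c) (m := k) (n := 2 ^ m)).mpr ⟨hck, hc2⟩
  rw [hgcd, pow_one] at h3
  have hfx : σ x = x := by rw [hcx, h3, one_mul]
  ext y
  rw [MulAut.one_apply]
  by_cases hy : y ∈ zpowers a
  · exact hfH y hy
  · obtain ⟨c', hc', rfl⟩ := exists_eq_mul_of_index_two hidx hx hy
    rw [map_mul, hfH c' hc', hfx]

end QA2

end Cfsg.Agent.Helper50
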