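import Mathlib
import Cfsg.Agent.Helper50.QA1
import Cfsg.Agent.Helper50.QA2

set_option autoImplicit false

/-!
# A 2-group with one involution admitting a nontrivial automorphism of odd prime power order is `Q₈` (helper50)
-/

namespace Cfsg.Agent.Helper50

section QA3

open Subgroup

/-- type-level structure theorem -/
theorem q8_structure {F : Type*} [Group F] [Finite F] (hF : IsPGroup 2 F)
    (huniq : ∀ x y : F, orderOf x = 2 → orderOf y = 2 → x = y) (σ : MulAut F) {p : ℕ}
    [Fact p.Prime] (hp2 : p ≠ 2) {k : ℕ} (hσ : σ ^ (p ^ k) = 1) (hne : σ ≠ 1) :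
    p = 3 ∧ Nat.card F = 8 ∧ ∃ z : F, orderOf z = 2 ∧ (∀ y, σ y = y ↔ (y = 1 ∨ y = z)) ∧
      (∀ y : F, y ^ 2 = 1 ∨ y ^ 2 = z) ∧ ∃ u v : F, u * v ≠ v * u := by
  have hp : p.Prime := Fact.out
  have hodd : Odd (p ^ k) := Odd.pow (hp.odd_of_ne_two hp2)
  have hu : Helper73.UniqueOrderP 2 F := fun x y hx hy => by
    rw [huniq y x hy hx]; exact mem_zpowers x
  rcases Helper73.cyclic_or_quaternion_structure hF hu with hc | ⟨-, m, a, x, hm, ha, hx, hconj, hx2, hidx⟩
  · exact absurd (aut_eq_one_of_isCyclic hF hc σ hodd hσ) hne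
  by_cases hm3 : 3 ≤ m
  · exact absurd (aut_eq_one_of_quaternion_large hm3 ha hx hconj hx2 hidx σ hodd hσ) hne
  have hm2 : m = 2 := by omega
  subst hm2
  have ha4 : orderOf a = 4 := by rw [ha]; norm_num
  have hx2' : x ^ 2 = a ^ 2 := by rw [hx2]; norm_num
  have hcard : Nat.card F = 8 := by
    rw [← Subgroup.card_mul_index (zpowers a), hidx, Nat.card_zpowers, ha4]
  have ha44 : a ^ 4 = 1 := by rw [← ha4]; exact pow_orderOf_eq_one a
  set z : F := a ^ 2 with hz
  have hz2 : z ^ 2 = 1 := by rw [hz, ← pow_mul]; exact ha44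
  have hz1 : z ≠ 1 := by
    intro h
    have : orderOf a ∣ 2 := orderOf_dvd_of_pow_eq_one h
    rw [ha4] at this
    omega
  have hzo : orderOf z = 2 := orderOf_eq_prime hz2 hz1
  -- all fourth powers are trivial
  have h4 : ∀ y : F, y ^ 4 = 1 := by
    intro y
    by_cases hy : y ∈ zpowers a
    · obtain ⟨i, rfl⟩ := mem_zpowers_iff.mp hy
      rw [← zpow_natCast, ← zpow_mul, mul_comm, zpow_mul, zpow_natCast, ha44, one_zpow]
    · obtain ⟨c, hc, rfl⟩ := exists_eq_mul_of_index_two hidx hx hy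
      have : (c * x) ^ 4 = ((c * x) ^ 2) ^ 2 := by rw [← pow_mul]
      rw [this, sq_eq_of_conj_inv hconj hc, hx2', ← pow_mul]
      exact ha44
  have hsq : ∀ y : F, y ^ 2 = 1 ∨ y ^ 2 = z := by
    intro y
    by_cases h1 : y ^ 2 = 1
    · exact Or.inl h1
    · right
      have h2 : (y ^ 2) ^ 2 = 1 := by rw [← pow_mul]; exact h4 y
      exact huniq _ _ (orderOf_eq_prime h2 h1) hzo
  have hnonab : ∃ u v : F, u * v ≠ v * u := by
    refine ⟨x, a, fun h => ?_⟩
    have h1 : x * a * x⁻¹ = a := by rw [h]; group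
    rw [hconj] at h1
    have h2 : a ^ 2 = 1 := by
      rw [pow_two]
      nth_rewrite 1 [← h1]
      exact inv_mul_cancel a
    exact hz1 h2
  -- fixed points
  have hzfix : σ z = z := by
    apply huniq _ _ _ hzo
    rw [MulEquiv.orderOf_eq, hzo]
  set S : Subgroup F := fixSub σ with hS
  have hzS : z ∈ S := hzfix
  have hSdvd : Nat.card S ∣ 8 := by rw [← hcard]; exact Subgroup.card_subgroup_dvd_card S
  have hS8 : Nat.card S ≠ 8 := by
    intro h
    have : S = ⊤ := (Subgroup.card_eq_iff_eq_top S).mp (by rw [h, hcard])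
    apply hne
    ext y
    rw [MulAut.one_apply]
    have hy : y ∈ S := by rw [this]; exact Subgroup.mem_top y
    exact hy
  have hS1 : Nat.card S ≠ 1 := by
    intro h
    have := Subgroup.card_eq_one.mp h
    rw [this, Subgroup.mem_bot] at hzS
    exact hz1 hzS
  -- the congruence
  have hPK : IsPGroup p (zpowers σ) := by
    rintro ⟨g, hg⟩
    obtain ⟨i, rfl⟩ := mem_zpowers_iff.mp hg
    refine ⟨k, Subtype.ext ?_⟩
    simp only [Subgroup.coe_pow, Subgroup.coe_one]
    rw [← zpow_natCast, ← zpow_mul, mul_comm, zpow_mul, zpow_natCast, hσ, one_zpow]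
  have hcong := hPK.card_modEq_card_fixedPoints F
  have hfp : (MulAction.fixedPoints (zpowers σ) F) = (S : Set F) := by
    ext y
    constructor
    · intro hy
      have := hy ⟨σ, mem_zpowers σ⟩
      exact this
    · intro hy
      rintro ⟨g, hg⟩
      obtain ⟨i, rfl⟩ := mem_zpowers_iff.mp hg
      have h1 : ∀ n : ℕ, (σ ^ n) y = y := by
        intro n
        induction n with
        | zero => simp
        | succ n ih => rw [pow_succ', MulAut.mul_apply, ih]; exact hy
      show (σ ^ i) y = y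
      rcases Int.eq_nat_or_neg i with ⟨n, rfl | rfl⟩
      · rw [zpow_natCast]; exact h1 n
      · rw [zpow_neg, zpow_natCast]
        have := h1 n
        calc ((σ ^ n)⁻¹) y = ((σ ^ n)⁻¹) ((σ ^ n) y) := by rw [this]
          _ = y := MulAut.inv_apply_self _ _ _
  have hcong' : 8 ≡ Nat.card S [MOD p] := by
    rw [← hcard]
    have : Nat.card (MulAction.fixedPoints (zpowers σ) F) = Nat.card S := by
      rw [hfp]; rfl
    rw [← this]
    exact hcong
  have hle8 : Nat.card S ≤ 8 := Nat.le_of_dvd (by norm_num) hSdvd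
  have hdvd : p ∣ 8 - Nat.card S := (Nat.modEq_iff_dvd' hle8).mp hcong'.symm
  have hp3 : p = 3 ∧ Nat.card S = 2 := by
    have hcases : Nat.card S = 2 ∨ Nat.card S = 4 := by
      have : Nat.card S ∈ Nat.divisors 8 := Nat.mem_divisors.mpr ⟨hSdvd, by norm_num⟩
      have h8 : Nat.divisors 8 = {1, 2, 4, 8} := by decide
      rw [h8] at this
      simp only [Finset.mem_insert, Finset.mem_singleton] at this
      rcases this with h | h | h | h
      · exact absurd h hS1
      · exact Or.inl h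
      · exact Or.inr h
      · exact absurd h hS8
    rcases hcases with h | h
    · rw [h] at hdvd
      have h6 : p ∣ 2 * 3 := by simpa using hdvd
      rcases (Nat.Prime.dvd_mul hp).mp h6 with h' | h'
      · exact absurd ((Nat.prime_dvd_prime_iff_eq hp Nat.prime_two).mp h') hp2
      · exact ⟨(Nat.prime_dvd_prime_iff_eq hp Nat.prime_three).mp h', h⟩
    · rw [h] at hdvd
      have h4' : p ∣ 2 * 2 := by simpa using hdvd
      rcases (Nat.Prime.dvd_mul hp).mp h4' with h' | h'
      · exact absurd ((Nat.prime_dvd_prime_iff_eq hp Nat.prime_two).mp h') hp2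
      · exact absurd ((Nat.prime_dvd_prime_iff_eq hp Nat.prime_two).mp h') hp2
  refine ⟨hp3.1, hcard, z, hzo, ?_, hsq, hnonab⟩
  intro y
  constructor
  · intro hy
    by_cases hy1 : y = 1
    · exact Or.inl hy1
    · right
      have hyS : y ∈ S := hy
      have h2 : (⟨y, hyS⟩ : S) ^ 2 = 1 := by
        rw [← hp3.2]; exact pow_card_eq_one'
      have h2' : y ^ 2 = 1 := by
        have := congrArg Subtype.val h2
        simpa using this
      exact huniq _ _ (orderOf_eq_prime h2' hy1) hzo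
  · rintro (rfl | rfl)
    · exact map_one σ
    · exact hzfix

variable {W : Type*} [Group W]

theorem aut_pow_mem (σ : MulAut W) (F : Subgroup W) (h : ∀ x ∈ F, σ x ∈ F) (n : ℕ) :
    ∀ x ∈ F, (σ ^ n) x ∈ F := by
  induction n with
  | zero => intro x hx; simpa using hx
  | succ n ih =>
    intro x hx
    rw [pow_succ', MulAut.mul_apply]
    exact h _ (ih x hx)

theorem aut_inv_mem_of_pow_eq_one (σ : MulAut W) (F : Subgroup W) (h : ∀ x ∈ F, σ x ∈ F) {n : ℕ}
    (hn0 : n ≠ 0) (hn : σ ^ n = 1) : ∀ x ∈ F, σ⁻¹ x ∈ F := by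
  have h1 : σ⁻¹ = σ ^ (n - 1) := by
    apply inv_eq_of_mul_eq_one_right
    rw [← pow_succ', Nat.sub_add_cancel (Nat.one_le_iff_ne_zero.mpr hn0), hn]
  rw [h1]
  exact aut_pow_mem σ F h (n - 1)

/-- restriction of an automorphism to an invariant subgroup -/
def resAut (σ : MulAut W) (F : Subgroup W) (h : ∀ x ∈ F, σ x ∈ F) (h' : ∀ x ∈ F, σ⁻¹ x ∈ F) :
    MulAut F where
  toFun := fun y => ⟨σ y, h y y.2⟩
  invFun := fun y => ⟨σ⁻¹ y, h' y y.2⟩
  left_inv := fun y => Subtype.ext (MulAut.inv_apply_self _ σ y)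
  right_inv := fun y => Subtype.ext (MulAut.apply_inv_self _ σ y)
  map_mul' := fun a b => Subtype.ext (map_mul σ (a : W) (b : W))

theorem resAut_apply (σ : MulAut W) (F : Subgroup W) (h : ∀ x ∈ F, σ x ∈ F)
    (h' : ∀ x ∈ F, σ⁻¹ x ∈ F) (y : F) : ((resAut σ F h h' y : F) : W) = σ y := rfl

theorem resAut_pow_apply (σ : MulAut W) (F : Subgroup W) (h : ∀ x ∈ F, σ x ∈ F)
    (h' : ∀ x ∈ F, σ⁻¹ x ∈ F) (n : ℕ) (y : F) :
    ((((resAut σ F h h') ^ n) y : F) : W) = (σ ^ n) y := by
  induction n generalizing y with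
  | zero => simp
  | succ n ih =>
    rw [pow_succ', MulAut.mul_apply, resAut_apply, ih, pow_succ', MulAut.mul_apply]

/-- ambient form -/
theorem q8_of_nontrivial_action (F : Subgroup W) [Finite F] (hF : IsPGroup 2 F)
    (huniq : ∀ x ∈ F, ∀ y ∈ F, orderOf x = 2 → orderOf y = 2 → x = y) (σ : MulAut W)
    (hσF : ∀ x ∈ F, σ x ∈ F) {p : ℕ} [Fact p.Prime] (hp2 : p ≠ 2) {k : ℕ} (hσ : σ ^ (p ^ k) = 1)
    {x₀ : W} (hx₀ : x₀ ∈ F) (hx₀' : σ x₀ ≠ x₀) :
    p = 3 ∧ Nat.card F = 8 ∧ ∃ z ∈ F, orderOf z = 2 ∧ (∀ y ∈ F, (σ y = y ↔ (y = 1 ∨ y = z))) ∧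
      (∀ y ∈ F, y ^ 2 = 1 ∨ y ^ 2 = z) ∧ ∃ u ∈ F, ∃ v ∈ F, u * v ≠ v * u := by
  have hp : p.Prime := Fact.out
  have hn0 : p ^ k ≠ 0 := pow_ne_zero _ hp.ne_zero
  have hσF' := aut_inv_mem_of_pow_eq_one σ F hσF hn0 hσ
  set τ : MulAut F := resAut σ F hσF hσF' with hτ
  have hτpow : τ ^ (p ^ k) = 1 := by
    ext y
    rw [resAut_pow_apply, hσ, MulAut.one_apply, MulAut.one_apply]
  have hτne : τ ≠ 1 := by
    intro h
    have := congrArg (fun f : MulAut F => ((f ⟨x₀, hx₀⟩ : F) : W)) h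
    simp only [MulAut.one_apply] at this
    rw [resAut_apply] at this
    exact hx₀' this
  have huniq' : ∀ x y : F, orderOf x = 2 → orderOf y = 2 → x = y := by
    intro x y hx hy
    apply Subtype.ext
    apply huniq x x.2 y y.2
    · rw [Subgroup.orderOf_coe]; exact hx
    · rw [Subgroup.orderOf_coe]; exact hy
  obtain ⟨h3, h8, z, hzo, hfix, hsq, u, v, huv⟩ := q8_structure hF huniq' τ hp2 hτpow hτne
  refine ⟨h3, h8, (z : W), z.2, by rw [Subgroup.orderOf_coe]; exact hzo, ?_, ?_, (u : W), u.2,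
    (v : W), v.2, ?_⟩
  · intro y hy
    have := hfix ⟨y, hy⟩
    constructor
    · intro h
      have h1 : τ ⟨y, hy⟩ = ⟨y, hy⟩ := Subtype.ext (by rw [resAut_apply]; exact h)
      rcases this.mp h1 with h2 | h2
      · left; exact congrArg Subtype.val h2
      · right; exact congrArg Subtype.val h2
    · rintro (rfl | rfl)
      · exact map_one σ
      · have h1 := (hfix z).mpr (Or.inr rfl)
        have := congrArg Subtype.val h1
        rw [resAut_apply] at this
        exact this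
  · intro y hy
    rcases hsq ⟨y, hy⟩ with h | h
    · left
      have := congrArg Subtype.val h
      simpa using this
    · right
      have := congrArg Subtype.val h
      simpa using this
  · intro h
    apply huv
    exact Subtype.ext (by simpa using h)

/-- an invariant subgroup containing a moved element is everything -/
theorem eq_of_invariant_of_moved (F : Subgroup W) [Finite F] (hF : IsPGroup 2 F)
    (huniq : ∀ x ∈ F, ∀ y ∈ F, orderOf x = 2 → orderOf y = 2 → x = y) (σ : MulAut W)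
    (hσF : ∀ x ∈ F, σ x ∈ F) {p : ℕ} [Fact p.Prime] (hp2 : p ≠ 2) {k : ℕ} (hσ : σ ^ (p ^ k) = 1)
    (H : Subgroup W) (hHF : H ≤ F) (hσH : ∀ x ∈ H, σ x ∈ H) {y₀ : W} (hy₀ : y₀ ∈ H)
    (hy₀' : σ y₀ ≠ y₀) : H = F := by
  have hfinH : Finite H := Finite.of_injective (Subgroup.inclusion hHF) (Subgroup.inclusion_injective hHF)
  obtain ⟨-, h8, -⟩ := q8_of_nontrivial_action F hF huniq σ hσF hp2 hσ (hHF hy₀) hy₀'
  obtain ⟨-, h8', -⟩ := q8_of_nontrivial_action H (hF.to_le hHF)
    (fun x hx y hy => huniq x (hHF hx) y (hHF hy)) σ hσH hp2 hσ hy₀ hy₀'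
  exact Subgroup.eq_of_le_of_card_ge hHF (by rw [h8, h8'])

end QA3

end Cfsg.Agent.Helper50
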