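import Mathlib
import Cfsg.Agent.Helper50.QA3

set_option autoImplicit false

/-!
# An elementary abelian 3-group acting on a 2-group, every element fixing at most one involution (helper50)

Local structure: the fixed-point subgroups are `⟨z⟩` or quaternion of order 8.
-/

namespace Cfsg.Agent.Helper50

section QA4

open Subgroup

/-- The hypotheses. -/
structure QSetup (W : Type*) [Group W] (D : Subgroup (MulAut W)) (z : W) : Prop where
  fin : Finite W
  two : IsPGroup 2 W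
  comm : ∀ x ∈ D, ∀ y ∈ D, x * y = y * x
  exp3 : ∀ d ∈ D, d ^ 3 = 1
  card9 : 3 ^ 2 ≤ Nat.card D
  hfix : ∀ e ∈ D, e ≠ 1 → ∀ x y : W, orderOf x = 2 → orderOf y = 2 → e x = x → e y = y → x = y
  hz : orderOf z = 2
  hC0 : ∀ y : W, (∀ e ∈ D, e y = y) ↔ (y = 1 ∨ y = z)

variable {W : Type*} [Group W] {D : Subgroup (MulAut W)} {z : W}

/-- `D`-invariance of a subgroup -/
def DInv (D : Subgroup (MulAut W)) (Y : Subgroup W) : Prop := ∀ e ∈ D, ∀ y ∈ Y, e y ∈ Y

theorem mem_zpowers_z (hz : orderOf z = 2) {y : W} : y ∈ zpowers z ↔ (y = 1 ∨ y = z) := by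
  have hz2 : z ^ 2 = 1 := by rw [← hz]; exact pow_orderOf_eq_one z
  constructor
  · intro hy
    obtain ⟨j, hj⟩ := Helper73.exists_pow_eq_of_mem_zpowers (by rw [hz]; norm_num) hy
    rcases Nat.even_or_odd j with ⟨i, hi⟩ | ⟨i, hi⟩
    · left; rw [hj, hi, ← two_mul, pow_mul, hz2, one_pow]
    · right; rw [hj, hi, pow_succ, pow_mul, hz2, one_pow, one_mul]
  · rintro (rfl | rfl)
    · exact one_mem _
    · exact mem_zpowers _

namespace QSetup

variable (S : QSetup W D z)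
include S

theorem z_fixed : ∀ e ∈ D, e z = z := (S.hC0 z).mpr (Or.inr rfl)

theorem z_ne_one : z ≠ 1 := by
  intro h
  have := S.hz
  rw [h, orderOf_one] at this
  omega

theorem z_sq : z ^ 2 = 1 := by rw [← S.hz]; exact pow_orderOf_eq_one z

theorem dinv_fixSub {d : MulAut W} (hd : d ∈ D) : DInv D (fixSub d) := by
  intro e he y hy
  rw [mem_fixSub] at hy ⊢
  have h := S.comm d hd e he
  have : d (e y) = e (d y) := by
    have := congrArg (fun f : MulAut W => f y) h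
    simpa only [MulAut.mul_apply] using this
  rw [this, hy]

theorem z_mem_fixSub {d : MulAut W} (hd : d ∈ D) : z ∈ fixSub d := S.z_fixed d hd

theorem zpowers_le_fixSub {d : MulAut W} (hd : d ∈ D) : zpowers z ≤ fixSub d := by
  rw [zpowers_le]; exact S.z_mem_fixSub hd

theorem eq_z_of_orderOf_two {d : MulAut W} (hd : d ∈ D) (hd1 : d ≠ 1) {x : W} (hx : x ∈ fixSub d)
    (hx2 : orderOf x = 2) : x = z :=
  S.hfix d hd hd1 x z hx2 S.hz hx (S.z_fixed d hd)

theorem dinv_zpowers : DInv D (zpowers z) := by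
  intro e he y hy
  rcases (mem_zpowers_z S.hz).mp hy with rfl | rfl
  · rw [map_one]; exact one_mem _
  · rw [S.z_fixed e he]; exact mem_zpowers _

theorem exists_moved {y : W} (hy : y ∉ zpowers z) : ∃ e ∈ D, e y ≠ y := by
  by_contra hcon
  push Not at hcon
  exact hy ((mem_zpowers_z S.hz).mpr ((S.hC0 y).mp hcon))

theorem pow_three_eq_one {e : MulAut W} (he : e ∈ D) : e ^ (3 ^ 1) = 1 := by
  rw [pow_one]; exact S.exp3 e he

theorem isPGroup_sub (F : Subgroup W) : IsPGroup 2 F := S.two.to_subgroup F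

theorem finite_sub (F : Subgroup W) : Finite F := by
  have := S.fin
  infer_instance

/-- the quaternion-type fixed-point subgroups -/
def IsQ (_S : QSetup W D z) (F : Subgroup W) : Prop :=
  ∃ d ∈ D, d ≠ 1 ∧ F = fixSub d ∧ ¬ F ≤ zpowers z

theorem IsQ.dinv {F : Subgroup W} (hF : S.IsQ F) : DInv D F := by
  obtain ⟨d, hd, -, rfl, -⟩ := hF
  exact S.dinv_fixSub hd

theorem IsQ.z_mem {F : Subgroup W} (hF : S.IsQ F) : z ∈ F := by
  obtain ⟨d, hd, -, rfl, -⟩ := hF
  exact S.z_mem_fixSub hd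

theorem IsQ.zpowers_le {F : Subgroup W} (hF : S.IsQ F) : zpowers z ≤ F := by
  rw [Subgroup.zpowers_le]; exact hF.z_mem S

theorem IsQ.uniq {F : Subgroup W} (hF : S.IsQ F) :
    ∀ x ∈ F, ∀ y ∈ F, orderOf x = 2 → orderOf y = 2 → x = y := by
  obtain ⟨d, hd, hd1, rfl, -⟩ := hF
  intro x hx y hy hx2 hy2
  rw [S.eq_z_of_orderOf_two hd hd1 hx hx2, S.eq_z_of_orderOf_two hd hd1 hy hy2]

/-- main local facts on a quaternion-type subgroup -/
theorem IsQ.facts {F : Subgroup W} (hF : S.IsQ F) :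
    Nat.card F = 8 ∧ (∀ y ∈ F, y ^ 2 = 1 ∨ y ^ 2 = z) ∧ ∃ u ∈ F, ∃ v ∈ F, u * v ≠ v * u := by
  have huniq := hF.uniq S
  have hinv := hF.dinv S
  have hzF := hF.z_mem S
  obtain ⟨d, hd, hd1, rfl, hnle⟩ := hF
  obtain ⟨y₀, hy₀, hy₀'⟩ := SetLike.not_le_iff_exists.mp hnle
  obtain ⟨e, he, hey⟩ := S.exists_moved hy₀'
  have := S.finite_sub (fixSub d)
  have : Fact (Nat.Prime 3) := ⟨Nat.prime_three⟩
  obtain ⟨-, h8, z', hz'F, hz'o, -, hsq, hnab⟩ := q8_of_nontrivial_action (fixSub d)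
    (S.isPGroup_sub _) huniq e (hinv e he) (by norm_num) (S.pow_three_eq_one he) hy₀ hey
  have hzz : z' = z := huniq z' hz'F z hzF hz'o S.hz
  rw [hzz] at hsq
  exact ⟨h8, hsq, hnab⟩

theorem IsQ.eq_of_le {F : Subgroup W} (hF : S.IsQ F) {H : Subgroup W} (hHF : H ≤ F) (hH : DInv D H)
    (hHz : ¬ H ≤ zpowers z) : H = F := by
  have huniq := hF.uniq S
  have hinv := hF.dinv S
  obtain ⟨y₀, hy₀, hy₀'⟩ := SetLike.not_le_iff_exists.mp hHz
  obtain ⟨e, he, hey⟩ := S.exists_moved hy₀'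
  have := S.finite_sub F
  have : Fact (Nat.Prime 3) := ⟨Nat.prime_three⟩
  exact eq_of_invariant_of_moved F (S.isPGroup_sub _) huniq e (hinv e he) (by norm_num)
    (S.pow_three_eq_one he) H hHF (hH e he) hy₀ hey

theorem IsQ.sq_mem {F : Subgroup W} (hF : S.IsQ F) {y : W} (hy : y ∈ F) : y ^ 2 ∈ zpowers z :=
  (mem_zpowers_z S.hz).mpr ((hF.facts S).2.1 y hy)

/-- two quaternion-type subgroups, one inside the other, coincide -/
theorem IsQ.eq_of_le' {F F' : Subgroup W} (hF : S.IsQ F) (hF' : S.IsQ F') (h : F' ≤ F) : F' = F := by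
  have := S.finite_sub F
  exact Subgroup.eq_of_le_of_card_ge h (by rw [(hF.facts S).1, (hF'.facts S).1])

/-- generation -/
theorem le_iSup_of_dinv {Y : Subgroup W} (hY : DInv D Y) :
    Y ≤ ⨆ d : {d : MulAut W // d ∈ D ∧ d ≠ 1}, Y ⊓ fixSub (d : MulAut W) := by
  have := S.fin
  have : Fact (Nat.Prime 3) := ⟨Nat.prime_three⟩
  apply le_iSup_fixSub (p := 3) D S.comm S.exp3 S.card9 Y _ hY
  intro h3
  obtain ⟨n, hn⟩ := (IsPGroup.iff_card.mp (S.isPGroup_sub Y))
  rw [hn] at h3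
  have := (Nat.Prime.dvd_of_dvd_pow Nat.prime_three h3)
  omega

theorem exists_isQ_le {Y : Subgroup W} (hY : DInv D Y) (hYz : ¬ Y ≤ zpowers z) :
    ∃ F, S.IsQ F ∧ F ≤ Y := by
  by_contra hcon
  push Not at hcon
  apply hYz
  refine (S.le_iSup_of_dinv hY).trans (iSup_le ?_)
  rintro ⟨d, hd, hd1⟩
  by_contra hle
  have hle' : ¬ Y ⊓ fixSub d ≤ zpowers z := hle
  have hFz : ¬ fixSub d ≤ zpowers z := fun h => hle' (inf_le_right.trans h)
  have hQ : S.IsQ (fixSub d) := ⟨d, hd, hd1, rfl, hFz⟩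
  have hH : DInv D (Y ⊓ fixSub d) := fun e he y hy => ⟨hY e he y hy.1, S.dinv_fixSub hd e he y hy.2⟩
  have := hQ.eq_of_le S inf_le_right hH hle'
  exact hcon (fixSub d) hQ (by rw [← this]; exact inf_le_left)

/-- `z` is central -/
theorem z_central (w : W) : z * w = w * z := by
  have hY : DInv D (⊤ : Subgroup W) := fun _ _ _ _ => Subgroup.mem_top _
  have h1 := S.le_iSup_of_dinv hY
  have h2 : (⨆ d : {d : MulAut W // d ∈ D ∧ d ≠ 1}, (⊤ : Subgroup W) ⊓ fixSub (d : MulAut W)) ≤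
      centralizer {z} := by
    apply iSup_le
    rintro ⟨d, hd, hd1⟩ x ⟨-, hx⟩
    rw [mem_centralizer_singleton_iff]
    have hx' : x ∈ fixSub d := hx
    have hc : x * z * x⁻¹ ∈ fixSub d :=
      (fixSub d).mul_mem ((fixSub d).mul_mem hx' (S.z_mem_fixSub hd)) ((fixSub d).inv_mem hx')
    have ho : orderOf (x * z * x⁻¹) = 2 := by
      have := (MulAut.conj x).orderOf_eq z
      rw [MulAut.conj_apply] at this
      rw [this, S.hz]
    have := S.eq_z_of_orderOf_two hd hd1 hc ho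
    calc x * z = (x * z * x⁻¹) * x := by group
      _ = z * x := by rw [this]
  have := h2 (h1 (Subgroup.mem_top w))
  rw [mem_centralizer_singleton_iff] at this
  exact this.symm

end QSetup

end QA4

end Cfsg.Agent.Helper50
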