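import Mathlib
import Cfsg.Agent.Helper50.QA4

set_option autoImplicit false

/-!
# The quaternion-type fixed-point subgroups commute pairwise (helper50)
-/

namespace Cfsg.Agent.Helper50

section QA5

open Subgroup
open scoped commutatorElement

variable {W : Type*} [Group W] {D : Subgroup (MulAut W)} {z : W}

namespace QSetup

variable (S : QSetup W D z)
include S

theorem zp_central {ζ : W} (hζ : ζ ∈ zpowers z) (w : W) : ζ * w = w * ζ := by
  rcases (mem_zpowers_z S.hz).mp hζ with rfl | rfl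
  · rw [one_mul, mul_one]
  · exact S.z_central w

/-- elements of `U` central modulo `⟨z⟩` -/
def cmod (S : QSetup W D z) (U : Subgroup W) : Subgroup W where
  carrier := {y | y ∈ U ∧ ∀ u ∈ U, ⁅y, u⁆ ∈ zpowers z}
  one_mem' := ⟨U.one_mem, fun u _ => by rw [commutatorElement_one_left]; exact one_mem _⟩
  mul_mem' := by
    rintro a b ⟨haU, ha⟩ ⟨hbU, hb⟩
    refine ⟨U.mul_mem haU hbU, fun u hu => ?_⟩
    have h1 : ⁅a * b, u⁆ = a * ⁅b, u⁆ * a⁻¹ * ⁅a, u⁆ := by
      simp only [commutatorElement_def]; group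
    have h2 : a * ⁅b, u⁆ * a⁻¹ = ⁅b, u⁆ := by
      rw [← S.zp_central (hb u hu) a, mul_inv_cancel_right]
    rw [h1, h2]
    exact mul_mem (hb u hu) (ha u hu)
  inv_mem' := by
    rintro a ⟨haU, ha⟩
    refine ⟨U.inv_mem haU, fun u hu => ?_⟩
    have h1 : ⁅a⁻¹, u⁆ = a⁻¹ * (⁅a, u⁆)⁻¹ * a := by
      simp only [commutatorElement_def]; group
    have hz' : (⁅a, u⁆)⁻¹ ∈ zpowers z := inv_mem (ha u hu)
    have h2 : a⁻¹ * (⁅a, u⁆)⁻¹ * a = (⁅a, u⁆)⁻¹ := by
      rw [mul_assoc, S.zp_central hz' a, inv_mul_cancel_left]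
    rw [h1, h2]
    exact hz'

theorem mem_cmod {U : Subgroup W} {y : W} :
    y ∈ S.cmod U ↔ y ∈ U ∧ ∀ u ∈ U, ⁅y, u⁆ ∈ zpowers z := Iff.rfl

theorem dinv_cmod {U : Subgroup W} (hU : DInv D U) : DInv D (S.cmod U) := by
  intro e he y hy
  obtain ⟨hyU, hy⟩ := hy
  refine ⟨hU e he y hyU, fun u hu => ?_⟩
  have hu' : e⁻¹ u ∈ U := hU e⁻¹ (D.inv_mem he) u hu
  have h1 : u = e (e⁻¹ u) := (MulAut.apply_inv_self W e u).symm
  rw [h1, ← map_commutatorElement]
  exact S.dinv_zpowers e he _ (hy _ hu')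

theorem cmod_not_le {U : Subgroup W} (hUz : ¬ U ≤ zpowers z) : ¬ S.cmod U ≤ zpowers z := by
  classical
  have hfin : Finite W := S.fin
  obtain ⟨u₀, hu₀, hu₀z⟩ := SetLike.not_le_iff_exists.mp hUz
  let N : Subgroup U := (zpowers z).subgroupOf U
  have hN : N.Normal := by
    refine ⟨fun n hn g => ?_⟩
    have hn' : (n : W) ∈ zpowers z := hn
    show ((g * n * g⁻¹ : U) : W) ∈ zpowers z
    have : ((g * n * g⁻¹ : U) : W) = (n : W) := by
      simp only [Subgroup.coe_mul, Subgroup.coe_inv]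
      rw [← S.zp_central hn' (g : W), mul_inv_cancel_right]
    rw [this]; exact hn'
  have hPQ : IsPGroup 2 (U ⧸ N) := (S.isPGroup_sub U).to_quotient N
  have hnt : Nontrivial (U ⧸ N) := by
    refine ⟨⟨(QuotientGroup.mk ⟨u₀, hu₀⟩ : U ⧸ N), 1, ?_⟩⟩
    intro h
    rw [QuotientGroup.eq_one_iff] at h
    exact hu₀z h
  have : Fact (Nat.Prime 2) := ⟨Nat.prime_two⟩
  have hcn := hPQ.center_nontrivial
  obtain ⟨c, hc1⟩ := exists_ne (1 : center (U ⧸ N))
  obtain ⟨y, hy⟩ := QuotientGroup.mk_surjective (c : U ⧸ N)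
  intro hle
  have hyc : (y : W) ∈ S.cmod U := by
    refine ⟨y.2, fun u hu => ?_⟩
    have h1 : (QuotientGroup.mk ⁅y, (⟨u, hu⟩ : U)⁆ : U ⧸ N) = 1 := by
      have h2 : (QuotientGroup.mk ⁅y, (⟨u, hu⟩ : U)⁆ : U ⧸ N) =
          ⁅(QuotientGroup.mk y : U ⧸ N), QuotientGroup.mk (⟨u, hu⟩ : U)⁆ :=
        map_commutatorElement (QuotientGroup.mk' N) y ⟨u, hu⟩
      rw [h2, hy, commutatorElement_eq_one_iff_commute]
      exact ((mem_center_iff.mp c.2) _).symm
    rw [QuotientGroup.eq_one_iff] at h1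
    have h3 : ((⁅y, (⟨u, hu⟩ : U)⁆ : U) : W) ∈ zpowers z := h1
    have h4 : ((⁅y, (⟨u, hu⟩ : U)⁆ : U) : W) = ⁅(y : W), u⁆ := by
      simp only [commutatorElement_def, Subgroup.coe_mul, Subgroup.coe_inv]
    rw [h4] at h3
    exact h3
  have hyz : (y : W) ∈ zpowers z := hle hyc
  apply hc1
  apply Subtype.ext
  rw [← hy]
  show (QuotientGroup.mk y : U ⧸ N) = 1
  rw [QuotientGroup.eq_one_iff]
  exact hyz

/-- a quaternion-type subgroup of `U` central modulo `⟨z⟩` -/
theorem exists_isQ_central_mod {U : Subgroup W} (hU : DInv D U) (hUz : ¬ U ≤ zpowers z) :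
    ∃ F, S.IsQ F ∧ F ≤ U ∧ ∀ x ∈ F, ∀ u ∈ U, ⁅x, u⁆ ∈ zpowers z := by
  obtain ⟨F, hF, hle⟩ := S.exists_isQ_le (S.dinv_cmod hU) (S.cmod_not_le hUz)
  exact ⟨F, hF, fun x hx => (hle hx).1, fun x hx => (hle hx).2⟩

omit S in
theorem dinv_centralizer {F : Subgroup W} (hF : DInv D F) : DInv D (centralizer (F : Set W)) := by
  intro e he c hc
  rw [mem_centralizer_iff] at hc ⊢
  intro x hx
  have hx' : e⁻¹ x ∈ F := hF e⁻¹ (D.inv_mem he) x hx
  have h1 : x = e (e⁻¹ x) := (MulAut.apply_inv_self W e x).symm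
  rw [h1, ← map_mul, ← map_mul, hc _ hx']

/-- two distinct quaternion-type subgroups commuting modulo `⟨z⟩` commute -/
theorem IsQ.commute_of_comm_mem {F F' : Subgroup W} (hF : S.IsQ F) (hF' : S.IsQ F')
    (hne : F' ≠ F) (h : ∀ x ∈ F, ∀ y ∈ F', ⁅x, y⁆ ∈ zpowers z) :
    ∀ x ∈ F, ∀ y ∈ F', x * y = y * x := by
  have hFinv := hF.dinv S
  have hF'inv := hF'.dinv S
  set H : Subgroup W := F' ⊓ centralizer (F : Set W) with hH
  have hHinv : DInv D H := fun e he y hy =>
    ⟨hF'inv e he y hy.1, dinv_centralizer hFinv e he y hy.2⟩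
  by_cases hHz : H ≤ zpowers z
  · exfalso
    obtain ⟨d, hd, hd1, hFd, -⟩ := id hF
    apply hne
    apply hF.eq_of_le' S hF'
    intro y hy
    rw [hFd, mem_fixSub]
    -- the element `t = y⁻¹ * d y`
    have hdy : d y ∈ F' := hF'inv d hd y hy
    have ht : y⁻¹ * d y ∈ H := by
      refine ⟨F'.mul_mem (F'.inv_mem hy) hdy, mem_centralizer_iff.mpr ?_⟩
      intro x hx
      have hxd : d x = x := by rw [hFd] at hx; exact hx
      have hc1 : ⁅x, d y⁆ = ⁅x, y⁆ := by
        have h1 : d ⁅x, y⁆ = ⁅x, y⁆ := S.zpowers_le_fixSub hd (h x hx y hy)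
        rw [map_commutatorElement, hxd] at h1
        exact h1
      have key : (y⁻¹ * d y) * x⁻¹ = x⁻¹ * (y⁻¹ * d y) := by
        calc (y⁻¹ * d y) * x⁻¹ = y⁻¹ * x⁻¹ * ⁅x, d y⁆ * d y := by
              simp only [commutatorElement_def]; group
          _ = y⁻¹ * x⁻¹ * ⁅x, y⁆ * d y := by rw [hc1]
          _ = x⁻¹ * (y⁻¹ * d y) := by simp only [commutatorElement_def]; group
      calc x * (y⁻¹ * d y) = x * ((y⁻¹ * d y) * x⁻¹) * x := by group
        _ = x * (x⁻¹ * (y⁻¹ * d y)) * x := by rw [key]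
        _ = y⁻¹ * d y * x := by group
    have hd2 : d (d y) = y := by
      rcases (mem_zpowers_z S.hz).mp (hHz ht) with h1 | h1
      · have : d y = y := by
          have := congrArg (fun w => y * w) h1
          simpa using this
        rw [this, this]
      · have : d y = y * z := by
          have := congrArg (fun w => y * w) h1
          simpa using this
        rw [this, map_mul, this, S.z_fixed d hd, mul_assoc, ← pow_two, S.z_sq, mul_one]
    have hd3 : d (d (d y)) = y := by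
      have := congrArg (fun f : MulAut W => f y) (S.exp3 d hd)
      simpa [pow_succ, MulAut.mul_apply] using this
    rw [hd2] at hd3
    exact hd3
  · have := hF'.eq_of_le S inf_le_left hHinv hHz
    intro x hx y hy
    have hy' : y ∈ H := by rw [hH, this]; exact hy
    exact (mem_centralizer_iff.mp hy'.2) x hx

/-- elementwise commutation of two subgroups -/
def Comm (F F' : Subgroup W) : Prop := ∀ x ∈ F, ∀ y ∈ F', x * y = y * x

omit S in
theorem Comm.symm {F F' : Subgroup W} (h : Comm F F') : Comm F' F :=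
  fun x hx y hy => (h y hy x hx).symm

/-- the peeling induction -/
theorem peel_aux : ∀ n : ℕ, ∀ T : Set (Subgroup W), (∀ F ∈ T, S.IsQ F) → T.ncard = n →
    (∀ F, S.IsQ F → F ∉ T → ∀ F', S.IsQ F' → F' ≠ F → Comm F F') →
    ∀ F, S.IsQ F → ∀ F', S.IsQ F' → F' ≠ F → Comm F F' := by
  have hfinW : Finite W := S.fin
  intro n
  induction n with
  | zero =>
    intro T _ hT hP F hF F' hF' hne
    have hTe : T = ∅ := (Set.ncard_eq_zero (Set.toFinite T)).mp hT
    exact hP F hF (by rw [hTe]; exact Set.notMem_empty F) F' hF' hne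
  | succ n ih =>
    intro T hTQ hT hP
    have hTne : T.Nonempty := by
      rw [← Set.ncard_pos (Set.toFinite T), hT]; omega
    obtain ⟨F₁, hF₁⟩ := hTne
    set U : Subgroup W := ⨆ F ∈ T, F with hU
    have hUinv : DInv D U := by
      intro e he y hy
      have hcomap : U ≤ U.comap e.toMonoidHom := by
        rw [hU]
        apply iSup₂_le
        intro F hF x hx
        show e x ∈ U
        have := (hTQ F hF).dinv S e he x hx
        exact (le_iSup₂_of_le F hF le_rfl : F ≤ U) this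
      exact hcomap hy
    have hF₁U : F₁ ≤ U := le_iSup₂_of_le F₁ hF₁ le_rfl
    have hUz : ¬ U ≤ zpowers z := by
      obtain ⟨d, hd, hd1, hFd, hnle⟩ := id (hTQ F₁ hF₁)
      exact fun h => hnle (hF₁U.trans h)
    obtain ⟨F₀, hF₀, hF₀U, hF₀c⟩ := S.exists_isQ_central_mod hUinv hUz
    -- `F₀ ∈ T`
    have hF₀T : F₀ ∈ T := by
      by_contra hnot
      have h1 : U ≤ centralizer (F₀ : Set W) := by
        rw [hU]
        apply iSup₂_le
        intro F hF x hx
        rw [mem_centralizer_iff]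
        intro y hy
        have hne : F ≠ F₀ := fun h => hnot (h ▸ hF)
        exact hP F₀ hF₀ hnot F (hTQ F hF) hne y hy x hx
      obtain ⟨u, hu, v, hv, huv⟩ := (hF₀.facts S).2.2
      apply huv
      have := mem_centralizer_iff.mp (h1 (hF₀U hv)) u hu
      exact this
    -- `F₀` commutes with every other quaternion-type subgroup
    have hF₀all : ∀ F', S.IsQ F' → F' ≠ F₀ → Comm F₀ F' := by
      intro F' hF' hne
      by_cases hF'T : F' ∈ T
      · have hF'U : F' ≤ U := le_iSup₂_of_le F' hF'T le_rfl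
        exact hF₀.commute_of_comm_mem S hF' hne (fun x hx y hy => hF₀c x hx y (hF'U hy))
      · exact (hP F' hF' hF'T F₀ hF₀ (Ne.symm hne)).symm
    apply ih (T \ {F₀}) (fun F hF => hTQ F hF.1)
    · rw [Set.ncard_sdiff_singleton_of_mem hF₀T, hT]; rfl
    · intro F hF hFT F' hF' hne
      by_cases hFF₀ : F = F₀
      · rw [hFF₀]; rw [hFF₀] at hne; exact hF₀all F' hF' hne
      · have : F ∉ T := fun h => hFT ⟨h, hFF₀⟩
        exact hP F hF this F' hF' hne

theorem isQ_comm {F F' : Subgroup W} (hF : S.IsQ F) (hF' : S.IsQ F') (hne : F' ≠ F) : Comm F F' := by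
  have hfinW : Finite W := S.fin
  exact S.peel_aux _ {F | S.IsQ F} (fun F hF => hF) rfl
    (fun F hF hnot => absurd hF hnot) F hF F' hF' hne

end QSetup

end QA5

end Cfsg.Agent.Helper50
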