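import Mathlib
import Cfsg.Agent.Helper50.QA5
import Cfsg.Agent.Helper47.Frattini
import Cfsg.Agent.Helper2.Basic

set_option autoImplicit false

/-!
# Global structure: `W` is extraspecial, a central product of quaternion groups (helper50)
-/

namespace Cfsg.Agent.Helper50

section QA6

open Subgroup
open scoped commutatorElement

theorem card_mul_relIndex_of_le {G : Type*} [Group G] {H K : Subgroup G} (h : H ≤ K) :
    Nat.card H * H.relIndex K = Nat.card K := by
  have := relIndex_mul_relIndex ⊥ H K bot_le h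
  rwa [relIndex_bot_left, relIndex_bot_left] at this

variable {W : Type*} [Group W] {D : Subgroup (MulAut W)} {z : W}

namespace QSetup

variable (S : QSetup W D z)
include S

/-- elements commuting with each element of `X` modulo `⟨z⟩` -/
def cz (S : QSetup W D z) (X : Set W) : Subgroup W where
  carrier := {y | ∀ u ∈ X, ⁅y, u⁆ ∈ zpowers z}
  one_mem' := fun u _ => by rw [commutatorElement_one_left]; exact one_mem _
  mul_mem' := by
    intro a b ha hb u hu
    have h1 : ⁅a * b, u⁆ = a * ⁅b, u⁆ * a⁻¹ * ⁅a, u⁆ := by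
      simp only [commutatorElement_def]; group
    have h2 : a * ⁅b, u⁆ * a⁻¹ = ⁅b, u⁆ := by
      rw [← S.zp_central (hb u hu) a, mul_inv_cancel_right]
    rw [h1, h2]
    exact mul_mem (hb u hu) (ha u hu)
  inv_mem' := by
    intro a ha u hu
    have h1 : ⁅a⁻¹, u⁆ = a⁻¹ * (⁅a, u⁆)⁻¹ * a := by
      simp only [commutatorElement_def]; group
    have hz' : (⁅a, u⁆)⁻¹ ∈ zpowers z := inv_mem (ha u hu)
    have h2 : a⁻¹ * (⁅a, u⁆)⁻¹ * a = (⁅a, u⁆)⁻¹ := by
      rw [mul_assoc, S.zp_central hz' a, inv_mul_cancel_left]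
    rw [h1, h2]
    exact hz'

theorem mem_cz {X : Set W} {y : W} : y ∈ S.cz X ↔ ∀ u ∈ X, ⁅y, u⁆ ∈ zpowers z := Iff.rfl

theorem top_not_le : ¬ (⊤ : Subgroup W) ≤ zpowers z := by
  intro h
  have h1 : ∀ e ∈ D, e = 1 := by
    intro e he
    apply MulEquiv.ext
    intro y
    rcases (mem_zpowers_z S.hz).mp (h (mem_top y)) with rfl | rfl
    · simp
    · rw [S.z_fixed e he]; rfl
  have hD : D = ⊥ := (Subgroup.eq_bot_iff_forall D).mpr h1
  have h9 := S.card9
  rw [hD, Subgroup.card_bot] at h9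
  omega

theorem exists_isQ : ∃ F, S.IsQ F := by
  obtain ⟨F, hF, -⟩ := S.exists_isQ_le (Y := ⊤) (fun _ _ _ _ => mem_top _) S.top_not_le
  exact ⟨F, hF⟩

/-- `W` is generated by the quaternion-type subgroups -/
theorem top_le_iSup_isQ : (⊤ : Subgroup W) ≤ ⨆ (F : Subgroup W) (_ : S.IsQ F), F := by
  obtain ⟨F₀, hF₀⟩ := S.exists_isQ
  have hY : DInv D (⊤ : Subgroup W) := fun _ _ _ _ => mem_top _
  refine (S.le_iSup_of_dinv hY).trans (iSup_le ?_)
  rintro ⟨d, hd, hd1⟩
  rw [top_inf_eq]
  by_cases h : fixSub d ≤ zpowers z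
  · exact h.trans ((hF₀.zpowers_le S).trans (le_iSup₂_of_le F₀ hF₀ le_rfl))
  · exact le_iSup₂_of_le (fixSub d) ⟨d, hd, hd1, rfl, h⟩ le_rfl

/-- a subgroup containing all the quaternion-type subgroups is everything -/
theorem eq_top_of_isQ_le {A : Subgroup W} (h : ∀ F, S.IsQ F → F ≤ A) (w : W) : w ∈ A :=
  (S.top_le_iSup_isQ.trans (iSup₂_le h)) (mem_top w)

theorem IsQ.comm_mem {F : Subgroup W} (hF : S.IsQ F) {x y : W} (hx : x ∈ F) (hy : y ∈ F) :
    ⁅x, y⁆ ∈ zpowers z := by
  have hc : x⁻¹ ^ 2 ∈ zpowers z := hF.sq_mem S (F.inv_mem hx)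
  have h1 : ⁅x, y⁆ = (x * y) ^ 2 * (y⁻¹ * x⁻¹ ^ 2 * y) * y⁻¹ ^ 2 := by
    simp only [commutatorElement_def, pow_two]; group
  have h2 : y⁻¹ * x⁻¹ ^ 2 * y = x⁻¹ ^ 2 := by
    rw [mul_assoc, S.zp_central hc y, inv_mul_cancel_left]
  rw [h1, h2]
  exact mul_mem (mul_mem (hF.sq_mem S (F.mul_mem hx hy)) hc) (hF.sq_mem S (F.inv_mem hy))

theorem comm_mem_aux {F : Subgroup W} (hF : S.IsQ F) {x : W} (hx : x ∈ F) (y : W) :
    ⁅y, x⁆ ∈ zpowers z := by
  have : y ∈ S.cz {x} := by
    apply S.eq_top_of_isQ_le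
    intro F' hF' y' hy'
    rw [mem_cz]
    intro u hu
    rw [Set.mem_singleton_iff] at hu
    subst hu
    by_cases hne : F' = F
    · subst hne
      exact hF'.comm_mem S hy' hx
    · have := S.isQ_comm hF hF' hne u hx y' hy'
      have h1 : ⁅y', u⁆ = 1 := by
        rw [commutatorElement_eq_one_iff_commute]
        exact this.symm
      rw [h1]; exact one_mem _
  exact this x rfl

/-- all commutators lie in `⟨z⟩` -/
theorem comm_mem (x y : W) : ⁅x, y⁆ ∈ zpowers z := by
  have : x ∈ S.cz {y} := by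
    apply S.eq_top_of_isQ_le
    intro F hF x' hx'
    rw [mem_cz]
    intro u hu
    rw [Set.mem_singleton_iff] at hu
    subst hu
    have h1 : ⁅x', u⁆ = (⁅u, x'⁆)⁻¹ := (commutatorElement_inv u x').symm
    rw [h1]
    exact inv_mem (S.comm_mem_aux hF hx' u)
  exact this y rfl

/-- the elements with square in `⟨z⟩` -/
def sqz (S : QSetup W D z) : Subgroup W where
  carrier := {w | w ^ 2 ∈ zpowers z}
  one_mem' := by
    show (1 : W) ^ 2 ∈ zpowers z
    rw [one_pow]; exact one_mem _
  mul_mem' := by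
    intro a b ha hb
    show (a * b) ^ 2 ∈ zpowers z
    have h1 : (a * b) ^ 2 = a ^ 2 * ⁅a⁻¹, b⁆ * b ^ 2 := by
      simp only [commutatorElement_def, pow_two]; group
    rw [h1]
    exact mul_mem (mul_mem ha (S.comm_mem _ _)) hb
  inv_mem' := by
    intro a ha
    show a⁻¹ ^ 2 ∈ zpowers z
    rw [inv_pow]
    exact inv_mem ha

/-- all squares lie in `⟨z⟩` -/
theorem sq_mem (w : W) : w ^ 2 ∈ zpowers z := by
  have : w ∈ S.sqz := by
    apply S.eq_top_of_isQ_le
    intro F hF x hx
    exact hF.sq_mem S hx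
  exact this

theorem card_zpowers_z : Nat.card (zpowers z) = 2 := by
  rw [Nat.card_zpowers, S.hz]

omit S in
theorem dinv_center : DInv D (center W) := by
  intro e he c hc
  rw [mem_center_iff] at hc ⊢
  intro g
  have h1 : g = e (e⁻¹ g) := (MulAut.apply_inv_self W e g).symm
  rw [h1, ← map_mul, ← map_mul, hc]

/-- the centre is `⟨z⟩` -/
theorem center_eq : center W = zpowers z := by
  apply le_antisymm
  · by_contra hle
    obtain ⟨F, hF, hFle⟩ := S.exists_isQ_le dinv_center hle
    obtain ⟨u, hu, v, hv, huv⟩ := (hF.facts S).2.2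
    exact huv (mem_center_iff.mp (hFle hv) u)
  · rw [zpowers_le, mem_center_iff]
    intro g
    exact (S.z_central g).symm

/-- `z` is a commutator -/
theorem exists_comm_eq_z : ∃ u v : W, ⁅u, v⁆ = z := by
  obtain ⟨F, hF⟩ := S.exists_isQ
  obtain ⟨u, hu, v, hv, huv⟩ := (hF.facts S).2.2
  refine ⟨u, v, ?_⟩
  rcases (mem_zpowers_z S.hz).mp (S.comm_mem u v) with h | h
  · exfalso
    rw [commutatorElement_eq_one_iff_commute] at h
    exact huv h
  · exact h

/-- the derived subgroup is `⟨z⟩` -/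
theorem commutator_eq : commutator W = zpowers z := by
  apply le_antisymm
  · rw [commutator_eq_closure, closure_le]
    rintro g ⟨a, b, rfl⟩
    exact S.comm_mem a b
  · rw [zpowers_le]
    obtain ⟨u, v, huv⟩ := S.exists_comm_eq_z
    rw [← huv, commutator_def]
    exact commutator_mem_commutator (mem_top u) (mem_top v)

/-- the Frattini subgroup is `⟨z⟩` -/
theorem frattini_eq : frattini W = zpowers z := by
  have hfin : Finite W := S.fin
  have : Fact (Nat.Prime 2) := ⟨Nat.prime_two⟩
  apply le_antisymm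
  · exact Helper47.frattini_le_of_commutator_pow_mem (p := 2) (zpowers z) S.comm_mem S.sq_mem
  · have : Group.IsNilpotent W := S.two.isNilpotent
    rw [← S.commutator_eq]
    exact Helper2.commutator_le_frattini

/-- subgroups containing `z` are normal -/
theorem normal_of_zpowers_le {U : Subgroup W} (hU : zpowers z ≤ U) : U.Normal := by
  refine ⟨fun n hn g => ?_⟩
  have : g * n * g⁻¹ = ⁅g, n⁆ * n := by rw [commutatorElement_def]; group
  rw [this]
  exact U.mul_mem (hU (S.comm_mem g n)) hn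

/-- adjoining a commuting quaternion-type subgroup multiplies the order by four -/
theorem IsQ.card_sup {F : Subgroup W} (hF : S.IsQ F) {U : Subgroup W} (hzU : zpowers z ≤ U)
    (hU : DInv D U) (hFU : Comm F U) : Nat.card ↥(F ⊔ U) = 4 * Nat.card U := by
  have hfin : Finite W := S.fin
  have hUn : U.Normal := S.normal_of_zpowers_le hzU
  have hinf : U ⊓ F = zpowers z := by
    apply le_antisymm
    · by_contra hle
      have hH : DInv D (U ⊓ F) := fun e he y hy => ⟨hU e he y hy.1, hF.dinv S e he y hy.2⟩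
      have h1 := hF.eq_of_le S inf_le_right hH hle
      have hFleU : F ≤ U := by rw [← h1]; exact inf_le_left
      obtain ⟨u, hu, v, hv, huv⟩ := (hF.facts S).2.2
      exact huv (hFU u hu v (hFleU hv))
    · exact le_inf hzU (hF.zpowers_le S)
  have h1 : U.relIndex (F ⊔ U) = U.relIndex F := relIndex_sup_right F U
  have h2 : (U ⊓ F).relIndex F = U.relIndex F := inf_relIndex_right U F
  have h3 : Nat.card (zpowers z) * (zpowers z).relIndex F = Nat.card F :=
    card_mul_relIndex_of_le (hF.zpowers_le S)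
  have h4 : Nat.card U * U.relIndex (F ⊔ U) = Nat.card ↥(F ⊔ U) :=
    card_mul_relIndex_of_le le_sup_right
  rw [S.card_zpowers_z, (hF.facts S).1] at h3
  have h5 : (zpowers z).relIndex F = 4 := by omega
  rw [h1, ← h2, hinf, h5] at h4
  omega

/-- the order of the subgroup generated by finitely many quaternion-type subgroups -/
theorem card_finset_sup (T : Finset (Subgroup W)) (hT : ∀ F ∈ T, S.IsQ F) :
    Nat.card ↥(zpowers z ⊔ T.sup id) = 2 ^ (2 * T.card + 1) ∧ DInv D (zpowers z ⊔ T.sup id) ∧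
      ∀ F, S.IsQ F → F ∉ T → Comm F (zpowers z ⊔ T.sup id) := by
  classical
  induction T using Finset.induction_on with
  | empty =>
    refine ⟨?_, ?_, ?_⟩
    · rw [Finset.sup_empty, sup_bot_eq, S.card_zpowers_z]; rfl
    · rw [Finset.sup_empty, sup_bot_eq]; exact S.dinv_zpowers
    · intro F hF _ x hx y hy
      rw [Finset.sup_empty, sup_bot_eq] at hy
      exact (S.zp_central hy x).symm
  | insert F₀ T hF₀T ih =>
    have hTQ : ∀ F ∈ T, S.IsQ F := fun F hF => hT F (Finset.mem_insert_of_mem hF)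
    obtain ⟨ih1, ih2, ih3⟩ := ih hTQ
    have hF₀ : S.IsQ F₀ := hT F₀ (Finset.mem_insert_self _ _)
    have heq : zpowers z ⊔ (insert F₀ T).sup id = F₀ ⊔ (zpowers z ⊔ T.sup id) := by
      rw [Finset.sup_insert, id, sup_left_comm]
    rw [heq]
    refine ⟨?_, ?_, ?_⟩
    · rw [hF₀.card_sup S le_sup_left ih2 (ih3 F₀ hF₀ hF₀T), ih1, Finset.card_insert_of_notMem hF₀T]
      ring
    · intro e he y hy
      have hcomap : F₀ ⊔ (zpowers z ⊔ T.sup id) ≤ (F₀ ⊔ (zpowers z ⊔ T.sup id)).comap e.toMonoidHom := by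
        apply sup_le
        · intro x hx
          exact (le_sup_left : F₀ ≤ _) (hF₀.dinv S e he x hx)
        · intro x hx
          exact (le_sup_right : (zpowers z ⊔ T.sup id) ≤ F₀ ⊔ _) (ih2 e he x hx)
      exact hcomap hy
    · intro F hF hFT
      have hne : F₀ ≠ F := fun h => hFT (h ▸ Finset.mem_insert_self _ _)
      have hFT' : F ∉ T := fun h => hFT (Finset.mem_insert_of_mem h)
      have h1 : F₀ ⊔ (zpowers z ⊔ T.sup id) ≤ centralizer (F : Set W) := by
        apply sup_le
        · intro y hy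
          rw [mem_centralizer_iff]
          intro x hx
          exact S.isQ_comm hF hF₀ hne x hx y hy
        · intro y hy
          rw [mem_centralizer_iff]
          intro x hx
          exact ih3 F hF hFT' x hx y hy
      intro x hx y hy
      exact mem_centralizer_iff.mp (h1 hy) x hx

/-- the order of `W` -/
theorem card_eq : ∃ T : Finset (Subgroup W), (∀ F, F ∈ T ↔ S.IsQ F) ∧
    Nat.card W = 2 ^ (2 * T.card + 1) := by
  classical
  have hfin : Finite W := S.fin
  have hfin2 : Finite (Subgroup W) := inferInstance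
  let T : Finset (Subgroup W) := (Set.toFinite {F : Subgroup W | S.IsQ F}).toFinset
  have hT : ∀ F, F ∈ T ↔ S.IsQ F := by
    intro F
    rw [Set.Finite.mem_toFinset]; rfl
  refine ⟨T, hT, ?_⟩
  obtain ⟨h1, -, -⟩ := S.card_finset_sup T (fun F hF => (hT F).mp hF)
  have htop : zpowers z ⊔ T.sup id = ⊤ := by
    rw [eq_top_iff]
    intro w _
    apply S.eq_top_of_isQ_le
    intro F hF
    refine le_trans ?_ le_sup_right
    exact Finset.le_sup (f := id) ((hT F).mpr hF)
  rw [htop] at h1
  rw [← h1]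
  exact (Nat.card_congr (Subgroup.topEquiv (G := W)).toEquiv).symm

end QSetup

end QA6

end Cfsg.Agent.Helper50
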