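import Mathlib
import Cfsg.Agent.Helper50.HH3
import Cfsg.Agent.Helper50.QA6
import Cfsg.Agent.S0095

set_option autoImplicit false

/-!
# The Shult type bound for subgroups of a finite group (helper50)
-/

namespace Cfsg.Agent.Helper50

open scoped commutatorElement

section HH4

variable {G : Type*} [Group G]

/-- a generator of a subgroup of prime order -/
theorem exists_generator_of_card_prime {H : Subgroup G} {r : ℕ} (hr : r.Prime)
    (hH : Nat.card H = r) : ∃ x ∈ H, orderOf x = r ∧ Subgroup.zpowers x = H := by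
  have hfin : Finite H := Nat.finite_of_card_ne_zero (by rw [hH]; exact hr.ne_zero)
  have hne : H ≠ ⊥ := by
    intro h
    rw [h, Subgroup.card_bot] at hH
    exact hr.ne_one hH.symm
  obtain ⟨⟨x, hx⟩, hx1'⟩ := (Subgroup.ne_bot_iff_exists_ne_one).mp hne
  have hx1 : x ≠ 1 := fun h1 => hx1' (Subtype.ext h1)
  have ho : orderOf x = r := by
    have h1 : orderOf (⟨x, hx⟩ : H) ∣ Nat.card H := orderOf_dvd_natCard _
    rw [hH, Subgroup.orderOf_mk] at h1
    rcases (Nat.dvd_prime hr).mp h1 with h | h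
    · exact absurd (orderOf_eq_one_iff.mp h) hx1
    · exact h
  refine ⟨x, hx, ho, ?_⟩
  apply Subgroup.eq_of_le_of_card_ge
  · rw [Subgroup.zpowers_le]; exact hx
  · rw [Nat.card_zpowers, ho, hH]

theorem shult_subgroups [Finite G] {p q r : ℕ} (hp : p.Prime) (hq : q.Prime) (hr : r.Prime)
    (hpq : p ≠ q) (hpr : p ≠ r) (hqr : q ≠ r) (X Q V : Subgroup G) (hX : Nat.card X = r)
    (hQp : IsPGroup q Q) (hQcomm : commutator ↥Q = Subgroup.center ↥Q)
    (hQZ : Nat.card (Subgroup.center ↥Q) = q)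
    (hXQ : X ≤ Subgroup.normalizer (Q : Set G))
    (hCQ : Q ⊓ Subgroup.centralizer (X : Set G) = (Subgroup.center ↥Q).map Q.subtype)
    (hVc : ∀ v ∈ V, ∀ w ∈ V, v * w = w * v) (hVp : ∀ v ∈ V, v ^ p = 1)
    (hXV : X ≤ Subgroup.normalizer (V : Set G)) (hQV : Q ≤ Subgroup.normalizer (V : Set G))
    (hfaith : (X ⊔ Q) ⊓ Subgroup.centralizer (V : Set G) = ⊥)
    (hCV : V ⊓ Subgroup.centralizer (X : Set G) = ⊥) :
    q * ((Subgroup.center ↥Q).map Q.subtype).relIndex Q = Nat.card Q ∧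
    ((Subgroup.center ↥Q).map Q.subtype).relIndex Q ≤ (r - 1) ^ 2 ∧
    Nat.card Q ≡ q [MOD r] := by
  classical
  have hpF : Fact p.Prime := ⟨hp⟩
  have hqF : Fact q.Prime := ⟨hq⟩
  set ZG : Subgroup G := (Subgroup.center ↥Q).map Q.subtype with hZG
  have hZGQ : ZG ≤ Q := by
    rintro _ ⟨c, -, rfl⟩
    exact c.2
  have hcardZG : Nat.card ZG = q := by
    rw [hZG, Subgroup.card_map_of_injective Q.subtype_injective, hQZ]
  -- generators
  obtain ⟨x₀, hx₀X, hx₀o, hx₀gen⟩ := exists_generator_of_card_prime hr hX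
  obtain ⟨z, hzZ, hzo, hzgen⟩ := exists_generator_of_card_prime hq hQZ
  have hzG : (z : G) ∈ ZG := ⟨z, hzZ, rfl⟩
  have hzGo : orderOf (z : G) = q := by rw [Subgroup.orderOf_coe, hzo]
  have hZGgen : Subgroup.zpowers (z : G) = ZG := by
    apply Subgroup.eq_of_le_of_card_ge
    · rw [Subgroup.zpowers_le]; exact hzG
    · rw [Nat.card_zpowers, hzGo, hcardZG]
  -- elements of `ZG` commute with `X` and `Q`
  have hZGX : ∀ c ∈ ZG, ∀ g ∈ X, g * c = c * g := by
    intro c hc g hg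
    have : c ∈ Q ⊓ Subgroup.centralizer (X : Set G) := by rw [hCQ]; exact hc
    exact Subgroup.mem_centralizer_iff.mp this.2 g hg
  have hZGQc : ∀ c ∈ ZG, ∀ g ∈ Q, g * c = c * g := by
    rintro _ ⟨c, hc, rfl⟩ g hg
    have := Subgroup.mem_center_iff.mp hc ⟨g, hg⟩
    exact congrArg Subtype.val this
  have hZGΓ : ∀ c ∈ ZG, ∀ g ∈ X ⊔ Q, g * c = c * g := by
    intro c hc g hg
    have hle : X ⊔ Q ≤ Subgroup.centralizer {c} := by
      apply sup_le
      · intro g hg
        rw [Subgroup.mem_centralizer_singleton_iff]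
        exact (hZGX c hc g hg)
      · intro g hg
        rw [Subgroup.mem_centralizer_singleton_iff]
        exact (hZGQc c hc g hg)
    have := hle hg
    rw [Subgroup.mem_centralizer_singleton_iff] at this
    exact this
  -- the ambient group of operators
  have hΓV : X ⊔ Q ≤ Subgroup.normalizer (V : Set G) := sup_le hXV hQV
  have hΓQ : X ⊔ Q ≤ Subgroup.normalizer (Q : Set G) := sup_le hXQ Subgroup.le_normalizer
  let φ : ↥(X ⊔ Q) →* MulAut ↥V := V.normalizerMonoidHom.comp (Subgroup.inclusion hΓV)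
  have hφ : ∀ (g : ↥(X ⊔ Q)) (v : ↥V), ((φ g v : ↥V) : G) = (g : G) * v * (g : G)⁻¹ := fun _ _ => rfl
  let _ : CommGroup ↥V :=
    { (inferInstance : Group ↥V) with mul_comm := fun a b => Subtype.ext (hVc a a.2 b b.2) }
  let Q' : Subgroup ↥(X ⊔ Q) := Q.subgroupOf (X ⊔ Q)
  have hQ'n : Q'.Normal := Subgroup.normal_subgroupOf_of_le_normalizer hΓQ
  let x : ↥(X ⊔ Q) := ⟨x₀, le_sup_left (a := X) hx₀X⟩
  let z₀ : ↥(X ⊔ Q) := ⟨(z : G), le_sup_right (b := Q) z.2⟩
  have hxo : orderOf x = r := by rw [← hx₀o]; exact Subgroup.orderOf_mk _ _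
  have hz₀o : orderOf z₀ = q := by rw [← hzGo]; exact Subgroup.orderOf_mk _ _
  -- membership in `⟨z₀⟩`
  have hmemZ : ∀ g : ↥(X ⊔ Q), g ∈ Subgroup.zpowers z₀ ↔ (g : G) ∈ ZG := by
    intro g
    rw [← hZGgen]
    constructor
    · intro hg
      obtain ⟨k, hk⟩ := Subgroup.mem_zpowers_iff.mp hg
      rw [Subgroup.mem_zpowers_iff]
      refine ⟨k, ?_⟩
      rw [← hk]
      rfl
    · intro hg
      obtain ⟨k, hk⟩ := Subgroup.mem_zpowers_iff.mp hg
      rw [Subgroup.mem_zpowers_iff]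
      refine ⟨k, Subtype.ext ?_⟩
      rw [← hk]
      rfl
  have hmemX : ∀ g : ↥(X ⊔ Q), g ∈ Subgroup.zpowers x → (g : G) ∈ X := by
    intro g hg
    obtain ⟨k, hk⟩ := Subgroup.mem_zpowers_iff.mp hg
    rw [← hk]
    exact X.zpow_mem hx₀X k
  have hmemQ' : ∀ g : ↥(X ⊔ Q), g ∈ Q' ↔ (g : G) ∈ Q := fun g => Subgroup.mem_subgroupOf
  have hcardQ' : Nat.card Q' = Nat.card Q :=
    Nat.card_congr (Subgroup.subgroupOfEquivOfLe (le_sup_right : Q ≤ X ⊔ Q)).toEquiv
  -- hypotheses of `shult_action`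
  have hz₀c : ∀ g : ↥(X ⊔ Q), g * z₀ = z₀ * g := by
    intro g
    apply Subtype.ext
    exact hZGΓ _ hzG g g.2
  have hcomm : ∀ a ∈ Q', ∀ b ∈ Q', ⁅a, b⁆ ∈ Subgroup.zpowers z₀ := by
    intro a ha b hb
    rw [hmemZ]
    have ha' := (hmemQ' a).mp ha
    have hb' := (hmemQ' b).mp hb
    have h1 : ⁅(⟨a, ha'⟩ : ↥Q), ⟨b, hb'⟩⁆ ∈ Subgroup.center ↥Q := by
      rw [← hQcomm, commutator_def]
      exact Subgroup.commutator_mem_commutator (Subgroup.mem_top _) (Subgroup.mem_top _)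
    exact ⟨_, h1, rfl⟩
  have hcent : ∀ a ∈ Q', (∀ b ∈ Q', a * b = b * a) → a ∈ Subgroup.zpowers z₀ := by
    intro a ha hab
    rw [hmemZ]
    have ha' := (hmemQ' a).mp ha
    refine ⟨⟨a, ha'⟩, Subgroup.mem_center_iff.mpr ?_, rfl⟩
    intro g
    apply Subtype.ext
    have := hab ⟨g, le_sup_right (b := Q) g.2⟩ ((hmemQ' _).mpr g.2)
    exact (congrArg Subtype.val this).symm
  have hpQ : ¬ p ∣ Nat.card Q' := by
    rw [hcardQ']
    intro hdvd
    obtain ⟨k, hk⟩ := IsPGroup.iff_card.mp hQp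
    rw [hk] at hdvd
    exact hpq ((Nat.prime_dvd_prime_iff_eq hp hq).mp (hp.dvd_of_dvd_pow hdvd))
  have hcop : ∀ c : G, c ^ r = 1 → c ^ q = 1 → c = 1 := by
    intro c h1 h2
    have h3 : orderOf c ∣ Nat.gcd r q := Nat.dvd_gcd (orderOf_dvd_of_pow_eq_one h1)
      (orderOf_dvd_of_pow_eq_one h2)
    rw [(Nat.coprime_primes hr hq).mpr (Ne.symm hqr)] at h3
    exact orderOf_eq_one_iff.mp (Nat.dvd_one.mp h3)
  have hZGq : ∀ c ∈ ZG, c ^ q = 1 := by
    intro c hc
    have := pow_card_eq_one' (G := ZG) (x := ⟨c, hc⟩)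
    rw [hcardZG] at this
    exact congrArg Subtype.val this
  have hXr : ∀ c ∈ X, c ^ r = 1 := by
    intro c hc
    have := pow_card_eq_one' (G := X) (x := ⟨c, hc⟩)
    rw [hX] at this
    exact congrArg Subtype.val this
  have hxN : ∀ y ∈ Subgroup.zpowers x, y ∈ Subgroup.zpowers z₀ → y = 1 := by
    intro y hy hyz
    apply Subtype.ext
    exact hcop _ (hXr _ (hmemX y hy)) (hZGq _ ((hmemZ y).mp hyz))
  have hfpf : ∀ y ∈ Subgroup.zpowers x, y ≠ 1 → ∀ a ∈ Q',
      ⁅y, a⁆ ∈ Subgroup.zpowers z₀ → a ∈ Subgroup.zpowers z₀ := by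
    intro y hy hy1 a ha hya
    rw [hmemZ] at hya ⊢
    set c : G := ((⁅y, a⁆ : ↥(X ⊔ Q)) : G) with hc
    have hcG : c = (y : G) * a * (y : G)⁻¹ * (a : G)⁻¹ := rfl
    have hyX := hmemX y hy
    have hcy : (y : G) * c = c * y := hZGX c hya _ hyX
    have hca : (a : G) * c = c * a := hZGQc c hya _ ((hmemQ' a).mp ha)
    -- `y ^ k * a * y ^ (-k) = c ^ k * a`
    have hpow : ∀ k : ℕ, (y : G) ^ k * a * ((y : G) ^ k)⁻¹ = c ^ k * a := by
      intro k
      induction k with
      | zero => simp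
      | succ k ih =>
        have h1 : (y : G) * a * (y : G)⁻¹ = c * a := by rw [hcG]; group
        have hcyk : (y : G) * c ^ k = c ^ k * y := (Commute.pow_right hcy k).eq
        calc (y : G) ^ (k + 1) * a * ((y : G) ^ (k + 1))⁻¹
            = (y : G) * ((y : G) ^ k * a * ((y : G) ^ k)⁻¹) * (y : G)⁻¹ := by
              rw [pow_succ']; group
          _ = (y : G) * (c ^ k * a) * (y : G)⁻¹ := by rw [ih]
          _ = c ^ k * ((y : G) * a * (y : G)⁻¹) := by
              rw [← mul_assoc, hcyk]; group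
          _ = c ^ (k + 1) * a := by rw [h1, pow_succ]; group
    have hcr : c ^ r = 1 := by
      have h1 := hpow r
      rw [hXr _ hyX, one_mul, inv_one, mul_one] at h1
      exact (mul_eq_right.mp h1.symm)
    have hc1 : c = 1 := hcop c hcr (hZGq c hya)
    have hya' : (y : G) * a = a * y := by
      have : (y : G) * a * (y : G)⁻¹ * (a : G)⁻¹ = 1 := by rw [← hcG, hc1]
      calc (y : G) * a = ((y : G) * a * (y : G)⁻¹ * (a : G)⁻¹) * (a * y) := by group
        _ = a * y := by rw [this, one_mul]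
    -- `y` generates `X`
    have hyo : orderOf (y : G) = r := by
      have h1 : orderOf (y : G) ∣ r := orderOf_dvd_of_pow_eq_one (hXr _ hyX)
      rcases (Nat.dvd_prime hr).mp h1 with h | h
      · exfalso
        apply hy1
        apply Subtype.ext
        exact orderOf_eq_one_iff.mp h
      · exact h
    have hygen : Subgroup.zpowers (y : G) = X := by
      apply Subgroup.eq_of_le_of_card_ge
      · rw [Subgroup.zpowers_le]; exact hyX
      · rw [Nat.card_zpowers, hyo, hX]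
    have haC : (a : G) ∈ Q ⊓ Subgroup.centralizer (X : Set G) := by
      refine ⟨(hmemQ' a).mp ha, Subgroup.mem_centralizer_iff.mpr ?_⟩
      intro g hg
      rw [← hygen] at hg
      obtain ⟨k, rfl⟩ := Subgroup.mem_zpowers_iff.mp hg
      exact ((Commute.zpow_left (show Commute (y : G) a from hya') k)).eq
    rw [hCQ] at haC
    exact haC
  have hz₀W : ∃ w : ↥V, φ z₀ w ≠ w := by
    by_contra hcon
    push Not at hcon
    have h1 : (z : G) ∈ (X ⊔ Q) ⊓ Subgroup.centralizer (V : Set G) := by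
      refine ⟨le_sup_right (b := Q) z.2, Subgroup.mem_centralizer_iff.mpr ?_⟩
      intro v hv
      have h2 := congrArg Subtype.val (hcon ⟨v, hv⟩)
      rw [hφ] at h2
      have h3 : (z : G) * v * (z : G)⁻¹ = v := h2
      calc v * (z : G) = ((z : G) * v * (z : G)⁻¹) * z := by rw [h3]
        _ = z * v := by group
    rw [hfaith, Subgroup.mem_bot] at h1
    rw [h1, orderOf_one] at hzGo
    exact hq.ne_one hzGo.symm
  have hfix : ∀ w : ↥V, φ x w = w → w = 1 := by
    intro w hw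
    have h2 := congrArg Subtype.val hw
    rw [hφ] at h2
    have h3 : x₀ * (w : G) * x₀⁻¹ = w := h2
    have h4 : x₀ * (w : G) = w * x₀ := by
      calc x₀ * (w : G) = (x₀ * w * x₀⁻¹) * x₀ := by group
        _ = w * x₀ := by rw [h3]
    have h5 : (w : G) ∈ V ⊓ Subgroup.centralizer (X : Set G) := by
      refine ⟨w.2, Subgroup.mem_centralizer_iff.mpr ?_⟩
      intro g hg
      rw [← hx₀gen] at hg
      obtain ⟨k, rfl⟩ := Subgroup.mem_zpowers_iff.mp hg
      exact ((Commute.zpow_left (show Commute x₀ (w : G) from h4) k)).eq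
    rw [hCV, Subgroup.mem_bot] at h5
    exact Subtype.ext h5
  have hexp : ∀ w : ↥V, w ^ p = 1 := by
    intro w
    apply Subtype.ext
    rw [Subgroup.coe_pow]
    exact hVp _ w.2
  have hmain := shult_action φ hexp Q' z₀ x hq hr hz₀o hz₀c hcomm hcent hpQ hpq hpr hxo hxN hfpf
    hz₀W hfix
  -- translate the index
  have hzle : Subgroup.zpowers z₀ ≤ Q' := by
    intro g hg
    rw [hmemQ']
    exact hZGQ ((hmemZ g).mp hg)
  have hidx : q * (Subgroup.zpowers z₀).relIndex Q' = Nat.card Q := by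
    have := card_mul_relIndex_of_le hzle
    rw [Nat.card_zpowers, hz₀o, hcardQ'] at this
    exact this
  have hidx2 : q * ZG.relIndex Q = Nat.card Q := by
    have := card_mul_relIndex_of_le hZGQ
    rw [hcardZG] at this
    exact this
  have hidx3 : (Subgroup.zpowers z₀).relIndex Q' = ZG.relIndex Q :=
    Nat.eq_of_mul_eq_mul_left hq.pos (hidx.trans hidx2.symm)
  refine ⟨hidx2, hidx3 ▸ hmain, ?_⟩
  -- the congruence
  have hXp : IsPGroup r X := IsPGroup.of_card (n := 1) (by rw [hX, pow_one])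
  have hFr : Fact r.Prime := ⟨hr⟩
  let act : MulAction ↥X ↥Q := MulAction.compHom ↥Q (Q.normalizerMonoidHom.comp (Subgroup.inclusion hXQ))
  have hsmul : ∀ (g : ↥X) (a : ↥Q), ((g • a : ↥Q) : G) = (g : G) * a * (g : G)⁻¹ := fun _ _ => rfl
  have hmod := hXp.card_modEq_card_fixedPoints ↥Q
  have hfixcard : Nat.card (MulAction.fixedPoints ↥X ↥Q) = q := by
    rw [← hQZ]
    refine Nat.card_congr
      { toFun := fun a => ⟨a.1, ?_⟩
        invFun := fun c => ⟨c.1, ?_⟩
        left_inv := fun a => rfl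
        right_inv := fun c => rfl }
    · have ha := a.2
      have h1 : ((a.1 : ↥Q) : G) ∈ Q ⊓ Subgroup.centralizer (X : Set G) := by
        refine ⟨a.1.2, Subgroup.mem_centralizer_iff.mpr ?_⟩
        intro g hg
        have h2 := congrArg Subtype.val (ha ⟨g, hg⟩)
        rw [hsmul] at h2
        have h3 : g * ((a.1 : ↥Q) : G) * g⁻¹ = (a.1 : ↥Q) := h2
        calc g * ((a.1 : ↥Q) : G) = (g * (a.1 : ↥Q) * g⁻¹) * g := by group
          _ = (a.1 : ↥Q) * g := by rw [h3]
      rw [hCQ] at h1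
      obtain ⟨c, hc, hce⟩ := h1
      have : c = a.1 := Subtype.ext hce
      rw [← this]; exact hc
    · intro g
      apply Subtype.ext
      rw [hsmul]
      have hcG : ((c.1 : ↥Q) : G) ∈ ZG := ⟨c.1, c.2, rfl⟩
      have := hZGX _ hcG g g.2
      rw [this]; group
  rw [hfixcard] at hmod
  exact hmod

end HH4

end Cfsg.Agent.Helper50
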