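import Mathlib

set_option autoImplicit false

/-!
# Arithmetic ending of the Shult type lemma (helper50)
-/

namespace Cfsg.Agent.Helper50

theorem shult_arith {q r n idx c : ℕ} (hq : q.Prime) (hr : r.Prime) (hqr : q ≠ r) (hn1 : 1 ≤ n)
    (hcard : c = q ^ (2 * n + 1)) (h1 : q * idx = c) (h2 : idx ≤ (r - 1) ^ 2)
    (h3 : c ≡ q [MOD r]) : q = 2 ∧ ∃ n : ℕ, r = 2 ^ n + 1 ∧ c = 2 ^ (2 * n + 1) := by
  have hidx : idx = (q ^ n) ^ 2 := by
    have : q * idx = q * (q ^ n) ^ 2 := by rw [h1, hcard]; ring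
    exact Nat.eq_of_mul_eq_mul_left hq.pos this
  obtain ⟨N, hN⟩ : ∃ N, N = q ^ n := ⟨_, rfl⟩
  rw [← hN] at hidx
  have hN2 : 2 ≤ N := by
    calc 2 ≤ q := hq.two_le
      _ = q ^ 1 := (pow_one q).symm
      _ ≤ q ^ n := Nat.pow_le_pow_right hq.pos hn1
      _ = N := hN.symm
  have hNr : N ≤ r - 1 := by
    rw [hidx] at h2
    exact (Nat.pow_le_pow_iff_left (by norm_num)).mp h2
  have hr2 := hr.two_le
  obtain ⟨m, hm⟩ : ∃ m, N = m + 2 := ⟨N - 2, by omega⟩
  have hc : c = q * N ^ 2 := by rw [← h1, hidx]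
  have hdvd : r ∣ q * (N ^ 2 - 1) := by
    have hqc : q ≤ c := by
      rw [hc]
      exact Nat.le_mul_of_pos_right q (by positivity)
    have h5 := (Nat.modEq_iff_dvd' hqc).mp h3.symm
    rw [hc] at h5
    rw [Nat.mul_sub_one]
    exact h5
  have hcop : Nat.Coprime r q := (Nat.coprime_primes hr hq).mpr (Ne.symm hqr)
  have hdvd2 : r ∣ N ^ 2 - 1 := hcop.dvd_of_dvd_mul_left hdvd
  have hfac : N ^ 2 - 1 = (m + 1) * (m + 3) := by
    rw [hm]
    have : (m + 2) ^ 2 = (m + 1) * (m + 3) + 1 := by ring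
    rw [this, Nat.add_sub_cancel]
  rw [hfac] at hdvd2
  have hrN : r = N + 1 := by
    rcases (Nat.Prime.dvd_mul hr).mp hdvd2 with h | h
    · have := Nat.le_of_dvd (by omega) h
      omega
    · have := Nat.le_of_dvd (by omega) h
      omega
  have hq2 : q = 2 := by
    rcases hq.eq_two_or_odd' with h | h
    · exact h
    · exfalso
      have hNodd : Odd N := by rw [hN]; exact h.pow
      have hreven : Even r := by rw [hrN]; exact hNodd.add_one
      have := (Nat.Prime.even_iff hr).mp hreven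
      omega
  refine ⟨hq2, n, ?_, ?_⟩
  · rw [hrN, hN, hq2]
  · rw [hcard, hq2]

end Cfsg.Agent.Helper50
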