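import Mathlib
import Cfsg.Prelude.Def_OddOrderLocal
import Cfsg.Agent.Helper29.BG10F
import Cfsg.Agent.Helper68.BG12A
import Cfsg.Agent.S1459

/-!
# Bender--Glauberman, Lemma 13.4 (statement S1426), from 13.1 and 12.4(a) (helper50)

`thm_13_4` proves the three clauses of S1426 for a maximal subgroup `M` with complement `E` of
`M_σ`, given the Uniqueness Theorem `hU` and the two inputs
* `h131`  (B-G 13.1, statement S1423): `p ∈ σ(M)`, `X ≤ M` of order `p`, `p ∈ β(M)` or `X ≤ (M_σ)'`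
  imply `C_G(X) ≤ M`;
* `h124`  (B-G 12.4(a), statement S1416): `C_G(A) ≤ M` for `A ≤ M` elementary abelian of order `p²`.
-/

set_option autoImplicit false
set_option linter.unusedVariables false
set_option linter.style.haveILetI false
set_option linter.unusedSectionVars false

namespace Cfsg.Agent.Helper50.BG13

open Cfsg Cfsg.Agent.Helper29.BG10 Cfsg.Agent.Helper68.BG12
open scoped commutatorElement

variable {G : Type*} [Group G] [Finite G]

/-- `O_σ(M) ≤ M'` (B-G 10.2(d)) -/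
theorem piCore_sigma_le_commutator (hG : Cfsg.IsMinSimpleOddOrder G) (hU : UniquenessThm G)
    {M : Subgroup G} (hM : IsCoatom M) :
    Cfsg.piCore (Cfsg.sigma M) ↥M ≤ commutator ↥M := by
  intro x hx
  by_contra hxc
  set π := QuotientGroup.mk' (commutator ↥M) with hπ
  have hne : π x ≠ 1 := by
    intro h
    apply hxc
    rwa [hπ, QuotientGroup.mk'_apply, QuotientGroup.eq_one_iff] at h
  have hord : orderOf (π x) ≠ 1 := fun h => hne (orderOf_eq_one_iff.mp h)
  obtain ⟨p, hp, hpd⟩ := Nat.exists_prime_and_dvd hord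
  haveI : Fact p.Prime := ⟨hp⟩
  have h1 : p ∣ Nat.card (Cfsg.piCore (Cfsg.sigma M) ↥M) := by
    have h2 : orderOf (π x) ∣ orderOf x := orderOf_map_dvd _ x
    have h3 : orderOf x ∣ Nat.card (Cfsg.piCore (Cfsg.sigma M) ↥M) := by
      have := orderOf_dvd_natCard (⟨x, hx⟩ : Cfsg.piCore (Cfsg.sigma M) ↥M)
      rwa [Subgroup.orderOf_mk] at this
    exact hpd.trans (h2.trans h3)
  have hpσ : p ∈ Cfsg.sigma M := Cfsg.Agent.S1886.piCore_isPi _ p hp h1
  obtain P : Sylow p ↥M := default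
  have hPle := sylow_le_commutator hG hU hM hpσ P
  have h4 : (commutator ↥M).index ∣ (P : Subgroup ↥M).index := Subgroup.index_dvd_of_le hPle
  have h5 : ¬ p ∣ (P : Subgroup ↥M).index := P.not_dvd_index
  apply h5
  refine dvd_trans ?_ h4
  have h6 : orderOf (π x) ∣ Nat.card (↥M ⧸ commutator ↥M) := orderOf_dvd_natCard _
  rw [← Subgroup.index_eq_card] at h6
  exact hpd.trans h6


/-- B-G 13.4(a),(b): `C_{M_σ}(E) ≤ (M_σ)'` and `[M_σ, E] = M_σ`. -/
theorem thm_13_4_ab (hG : Cfsg.IsMinSimpleOddOrder G) (hU : UniquenessThm G)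
    (M : Subgroup G) (hM : IsCoatom M) (E : Subgroup G)
    (hE : Cfsg.IsComplIn E (Cfsg.sigmaCore M) M) :
    Cfsg.sigmaCore M ⊓ Subgroup.centralizer (E : Set G) ≤
        ⁅Cfsg.sigmaCore M, Cfsg.sigmaCore M⁆ ∧
      ⁅Cfsg.sigmaCore M, E⁆ = Cfsg.sigmaCore M := by
  have h := eCtx_of hG hU hM hE
  haveI : Group.IsSolvable ↥M := h.solvable_M
  set H : Subgroup ↥M := Cfsg.piCore (Cfsg.sigma M) ↥M with hH
  set K : Subgroup ↥M := E.subgroupOf M with hK
  have hHmap : H.map M.subtype = Cfsg.sigmaCore M := rfl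
  have hKmap : K.map M.subtype = E := Subgroup.map_subgroupOf_eq_of_le h.le
  obtain ⟨⟨-, hSpi, hSidx⟩, -, -⟩ := thm_10_2_sigma hG hU M hM
  have hcop : (Nat.card H).Coprime H.index := by
    apply Nat.coprime_of_dvd
    intro p hp hp1 hp2
    have h1 : p ∈ Cfsg.sigma M := by
      apply hSpi p hp
      rw [← hHmap, Subgroup.card_map_of_injective M.subtype_injective]
      exact hp1
    apply hSidx p hp h1
    have h2 : (Cfsg.sigmaCore M).relIndex M = H.index := by
      unfold Subgroup.relIndex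
      congr 1
      rw [← hHmap]
      ext x
      rw [Subgroup.mem_subgroupOf]
      constructor
      · rintro ⟨y, hy, hyx⟩
        have : y = x := Subtype.ext hyx
        rwa [← this]
      · intro hx
        exact ⟨x, hx, rfl⟩
    rw [h2]
    exact hp2
  have hcompl : Subgroup.IsComplement' H K := h.isComplement'.symm
  have hle : H ≤ commutator ↥M := piCore_sigma_le_commutator hG hU hM
  obtain ⟨h1, h2⟩ := (Cfsg.Agent.S1459.result (G := ↥M)).1 H K inferInstance hcop hcompl hle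
  constructor
  · rintro x ⟨hx1, hx2⟩
    obtain ⟨y, hy, rfl⟩ := hx1
    have hyc : y ∈ Subgroup.centralizer (K : Set ↥M) := by
      rw [Subgroup.mem_centralizer_iff]
      intro k hk
      apply Subtype.ext
      exact Subgroup.mem_centralizer_iff.mp hx2 (k : G) (Subgroup.mem_subgroupOf.mp hk)
    have h3 := h2 ⟨hy, hyc⟩
    rw [← hHmap, ← Subgroup.map_commutator]
    exact Subgroup.mem_map_of_mem _ h3
  · rw [← hKmap, ← hHmap, ← Subgroup.map_commutator, ← h1]


/-- key step of 13.4(c): a nontrivial `p`-subgroup `X` of `M_σ ∩ gMg⁻¹`, `g ∉ M`, has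
`C_G(X) ≰ M` (by B-G 10.1). -/
theorem centralizer_not_le_of_le_conj (hG : Cfsg.IsMinSimpleOddOrder G) (hU : UniquenessThm G)
    (M : Subgroup G) (hM : IsCoatom M) {g : G} (hg : g ∉ M) (p : ℕ) [Fact p.Prime]
    (X : Subgroup G) (hXp : IsPGroup p X) (hX1 : X ≠ ⊥) (hXs : X ≤ Cfsg.sigmaCore M)
    (hXg : X ≤ M.map (MulAut.conj g).toMonoidHom) :
    ¬ Subgroup.centralizer (X : Set G) ≤ M := by
  intro hC
  have hpp : p.Prime := Fact.out
  obtain ⟨⟨hSM, hSpi, -⟩, -, -⟩ := thm_10_2_sigma hG hU M hM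
  have hpσ : p ∈ Cfsg.sigma M := by
    apply hSpi p hpp
    have h1 : p ∣ Nat.card X := by
      obtain ⟨k, hk⟩ := IsPGroup.iff_card.mp hXp
      have hk0 : k ≠ 0 := by
        rintro rfl
        rw [pow_zero] at hk
        exact hX1 (Subgroup.card_eq_one.mp hk)
      rw [hk]
      exact dvd_pow_self p hk0
    exact h1.trans (Subgroup.card_dvd_of_le hXs)
  have h10 := (thm_10_1 hG hU M hM hpσ X hXp hX1 (hXs.trans hSM)).1 g⁻¹
  have hconj : X.map (MulAut.conj g⁻¹).toMonoidHom ≤ M := by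
    rintro _ ⟨x, hx, rfl⟩
    obtain ⟨m, hm, hmx⟩ := hXg hx
    have : (MulAut.conj g⁻¹).toMonoidHom x = m := by
      rw [← hmx]
      simp [MulAut.conj_apply, mul_assoc]
    rw [this]
    exact hm
  obtain ⟨m, hm, c, hc, hgmc⟩ := h10 hconj
  apply hg
  have : g = c⁻¹ * m⁻¹ := by
    rw [← mul_inv_rev, ← hgmc, inv_inv]
  rw [this]
  exact M.mul_mem (M.inv_mem (hC hc)) (M.inv_mem hm)

/-- **B-G Lemma 13.4** (statement S1426), given 13.1 (`h131`) and 12.4(a) (`h124`). -/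
theorem thm_13_4 (hG : Cfsg.IsMinSimpleOddOrder G) (hU : UniquenessThm G)
    (M : Subgroup G) (hM : IsCoatom M) (E : Subgroup G)
    (hE : Cfsg.IsComplIn E (Cfsg.sigmaCore M) M)
    (h131 : ∀ (p : ℕ) [Fact p.Prime], p ∈ Cfsg.sigma M → ∀ X : Subgroup G, X ≤ M →
      Nat.card X = p → (p ∈ Cfsg.beta M ∨ X ≤ ⁅Cfsg.sigmaCore M, Cfsg.sigmaCore M⁆) →
      Subgroup.centralizer (X : Set G) ≤ M)
    (h124 : ∀ (p : ℕ) [Fact p.Prime] (A : Subgroup G), A ≤ M → Cfsg.IsElementaryAbelian p A →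
      Nat.card A = p ^ 2 → Subgroup.centralizer (A : Set G) ≤ M) :
    Cfsg.sigmaCore M ⊓ Subgroup.centralizer (E : Set G) ≤
        ⁅Cfsg.sigmaCore M, Cfsg.sigmaCore M⁆ ∧
      ⁅Cfsg.sigmaCore M, E⁆ = Cfsg.sigmaCore M ∧
      ∀ g : G, g ∉ M → IsCyclic ↥(Cfsg.sigmaCore M ⊓ M.map (MulAut.conj g).toMonoidHom) ∧
        (∀ p : ℕ, p.Prime →
          p ∣ Nat.card ↥(Cfsg.sigmaCore M ⊓ M.map (MulAut.conj g).toMonoidHom) →
          p ∉ Cfsg.beta M) ∧
        Cfsg.sigmaCore M ⊓ M.map (MulAut.conj g).toMonoidHom ⊓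
          ⁅Cfsg.sigmaCore M, Cfsg.sigmaCore M⁆ = ⊥ := by
  obtain ⟨ha, hb⟩ := thm_13_4_ab hG hU M hM E hE
  refine ⟨ha, hb, ?_⟩
  intro g hg
  obtain ⟨⟨hSM, hSpi, -⟩, -, -⟩ := thm_10_2_sigma hG hU M hM
  set D : Subgroup G := Cfsg.sigmaCore M ⊓ M.map (MulAut.conj g).toMonoidHom with hD
  -- subgroups of prime order of `D`
  have hprime : ∀ (p : ℕ) [Fact p.Prime] (X : Subgroup G), X ≤ D → Nat.card X = p →
      p ∈ Cfsg.sigma M ∧ ¬ Subgroup.centralizer (X : Set G) ≤ M := by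
    intro p _ X hXD hX
    have hpp : p.Prime := Fact.out
    have hXp : IsPGroup p X := IsPGroup.of_card (n := 1) (by rw [hX, pow_one])
    have hX1 : X ≠ ⊥ := by
      intro h
      rw [h, Subgroup.card_bot] at hX
      exact hpp.one_lt.ne hX
    refine ⟨?_, centralizer_not_le_of_le_conj hG hU M hM hg p X hXp hX1
      (hXD.trans inf_le_left) (hXD.trans inf_le_right)⟩
    apply hSpi p hpp
    rw [← hX]
    exact Subgroup.card_dvd_of_le (hXD.trans inf_le_left)
  -- every subgroup `Y ≠ 1` of `D` contains a subgroup of prime order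
  have hexists : ∀ Y : Subgroup G, Y ≤ D → ∀ p : ℕ, p.Prime → p ∣ Nat.card Y →
      ∃ X : Subgroup G, X ≤ Y ∧ Nat.card X = p := by
    intro Y hYD p hp hpd
    haveI : Fact p.Prime := ⟨hp⟩
    obtain ⟨y, hy⟩ := exists_prime_orderOf_dvd_card' (G := Y) p hpd
    refine ⟨Subgroup.zpowers (y : G), ?_, ?_⟩
    · rw [Subgroup.zpowers_le]
      exact y.2
    · rw [Nat.card_zpowers, Subgroup.orderOf_coe, hy]
  have h2 : ∀ p : ℕ, p.Prime → p ∣ Nat.card ↥D → p ∉ Cfsg.beta M := by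
    intro p hp hpd hβ
    haveI : Fact p.Prime := ⟨hp⟩
    obtain ⟨X, hXD, hX⟩ := hexists D le_rfl p hp hpd
    obtain ⟨hpσ, hnot⟩ := hprime p X hXD hX
    exact hnot (h131 p hpσ X ((hXD.trans inf_le_left).trans hSM) hX (Or.inl hβ))
  have h3 : D ⊓ ⁅Cfsg.sigmaCore M, Cfsg.sigmaCore M⁆ = ⊥ := by
    by_contra hne
    have hcard : Nat.card ↥(D ⊓ ⁅Cfsg.sigmaCore M, Cfsg.sigmaCore M⁆) ≠ 1 := fun h =>
      hne (Subgroup.card_eq_one.mp h)
    obtain ⟨p, hp, hpd⟩ := Nat.exists_prime_and_dvd hcard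
    haveI : Fact p.Prime := ⟨hp⟩
    obtain ⟨X, hXY, hX⟩ := hexists _ inf_le_left p hp hpd
    obtain ⟨hpσ, hnot⟩ := hprime p X (hXY.trans inf_le_left) hX
    exact hnot (h131 p hpσ X (((hXY.trans inf_le_left).trans inf_le_left).trans hSM) hX
      (Or.inr (hXY.trans inf_le_right)))
  refine ⟨?_, h2, h3⟩
  -- `D` is abelian
  have hcomm : ∀ a ∈ D, ∀ b ∈ D, a * b = b * a := by
    intro a ha b hb
    have h4 : ⁅a, b⁆ ∈ D ⊓ ⁅Cfsg.sigmaCore M, Cfsg.sigmaCore M⁆ :=
      ⟨Subgroup.commutator_le_self D (Subgroup.commutator_mem_commutator ha hb),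
        Subgroup.commutator_mem_commutator ha.1 hb.1⟩
    rw [h3, Subgroup.mem_bot, commutatorElement_eq_one_iff_mul_comm] at h4
    exact h4
  letI : CommGroup ↥D :=
    { (inferInstance : Group ↥D) with
      mul_comm := fun a b => Subtype.ext (hcomm a a.2 b b.2) }
  haveI : Group.IsNilpotent ↥D := CommGroup.isNilpotent
  have hodd : Odd (Nat.card ↥D) := Odd.of_dvd_nat hG.1 (Subgroup.card_subgroup_dvd_card D)
  apply isCyclic_of_nilpotent_of_pRankLE_one hodd
  intro p hp hpd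
  haveI : Fact p.Prime := ⟨hp⟩
  intro A hAc hAe
  by_contra hlt
  rw [not_le, pow_one] at hlt
  -- `A` is a `p`-group of order at least `p ^ 2`
  have hAp : IsPGroup p A := fun a => ⟨1, by
    rw [pow_one]
    exact Subtype.ext (by simpa using hAe (a : ↥D) a.2)⟩
  obtain ⟨k, hk⟩ := IsPGroup.iff_card.mp hAp
  have hk2 : 2 ≤ k := by
    by_contra hk2
    have hk1 : k ≤ 1 := by omega
    have h5 : p ^ k ≤ p ^ 1 := Nat.pow_le_pow_right hp.pos hk1
    have h6 : Nat.card ↥A ≤ p := by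
      calc Nat.card ↥A = p ^ k := hk
        _ ≤ p ^ 1 := h5
        _ = p := pow_one p
    exact absurd hlt (not_lt.mpr h6)
  have hdvd2 : p ^ 2 ∣ Nat.card ↥A := by rw [hk]; exact pow_dvd_pow p hk2
  obtain ⟨A', hA'⟩ := Sylow.exists_subgroup_card_pow_prime (G := A) p hdvd2
  set B : Subgroup G := (A'.map A.subtype).map D.subtype with hB
  have hBcard : Nat.card B = p ^ 2 := by
    rw [hB, Subgroup.card_map_of_injective D.subtype_injective,
      Subgroup.card_map_of_injective A.subtype_injective]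
    exact hA'
  have hBD : B ≤ D := Subgroup.map_subtype_le _
  have hBel : Cfsg.IsElementaryAbelian p B := by
    refine ⟨⟨⟨?_⟩⟩, ?_⟩
    · rintro ⟨_, ⟨a, ha, rfl⟩⟩ ⟨_, ⟨b, hb, rfl⟩⟩
      apply Subtype.ext
      exact hcomm a a.2 b b.2
    · rintro _ ⟨_, ⟨a, ha, rfl⟩, rfl⟩
      have := hAe a a.2
      simpa using congrArg Subtype.val this
  have hBp : IsPGroup p B := IsPGroup.of_card hBcard
  have hB1 : B ≠ ⊥ := by
    intro h
    rw [h, Subgroup.card_bot] at hBcard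
    have : 1 < p ^ 2 := Nat.one_lt_pow (by norm_num) hp.one_lt
    omega
  exact centralizer_not_le_of_le_conj hG hU M hM hg p B hBp hB1 (hBD.trans inf_le_left)
    (hBD.trans inf_le_right) (h124 p B ((hBD.trans inf_le_left).trans hSM) hBel hBcard)

end Cfsg.Agent.Helper50.BG13
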