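import Mathlib
import Cfsg.Prelude.Def_CaseTheorems
import Cfsg.Prelude.Def_Transfer
import Cfsg.Agent.Helper24.CritSub
import Cfsg.Agent.Helper4.RankTwoAut
import Cfsg.Agent.S1453

/-!
# Elements of the derived subgroup of an odd solvable group act trivially on small `r`-sections
(helper50)

* `commutator_centralizes_of_rank_two`: `N` solvable of odd order normalizing an `r`-subgroup `W`
  of `r`-rank at most two (`r` odd); then every `r'`-element of `⁅N, N⁆` centralizes `W`.
* `commutator_centralizes_of_centralizer_rank_two` (LEMMA X): `N` solvable of odd order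
  normalizing an `r`-subgroup `Q`, `Z ≤ Q` of order `r` such that `C_Q(Z)` has `r`-rank at most
  two; then every `r'`-element of `⁅N, N⁆` normalizing `Z` centralizes `Z`.

This is the last step of Bender--Glauberman, Theorem 11.7.
-/

set_option autoImplicit false
set_option linter.unusedVariables false
set_option linter.style.haveILetI false
set_option linter.unusedSectionVars false

open Cfsg
open scoped commutatorElement

namespace Cfsg.Agent.Helper50

open Cfsg.Agent.Helper24 Cfsg.Agent.Helper4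

/-- `p`-rank bounds pass to smaller subgroups. -/
theorem pRankLE_mono {G : Type*} [Group G] {p k : ℕ} {H K : Subgroup G} (hHK : H ≤ K)
    (h : Cfsg.PRankLE p k K) : Cfsg.PRankLE p k H := by
  intro B hB hBexp
  have hinj : Function.Injective (Subgroup.inclusion hHK) := Subgroup.inclusion_injective hHK
  have hcard : Nat.card (B.map (Subgroup.inclusion hHK)) = Nat.card B :=
    Nat.card_congr (B.equivMapOfInjective _ hinj).symm.toEquiv
  rw [← hcard]
  apply h
  · refine ⟨⟨?_⟩⟩
    rintro ⟨_, ⟨a, ha, rfl⟩⟩ ⟨_, ⟨b, hb, rfl⟩⟩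
    apply Subtype.ext
    have := hB.is_comm.comm ⟨a, ha⟩ ⟨b, hb⟩
    have h2 := congrArg (fun v : B => Subgroup.inclusion hHK (v : H)) this
    simpa using h2
  · rintro _ ⟨a, ha, rfl⟩
    rw [← map_pow, hBexp a ha, map_one]

/-- ambient form of a `p`-rank bound on a subgroup -/
theorem card_le_of_pRankLE {G : Type*} [Group G] {p k : ℕ} {H : Subgroup G}
    (h : Cfsg.PRankLE p k H) (B : Subgroup G) (hBH : B ≤ H)
    (hBc : ∀ a ∈ B, ∀ b ∈ B, a * b = b * a) (hBe : ∀ a ∈ B, a ^ p = 1) :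
    Nat.card B ≤ p ^ k := by
  have h1 := h (B.subgroupOf H) ⟨⟨fun a b => by
      apply Subtype.ext
      apply Subtype.ext
      exact hBc _ (Subgroup.mem_subgroupOf.1 a.2) _ (Subgroup.mem_subgroupOf.1 b.2)⟩⟩
    (fun a ha => by
      apply Subtype.ext
      have := hBe _ (Subgroup.mem_subgroupOf.1 ha)
      simpa using this)
  rwa [Nat.card_congr (Subgroup.subgroupOfEquivOfLe hBH).toEquiv] at h1

/-- **Rank two case.** `N` solvable of odd order normalizing an `r`-subgroup `W` of `r`-rank at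
most two (`r` odd): every `r'`-element of the derived subgroup `⁅N, N⁆` centralizes `W`. -/
theorem commutator_centralizes_of_rank_two {G : Type*} [Group G] [Finite G] {r : ℕ}
    [Fact r.Prime] (hr2 : r ≠ 2) (N W : Subgroup G) (hNsolv : Group.IsSolvable N)
    (hNodd : Odd (Nat.card N)) (hNW : N ≤ Subgroup.normalizer (W : Set G)) (hW : IsPGroup r W)
    (hrk : Cfsg.PRankLE r 2 W) (a : G) (ha : a ∈ ⁅N, N⁆) (hcop : (orderOf a).Coprime r) :
    ∀ w ∈ W, a * w = w * a := by
  classical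
  have hrp : r.Prime := Fact.out
  obtain ⟨D, hDW, hDinv, hDexp, hDcl, hDfaith⟩ := exists_small_exponent_crit (p := r) W hW
  have hND : N ≤ Subgroup.normalizer (D : Set G) := by
    intro n hn
    rw [Subgroup.mem_normalizer_iff]
    intro h
    constructor
    · intro hh
      exact hDinv n (hNW hn) h hh
    · intro hh
      have := hDinv n⁻¹ (Subgroup.inv_mem _ (hNW hn)) _ hh
      simpa [mul_assoc] using this
  set ψ : ↥N →* MulAut ↥D := (D.normalizerMonoidHom).comp (Subgroup.inclusion hND) with hψ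
  have hψ_apply : ∀ (n : N) (x : D), ((ψ n x : D) : G) = n * x * n⁻¹ := by
    intro n x
    rfl
  have hexp : ∀ x : D, x ^ r = 1 := by
    intro x
    apply Subtype.ext
    rcases hDexp x x.2 with h | ⟨h, -⟩
    · simpa using h
    · exact absurd h hr2
  have hcen : ∀ x y : D, ⁅x, y⁆ ∈ Subgroup.center D := by
    intro x y
    rw [Subgroup.mem_center_iff]
    intro w
    apply Subtype.ext
    have := (hDcl x x.2 y (hDW y.2)).2 w w.2
    show (w : G) * ⁅(x : G), (y : G)⁆ = ⁅(x : G), (y : G)⁆ * w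
    exact this.symm
  have hrkD : Cfsg.PRankLE r 2 D := pRankLE_mono hDW hrk
  -- pass to the quotient by the kernel of the action
  let ψq : (↥N ⧸ ψ.ker) →* MulAut ↥D := QuotientGroup.kerLift ψ
  have hinj : Function.Injective ψq := QuotientGroup.kerLift_injective ψ
  have hkerq : IsPGroup r ψq.ker := by
    rw [(MonoidHom.ker_eq_bot_iff ψq).mpr hinj]
    exact IsPGroup.of_bot
  have hoddq : Odd (Nat.card (↥N ⧸ ψ.ker)) :=
    Odd.of_dvd_nat hNodd (Subgroup.card_quotient_dvd_card _)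
  haveI := hNsolv
  have hsolvq : Group.IsSolvable (↥N ⧸ ψ.ker) := inferInstance
  have hfinal := isPGroup_commutator_of_action hr2 hexp hcen hrkD hoddq hsolvq ψq hkerq
  -- the element `a` inside `N`
  rw [← Subgroup.map_subtype_commutator N] at ha
  obtain ⟨a', ha', rfl⟩ := ha
  have hmk : (QuotientGroup.mk' ψ.ker a') ∈ commutator (↥N ⧸ ψ.ker) := by
    have h1 : (commutator ↥N).map (QuotientGroup.mk' ψ.ker) = commutator (↥N ⧸ ψ.ker) := by
      rw [commutator_def, commutator_def, Subgroup.map_commutator,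
        ← MonoidHom.range_eq_map, MonoidHom.range_eq_top.mpr (QuotientGroup.mk'_surjective _)]
    rw [← h1]
    exact Subgroup.mem_map_of_mem _ ha'
  have hone : (QuotientGroup.mk' ψ.ker a') = 1 := by
    obtain ⟨j, hj⟩ := hfinal ⟨_, hmk⟩
    have hj' : (QuotientGroup.mk' ψ.ker a') ^ r ^ j = 1 := by
      simpa using congrArg Subtype.val hj
    have ho : orderOf (QuotientGroup.mk' ψ.ker a') ∣ orderOf (a' : G) := by
      rw [Subgroup.orderOf_coe]
      exact orderOf_map_dvd _ a'
    have h1 : orderOf (QuotientGroup.mk' ψ.ker a') = 1 :=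
      Nat.Coprime.eq_one_of_dvd ((hcop.coprime_dvd_left ho).pow_right j)
        (orderOf_dvd_of_pow_eq_one hj')
    exact orderOf_eq_one_iff.mp h1
  have hker : a' ∈ ψ.ker := by
    rwa [QuotientGroup.mk'_apply, QuotientGroup.eq_one_iff] at hone
  have hcent : ∀ x ∈ D, ((a' : ↥N) : G) * x = x * a' := by
    intro x hx
    have h1 : ψ a' ⟨x, hx⟩ = ⟨x, hx⟩ := by rw [MonoidHom.mem_ker.mp hker]; rfl
    have h2 : ((a' : ↥N) : G) * x * ((a' : ↥N) : G)⁻¹ = x := by
      have := congrArg Subtype.val h1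
      rwa [hψ_apply] at this
    calc ((a' : ↥N) : G) * x = (((a' : ↥N) : G) * x * ((a' : ↥N) : G)⁻¹) * a' := by group
      _ = x * a' := by rw [h2]
  exact hDfaith _ (hNW a'.2) hcop hcent


/-- **Lemma X.** `N` solvable of odd order normalizing an `r`-subgroup `Q` (`r` odd), `Z ≤ Q` of
order `r` such that `C_Q(Z)` has `r`-rank at most two.  Then every `r'`-element of `⁅N, N⁆` which
normalizes `Z` centralizes `Z`. -/
theorem commutator_centralizes_of_centralizer_rank_two {G : Type*} [Group G] [Finite G] {r : ℕ}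
    [Fact r.Prime] (hr2 : r ≠ 2) (N Q Z : Subgroup G) (hNsolv : Group.IsSolvable N)
    (hNodd : Odd (Nat.card N)) (hNQ : N ≤ Subgroup.normalizer (Q : Set G)) (hQ : IsPGroup r Q)
    (hZQ : Z ≤ Q) (hZ : Nat.card Z = r)
    (hrk : Cfsg.PRankLE r 2 ↥(Q ⊓ Subgroup.centralizer (Z : Set G)))
    (a : G) (ha : a ∈ ⁅N, N⁆) (hcop : (orderOf a).Coprime r)
    (haZ : a ∈ Subgroup.normalizer (Z : Set G)) :
    ∀ z ∈ Z, a * z = z * a := by
  classical
  have hrp : r.Prime := Fact.out
  by_cases hQrk : Cfsg.PRankLE r 2 ↥Q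
  · intro z hz
    exact commutator_centralizes_of_rank_two hr2 N Q hNsolv hNodd hNQ hQ hQrk a ha hcop z (hZQ hz)
  -- now `Q` has rank at least three
  -- `Z` is not central in `Q`
  have hZnc : ¬ ∀ z ∈ Z, ∀ q ∈ Q, q * z = z * q := by
    intro hc
    apply hQrk
    apply pRankLE_mono (K := Q ⊓ Subgroup.centralizer (Z : Set G)) _ hrk
    intro q hq
    refine ⟨hq, Subgroup.mem_centralizer_iff.mpr ?_⟩
    intro z hz
    exact (hc z hz q hq).symm
  -- a generator of `Z`
  have hZne : Z ≠ ⊥ := by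
    intro h
    rw [h, Subgroup.card_bot] at hZ
    exact hrp.one_lt.ne hZ
  obtain ⟨⟨x, hxZ⟩, hx1'⟩ := (Subgroup.ne_bot_iff_exists_ne_one).mp hZne
  have hx1 : x ≠ 1 := fun h => hx1' (Subtype.ext h)
  have hZx : ∀ z ∈ Z, ∃ l : ℕ, z = x ^ l := by
    intro z hz
    have htop : Subgroup.zpowers (⟨x, hxZ⟩ : Z) = ⊤ :=
      zpowers_eq_top_of_prime_card hZ (fun h => hx1 (congrArg Subtype.val h))
    have hmem : (⟨z, hz⟩ : Z) ∈ Subgroup.zpowers (⟨x, hxZ⟩ : Z) := htop ▸ Subgroup.mem_top _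
    rw [← mem_powers_iff_mem_zpowers] at hmem
    obtain ⟨l, hl⟩ := hmem
    exact ⟨l, by simpa using (congrArg Subtype.val hl).symm⟩
  have hxr : x ^ r = 1 := by
    have h1 : (⟨x, hxZ⟩ : Z) ^ Nat.card Z = 1 := pow_card_eq_one'
    rw [hZ] at h1
    simpa using congrArg Subtype.val h1
  have hxord : orderOf x = r := orderOf_eq_prime hxr hx1
  -- work inside `Q`
  set xq : Q := ⟨x, hZQ hxZ⟩ with hxq
  set Z' : Subgroup Q := Z.subgroupOf Q with hZ'
  have hZ'card : Nat.card Z' = r := by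
    rw [hZ', Nat.card_congr (Subgroup.subgroupOfEquivOfLe hZQ).toEquiv]
    exact hZ
  have hZ'x : ∀ u ∈ Z', ∃ l : ℕ, u = xq ^ l := by
    intro u hu
    obtain ⟨l, hl⟩ := hZx u (Subgroup.mem_subgroupOf.mp hu)
    exact ⟨l, Subtype.ext (by simpa using hl)⟩
  have hxqZ' : xq ∈ Z' := Subgroup.mem_subgroupOf.mpr hxZ
  set Zs : Subgroup Q := Cfsg.Agent.S1453.omegaCenter r Q with hZs
  set E : Subgroup Q := Subgroup.closure ((Z' : Set Q) ∪ (Zs : Set Q)) with hE
  have hZsc : ∀ v ∈ Zs, ∀ u : Q, u * v = v * u := fun v hv u => Subgroup.mem_center_iff.mp hv.1 u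
  have hgen_comm : ∀ u ∈ (Z' : Set Q) ∪ (Zs : Set Q), ∀ v ∈ (Z' : Set Q) ∪ (Zs : Set Q),
      u * v = v * u := by
    rintro u (hu | hu) v (hv | hv)
    · obtain ⟨i, rfl⟩ := hZ'x u hu
      obtain ⟨j, rfl⟩ := hZ'x v hv
      rw [← pow_add, ← pow_add, add_comm]
    · exact hZsc v hv u
    · exact (hZsc u hu v).symm
    · exact hZsc v hv u
  have hEc : IsMulCommutative E := Subgroup.isMulCommutative_closure hgen_comm
  have hEcomm : ∀ u ∈ E, ∀ v ∈ E, u * v = v * u := fun u hu v hv =>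
    congrArg Subtype.val (mul_comm' (⟨u, hu⟩ : E) ⟨v, hv⟩)
  have hEe : ∀ e ∈ E, e ^ r = 1 := by
    intro e he
    induction he using Subgroup.closure_induction with
    | mem y hy =>
      rcases hy with hy | hy
      · obtain ⟨i, rfl⟩ := hZ'x y hy
        have hxqr : xq ^ r = 1 := Subtype.ext (by simpa using hxr)
        rw [← pow_mul, mul_comm, pow_mul, hxqr, one_pow]
      · exact hy.2
    | one => exact one_pow _
    | mul a b ha hb iha ihb =>
      have hc : Commute a b := hEcomm a ha b hb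
      rw [hc.mul_pow, iha, ihb, one_mul]
    | inv a ha iha => rw [inv_pow, iha, inv_one]
  have hZ'E : Z' ≤ E := fun u hu => Subgroup.subset_closure (Or.inl hu)
  have hZsE : Zs ≤ E := fun u hu => Subgroup.subset_closure (Or.inr hu)
  -- a commutative subgroup of exponent `r` containing `Z'` has order at most `r ^ 2`
  have hbound : ∀ B : Subgroup Q, Z' ≤ B → (∀ u ∈ B, ∀ v ∈ B, u * v = v * u) →
      (∀ u ∈ B, u ^ r = 1) → Nat.card B ≤ r ^ 2 := by
    intro B hZB hBc hBe
    rw [← Subgroup.card_map_of_injective Q.subtype_injective]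
    apply card_le_of_pRankLE hrk
    · rintro _ ⟨u, hu, rfl⟩
      refine ⟨u.2, Subgroup.mem_centralizer_iff.mpr ?_⟩
      intro z hz
      have := hBc ⟨z, hZQ hz⟩ (hZB (Subgroup.mem_subgroupOf.mpr hz)) u hu
      exact congrArg Subtype.val this
    · rintro _ ⟨u, hu, rfl⟩ _ ⟨v, hv, rfl⟩
      exact congrArg Subtype.val (hBc u hu v hv)
    · rintro _ ⟨u, hu, rfl⟩
      have := hBe u hu
      exact (by simpa using congrArg Subtype.val this)
  have hQtop : (⊤ : Subgroup Q) ≠ ⊥ := by
    intro h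
    apply hx1
    have : xq ∈ (⊥ : Subgroup Q) := h ▸ Subgroup.mem_top xq
    rw [Subgroup.mem_bot] at this
    exact congrArg Subtype.val this
  obtain ⟨z0, -, hz0c, hz0o⟩ := Cfsg.Agent.Helper52.exists_central_orderOf_eq_prime hQ ⊤ hQtop
  have hz0Zs : z0 ∈ Zs := ⟨hz0c, by rw [← hz0o]; exact pow_orderOf_eq_one z0⟩
  have hz01 : z0 ≠ 1 := by
    intro h
    rw [h, orderOf_one] at hz0o
    exact hrp.one_lt.ne hz0o
  have hz0Z' : z0 ∉ Z' := by
    intro hz0
    apply hZnc
    -- `z0` generates `Z'`, hence `Z` is central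
    have htop : Subgroup.zpowers (⟨z0, hz0⟩ : Z') = ⊤ :=
      zpowers_eq_top_of_prime_card hZ'card (fun h => hz01 (congrArg Subtype.val h))
    intro z hz q hq
    have hmem : (⟨⟨z, hZQ hz⟩, Subgroup.mem_subgroupOf.mpr hz⟩ : Z') ∈
        Subgroup.zpowers (⟨z0, hz0⟩ : Z') := htop ▸ Subgroup.mem_top _
    rw [← mem_powers_iff_mem_zpowers] at hmem
    obtain ⟨l, hl⟩ := hmem
    have hl' : (⟨z, hZQ hz⟩ : Q) = z0 ^ l := by
      have := congrArg Subtype.val hl
      simpa using this.symm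
    have hcen : (⟨z, hZQ hz⟩ : Q) ∈ Subgroup.center Q := by
      rw [hl']
      exact Subgroup.pow_mem _ hz0c l
    have := Subgroup.mem_center_iff.mp hcen ⟨q, hq⟩
    exact congrArg Subtype.val this
  have hE2 : Nat.card E = r ^ 2 := by
    have hle : Nat.card E ≤ r ^ 2 := hbound E hZ'E hEcomm hEe
    have hlt : Nat.card Z' < Nat.card E := by
      apply Cfsg.Agent.S1453.card_lt_card_of_lt'
      refine lt_of_le_of_ne hZ'E ?_
      intro h
      exact hz0Z' (h ▸ hZsE hz0Zs)
    obtain ⟨k, hk⟩ := IsPGroup.iff_card.mp (hQ.to_subgroup E)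
    have h1 : 1 < k := by
      by_contra hk1
      have hk1' : k ≤ 1 := not_lt.mp hk1
      have h3 : r ^ k ≤ r ^ 1 := Nat.pow_le_pow_right hrp.pos hk1'
      rw [pow_one, ← hk] at h3
      rw [hZ'card] at hlt
      omega
    have h2 : k ≤ 2 := by
      rw [hk] at hle
      exact (Nat.pow_le_pow_iff_right hrp.one_lt).mp hle
    have : k = 2 := by omega
    rw [hk, this]
  have hEmax : ∀ B : Subgroup Q, Cfsg.IsElementaryAbelian r B → E ≤ B → B = E := by
    intro B hB hEB
    have hBc : ∀ u ∈ B, ∀ v ∈ B, u * v = v * u := fun u hu v hv =>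
      Cfsg.Agent.Helper52.comm_of_mem hB.1 hu hv
    have hle : Nat.card B ≤ r ^ 2 := hbound B (hZ'E.trans hEB) hBc hB.2
    exact (Subgroup.eq_of_le_of_card_ge hEB (by rw [hE2]; exact hle)).symm
  obtain ⟨hnot, -, ⟨hWe, hW2⟩, -, -⟩ :=
    Cfsg.Agent.S1453.result r hr2 hQ hQrk E ⟨hEc, hEe⟩ hE2 hEmax
  set S : Set Q := {y : Q | y ∈ Subgroup.upperCentralSeries Q 2 ∧ y ^ r = 1} with hS
  -- some generator `w` of `W` does not commute with `x`
  obtain ⟨w, hwS, hwx⟩ : ∃ w ∈ S, w * xq ≠ xq * w := by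
    by_contra hall
    push Not at hall
    apply hnot
    rw [Subgroup.centralizer_closure, hE, Subgroup.closure_le]
    rintro u (hu | hu)
    · obtain ⟨i, rfl⟩ := hZ'x u hu
      rw [SetLike.mem_coe, Subgroup.mem_centralizer_iff]
      intro y hy
      have hc : Commute y xq := hall y hy
      exact (hc.pow_right i).eq
    · rw [SetLike.mem_coe, Subgroup.mem_centralizer_iff]
      intro y hy
      exact hZsc u hu y
  -- the subgroup `W` of `G`
  set W : Subgroup Q := Subgroup.closure S with hWdef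
  set Wg : Subgroup G := W.map Q.subtype with hWg
  have hSconj : ∀ (φ : MulAut Q), ∀ y ∈ S, φ y ∈ S := by
    intro φ y hy
    refine ⟨?_, ?_⟩
    · have hchar : (Subgroup.upperCentralSeries Q 2).Characteristic := inferInstance
      have := (Subgroup.characteristic_iff_map_eq.mp hchar) φ
      rw [← this]
      exact Subgroup.mem_map_of_mem _ hy.1
    · rw [← map_pow, hy.2, map_one]
  have hWconj : ∀ (φ : MulAut Q), ∀ y ∈ W, φ y ∈ W := by
    intro φ y hy
    have h1 : W.map φ.toMonoidHom ≤ W := by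
      rw [hWdef, MonoidHom.map_closure, Subgroup.closure_le]
      rintro _ ⟨y, hy, rfl⟩
      exact Subgroup.subset_closure (hSconj φ y hy)
    exact h1 (Subgroup.mem_map_of_mem _ hy)
  have hNWg' : ∀ n ∈ N, ∀ y ∈ Wg, n * y * n⁻¹ ∈ Wg := by
    rintro n hn _ ⟨y, hy, rfl⟩
    refine ⟨Q.normalizerMonoidHom ⟨n, hNQ hn⟩ y, hWconj _ y hy, rfl⟩
  have hNWg : N ≤ Subgroup.normalizer (Wg : Set G) := by
    intro n hn
    rw [Subgroup.mem_normalizer_iff]
    intro h
    constructor
    · intro hh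
      exact hNWg' n hn h hh
    · intro hh
      have := hNWg' n⁻¹ (Subgroup.inv_mem _ hn) _ hh
      simpa [mul_assoc] using this
  have hWgQ : Wg ≤ Q := Subgroup.map_subtype_le W
  have hWgp : IsPGroup r Wg := hQ.to_le hWgQ
  have hWgcard : Nat.card Wg = r ^ 2 := by
    rw [hWg, Subgroup.card_map_of_injective Q.subtype_injective]
    exact hW2
  have hWgrk : Cfsg.PRankLE r 2 Wg := by
    intro B _ _
    rw [← hWgcard]
    exact Subgroup.card_le_card_group B
  have haW := commutator_centralizes_of_rank_two hr2 N Wg hNsolv hNodd hNWg hWgp hWgrk a ha hcop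
  -- the commutator `c = [w, x]`
  set wg : G := (w : G) with hwg
  have hwgW : wg ∈ Wg := ⟨w, Subgroup.subset_closure hwS, rfl⟩
  set c : G := wg * x * wg⁻¹ * x⁻¹ with hc
  have hcq : (w * xq * w⁻¹ * xq⁻¹ : Q) ∈ Subgroup.center Q :=
    (Cfsg.Agent.S1453.mem_upperCentralSeries_two_iff w).mp hwS.1 xq
  have hcval : ((w * xq * w⁻¹ * xq⁻¹ : Q) : G) = c := rfl
  have hcx : Commute c x := by
    have := Subgroup.mem_center_iff.mp hcq xq
    have h2 : x * c = c * x := congrArg Subtype.val this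
    exact h2.symm
  have hcW : c ∈ Wg := by
    refine ⟨w * (xq * w⁻¹ * xq⁻¹), ?_, ?_⟩
    · apply Subgroup.mul_mem _ (Subgroup.subset_closure hwS)
      apply Subgroup.subset_closure
      refine ⟨?_, ?_⟩
      · exact (inferInstance : (Subgroup.upperCentralSeries Q 2).Normal).conj_mem _
          (Subgroup.inv_mem _ hwS.1) xq
      · rw [conj_pow, inv_pow, hwS.2, inv_one, mul_one, mul_inv_cancel]
    · show wg * (x * wg⁻¹ * x⁻¹) = c
      rw [hc]
      group
  have hc1 : c ≠ 1 := by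
    intro h
    apply hwx
    apply Subtype.ext
    show wg * x = x * wg
    calc wg * x = (wg * x * wg⁻¹ * x⁻¹) * (x * wg) := by group
      _ = x * wg := by rw [← hc, h, one_mul]
  have hcr : c ^ r = 1 := Cfsg.Agent.S1453.commutator_pow_eq_one_right x wg r hcx hxr
  have hcord : orderOf c = r := orderOf_eq_prime hcr hc1
  -- the action of `a`
  have haw : a * wg = wg * a := haW wg hwgW
  have hac : a * c = c * a := haW c hcW
  obtain ⟨l, hl⟩ := hZx (a * x * a⁻¹) ((Subgroup.mem_normalizer_iff.mp haZ x).mp hxZ)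
  have hwxl : wg * x ^ l * wg⁻¹ = c ^ l * x ^ l := by
    have h1 : wg * x * wg⁻¹ = c * x := by rw [hc]; group
    rw [← conj_pow, h1, hcx.mul_pow]
  have hcl : c ^ l = c := by
    have h1 : a * c * a⁻¹ = c := by rw [hac]; group
    have h2 : a * c * a⁻¹ = (a * wg * a⁻¹) * (a * x * a⁻¹) * (a * wg * a⁻¹)⁻¹ * (a * x * a⁻¹)⁻¹ := by
      rw [hc]; group
    have h3 : a * wg * a⁻¹ = wg := by rw [haw]; group
    rw [h3, hl, hwxl] at h2
    rw [h1] at h2
    have h4 : c ^ l * x ^ l * (x ^ l)⁻¹ = c ^ l := by group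
    rw [h4] at h2
    exact h2.symm
  have hmod : l ≡ 1 [MOD r] := by
    have : c ^ l = c ^ 1 := by rw [hcl, pow_one]
    rw [pow_eq_pow_iff_modEq, hcord] at this
    exact this
  have hxl : x ^ l = x := by
    have : x ^ l = x ^ 1 := by
      rw [pow_eq_pow_iff_modEq, hxord]
      exact hmod
    rwa [pow_one] at this
  have hax : Commute a x := by
    rw [hxl] at hl
    show a * x = x * a
    calc a * x = (a * x * a⁻¹) * a := by group
      _ = x * a := by rw [hl]
  intro z hz
  obtain ⟨i, rfl⟩ := hZx z hz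
  exact (hax.pow_right i).eq


/-- **Lemma X**, subgroup form: an `r'`-subgroup `A ≤ ⁅N, N⁆` normalizing `Z` centralizes `Z`. -/
theorem le_centralizer_of_le_commutator {G : Type*} [Group G] [Finite G] {r : ℕ}
    [Fact r.Prime] (hr2 : r ≠ 2) (N Q Z A : Subgroup G) (hNsolv : Group.IsSolvable N)
    (hNodd : Odd (Nat.card N)) (hNQ : N ≤ Subgroup.normalizer (Q : Set G)) (hQ : IsPGroup r Q)
    (hZQ : Z ≤ Q) (hZ : Nat.card Z = r)
    (hrk : Cfsg.PRankLE r 2 ↥(Q ⊓ Subgroup.centralizer (Z : Set G)))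
    (hAN : A ≤ ⁅N, N⁆) (hAcop : (Nat.card A).Coprime r)
    (hAZ : A ≤ Subgroup.normalizer (Z : Set G)) :
    A ≤ Subgroup.centralizer (Z : Set G) := by
  intro a ha
  rw [Subgroup.mem_centralizer_iff]
  intro z hz
  have hcop : (orderOf a).Coprime r := by
    have h1 : orderOf a ∣ Nat.card A := by
      have := orderOf_dvd_natCard (⟨a, ha⟩ : A)
      rwa [Subgroup.orderOf_mk] at this
    exact hAcop.coprime_dvd_left h1
  exact (commutator_centralizes_of_centralizer_rank_two hr2 N Q Z hNsolv hNodd hNQ hQ hZQ hZ hrk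
    a (hAN ha) hcop (hAZ ha) z hz).symm

end Cfsg.Agent.Helper50
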