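import Mathlib
import Cfsg.Prelude.Def_BaumannBlocks

/-!
Chermak–Delgado measure theory for finite groups (helper50).
`Cfsg.maxCentralizerProduct`, `Cfsg.IsCentralizerLarge`, `Cfsg.IsCentrallyLarge` etc.
-/

set_option autoImplicit false

namespace Cfsg.Agent.Helper50

open Subgroup
open scoped Pointwise

variable {G : Type*} [Group G]

theorem card_mul_relIndex_eq' {H K : Subgroup G} (h : H ≤ K) :
    Nat.card H * H.relIndex K = Nat.card K := by
  rw [← Subgroup.relIndex_bot_left, Subgroup.relIndex_mul_relIndex _ _ _ bot_le h,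
    Subgroup.relIndex_bot_left]

/-- The product formula as an inequality: `|H| |K| ≤ |H ⊔ K| |H ⊓ K|`. -/
theorem card_mul_card_le [Finite G] (H K : Subgroup G) :
    Nat.card H * Nat.card K ≤ Nat.card ↥(H ⊔ K) * Nat.card ↥(H ⊓ K) := by
  have h1 : Nat.card ↥(H ⊓ K) * K.relIndex H = Nat.card H := by
    rw [← Subgroup.inf_relIndex_left]; exact card_mul_relIndex_eq' inf_le_left
  have h2 : Nat.card K * K.relIndex (H ⊔ K) = Nat.card ↥(H ⊔ K) := card_mul_relIndex_eq' le_sup_right
  have h3 : K.relIndex H ≤ K.relIndex (H ⊔ K) :=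
    Subgroup.relIndex_le_of_le_right le_sup_left
      (by rw [Subgroup.relIndex]; exact Subgroup.index_ne_zero_of_finite)
  calc Nat.card H * Nat.card K = Nat.card ↥(H ⊓ K) * K.relIndex H * Nat.card K := by rw [h1]
    _ ≤ Nat.card ↥(H ⊓ K) * K.relIndex (H ⊔ K) * Nat.card K := by gcongr
    _ = Nat.card ↥(H ⊔ K) * Nat.card ↥(H ⊓ K) := by rw [← h2]; ring

/-- If `|H ⊔ K| |H ⊓ K| ≤ |H| |K|` then `H ⊔ K = HK` as sets. -/
theorem coe_sup_eq_mul_of_card [Finite G] (H K : Subgroup G)
    (h : Nat.card ↥(H ⊔ K) * Nat.card ↥(H ⊓ K) ≤ Nat.card H * Nat.card K) :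
    ((H ⊔ K : Subgroup G) : Set G) = (H : Set G) * (K : Set G) := by
  have h1 : Nat.card ↥(H ⊓ K) * K.relIndex H = Nat.card H := by
    rw [← Subgroup.inf_relIndex_left]; exact card_mul_relIndex_eq' inf_le_left
  have h2 : Nat.card K * K.relIndex (H ⊔ K) = Nat.card ↥(H ⊔ K) := card_mul_relIndex_eq' le_sup_right
  have hpos1 : 0 < Nat.card ↥(H ⊓ K) := Nat.card_pos
  have hpos2 : 0 < Nat.card K := Nat.card_pos
  have h3 : K.relIndex (H ⊔ K) ≤ K.relIndex H := by
    have : (Nat.card ↥(H ⊓ K) * Nat.card K) * K.relIndex (H ⊔ K) ≤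
        (Nat.card ↥(H ⊓ K) * Nat.card K) * K.relIndex H := by
      calc (Nat.card ↥(H ⊓ K) * Nat.card K) * K.relIndex (H ⊔ K)
          = (Nat.card K * K.relIndex (H ⊔ K)) * Nat.card ↥(H ⊓ K) := by ring
        _ = Nat.card ↥(H ⊔ K) * Nat.card ↥(H ⊓ K) := by rw [h2]
        _ ≤ Nat.card H * Nat.card K := h
        _ = (Nat.card ↥(H ⊓ K) * K.relIndex H) * Nat.card K := by rw [h1]
        _ = _ := by ring
    exact Nat.le_of_mul_le_mul_left this (Nat.mul_pos hpos1 hpos2)
  apply Set.Subset.antisymm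
  · intro x hx
    have hx' : x ∈ H ⊔ K := hx
    let e := Subgroup.quotientSubgroupOfEmbeddingOfLE K (le_sup_left : H ≤ H ⊔ K)
    have hcard : Nat.card (↥(H ⊔ K) ⧸ K.subgroupOf (H ⊔ K)) ≤ Nat.card (↥H ⧸ K.subgroupOf H) := by
      rw [← Subgroup.index_eq_card, ← Subgroup.index_eq_card]
      exact h3
    have hbij : Function.Bijective e := e.injective.bijective_of_nat_card_le hcard
    obtain ⟨a, ha⟩ := hbij.2 (QuotientGroup.mk ⟨x, hx'⟩)
    induction a using QuotientGroup.induction_on with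
    | H a =>
      have : (QuotientGroup.mk (Subgroup.inclusion (le_sup_left : H ≤ H ⊔ K) a) :
          ↥(H ⊔ K) ⧸ K.subgroupOf (H ⊔ K)) = QuotientGroup.mk ⟨x, hx'⟩ := by
        rw [← ha]; rfl
      rw [QuotientGroup.eq, Subgroup.mem_subgroupOf] at this
      refine ⟨a, a.2, (a : G)⁻¹ * x, ?_, by group⟩
      simpa using this
  · rintro _ ⟨a, ha, b, hb, rfl⟩
    exact (H ⊔ K).mul_mem ((le_sup_left : H ≤ H ⊔ K) ha) ((le_sup_right : K ≤ H ⊔ K) hb)

theorem centralizer_sup' (H K : Subgroup G) :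
    centralizer ((H ⊔ K : Subgroup G) : Set G) = centralizer (H : Set G) ⊓ centralizer (K : Set G) := by
  apply le_antisymm
  · exact le_inf (centralizer_le (by exact_mod_cast (le_sup_left : H ≤ H ⊔ K)))
      (centralizer_le (by exact_mod_cast (le_sup_right : K ≤ H ⊔ K)))
  · intro x hx
    have h1 : H ≤ centralizer ({x} : Set G) := by
      intro h hh
      rw [mem_centralizer_singleton_iff]
      exact ((mem_centralizer_iff.mp hx.1) h hh)
    have h2 : K ≤ centralizer ({x} : Set G) := by
      intro h hh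
      rw [mem_centralizer_singleton_iff]
      exact ((mem_centralizer_iff.mp hx.2) h hh)
    have h3 : H ⊔ K ≤ centralizer ({x} : Set G) := sup_le h1 h2
    rw [mem_centralizer_iff]
    intro y hy
    have := h3 hy
    rw [mem_centralizer_singleton_iff] at this
    exact this

theorem sup_centralizer_le' (H K : Subgroup G) :
    centralizer (H : Set G) ⊔ centralizer (K : Set G) ≤ centralizer ((H ⊓ K : Subgroup G) : Set G) :=
  sup_le (centralizer_le (by exact_mod_cast (inf_le_left : H ⊓ K ≤ H)))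
    (centralizer_le (by exact_mod_cast (inf_le_right : H ⊓ K ≤ K)))

theorem le_centralizer_centralizer' (H : Subgroup G) :
    H ≤ centralizer ((centralizer (H : Set G) : Subgroup G) : Set G) := by
  intro x hx
  rw [mem_centralizer_iff]
  intro y hy
  exact ((mem_centralizer_iff.mp hy) x hx).symm

theorem card_le_of_le' [Finite G] {H K : Subgroup G} (h : H ≤ K) : Nat.card H ≤ Nat.card K :=
  Nat.card_le_card_of_injective (Subgroup.inclusion h) (Subgroup.inclusion_injective h)

theorem eq_of_le_of_card_le' [Finite G] {H K : Subgroup G} (h : H ≤ K) (hc : Nat.card K ≤ Nat.card H) :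
    H = K := Subgroup.eq_of_le_of_card_ge h hc

/-! ### The Chermak–Delgado measure -/

/-- The measure `|H| |C(H)|`. -/
noncomputable def cdm (H : Subgroup G) : ℕ := Nat.card H * Nat.card ↥(centralizer (H : Set G))

theorem cdm_pos [Finite G] (H : Subgroup G) : 0 < cdm H := Nat.mul_pos Nat.card_pos Nat.card_pos

theorem cdm_bddAbove [Finite G] :
    BddAbove {k : ℕ | ∃ R : Subgroup G, Nat.card ↥R * Nat.card ↥(centralizer (R : Set G)) = k} := by
  refine ⟨Nat.card G * Nat.card G, ?_⟩
  rintro k ⟨R, rfl⟩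
  exact Nat.mul_le_mul (Subgroup.card_le_card_group R) (Subgroup.card_le_card_group _)

theorem cdm_le_max [Finite G] (H : Subgroup G) : cdm H ≤ Cfsg.maxCentralizerProduct G :=
  le_csSup cdm_bddAbove ⟨H, rfl⟩

theorem exists_cdm_eq_max [Finite G] : ∃ H : Subgroup G, cdm H = Cfsg.maxCentralizerProduct G := by
  have hne : {k : ℕ | ∃ R : Subgroup G, Nat.card ↥R * Nat.card ↥(centralizer (R : Set G)) = k}.Nonempty :=
    ⟨_, ⊥, rfl⟩
  obtain ⟨R, hR⟩ := Nat.sSup_mem hne cdm_bddAbove
  exact ⟨R, hR⟩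

theorem isCentralizerLarge_iff (H : Subgroup G) :
    Cfsg.IsCentralizerLarge H ↔ cdm H = Cfsg.maxCentralizerProduct G := Iff.rfl

/-- Supermodularity of the measure. -/
theorem cdm_mul_le [Finite G] (H K : Subgroup G) : cdm H * cdm K ≤ cdm (H ⊔ K) * cdm (H ⊓ K) := by
  have A1 := card_mul_card_le H K
  have A2 := card_mul_card_le (centralizer (H : Set G)) (centralizer (K : Set G))
  rw [← centralizer_sup'] at A2
  have A3 : Nat.card ↥(centralizer (H : Set G) ⊔ centralizer (K : Set G)) ≤
      Nat.card ↥(centralizer ((H ⊓ K : Subgroup G) : Set G)) := card_le_of_le' (sup_centralizer_le' H K)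
  unfold cdm
  calc Nat.card H * Nat.card ↥(centralizer (H : Set G)) * (Nat.card K * Nat.card ↥(centralizer (K : Set G)))
      = (Nat.card H * Nat.card K) * (Nat.card ↥(centralizer (H : Set G)) * Nat.card ↥(centralizer (K : Set G))) := by ring
    _ ≤ (Nat.card ↥(H ⊔ K) * Nat.card ↥(H ⊓ K)) *
          (Nat.card ↥(centralizer (H : Set G) ⊔ centralizer (K : Set G)) *
            Nat.card ↥(centralizer ((H ⊔ K : Subgroup G) : Set G))) := Nat.mul_le_mul A1 A2
    _ ≤ (Nat.card ↥(H ⊔ K) * Nat.card ↥(H ⊓ K)) *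
          (Nat.card ↥(centralizer ((H ⊓ K : Subgroup G) : Set G)) *
            Nat.card ↥(centralizer ((H ⊔ K : Subgroup G) : Set G))) := by gcongr
    _ = _ := by ring

/-- The main package: consequences of `H`, `K` both having maximal measure. -/
theorem cd_main [Finite G] (H K : Subgroup G) (hH : Cfsg.IsCentralizerLarge H) (hK : Cfsg.IsCentralizerLarge K) :
    Cfsg.IsCentralizerLarge (H ⊔ K) ∧ Cfsg.IsCentralizerLarge (H ⊓ K) ∧
      ((H ⊔ K : Subgroup G) : Set G) = (H : Set G) * (K : Set G) ∧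
      centralizer ((H ⊓ K : Subgroup G) : Set G) = centralizer (H : Set G) ⊔ centralizer (K : Set G) := by
  rw [isCentralizerLarge_iff] at hH hK
  set M := Cfsg.maxCentralizerProduct G with hM
  have hMpos : 0 < M := hH ▸ cdm_pos H
  have A1 := card_mul_card_le H K
  have A2 := card_mul_card_le (centralizer (H : Set G)) (centralizer (K : Set G))
  rw [← centralizer_sup'] at A2
  have A3 : Nat.card ↥(centralizer (H : Set G) ⊔ centralizer (K : Set G)) ≤
      Nat.card ↥(centralizer ((H ⊓ K : Subgroup G) : Set G)) := card_le_of_le' (sup_centralizer_le' H K)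
  have B1 : cdm (H ⊔ K) ≤ M := cdm_le_max _
  have B2 : cdm (H ⊓ K) ≤ M := cdm_le_max _
  have hsm := cdm_mul_le H K
  rw [hH, hK] at hsm
  -- both are equal to M
  have C1 : cdm (H ⊔ K) = M := by
    by_contra hne
    have hlt : cdm (H ⊔ K) < M := lt_of_le_of_ne B1 hne
    have : cdm (H ⊔ K) * cdm (H ⊓ K) < M * M := by
      calc cdm (H ⊔ K) * cdm (H ⊓ K) ≤ cdm (H ⊔ K) * M := Nat.mul_le_mul_left _ B2
        _ < M * M := Nat.mul_lt_mul_of_pos_right hlt hMpos
    omega
  have C2 : cdm (H ⊓ K) = M := by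
    by_contra hne
    have hlt : cdm (H ⊓ K) < M := lt_of_le_of_ne B2 hne
    have : cdm (H ⊔ K) * cdm (H ⊓ K) < M * M := by
      calc cdm (H ⊔ K) * cdm (H ⊓ K) ≤ M * cdm (H ⊓ K) := Nat.mul_le_mul_right _ B1
        _ < M * M := Nat.mul_lt_mul_of_pos_left hlt hMpos
    omega
  refine ⟨C1, C2, ?_, ?_⟩
  · -- product formula is an equality
    apply coe_sup_eq_mul_of_card
    by_contra hlt
    replace hlt := not_le.mp hlt
    -- strict inequality in A1 gives strict in the chain
    have hcpos : 0 < Nat.card ↥(centralizer (H : Set G)) * Nat.card ↥(centralizer (K : Set G)) :=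
      Nat.mul_pos Nat.card_pos Nat.card_pos
    have h1 : M * M < cdm (H ⊔ K) * cdm (H ⊓ K) := by
      unfold cdm
      calc M * M = cdm H * cdm K := by rw [hH, hK]
        _ = (Nat.card H * Nat.card K) * (Nat.card ↥(centralizer (H : Set G)) * Nat.card ↥(centralizer (K : Set G))) := by
            unfold cdm; ring
        _ < (Nat.card ↥(H ⊔ K) * Nat.card ↥(H ⊓ K)) *
              (Nat.card ↥(centralizer (H : Set G)) * Nat.card ↥(centralizer (K : Set G))) :=
            Nat.mul_lt_mul_of_pos_right hlt hcpos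
        _ ≤ (Nat.card ↥(H ⊔ K) * Nat.card ↥(H ⊓ K)) *
              (Nat.card ↥(centralizer (H : Set G) ⊔ centralizer (K : Set G)) *
                Nat.card ↥(centralizer ((H ⊔ K : Subgroup G) : Set G))) := Nat.mul_le_mul_left _ A2
        _ ≤ (Nat.card ↥(H ⊔ K) * Nat.card ↥(H ⊓ K)) *
              (Nat.card ↥(centralizer ((H ⊓ K : Subgroup G) : Set G)) *
                Nat.card ↥(centralizer ((H ⊔ K : Subgroup G) : Set G))) := by gcongr
        _ = _ := by ring
    rw [C1, C2] at h1
    omega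
  · -- C(H ⊓ K) = C(H) ⊔ C(K)
    symm
    apply eq_of_le_of_card_le' (sup_centralizer_le' H K)
    by_contra hlt
    replace hlt := not_le.mp hlt
    have hpos : 0 < (Nat.card ↥(H ⊔ K) * Nat.card ↥(H ⊓ K)) * Nat.card ↥(centralizer ((H ⊔ K : Subgroup G) : Set G)) :=
      Nat.mul_pos (Nat.mul_pos Nat.card_pos Nat.card_pos) Nat.card_pos
    have h1 : M * M < cdm (H ⊔ K) * cdm (H ⊓ K) := by
      unfold cdm
      calc M * M = cdm H * cdm K := by rw [hH, hK]
        _ = (Nat.card H * Nat.card K) * (Nat.card ↥(centralizer (H : Set G)) * Nat.card ↥(centralizer (K : Set G))) := by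
            unfold cdm; ring
        _ ≤ (Nat.card ↥(H ⊔ K) * Nat.card ↥(H ⊓ K)) *
              (Nat.card ↥(centralizer (H : Set G) ⊔ centralizer (K : Set G)) *
                Nat.card ↥(centralizer ((H ⊔ K : Subgroup G) : Set G))) := Nat.mul_le_mul A1 A2
        _ = ((Nat.card ↥(H ⊔ K) * Nat.card ↥(H ⊓ K)) * Nat.card ↥(centralizer ((H ⊔ K : Subgroup G) : Set G))) *
              Nat.card ↥(centralizer (H : Set G) ⊔ centralizer (K : Set G)) := by ring
        _ < ((Nat.card ↥(H ⊔ K) * Nat.card ↥(H ⊓ K)) * Nat.card ↥(centralizer ((H ⊔ K : Subgroup G) : Set G))) *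
              Nat.card ↥(centralizer ((H ⊓ K : Subgroup G) : Set G)) :=
            Nat.mul_lt_mul_of_pos_left hlt hpos
        _ = _ := by ring
    rw [C1, C2] at h1
    omega

/-- The centralizer of a subgroup of maximal measure has maximal measure, and the double centralizer
is the subgroup itself. -/
theorem cd_centralizer [Finite G] (H : Subgroup G) (hH : Cfsg.IsCentralizerLarge H) :
    Cfsg.IsCentralizerLarge (centralizer (H : Set G)) ∧
      H = centralizer ((centralizer (H : Set G) : Subgroup G) : Set G) := by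
  rw [isCentralizerLarge_iff] at hH ⊢
  have h1 : Nat.card H ≤ Nat.card ↥(centralizer ((centralizer (H : Set G) : Subgroup G) : Set G)) :=
    card_le_of_le' (le_centralizer_centralizer' H)
  have h2 : cdm (centralizer (H : Set G)) ≤ Cfsg.maxCentralizerProduct G := cdm_le_max _
  have h3 : cdm H ≤ cdm (centralizer (H : Set G)) := by
    unfold cdm
    calc Nat.card H * Nat.card ↥(centralizer (H : Set G))
        ≤ Nat.card ↥(centralizer ((centralizer (H : Set G) : Subgroup G) : Set G)) *
            Nat.card ↥(centralizer (H : Set G)) := Nat.mul_le_mul_right _ h1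
      _ = _ := by ring
  have h4 : cdm (centralizer (H : Set G)) = Cfsg.maxCentralizerProduct G := le_antisymm h2 (hH ▸ h3)
  refine ⟨h4, ?_⟩
  apply eq_of_le_of_card_le' (le_centralizer_centralizer' H)
  have hpos : 0 < Nat.card ↥(centralizer (H : Set G)) := Nat.card_pos
  have : Nat.card ↥(centralizer (H : Set G)) * Nat.card ↥(centralizer ((centralizer (H : Set G) : Subgroup G) : Set G)) =
      Nat.card ↥(centralizer (H : Set G)) * Nat.card H := by
    have e1 : cdm (centralizer (H : Set G)) = cdm H := by rw [h4, hH]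
    unfold cdm at e1
    rw [e1]; ring
  exact le_of_eq (Nat.eq_of_mul_eq_mul_left hpos this)

end Cfsg.Agent.Helper50
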