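import Mathlib
import Cfsg.Prelude.Def_BaumannBlocks
import Cfsg.Agent.Helper50.CD

/-!
Centrally large subgroups (helper50): `Cfsg.IsCentrallyLarge`, `Cfsg.maxCentralProduct`.
-/

set_option autoImplicit false

namespace Cfsg.Agent.Helper50

open Subgroup
open scoped Pointwise

variable {G : Type*} [Group G]

/-- The centre of a subgroup, viewed in the ambient group. -/
theorem map_center_eq (R : Subgroup G) :
    (Subgroup.center ↥R).map R.subtype = R ⊓ centralizer (R : Set G) := by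
  ext x
  simp only [Subgroup.mem_map, Subgroup.mem_inf, mem_centralizer_iff, Subgroup.mem_center_iff]
  constructor
  · rintro ⟨⟨y, hy⟩, hyc, rfl⟩
    refine ⟨hy, ?_⟩
    intro r hr
    exact congrArg Subtype.val (hyc ⟨r, hr⟩)
  · rintro ⟨hxR, hxc⟩
    refine ⟨⟨x, hxR⟩, ?_, rfl⟩
    rintro ⟨r, hr⟩
    exact Subtype.ext (hxc r hr)

theorem card_center_eq (R : Subgroup G) :
    Nat.card ↥(Subgroup.center ↥R) = Nat.card ↥(R ⊓ centralizer (R : Set G)) := by
  rw [← map_center_eq]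
  exact (Subgroup.card_map_of_injective R.subtype_injective).symm

/-- The central measure `|R| |Z(R)|`. -/
noncomputable def clm (R : Subgroup G) : ℕ := Nat.card R * Nat.card ↥(R ⊓ centralizer (R : Set G))

theorem isCentrallyLarge_iff (R : Subgroup G) :
    Cfsg.IsCentrallyLarge R ↔ clm R = Cfsg.maxCentralProduct G := by
  unfold Cfsg.IsCentrallyLarge clm
  rw [card_center_eq]

theorem clm_le_cdm [Finite G] (R : Subgroup G) : clm R ≤ cdm R :=
  Nat.mul_le_mul_left _ (card_le_of_le' inf_le_right)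

theorem clm_bddAbove [Finite G] :
    BddAbove {k : ℕ | ∃ R : Subgroup G, Nat.card ↥R * Nat.card ↥(Subgroup.center ↥R) = k} := by
  refine ⟨Nat.card G * Nat.card G, ?_⟩
  rintro k ⟨R, rfl⟩
  refine Nat.mul_le_mul (Subgroup.card_le_card_group R) ?_
  rw [card_center_eq]
  exact Subgroup.card_le_card_group _

theorem clm_le_max [Finite G] (R : Subgroup G) : clm R ≤ Cfsg.maxCentralProduct G := by
  apply le_csSup clm_bddAbove
  exact ⟨R, by rw [card_center_eq]; rfl⟩

theorem exists_clm_eq_max [Finite G] : ∃ R : Subgroup G, clm R = Cfsg.maxCentralProduct G := by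
  have hne : {k : ℕ | ∃ R : Subgroup G, Nat.card ↥R * Nat.card ↥(Subgroup.center ↥R) = k}.Nonempty :=
    ⟨_, ⊥, rfl⟩
  obtain ⟨R, hR⟩ := Nat.sSup_mem hne clm_bddAbove
  refine ⟨R, ?_⟩
  unfold clm
  rw [← card_center_eq]
  exact hR

theorem exists_isCentrallyLarge [Finite G] : ∃ R : Subgroup G, Cfsg.IsCentrallyLarge R := by
  obtain ⟨R, hR⟩ := exists_clm_eq_max (G := G)
  exact ⟨R, (isCentrallyLarge_iff R).mpr hR⟩

/-- For `H` of maximal Chermak–Delgado measure, `H C(H)` has central measure at least that. -/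
theorem cdm_le_clm_sup_centralizer [Finite G] (H : Subgroup G) (hH : Cfsg.IsCentralizerLarge H) :
    cdm H ≤ clm (H ⊔ centralizer (H : Set G)) := by
  have h1 := card_mul_card_le H (centralizer (H : Set G))
  have h2 : centralizer ((H ⊔ centralizer (H : Set G) : Subgroup G) : Set G) =
      centralizer (H : Set G) ⊓ H := by
    rw [centralizer_sup', ← (cd_centralizer H hH).2]
  have h3 : (H ⊔ centralizer (H : Set G)) ⊓
      centralizer ((H ⊔ centralizer (H : Set G) : Subgroup G) : Set G) = H ⊓ centralizer (H : Set G) := by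
    rw [h2, inf_comm (centralizer (H : Set G)) H]
    exact inf_eq_right.mpr (le_trans inf_le_left le_sup_left)
  unfold clm cdm
  rw [h3]
  exact h1

theorem maxCentralProduct_eq [Finite G] :
    Cfsg.maxCentralProduct G = Cfsg.maxCentralizerProduct G := by
  apply le_antisymm
  · obtain ⟨R, hR⟩ := exists_clm_eq_max (G := G)
    rw [← hR]
    exact le_trans (clm_le_cdm R) (cdm_le_max R)
  · obtain ⟨H, hH⟩ := exists_cdm_eq_max (G := G)
    rw [← hH]
    exact le_trans (cdm_le_clm_sup_centralizer H hH) (clm_le_max _)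

/-- S3005 (a). -/
theorem cl_imp [Finite G] (Q : Subgroup G) (hQ : Cfsg.IsCentrallyLarge Q) :
    Cfsg.IsCentralizerLarge Q ∧ centralizer (Q : Set G) = Q ⊓ centralizer (Q : Set G) := by
  rw [isCentrallyLarge_iff, maxCentralProduct_eq] at hQ
  have h1 := clm_le_cdm Q
  have h2 := cdm_le_max Q
  have h3 : cdm Q = Cfsg.maxCentralizerProduct G := le_antisymm h2 (hQ ▸ h1)
  refine ⟨h3, ?_⟩
  symm
  apply eq_of_le_of_card_le' inf_le_right
  have hpos : 0 < Nat.card Q := Nat.card_pos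
  have : Nat.card Q * Nat.card ↥(centralizer (Q : Set G)) =
      Nat.card Q * Nat.card ↥(Q ⊓ centralizer (Q : Set G)) := by
    have : cdm Q = clm Q := by rw [h3, hQ]
    exact this
  exact le_of_eq (Nat.eq_of_mul_eq_mul_left hpos this)

theorem cl_centralizer_le [Finite G] (Q : Subgroup G) (hQ : Cfsg.IsCentrallyLarge Q) :
    centralizer (Q : Set G) ≤ Q := by
  have := (cl_imp Q hQ).2
  rw [this]
  exact inf_le_left

/-- S3005 (b). -/
theorem cl_iff [Finite G] (Q : Subgroup G) (hQ : Cfsg.IsCentralizerLarge Q) :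
    Cfsg.IsCentrallyLarge Q ↔ centralizer (Q : Set G) ≤ Q := by
  constructor
  · exact cl_centralizer_le Q
  · intro hle
    rw [isCentrallyLarge_iff, maxCentralProduct_eq]
    have : Q ⊓ centralizer (Q : Set G) = centralizer (Q : Set G) := inf_eq_right.mpr hle
    unfold clm
    rw [this]
    exact hQ

/-- S3005 (c). -/
theorem cl_sup [Finite G] (Q R : Subgroup G) (hQ : Cfsg.IsCentrallyLarge Q)
    (hR : Cfsg.IsCentrallyLarge R) :
    ((Q ⊔ R : Subgroup G) : Set G) = (Q : Set G) * (R : Set G) ∧ Cfsg.IsCentrallyLarge (Q ⊔ R) := by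
  obtain ⟨h1, _, h3, _⟩ := cd_main Q R (cl_imp Q hQ).1 (cl_imp R hR).1
  refine ⟨h3, (cl_iff _ h1).mpr ?_⟩
  rw [centralizer_sup']
  exact le_trans inf_le_left (le_trans (cl_centralizer_le Q hQ) le_sup_left)

/-- The join of a nonempty family of centrally large subgroups is centrally large. -/
theorem cl_sSup [Finite G] (S : Set (Subgroup G)) (hS : ∀ R ∈ S, Cfsg.IsCentrallyLarge R)
    (hne : S.Nonempty) : Cfsg.IsCentrallyLarge (sSup S) := by
  obtain ⟨R₀, hR₀⟩ := hne
  -- centrally large subgroups below the join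
  let 𝒯 := {T : Subgroup G // Cfsg.IsCentrallyLarge T ∧ T ≤ sSup S}
  have : Nonempty 𝒯 := ⟨⟨R₀, hS R₀ hR₀, le_sSup hR₀⟩⟩
  obtain ⟨⟨T, hT, hTle⟩, hmax⟩ := Finite.exists_max (fun T : 𝒯 => Nat.card (T : Subgroup G))
  have hle : sSup S ≤ T := by
    apply sSup_le
    intro R hR
    have h1 := cl_sup T R hT (hS R hR)
    have h2 : T ⊔ R ≤ sSup S := sup_le hTle (le_sSup hR)
    have h3 := hmax ⟨T ⊔ R, h1.2, h2⟩
    have h4 : T = T ⊔ R := eq_of_le_of_card_le' le_sup_left h3
    rw [h4]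
    exact le_sup_right
  have : sSup S = T := le_antisymm hle hTle
  rw [this]
  exact hT

theorem exists_isMinimalCentrallyLarge [Finite G] :
    ∃ R : Subgroup G, Cfsg.IsMinimalCentrallyLarge R := by
  let 𝒯 := {T : Subgroup G // Cfsg.IsCentrallyLarge T}
  obtain ⟨R₀, hR₀⟩ := exists_isCentrallyLarge (G := G)
  have : Nonempty 𝒯 := ⟨⟨R₀, hR₀⟩⟩
  obtain ⟨⟨T, hT⟩, hmin⟩ := Finite.exists_min (fun T : 𝒯 => Nat.card (T : Subgroup G))
  refine ⟨T, hT, ?_⟩
  intro R' hle hR'
  exact eq_of_le_of_card_le' hle (hmin ⟨R', hR'⟩)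

/-- Every centrally large subgroup contains a minimal one. -/
theorem exists_isMinimalCentrallyLarge_le [Finite G] (Q : Subgroup G) (hQ : Cfsg.IsCentrallyLarge Q) :
    ∃ R : Subgroup G, Cfsg.IsMinimalCentrallyLarge R ∧ R ≤ Q := by
  let 𝒯 := {T : Subgroup G // Cfsg.IsCentrallyLarge T ∧ T ≤ Q}
  have : Nonempty 𝒯 := ⟨⟨Q, hQ, le_rfl⟩⟩
  obtain ⟨⟨T, hT, hTQ⟩, hmin⟩ := Finite.exists_min (fun T : 𝒯 => Nat.card (T : Subgroup G))
  refine ⟨T, ⟨hT, ?_⟩, hTQ⟩
  intro R' hle hR'
  exact eq_of_le_of_card_le' hle (hmin ⟨R', hR', le_trans hle hTQ⟩)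

/-- S3005 (d). -/
theorem cl_centrallyLargeJoin [Finite G] : Cfsg.IsCentrallyLarge (Cfsg.centrallyLargeJoin G) :=
  cl_sSup _ (fun _ h => h) exists_isCentrallyLarge

/-- S3005 (e). -/
theorem cl_minimalCentrallyLargeJoin [Finite G] :
    Cfsg.IsCentrallyLarge (Cfsg.minimalCentrallyLargeJoin G) :=
  cl_sSup _ (fun _ h => h.1) exists_isMinimalCentrallyLarge

end Cfsg.Agent.Helper50
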