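import Mathlib
import Cfsg.Prelude.Def_BaumannBlocks
import Cfsg.Agent.Helper50.CL

/-!
Centrally large subgroups and abelian subgroups of largest order (helper50).
-/

set_option autoImplicit false

namespace Cfsg.Agent.Helper50

open Subgroup
open scoped Pointwise

variable {G : Type*} [Group G]

/-- If `H ⊔ K = HK` as sets then the product formula holds exactly. -/
theorem card_sup_mul_card_inf_of_coe_eq (H K : Subgroup G)
    (h : ((H ⊔ K : Subgroup G) : Set G) = (H : Set G) * (K : Set G)) :
    Nat.card ↥(H ⊔ K) * Nat.card ↥(H ⊓ K) = Nat.card H * Nat.card K := by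
  have h1 : Nat.card ↥(H ⊓ K) * K.relIndex H = Nat.card H := by
    rw [← Subgroup.inf_relIndex_left]; exact card_mul_relIndex_eq' inf_le_left
  have h2 : Nat.card K * K.relIndex (H ⊔ K) = Nat.card ↥(H ⊔ K) := card_mul_relIndex_eq' le_sup_right
  have h3 : K.relIndex (H ⊔ K) = K.relIndex H := by
    let e := Subgroup.quotientSubgroupOfEmbeddingOfLE K (le_sup_left : H ≤ H ⊔ K)
    have hsurj : Function.Surjective e := by
      intro y
      induction y using QuotientGroup.induction_on with
      | H y =>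
        obtain ⟨x, hx⟩ := y
        have hx' : x ∈ ((H ⊔ K : Subgroup G) : Set G) := hx
        rw [h] at hx'
        obtain ⟨a, ha, b, hb, rfl⟩ := hx'
        refine ⟨QuotientGroup.mk ⟨a, ha⟩, ?_⟩
        rw [Subgroup.quotientSubgroupOfEmbeddingOfLE_apply_mk, QuotientGroup.eq, Subgroup.mem_subgroupOf]
        simpa using hb
    have hbij : Function.Bijective e := ⟨e.injective, hsurj⟩
    unfold Subgroup.relIndex
    rw [Subgroup.index_eq_card, Subgroup.index_eq_card]
    exact (Nat.card_congr (Equiv.ofBijective e hbij)).symm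
  rw [← h2, ← h1, h3]; ring

theorem card_sup_mul_card_inf_of_le_normalizer (H K : Subgroup G)
    (h : H ≤ normalizer (K : Set G)) :
    Nat.card ↥(H ⊔ K) * Nat.card ↥(H ⊓ K) = Nat.card H * Nat.card K :=
  card_sup_mul_card_inf_of_coe_eq H K (Subgroup.coe_mul_of_left_le_normalizer_right H K h)

theorem le_centralizer_of_isMulCommutative (A : Subgroup G) (hA : IsMulCommutative A) :
    A ≤ centralizer (A : Set G) := le_centralizer_iff_isMulCommutative.mpr hA

/-- `x ∈ C(H)` and `y ∈ H` commute. -/
theorem commute_of_mem_centralizer {H : Subgroup G} {x y : G} (hx : x ∈ centralizer (H : Set G))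
    (hy : y ∈ H) : y * x = x * y := (mem_centralizer_iff.mp hx) y hy

theorem maxAbelian_centralizer_eq [Finite G] (A : Subgroup G) (hA : A ∈ Cfsg.maxAbelianSubgroups G) :
    centralizer (A : Set G) = A := by
  obtain ⟨hAc, hAmax⟩ := hA
  have hle : A ≤ centralizer (A : Set G) := le_centralizer_of_isMulCommutative A hAc
  apply le_antisymm _ hle
  intro x hx
  -- B = A ⊔ ⟨x⟩ is abelian
  set B := A ⊔ zpowers x with hB
  have hxB : x ∈ B := (le_sup_right : zpowers x ≤ B) (mem_zpowers x)
  have hBc : B ≤ centralizer (B : Set G) := by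
    rw [hB, centralizer_sup']
    apply sup_le
    · apply le_inf hle
      intro a ha
      rw [mem_centralizer_iff]
      intro y hy
      obtain ⟨k, rfl⟩ := mem_zpowers_iff.mp hy
      have : Commute a x := (commute_of_mem_centralizer hx ha)
      exact (this.zpow_right k).eq.symm
    · apply le_inf
      · rw [zpowers_le]; exact hx
      · rw [zpowers_le]
        rw [mem_centralizer_iff]
        intro y hy
        obtain ⟨k, rfl⟩ := mem_zpowers_iff.mp hy
        exact ((Commute.refl x).zpow_left k).eq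
  have hBab : IsMulCommutative B := le_centralizer_iff_isMulCommutative.mp hBc
  have hcard := hAmax B hBab
  have : A = B := eq_of_le_of_card_le' le_sup_left hcard
  rw [this]
  exact hxB

theorem exists_maxAbelian [Finite G] : ∃ A : Subgroup G, A ∈ Cfsg.maxAbelianSubgroups G := by
  let 𝒯 := {T : Subgroup G // IsMulCommutative T}
  have : Nonempty 𝒯 := ⟨⟨⊥, le_centralizer_iff_isMulCommutative.mp bot_le⟩⟩
  obtain ⟨⟨T, hT⟩, hmax⟩ := Finite.exists_max (fun T : 𝒯 => Nat.card (T : Subgroup G))
  exact ⟨T, hT, fun B hB => hmax ⟨B, hB⟩⟩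

/-- Main lemma on a centrally large `Q` and an abelian subgroup `A` of largest order. -/
theorem cl_maxAbelian [Finite G] (Q A : Subgroup G) (hQ : Cfsg.IsCentrallyLarge Q)
    (hA : A ∈ Cfsg.maxAbelianSubgroups G) :
    ((Q ⊔ A : Subgroup G) : Set G) = (Q : Set G) * (A : Set G) ∧ Cfsg.IsCentrallyLarge (Q ⊔ A) ∧
      (Q ⊔ A) ⊓ centralizer ((Q ⊓ A : Subgroup G) : Set G) = centralizer (Q : Set G) ⊔ A ∧
      ((centralizer (Q : Set G) ⊔ A : Subgroup G) : Set G) = (centralizer (Q : Set G) : Set G) * (A : Set G) ∧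
      (Q ⊓ A) ⊔ centralizer (Q : Set G) ∈ Cfsg.maxAbelianSubgroups G := by
  have hQcd : Cfsg.IsCentralizerLarge Q := (cl_imp Q hQ).1
  have hZQ : centralizer (Q : Set G) ≤ Q := cl_centralizer_le Q hQ
  have hCA : centralizer (A : Set G) = A := maxAbelian_centralizer_eq A hA
  have hAab : A ≤ centralizer (A : Set G) := le_of_eq hCA.symm
  set Z := centralizer (Q : Set G) with hZ
  set D := Q ⊓ A with hD
  -- D ⊔ Z is abelian
  have hDZ_ab : D ⊔ Z ≤ centralizer ((D ⊔ Z : Subgroup G) : Set G) := by
    rw [centralizer_sup']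
    apply sup_le
    · apply le_inf
      · exact le_trans inf_le_right (le_trans hAab (centralizer_le (by exact_mod_cast (inf_le_right : Q ⊓ A ≤ A))))
      · intro x hx
        rw [mem_centralizer_iff]
        intro y hy
        exact (commute_of_mem_centralizer hy hx.1).symm
    · apply le_inf
      · exact centralizer_le (by exact_mod_cast (inf_le_left : Q ⊓ A ≤ Q))
      · intro x hx
        rw [mem_centralizer_iff]
        intro y hy
        exact (commute_of_mem_centralizer hy (hZQ hx)).symm
  have hDZab : IsMulCommutative ↥(D ⊔ Z) := le_centralizer_iff_isMulCommutative.mp hDZ_ab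
  have hDinfZ : D ⊓ Z = Z ⊓ A := by
    rw [hD, inf_comm Q A, inf_assoc, inf_eq_right.mpr hZQ, inf_comm]
  -- the numbers
  have I1 := card_mul_card_le Q A
  have I2 : cdm (Q ⊔ A) ≤ cdm Q := by
    have := cdm_le_max (Q ⊔ A)
    rwa [← (isCentralizerLarge_iff Q).mp hQcd] at this
  have hCsup : centralizer ((Q ⊔ A : Subgroup G) : Set G) = Z ⊓ A := by
    rw [centralizer_sup', hCA]
  unfold cdm at I2
  rw [hCsup] at I2
  have I3 := card_mul_card_le D Z
  rw [hDinfZ] at I3
  have I4 : Nat.card ↥(D ⊔ Z) ≤ Nat.card A := hA.2 _ hDZab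
  -- abbreviations
  set q := Nat.card Q with hq
  set a := Nat.card A with ha
  set z := Nat.card Z with hz
  set d := Nat.card D with hd
  set w := Nat.card ↥(Z ⊓ A) with hw
  set s := Nat.card ↥(Q ⊔ A) with hs
  set a' := Nat.card ↥(D ⊔ Z) with ha'
  have qpos : 0 < q := Nat.card_pos
  have dpos : 0 < d := Nat.card_pos
  have wpos : 0 < w := Nat.card_pos
  -- a * w ≤ z * d
  have J1 : a * w ≤ z * d := by
    have : q * (a * w) ≤ q * (z * d) := by
      calc q * (a * w) = (q * a) * w := by ring
        _ ≤ (s * d) * w := Nat.mul_le_mul_right _ I1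
        _ = (s * w) * d := by ring
        _ ≤ (q * z) * d := Nat.mul_le_mul_right _ I2
        _ = q * (z * d) := by ring
    exact Nat.le_of_mul_le_mul_left this qpos
  have J2 : z * d ≤ a * w := by
    calc z * d = d * z := by ring
      _ ≤ a' * w := I3
      _ ≤ a * w := Nat.mul_le_mul_right _ I4
  have E1 : a * w = z * d := le_antisymm J1 J2
  have E2 : s * d ≤ q * a := by
    have : (s * d) * w ≤ (q * a) * w := by
      calc (s * d) * w = (s * w) * d := by ring
        _ ≤ (q * z) * d := Nat.mul_le_mul_right _ I2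
        _ = q * (z * d) := by ring
        _ = q * (a * w) := by rw [E1]
        _ = (q * a) * w := by ring
    exact Nat.le_of_mul_le_mul_right this wpos
  have E3 : q * z ≤ s * w := by
    have : (q * z) * d ≤ (s * w) * d := by
      calc (q * z) * d = q * (z * d) := by ring
        _ = q * (a * w) := by rw [E1]
        _ = (q * a) * w := by ring
        _ ≤ (s * d) * w := Nat.mul_le_mul_right _ I1
        _ = (s * w) * d := by ring
    exact Nat.le_of_mul_le_mul_right this dpos
  have E4 : a ≤ a' := by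
    have : a * w ≤ a' * w := by
      calc a * w = z * d := E1
        _ = d * z := by ring
        _ ≤ a' * w := I3
    exact Nat.le_of_mul_le_mul_right this wpos
  have E5 : a' * w ≤ d * z := by
    calc a' * w ≤ a * w := Nat.mul_le_mul_right _ I4
      _ = z * d := E1
      _ = d * z := by ring
  -- consequences
  have R1 : ((Q ⊔ A : Subgroup G) : Set G) = (Q : Set G) * (A : Set G) :=
    coe_sup_eq_mul_of_card Q A E2
  have R2cd : Cfsg.IsCentralizerLarge (Q ⊔ A) := by
    rw [isCentralizerLarge_iff]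
    apply le_antisymm (cdm_le_max _)
    rw [← (isCentralizerLarge_iff Q).mp hQcd]
    unfold cdm
    rw [hCsup]
    exact E3
  have R2 : Cfsg.IsCentrallyLarge (Q ⊔ A) := by
    rw [cl_iff _ R2cd, hCsup]
    exact le_trans inf_le_right le_sup_right
  have R5 : D ⊔ Z ∈ Cfsg.maxAbelianSubgroups G :=
    ⟨hDZab, fun B hB => le_trans (hA.2 B hB) E4⟩
  have hCDZ : centralizer ((D ⊔ Z : Subgroup G) : Set G) = D ⊔ Z := maxAbelian_centralizer_eq _ R5
  have R6 : ((D ⊔ Z : Subgroup G) : Set G) = (D : Set G) * (Z : Set G) := by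
    apply coe_sup_eq_mul_of_card
    rw [hDinfZ]
    exact E5
  have R6' : ((Z ⊔ D : Subgroup G) : Set G) = (Z : Set G) * (D : Set G) := by
    apply coe_sup_eq_mul_of_card
    rw [sup_comm, inf_comm, hDinfZ]
    calc a' * w ≤ d * z := E5
      _ = z * d := by ring
  -- key: elements of (Q ⊔ A) ⊓ C(D) decompose
  have key : ∀ x, x ∈ (Q ⊔ A) ⊓ centralizer (D : Set G) → ∃ c ∈ Z, ∃ b ∈ A, x = c * b := by
    rintro x ⟨hx1, hx2⟩
    have hx1' : x ∈ ((Q ⊔ A : Subgroup G) : Set G) := hx1
    rw [R1] at hx1'
    obtain ⟨g, hg, b, hb, rfl⟩ := hx1'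
    -- b ∈ C(D)
    have hbD : b ∈ centralizer (D : Set G) :=
      centralizer_le (by exact_mod_cast (inf_le_right : Q ⊓ A ≤ A)) (hAab hb)
    have hgD : g ∈ centralizer (D : Set G) := by
      have := (centralizer (D : Set G)).mul_mem hx2 ((centralizer (D : Set G)).inv_mem hbD)
      simpa using this
    have hgZ : g ∈ centralizer (Z : Set G) := by
      rw [mem_centralizer_iff]
      intro y hy
      exact (commute_of_mem_centralizer hy hg).symm
    have hgDZ : g ∈ D ⊔ Z := by
      rw [← hCDZ, centralizer_sup']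
      exact ⟨hgD, hgZ⟩
    have hgDZ' : g ∈ ((Z ⊔ D : Subgroup G) : Set G) := by
      rw [sup_comm]; exact hgDZ
    rw [R6'] at hgDZ'
    obtain ⟨c, hc, e, he, rfl⟩ := hgDZ'
    exact ⟨c, hc, e * b, A.mul_mem he.2 hb, by group⟩
  have R3 : (Q ⊔ A) ⊓ centralizer ((Q ⊓ A : Subgroup G) : Set G) = Z ⊔ A := by
    apply le_antisymm
    · intro x hx
      obtain ⟨c, hc, b, hb, rfl⟩ := key x hx
      exact (Z ⊔ A).mul_mem ((le_sup_left : Z ≤ Z ⊔ A) hc) ((le_sup_right : A ≤ Z ⊔ A) hb)
    · apply sup_le
      · exact le_inf (le_trans hZQ le_sup_left)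
          (centralizer_le (by exact_mod_cast (inf_le_left : Q ⊓ A ≤ Q)))
      · exact le_inf le_sup_right
          (le_trans hAab (centralizer_le (by exact_mod_cast (inf_le_right : Q ⊓ A ≤ A))))
  have R4 : ((Z ⊔ A : Subgroup G) : Set G) = (Z : Set G) * (A : Set G) := by
    apply Set.Subset.antisymm
    · intro x hx
      have hx' : x ∈ Z ⊔ A := hx
      rw [← R3] at hx'
      obtain ⟨c, hc, b, hb, rfl⟩ := key x hx'
      exact ⟨c, hc, b, hb, rfl⟩
    · rintro _ ⟨c, hc, b, hb, rfl⟩
      exact (Z ⊔ A).mul_mem ((le_sup_left : Z ≤ Z ⊔ A) hc) ((le_sup_right : A ≤ Z ⊔ A) hb)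
  exact ⟨R1, R2, R3, R4, R5⟩

/-- The join of the centrally large subgroups contains every abelian subgroup of largest order,
and is the centralizer of its own centre. -/
theorem thompsonA_le_centrallyLargeJoin [Finite G] :
    Cfsg.thompsonSubgroupA G ≤ Cfsg.centrallyLargeJoin G := by
  apply sSup_le
  intro A hA
  have hT := cl_centrallyLargeJoin (G := G)
  have h1 := (cl_maxAbelian _ A hT hA).2.1
  have h2 : Cfsg.centrallyLargeJoin G ⊔ A ≤ Cfsg.centrallyLargeJoin G := le_sSup h1
  exact le_trans le_sup_right h2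

/-- `C(Z(J(P))) ≤ T` whenever `T` is centrally large and contains `J(P)`. -/
theorem centralizer_center_thompsonA_le [Finite G] (T : Subgroup G) (hT : Cfsg.IsCentrallyLarge T)
    (hJ : Cfsg.thompsonSubgroupA G ≤ T) :
    centralizer ((Cfsg.thompsonSubgroupA G ⊓ centralizer (Cfsg.thompsonSubgroupA G : Set G) : Subgroup G) : Set G) ≤ T := by
  have hTcd := (cl_imp T hT).1
  have hTT : T = centralizer ((centralizer (T : Set G) : Subgroup G) : Set G) := (cd_centralizer T hTcd).2
  obtain ⟨A, hA⟩ := exists_maxAbelian (G := G)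
  have hAJ : A ≤ Cfsg.thompsonSubgroupA G := le_sSup hA
  have hCA := maxAbelian_centralizer_eq A hA
  have h1 : centralizer (T : Set G) ≤ Cfsg.thompsonSubgroupA G := by
    have : centralizer (T : Set G) ≤ centralizer (A : Set G) :=
      centralizer_le (by exact_mod_cast (le_trans hAJ hJ))
    rw [hCA] at this
    exact le_trans this hAJ
  have h2 : centralizer (T : Set G) ≤ centralizer (Cfsg.thompsonSubgroupA G : Set G) :=
    centralizer_le (by exact_mod_cast hJ)
  have h3 : centralizer (T : Set G) ≤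
      Cfsg.thompsonSubgroupA G ⊓ centralizer (Cfsg.thompsonSubgroupA G : Set G) := le_inf h1 h2
  calc centralizer ((Cfsg.thompsonSubgroupA G ⊓ centralizer (Cfsg.thompsonSubgroupA G : Set G) : Subgroup G) : Set G)
      ≤ centralizer ((centralizer (T : Set G) : Subgroup G) : Set G) := centralizer_le (by exact_mod_cast h3)
    _ = T := hTT.symm

end Cfsg.Agent.Helper50
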