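import Cfsg.Agent.Helper11.Spec5.Defs

/-!
# S2512 (helper11), piece (GEN): `nilpotent_pow_on_ker`
-/

set_option autoImplicit false

namespace Cfsg.Agent.Helper50.Spec5

open Matrix Polynomial Cfsg.Agent.Helper43.SpReg Cfsg.Agent.Helper11.Spec5 Cfsg.Agent.S0246

section core

variable {F V : Type*} [Field F] [AddCommGroup V] [Module F V]

/-- an element commuting with `S` commutes with polynomials in `S` -/
theorem GEN_commute_aeval (T S : Module.End F V) (h : Commute T S) (P : F[X]) :
    Commute T (aeval S P) := by
  rw [Polynomial.aeval_eq_sum_range]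
  apply Commute.sum_right
  intro i _
  exact (h.pow_right i).smul_right _

/-- `ker P(S)` is invariant under everything commuting with `S` -/
theorem GEN_ker_invariant (S T : Module.End F V) (hc : Commute S T) (P : F[X]) :
    ∀ w ∈ LinearMap.ker (aeval S P), T w ∈ LinearMap.ker (aeval S P) := by
  intro w hw
  rw [LinearMap.mem_ker] at hw ⊢
  have h : Commute T (aeval S P) := GEN_commute_aeval T S hc.symm P
  have h2 : (aeval S P) (T w) = T ((aeval S P) w) := by
    have := congrArg (fun g : Module.End F V => g w) h.eq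
    simpa [Module.End.mul_apply] using this.symm
  rw [h2, hw, map_zero]

/-- polynomials in a restricted endomorphism -/
theorem GEN_aeval_restrict (S : Module.End F V) (W : Submodule F V) (hS : ∀ w ∈ W, S w ∈ W)
    (P : F[X]) (w : W) :
    ((aeval (S.restrict hS) P) w : V) = (aeval S P) (w : V) := by
  induction P using Polynomial.induction_on' with
  | add p q hp hq => simp [hp, hq]
  | monomial n a =>
    rw [aeval_monomial, aeval_monomial, Module.End.pow_restrict n hS]
    simp [Module.algebraMap_end_apply]

/-- powers of a restricted endomorphism -/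
theorem GEN_pow_restrict (N : Module.End F V) (W : Submodule F V) (hN : ∀ w ∈ W, N w ∈ W)
    (r : ℕ) (w : W) : (((N.restrict hN) ^ r) w : V) = (N ^ r) (w : V) := by
  rw [Module.End.pow_restrict r hN]
  rfl

/-- the core statement for endomorphisms -/
theorem GEN_core [FiniteDimensional F V] (S N : Module.End F V) (hc : Commute S N)
    (hnil : IsNilpotent N) (f : F[X]) (hf : Irreducible f) :
    f.natDegree ∣ Module.finrank F (LinearMap.ker (aeval S f)) ∧
      ∀ v ∈ LinearMap.ker (aeval S f),
        (N ^ (Module.finrank F (LinearMap.ker (aeval S f)) / f.natDegree)) v = 0 := by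
  classical
  have : Fact (Irreducible f) := ⟨hf⟩
  have hSW : ∀ w ∈ LinearMap.ker (aeval S f), S w ∈ LinearMap.ker (aeval S f) :=
    GEN_ker_invariant S S (Commute.refl S) f
  have hNW : ∀ w ∈ LinearMap.ker (aeval S f), N w ∈ LinearMap.ker (aeval S f) :=
    GEN_ker_invariant S N hc f
  have hS'f : aeval (S.restrict hSW) f = 0 := by
    ext w
    rw [GEN_aeval_restrict]
    exact LinearMap.mem_ker.mp w.2
  have hcomm' : Commute (N.restrict hNW) (S.restrict hSW) :=
    LinearMap.restrict_commute hc.symm hNW hSW
  let φ : AdjoinRoot f →ₐ[F] Module.End F (LinearMap.ker (aeval S f)) :=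
    Ideal.Quotient.liftₐ (Ideal.span {f}) (aeval (S.restrict hSW)) (by
      intro a ha
      rw [Ideal.mem_span_singleton] at ha
      obtain ⟨b, rfl⟩ := ha
      rw [map_mul, hS'f, zero_mul])
  have hφ : ∀ g : F[X], φ (AdjoinRoot.mk f g) = aeval (S.restrict hSW) g := fun g => rfl
  let : Module (AdjoinRoot f) (LinearMap.ker (aeval S f)) :=
    Module.compHom (LinearMap.ker (aeval S f))
      (φ : AdjoinRoot f →+* Module.End F (LinearMap.ker (aeval S f)))
  have hsmul : ∀ (k : AdjoinRoot f) (w : LinearMap.ker (aeval S f)), k • w = φ k w :=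
    fun _ _ => rfl
  have : IsScalarTower F (AdjoinRoot f) (LinearMap.ker (aeval S f)) := ⟨fun c k w => by
    rw [hsmul, hsmul, map_smul, LinearMap.smul_apply]⟩
  have : Module.Finite (AdjoinRoot f) (LinearMap.ker (aeval S f)) :=
    Module.Finite.of_restrictScalars_finite F (AdjoinRoot f) (LinearMap.ker (aeval S f))
  have hdeg : Module.finrank F (AdjoinRoot f) = f.natDegree := by
    rw [(AdjoinRoot.powerBasis hf.ne_zero).finrank, AdjoinRoot.powerBasis_dim]
  have hmul := Module.finrank_mul_finrank F (AdjoinRoot f) (LinearMap.ker (aeval S f))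
  rw [hdeg] at hmul
  have hdpos : 0 < f.natDegree := hf.natDegree_pos
  refine ⟨Dvd.intro _ hmul, ?_⟩
  have hdiv : Module.finrank F (LinearMap.ker (aeval S f)) / f.natDegree =
      Module.finrank (AdjoinRoot f) (LinearMap.ker (aeval S f)) := by
    rw [← hmul, Nat.mul_div_cancel_left _ hdpos]
  rw [hdiv]
  -- the `K`-linear version of `N`
  let N'' : Module.End (AdjoinRoot f) (LinearMap.ker (aeval S f)) :=
    { toFun := N.restrict hNW
      map_add' := (N.restrict hNW).map_add
      map_smul' := by
        intro k w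
        induction k using AdjoinRoot.induction_on with
        | ih g =>
          rw [RingHom.id_apply, hsmul, hsmul, hφ]
          have h := GEN_commute_aeval (N.restrict hNW) (S.restrict hSW) hcomm' g
          have := congrArg (fun T : Module.End F (LinearMap.ker (aeval S f)) => T w) h.eq
          simpa [Module.End.mul_apply] using this }
  have hN''pow : ∀ (r : ℕ) (w : LinearMap.ker (aeval S f)),
      (N'' ^ r) w = ((N.restrict hNW) ^ r) w := by
    intro r
    induction r with
    | zero => intro w; rfl
    | succ r ih =>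
      intro w
      rw [pow_succ, pow_succ, Module.End.mul_apply, Module.End.mul_apply, ih]
      rfl
  have hN''nil : IsNilpotent N'' := by
    obtain ⟨m, hm⟩ := hnil
    refine ⟨m, ?_⟩
    ext w
    rw [hN''pow, GEN_pow_restrict, hm]
    rfl
  have hchar := IsNilpotent.charpoly_eq_X_pow_finrank hN''nil
  have hCH := LinearMap.aeval_self_charpoly N''
  rw [hchar, map_pow, aeval_X] at hCH
  intro v hv
  have h1 := hN''pow (Module.finrank (AdjoinRoot f) (LinearMap.ker (aeval S f))) ⟨v, hv⟩
  rw [hCH] at h1
  have h2 := GEN_pow_restrict N _ hNW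
    (Module.finrank (AdjoinRoot f) (LinearMap.ker (aeval S f))) ⟨v, hv⟩
  rw [← h1] at h2
  exact h2.symm

end core

section sp

variable {F : Type*} [Field F] [Fintype F] {n : ℕ}

/-- (GEN) -/
theorem nilpotent_pow_on_ker {ι : Type*} [Fintype ι] [DecidableEq ι] (s u : Matrix ι ι F)
    (hcomm : s * u = u * s) (hnil : IsNilpotent (u - 1)) (f : F[X]) (hf : Irreducible f) :
    f.natDegree ∣ Module.finrank F (LinearMap.ker (Matrix.toLin' (aeval s f))) ∧
      ∀ v : ι → F, (aeval s f).mulVec v = 0 →
        ((u - 1) ^ (Module.finrank F (LinearMap.ker (Matrix.toLin' (aeval s f))) / f.natDegree)).mulVec v = 0 := by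
  have hae : Matrix.toLin' (aeval s f) = aeval (Matrix.toLin' s) f := by
    have h := Polynomial.aeval_algHom_apply (Matrix.toLinAlgEquiv' (R := F) (n := ι)) s f
    exact h.symm
  have hc : Commute (Matrix.toLin' s) (Matrix.toLin' (u - 1)) := by
    change Matrix.toLin' s * Matrix.toLin' (u - 1) = Matrix.toLin' (u - 1) * Matrix.toLin' s
    rw [Module.End.mul_eq_comp, Module.End.mul_eq_comp, ← Matrix.toLin'_mul, ← Matrix.toLin'_mul,
      mul_sub, sub_mul, hcomm, mul_one, one_mul]
  have hn : IsNilpotent (Matrix.toLin' (u - 1)) := by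
    obtain ⟨m, hm⟩ := hnil
    exact ⟨m, by rw [← Matrix.toLin'_pow, hm, map_zero]⟩
  have key := GEN_core (Matrix.toLin' s) (Matrix.toLin' (u - 1)) hc hn f hf
  rw [← hae] at key
  refine ⟨key.1, ?_⟩
  intro v hv
  have hv' : v ∈ LinearMap.ker (Matrix.toLin' (aeval s f)) := by
    rw [LinearMap.mem_ker, Matrix.toLin'_apply]
    exact hv
  have := key.2 v hv'
  rw [← Matrix.toLin'_pow, Matrix.toLin'_apply] at this
  exact this

end sp

end Cfsg.Agent.Helper50.Spec5
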