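import Cfsg.Agent.Helper11.Spec5.Defs

/-!
# S2512 (helper11), piece (MAT): `commute_aeval`, `pow_lt_of_nilpotent`, `nilpotent_of_pow`
-/

set_option autoImplicit false

namespace Cfsg.Agent.Helper50.Spec5

open Matrix Polynomial Cfsg.Agent.Helper43.SpReg Cfsg.Agent.Helper11.Spec5 Cfsg.Agent.S0246

section mat

variable {F : Type*} [Field F] {ι : Type*} [Fintype ι] [DecidableEq ι]

/-- (CM) -/
theorem commute_aeval (x s : Matrix ι ι F) (h : Commute x s) (P : F[X]) : Commute x (aeval s P) := by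
  rw [Polynomial.aeval_eq_sum_range]
  apply Commute.sum_right
  intro i _
  exact (h.pow_right i).smul_right _

/-- in characteristic `p`, `(u - 1) ^ p ^ j = u ^ p ^ j - 1` for matrices -/
theorem MAT_sub_one_pow {p : ℕ} [Fact p.Prime] [CharP F p] [Nonempty ι] (u : Matrix ι ι F) (j : ℕ) :
    (u - 1) ^ p ^ j = u ^ p ^ j - 1 := by
  have h := sub_pow_char_pow_of_commute (p := p) (n := j) (Commute.one_right u)
  rw [h, one_pow]

/-- (NP) -/
theorem pow_lt_of_nilpotent {p : ℕ} [Fact p.Prime] [CharP F p] (u : Matrix ι ι F) (k t : ℕ)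
    (ht : 1 ≤ t) (hu : orderOf u = p ^ t) (hk : (u - 1) ^ k = 0) : p ^ (t - 1) < k := by
  have hp : p.Prime := Fact.out
  by_contra hcon
  push Not at hcon
  rcases isEmpty_or_nonempty ι with hι | hι
  · have hu1 : u = 1 := Subsingleton.elim _ _
    rw [hu1, orderOf_one] at hu
    have : 1 < p ^ t := Nat.one_lt_pow (by omega) hp.one_lt
    omega
  · have h0 : (u - 1) ^ p ^ (t - 1) = 0 := by
      obtain ⟨d, hd⟩ := Nat.exists_eq_add_of_le hcon
      rw [hd, pow_add, hk, zero_mul]
    rw [MAT_sub_one_pow, sub_eq_zero] at h0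
    have hdvd : orderOf u ∣ p ^ (t - 1) := orderOf_dvd_of_pow_eq_one h0
    rw [hu] at hdvd
    have hle := Nat.le_of_dvd (pow_pos hp.pos _) hdvd
    have hlt : p ^ (t - 1) < p ^ t := Nat.pow_lt_pow_right hp.one_lt (by omega)
    omega

/-- a nilpotent matrix over a field has vanishing `card ι`-th power -/
theorem MAT_pow_card_of_isNilpotent (N : Matrix ι ι F) (hN : IsNilpotent N) :
    N ^ Fintype.card ι = 0 := by
  have h1 := Matrix.isNilpotent_charpoly_sub_pow_of_isNilpotent hN
  have h2 : N.charpoly = X ^ Fintype.card ι := by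
    rw [← sub_eq_zero]
    exact IsNilpotent.eq_zero h1
  have h3 := Matrix.aeval_self_charpoly N
  rw [h2] at h3
  simpa using h3

/-- (NIL) -/
theorem nilpotent_of_pow {p : ℕ} [Fact p.Prime] [CharP F p] (u : Matrix ι ι F) (t : ℕ)
    (hu : u ^ p ^ t = 1) : IsNilpotent (u - 1) ∧ (u - 1) ^ Fintype.card ι = 0 := by
  have hnil : IsNilpotent (u - 1) := by
    rcases isEmpty_or_nonempty ι with hι | hι
    · have : u - 1 = 0 := Subsingleton.elim _ _
      rw [this]; exact IsNilpotent.zero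
    · exact ⟨p ^ t, by rw [MAT_sub_one_pow, hu, sub_self]⟩
  exact ⟨hnil, MAT_pow_card_of_isNilpotent _ hnil⟩

end mat

end Cfsg.Agent.Helper50.Spec5
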