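import Mathlib
import Cfsg.Agent.Helper13.FExtDefs
import Cfsg.Agent.Helper13.Symp
import Cfsg.Agent.Helper13.SympTrans

/-!
# (G2) for S5975 (helper13, #7889): the support of a semisimple isometry is nondegenerate
-/

set_option autoImplicit false

namespace Cfsg.Agent.Helper50.FExtG2

open Matrix Cfsg Cfsg.Geo
open Cfsg.Agent.Helper13.FExt

variable {F : Type*} [Field F] {ι : Type} [Fintype ι] [DecidableEq ι]

/-- rank-nullity for `y - 1` -/
theorem finrank_fixSp_add_supp' (y : Matrix ι ι F) :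
    Module.finrank F (fixSp y) + Module.finrank F (supp y) = Fintype.card ι := by
  have h := LinearMap.finrank_range_add_finrank_ker (y - 1).mulVecLin
  rw [Module.finrank_fintype_fun_eq_card] at h
  unfold fixSp supp
  omega

/-- (G2) the support of a semisimple isometry is nondegenerate -/
theorem nondegOn_supp (d : ℕ) (y : GL (Fin d ⊕ Fin d) F) (hy : y ∈ spGL d F)
    (h : fixSp (y : Matrix (Fin d ⊕ Fin d) (Fin d ⊕ Fin d) F) ⊓
      supp (y : Matrix (Fin d ⊕ Fin d) (Fin d ⊕ Fin d) F) = ⊥) :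
    NondegOn (sympForm d F) (supp (y : Matrix (Fin d ⊕ Fin d) (Fin d ⊕ Fin d) F)) := by
  have hy' : ∀ u v : Fin d ⊕ Fin d → F,
      sympForm d F ((y : Matrix (Fin d ⊕ Fin d) (Fin d ⊕ Fin d) F) *ᵥ u)
        ((y : Matrix (Fin d ⊕ Fin d) (Fin d ⊕ Fin d) F) *ᵥ v) = sympForm d F u v := hy
  set Y : Matrix (Fin d ⊕ Fin d) (Fin d ⊕ Fin d) F :=
    (y : Matrix (Fin d ⊕ Fin d) (Fin d ⊕ Fin d) F) with hY
  -- the support is perpendicular to the fixed space
  have hperp : ∀ s ∈ supp Y, ∀ v ∈ fixSp Y, sympForm d F s v = 0 := by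
    intro s hs v hv
    obtain ⟨u, rfl⟩ := hs
    have hv' : Y *ᵥ v = v := by
      have h1 : (Y - 1) *ᵥ v = 0 := hv
      rw [Matrix.sub_mulVec, Matrix.one_mulVec, sub_eq_zero] at h1
      exact h1
    show sympForm d F ((Y - 1) *ᵥ u) v = 0
    rw [Matrix.sub_mulVec, Matrix.one_mulVec, Cfsg.Agent.Helper13.sympForm_sub_left]
    nth_rewrite 1 [← hv']
    rw [hy', sub_self]
  -- the whole space is the sum
  have htop : fixSp Y ⊔ supp Y = ⊤ := by
    apply Submodule.eq_top_of_finrank_eq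
    have h1 := Submodule.finrank_sup_add_finrank_inf_eq (fixSp Y) (supp Y)
    rw [h, finrank_bot, add_zero, finrank_fixSp_add_supp'] at h1
    rw [h1, Module.finrank_fintype_fun_eq_card]
  intro w hw hw0
  by_contra hne
  obtain ⟨x, hx⟩ := Cfsg.Agent.Helper13.sympForm_nondeg_left (m := d) hne
  apply hx
  have hxtop : x ∈ fixSp Y ⊔ supp Y := by
    rw [htop]
    exact Submodule.mem_top
  obtain ⟨v, hv, s, hs, rfl⟩ := Submodule.mem_sup.1 hxtop
  rw [Cfsg.Agent.Helper13.sympForm_swap, Cfsg.Agent.Helper13.sympForm_add_right, hperp w hw v hv,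
    hw0 s hs, add_zero, neg_zero]

end Cfsg.Agent.Helper50.FExtG2
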