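import Mathlib
import Cfsg.Agent.Helper13.FExtDefs
import Cfsg.Agent.Helper13.Symp

/-!
# (K5) for S5975 (helper13, #7889): a nondegenerate `K`-invariant subspace has dimension
divisible by `2k`

Strong induction on the dimension: split off a "hyperbolic plane over `K`" `H = K w ⊕ K w'`
(dimension `2k`, nondegenerate, `K`-invariant) and pass to `W ⊓ H^⊥`.
-/

set_option autoImplicit false

namespace Cfsg.Agent.Helper50.FExtK5

open Matrix Cfsg Cfsg.Geo
open Cfsg.Agent.Helper13.FExt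
open Cfsg.Agent.Helper13 (sympForm_swap sympForm_add_left sympForm_add_right)

variable {F : Type*} [Field F] {d : ℕ}

/-- `sympForm` as a Mathlib bilinear form -/
noncomputable def symB (d : ℕ) (F : Type*) [Field F] :
    LinearMap.BilinForm F (Fin d ⊕ Fin d → F) :=
  Matrix.toBilin' (Matrix.J (Fin d) F)

theorem symB_apply (u v : Fin d ⊕ Fin d → F) : symB d F u v = sympForm d F u v :=
  Matrix.toBilin'_apply' _ _ _

/-- evaluation `a ↦ a w` on the subalgebra -/
def ev (K : Subalgebra F (Matrix (Fin d ⊕ Fin d) (Fin d ⊕ Fin d) F)) (w : Fin d ⊕ Fin d → F) :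
    ↥K →ₗ[F] (Fin d ⊕ Fin d → F) where
  toFun a := (a : Matrix (Fin d ⊕ Fin d) (Fin d ⊕ Fin d) F) *ᵥ w
  map_add' a b := by
    show ((a + b : ↥K) : Matrix (Fin d ⊕ Fin d) (Fin d ⊕ Fin d) F) *ᵥ w = _
    rw [Subalgebra.coe_add, Matrix.add_mulVec]
  map_smul' c a := by
    show ((c • a : ↥K) : Matrix (Fin d ⊕ Fin d) (Fin d ⊕ Fin d) F) *ᵥ w = _
    rw [Subalgebra.coe_smul, Matrix.smul_mulVec]
    rfl

theorem ev_apply (K : Subalgebra F (Matrix (Fin d ⊕ Fin d) (Fin d ⊕ Fin d) F))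
    (w : Fin d ⊕ Fin d → F) (a : ↥K) :
    ev K w a = (a : Matrix (Fin d ⊕ Fin d) (Fin d ⊕ Fin d) F) *ᵥ w := rfl

section Field

variable {k : ℕ} {K : Subalgebra F (Matrix (Fin d ⊕ Fin d) (Fin d ⊕ Fin d) F)}

theorem exists_inv' (hK : IsFieldSubalgebra k K) {a : Matrix (Fin d ⊕ Fin d) (Fin d ⊕ Fin d) F}
    (ha : a ∈ K) (ha0 : a ≠ 0) : ∃ b ∈ K, a * b = 1 ∧ b * a = 1 := by
  obtain ⟨b, hb, hab⟩ := hK.inv a ha ha0
  exact ⟨b, hb, hab, by rw [← hK.comm a ha b hb, hab]⟩

theorem ev_injective (hK : IsFieldSubalgebra k K) {w : Fin d ⊕ Fin d → F} (hw : w ≠ 0) :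
    Function.Injective (ev K w) := by
  rw [← LinearMap.ker_eq_bot, LinearMap.ker_eq_bot']
  intro a ha
  by_contra ha0
  have ha0' : (a : Matrix (Fin d ⊕ Fin d) (Fin d ⊕ Fin d) F) ≠ 0 := fun h => ha0 (Subtype.ext h)
  obtain ⟨b, -, -, hba⟩ := exists_inv' hK a.2 ha0'
  apply hw
  have h1 : (a : Matrix (Fin d ⊕ Fin d) (Fin d ⊕ Fin d) F) *ᵥ w = 0 := ha
  have h2 : b *ᵥ ((a : Matrix (Fin d ⊕ Fin d) (Fin d ⊕ Fin d) F) *ᵥ w) = w := by
    rw [Matrix.mulVec_mulVec, hba, Matrix.one_mulVec]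
  rw [h1, Matrix.mulVec_zero] at h2
  exact h2.symm

theorem finrank_range_ev (hK : IsFieldSubalgebra k K) {w : Fin d ⊕ Fin d → F} (hw : w ≠ 0) :
    Module.finrank F (LinearMap.range (ev K w)) = k := by
  rw [LinearMap.finrank_range_of_inj (ev_injective hK hw), hK.finrank_eq]

theorem range_ev_le {W : Submodule F (Fin d ⊕ Fin d → F)} (hW : KInv K W)
    {w : Fin d ⊕ Fin d → F} (hw : w ∈ W) : LinearMap.range (ev K w) ≤ W := by
  rintro _ ⟨a, rfl⟩
  exact hW a a.2 w hw

theorem kinv_range_ev (w : Fin d ⊕ Fin d → F) : KInv K (LinearMap.range (ev K w)) := by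
  rintro c hc _ ⟨a, rfl⟩
  refine ⟨⟨c, hc⟩ * a, ?_⟩
  rw [ev_apply, ev_apply, Subalgebra.coe_mul, ← Matrix.mulVec_mulVec]

/-- `K w` is totally isotropic -/
theorem isotropic_ev (hKf : IsSelfAdjointFor (sympForm d F) K)
    (hKalt : ∀ a ∈ K, ∀ v : Fin d ⊕ Fin d → F, sympForm d F (a *ᵥ v) v = 0)
    (w : Fin d ⊕ Fin d → F) (a b : ↥K) : sympForm d F (ev K w a) (ev K w b) = 0 := by
  rw [ev_apply, ev_apply, ← hKf b b.2, Matrix.mulVec_mulVec]
  exact hKalt _ (K.mul_mem b.2 a.2) w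

end Field

/-- (K5) a nondegenerate `K`-invariant subspace has dimension divisible by `2k` -/
theorem two_mul_dvd_finrank_of_nondeg (d k : ℕ) (hk : 0 < k)
    (K : Subalgebra F (Matrix (Fin d ⊕ Fin d) (Fin d ⊕ Fin d) F)) (hK : IsFieldSubalgebra k K)
    (hKf : IsSelfAdjointFor (sympForm d F) K)
    (hKalt : ∀ a ∈ K, ∀ v : Fin d ⊕ Fin d → F, sympForm d F (a *ᵥ v) v = 0)
    (W : Submodule F (Fin d ⊕ Fin d → F)) (hW : KInv K W) (hnd : NondegOn (sympForm d F) W) :
    2 * k ∣ Module.finrank F W := by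
  classical
  -- the form is alternating
  have halt : ∀ v : Fin d ⊕ Fin d → F, sympForm d F v v = 0 := by
    intro v
    have := hKalt 1 K.one_mem v
    rwa [Matrix.one_mulVec] at this
  have hBalt : (symB d F).IsAlt := fun v => by rw [symB_apply]; exact halt v
  have hBrefl : (symB d F).IsRefl := hBalt.isRefl
  -- strong induction on the dimension
  suffices key : ∀ n : ℕ, ∀ W : Submodule F (Fin d ⊕ Fin d → F), KInv K W →
      NondegOn (sympForm d F) W → Module.finrank F W = n → 2 * k ∣ n from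
    key _ W hW hnd rfl
  intro n
  induction n using Nat.strong_induction_on with
  | _ n ih =>
  intro W hW hnd hn
  by_cases hbot : W = ⊥
  · rw [hbot, finrank_bot] at hn
    rw [← hn]
    exact dvd_zero _
  obtain ⟨w, hwW, hw0⟩ := Submodule.exists_mem_ne_zero_of_ne_bot hbot
  obtain ⟨w', hw'W, hww'⟩ : ∃ w' ∈ W, sympForm d F w w' ≠ 0 := by
    by_contra hcon
    push Not at hcon
    exact hw0 (hnd w hwW hcon)
  have hw'0 : w' ≠ 0 := by
    rintro rfl
    apply hww'
    have := Cfsg.Agent.Helper13.sympForm_smul_right (m := d) (0 : F) w 0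
    rw [zero_smul, zero_mul] at this
    exact this
  set A : Submodule F (Fin d ⊕ Fin d → F) := LinearMap.range (ev K w) with hA
  set A' : Submodule F (Fin d ⊕ Fin d → F) := LinearMap.range (ev K w') with hA'
  have hAW : A ≤ W := range_ev_le hW hwW
  have hA'W : A' ≤ W := range_ev_le hW hw'W
  -- `A ⊓ A' = ⊥`
  have hdisj : A ⊓ A' = ⊥ := by
    rw [eq_bot_iff]
    rintro x ⟨⟨a, rfl⟩, ⟨b, hb⟩⟩
    rw [Submodule.mem_bot]
    by_contra hx0
    have hb0 : (b : Matrix (Fin d ⊕ Fin d) (Fin d ⊕ Fin d) F) ≠ 0 := by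
      intro h
      apply hx0
      rw [← hb, ev_apply, h, Matrix.zero_mulVec]
    obtain ⟨c, hc, -, hcb⟩ := exists_inv' hK b.2 hb0
    -- `w' = (c a) w`
    have h1 : w' = (c * (a : Matrix (Fin d ⊕ Fin d) (Fin d ⊕ Fin d) F)) *ᵥ w := by
      rw [← Matrix.mulVec_mulVec, ← ev_apply K w a, ← hb, ev_apply, Matrix.mulVec_mulVec, hcb,
        Matrix.one_mulVec]
    apply hww'
    have hca : c * (a : Matrix (Fin d ⊕ Fin d) (Fin d ⊕ Fin d) F) ∈ K := K.mul_mem hc a.2
    rw [h1, ← hKf _ hca]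
    exact hKalt _ hca w
  set H : Submodule F (Fin d ⊕ Fin d → F) := A ⊔ A' with hH
  have hHW : H ≤ W := sup_le hAW hA'W
  have hHdim : Module.finrank F H = 2 * k := by
    have h1 := Submodule.finrank_sup_add_finrank_inf_eq A A'
    rw [hdisj, finrank_bot, add_zero, finrank_range_ev hK hw0, finrank_range_ev hK hw'0] at h1
    rw [hH, h1]
    ring
  -- the form is nondegenerate on `H`
  have hsepL : ∀ x ∈ H, (∀ y ∈ H, sympForm d F x y = 0) → x = 0 := by
    intro x hx hxy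
    obtain ⟨_, ⟨a, rfl⟩, _, ⟨a', rfl⟩, rfl⟩ := Submodule.mem_sup.1 hx
    by_cases ha0 : (a : Matrix (Fin d ⊕ Fin d) (Fin d ⊕ Fin d) F) = 0
    · by_cases ha'0 : (a' : Matrix (Fin d ⊕ Fin d) (Fin d ⊕ Fin d) F) = 0
      · rw [ev_apply, ev_apply, ha0, ha'0, Matrix.zero_mulVec, Matrix.zero_mulVec, add_zero]
      · exfalso
        obtain ⟨c, hc, -, hca⟩ := exists_inv' hK a'.2 ha'0
        have h1 := hxy (ev K w ⟨c, hc⟩) (Submodule.mem_sup_left ⟨⟨c, hc⟩, rfl⟩)
        rw [ev_apply K w a, ha0, Matrix.zero_mulVec, zero_add, ev_apply, ev_apply,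
          ← hKf c hc, Matrix.mulVec_mulVec, hca, Matrix.one_mulVec, sympForm_swap] at h1
        exact hww' (neg_eq_zero.1 h1)
    · exfalso
      obtain ⟨c, hc, -, hca⟩ := exists_inv' hK a.2 ha0
      have h1 := hxy (ev K w' ⟨c, hc⟩) (Submodule.mem_sup_right ⟨⟨c, hc⟩, rfl⟩)
      rw [sympForm_add_left, isotropic_ev hKf hKalt w' a' ⟨c, hc⟩, add_zero, ev_apply, ev_apply,
        ← hKf c hc, Matrix.mulVec_mulVec, hca, Matrix.one_mulVec] at h1
      exact hww' h1
  have hnondegH : ((symB d F).restrict H).Nondegenerate := by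
    constructor
    · intro x hx
      apply Subtype.ext
      apply hsepL x.1 x.2
      intro y hy
      have := hx ⟨y, hy⟩
      rw [LinearMap.BilinForm.restrict_apply] at this
      rw [← symB_apply]
      exact this
    · intro y hy
      apply Subtype.ext
      apply hsepL y.1 y.2
      intro x hx
      have := hy ⟨x, hx⟩
      rw [LinearMap.BilinForm.restrict_apply] at this
      rw [sympForm_swap, ← symB_apply]
      exact neg_eq_zero.2 this
  have hcompl := LinearMap.BilinForm.isCompl_orthogonal_of_restrict_nondegenerate hBrefl hnondegH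
  set W' : Submodule F (Fin d ⊕ Fin d → F) := (symB d F).orthogonal H ⊓ W with hW'
  have hmemW' : ∀ u, u ∈ W' ↔ (∀ h ∈ H, sympForm d F h u = 0) ∧ u ∈ W := by
    intro u
    rw [hW', Submodule.mem_inf, LinearMap.BilinForm.mem_orthogonal_iff]
    refine and_congr_left fun _ => forall₂_congr fun h _ => ?_
    rw [symB_apply]
  have hsum : H ⊔ W' = W := by
    rw [hW', ← sup_inf_assoc_of_le _ hHW, hcompl.sup_eq_top, top_inf_eq]
  have hinf : H ⊓ W' = ⊥ := by
    rw [eq_bot_iff, hW', ← inf_assoc, hcompl.inf_eq_bot, bot_inf_eq]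
  have hdimW : Module.finrank F W = 2 * k + Module.finrank F W' := by
    have h1 := Submodule.finrank_sup_add_finrank_inf_eq H W'
    rw [hsum, hinf, finrank_bot, add_zero, hHdim] at h1
    exact h1
  -- `H` is `K`-invariant
  have hHK : KInv K H := by
    intro c hc x hx
    obtain ⟨y, hy, y', hy', rfl⟩ := Submodule.mem_sup.1 hx
    rw [Matrix.mulVec_add]
    exact Submodule.add_mem _ (Submodule.mem_sup_left (kinv_range_ev w c hc y hy))
      (Submodule.mem_sup_right (kinv_range_ev w' c hc y' hy'))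
  have hW'K : KInv K W' := by
    intro c hc u hu
    rw [hmemW'] at hu ⊢
    refine ⟨fun h hh => ?_, hW c hc u hu.2⟩
    rw [← hKf c hc]
    exact hu.1 _ (hHK c hc h hh)
  have hW'nd : NondegOn (sympForm d F) W' := by
    intro u hu hu0
    apply hnd u ((hmemW' u).1 hu).2
    intro z hz
    rw [← hsum] at hz
    obtain ⟨h, hh, z', hz', rfl⟩ := Submodule.mem_sup.1 hz
    rw [sympForm_add_right, hu0 z' hz', add_zero, sympForm_swap, ((hmemW' u).1 hu).1 h hh,
      neg_zero]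
  have hlt : Module.finrank F W' < n := by omega
  have := ih _ hlt W' hW'K hW'nd rfl
  rw [← hn, hdimW]
  exact Dvd.dvd.add (dvd_refl _) this

end Cfsg.Agent.Helper50.FExtK5
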