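import Mathlib

/-!
# Pieces (U3), (U4), (U5) of helper19's WANTED #4661 for S2314 (helper50)
-/

set_option autoImplicit false

namespace Cfsg.Agent.Helper50.UnipU345

theorem exists_conj_mem_of_not_dvd_index {Γ : Type*} [Group Γ] [Finite Γ] (p : ℕ) [Fact p.Prime]
    (U : Subgroup Γ) (hU : ¬ p ∣ U.index) (g : Γ) (hg : ∃ k : ℕ, orderOf g = p ^ k) :
    ∃ x : Γ, x * g * x⁻¹ ∈ U := by
  obtain ⟨k, hk⟩ := hg
  have hP : IsPGroup p (Subgroup.zpowers g) := by
    apply IsPGroup.of_card (n := k)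
    rw [Nat.card_zpowers, hk]
  have hcard : ¬ p ∣ Nat.card (Γ ⧸ U) := hU
  obtain ⟨a, ha⟩ := hP.nonempty_fixed_point_of_prime_not_dvd_card (Γ ⧸ U) hcard
  induction a using QuotientGroup.induction_on with
  | H y =>
    have h1 := ha ⟨g, Subgroup.mem_zpowers g⟩
    have h2 : ((g * y : Γ) : Γ ⧸ U) = (y : Γ ⧸ U) := h1
    rw [QuotientGroup.eq] at h2
    refine ⟨y⁻¹, ?_⟩
    have h3 := U.inv_mem h2
    have h4 : ((g * y)⁻¹ * y)⁻¹ = y⁻¹ * g * y⁻¹⁻¹ := by group
    rw [h4] at h3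
    exact h3

theorem mem_of_pElt_of_not_dvd_index {B : Type*} [Group B] [Finite B] (p : ℕ) [Fact p.Prime]
    (N : Subgroup B) [N.Normal] (hN : ¬ p ∣ N.index) (b : B) (hb : ∃ k : ℕ, orderOf b = p ^ k) : b ∈ N := by
  obtain ⟨x, hx⟩ := exists_conj_mem_of_not_dvd_index p N hN b hb
  have h1 := (inferInstance : N.Normal).conj_mem _ hx x⁻¹
  have h2 : x⁻¹ * (x * b * x⁻¹) * x⁻¹⁻¹ = b := by group
  rwa [h2] at h1

theorem sum_powerset_subtype {ι : Type*} [DecidableEq ι] (K : Finset ι) (f : Finset ι → ℂ) :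
    ∑ J ∈ K.powerset, f J =
      ∑ J' ∈ (Finset.univ : Finset {x // x ∈ K}).powerset, f (J'.map (Function.Embedding.subtype _)) := by
  symm
  refine Finset.sum_bij' (fun J' _ => J'.map (Function.Embedding.subtype _))
    (fun J _ => J.subtype (· ∈ K)) ?_ ?_ ?_ ?_ ?_
  · intro J' _
    rw [Finset.mem_powerset]
    intro x hx
    obtain ⟨y, _, rfl⟩ := Finset.mem_map.mp hx
    exact y.2
  · intro J _
    rw [Finset.mem_powerset]
    exact Finset.subset_univ _
  · intro J' _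
    ext x
    simp
  · intro J hJ
    rw [Finset.subtype_map]
    exact Finset.filter_true_of_mem (fun x hx => Finset.mem_powerset.mp hJ hx)
  · intro J' _
    rfl

theorem sum_powerset_equiv {α β : Type*} [Fintype α] [Fintype β] [DecidableEq α] [DecidableEq β]
    (e : α ≃ β) (f : Finset β → ℂ) :
    ∑ J ∈ (Finset.univ : Finset α).powerset, f (J.map e.toEmbedding) =
      ∑ J' ∈ (Finset.univ : Finset β).powerset, f J' := by
  refine Finset.sum_bij' (fun J _ => J.map e.toEmbedding) (fun J' _ => J'.map e.symm.toEmbedding)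
    ?_ ?_ ?_ ?_ ?_
  · intro J _
    simp
  · intro J' _
    simp
  · intro J _
    ext x
    simp
  · intro J' _
    ext x
    simp
  · intro J _
    rfl

end Cfsg.Agent.Helper50.UnipU345
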