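import Mathlib
import Cfsg.Agent.Helper13.USubDefs
import Cfsg.Agent.Helper13.SubOddK1
import Cfsg.Agent.Helper43.SUClsC

/-!
# (UK1) for S5982 (helper13, #7436): `utilde`-fixed characteristic polynomial ⟹ conjugate into the
similarity group of the standard hermitian form

Port of `Helper13.SubOdd.conj_of_charpoly` with `Helper43.SUCls.exists_GU_of_utilde` in place of
`exists_matrix_charpoly` over the subfield.
-/

set_option autoImplicit false
set_option linter.unusedVariables false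

namespace Cfsg.Agent.Helper50.USubUK1

open Matrix Polynomial Cfsg Cfsg.Geo
open Cfsg.Agent.Helper43.PGLPrime (zp mult)
open Cfsg.Agent.Helper43.GUPrime (utilde)
open Cfsg.Agent.Helper13.SubOdd
open Cfsg.Agent.Helper13.USub

variable {F : Type*} [Field F] {n : ℕ}

/-- a non-zero scalar multiple of an isometry of the standard hermitian form is a similitude -/
theorem mem_SimH_of_smul_GU (q₀ : ℕ) (y B : GL (Fin n) F) (hB : B ∈ Cfsg.GU n F q₀) (lam : F)
    (hlam : lam ≠ 0)
    (hy : (y : Matrix (Fin n) (Fin n) F) = lam • (B : Matrix (Fin n) (Fin n) F)) :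
    y ∈ SimH n F q₀ := by
  refine ⟨Units.mk0 (lam ^ (q₀ + 1)) (pow_ne_zero _ hlam), fun u v => ?_⟩
  have hB' : ∀ u v, Cfsg.hermForm n F q₀ ((B : Matrix (Fin n) (Fin n) F) *ᵥ u)
      ((B : Matrix (Fin n) (Fin n) F) *ᵥ v) = Cfsg.hermForm n F q₀ u v := hB
  rw [hy, Units.val_mk0, ← hB' u v]
  unfold Cfsg.hermForm
  rw [Finset.mul_sum]
  refine Finset.sum_congr rfl fun i _ => ?_
  rw [Matrix.smul_mulVec, Matrix.smul_mulVec, Pi.smul_apply, Pi.smul_apply, smul_eq_mul,
    smul_eq_mul, mul_pow, pow_succ]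
  ring

/-- (UK1) -/
theorem conj_of_utilde [Fintype F] (p : ℕ) [Fact p.Prime] [CharP F p] (q₀ : ℕ)
    (hF : Fintype.card F = q₀ ^ 2) (bar : F →+* F) (hbar : ∀ a, bar a = a ^ q₀) (hn : 0 < n)
    (x : GL (Fin n) F) (hx : x ∈ SLs n F) (lam : F) (hlam : lam ≠ 0) (m : ℕ) (hm : (m : F) ≠ 0)
    (hpow : (lam⁻¹ • (x : Matrix (Fin n) (Fin n) F)) ^ m = 1)
    (hfix : utilde bar (lam⁻¹ • (x : Matrix (Fin n) (Fin n) F)).charpoly =
      (lam⁻¹ • (x : Matrix (Fin n) (Fin n) F)).charpoly) :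
    ∃ g ∈ SLs n F, g⁻¹ * x * g ∈ SimH n F q₀ := by
  classical
  have hm0 : m ≠ 0 := by
    rintro rfl
    exact hm Nat.cast_zero
  set A : Matrix (Fin n) (Fin n) F := lam⁻¹ • (x : Matrix (Fin n) (Fin n) F) with hAdef
  obtain ⟨gA, hgA, hgAm⟩ := exists_gl_of_pow_eq_one A m hm0 hpow
  have hdetA : A.det ≠ 0 := by
    rw [← hgA]
    exact Matrix.GeneralLinearGroup.det_ne_zero gA
  have hf0 : A.charpoly.coeff 0 ≠ 0 := by
    intro h
    apply hdetA
    rw [Matrix.det_eq_sign_charpoly_coeff, h, mul_zero]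
  have hdeg : A.charpoly.natDegree = n := by
    rw [Matrix.charpoly_natDegree_eq_dim, Fintype.card_fin]
  obtain ⟨Bu, k', hk'0, hk'p, hBk, hBch⟩ :=
    Cfsg.Agent.Helper43.SUCls.exists_GU_of_utilde p hF bar hbar n A.charpoly
      (Matrix.charpoly_monic A) hdeg hf0 hfix
  set gB : GL (Fin n) F := (Bu : GL (Fin n) F) with hgBdef
  have hgBk : gB ^ k' = 1 := by
    have := congrArg (fun z : ↥(Cfsg.GU n F q₀) => (z : GL (Fin n) F)) hBk
    simpa using this
  have hk'F : (k' : F) ≠ 0 := by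
    intro h
    rw [CharP.cast_eq_zero_iff F p] at h
    have := Nat.Coprime.eq_one_of_dvd hk'p.symm h
    exact (Fact.out : p.Prime).one_lt.ne' this
  have hconj : IsConj gA gB := by
    apply Cfsg.Agent.Helper43.SS.isConj_GL_of_charpoly_eq gA gB m k' hm hk'F hgAm hgBk
    rw [hgA, hBch]
  obtain ⟨c, hc⟩ := isConj_iff.mp hconj
  -- a commuting element with the determinant of `c`
  have : Nonempty (Fin n) := ⟨⟨0, hn⟩⟩
  have hφ : (Matrix.toLin' A) ^ m = 1 := by
    rw [← Matrix.toLin'_pow, hpow, Matrix.toLin'_one]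
    rfl
  obtain ⟨z, hzcomm, hzdet⟩ := Cfsg.Agent.Helper43.exists_commuting_det
    (V := Fin n → F) (Matrix.toLin' A) m hm hφ (c.val.det)
  set Z : Matrix (Fin n) (Fin n) F := LinearMap.toMatrix' z with hZdef
  have hZdet : Z.det = c.val.det := by
    rw [hZdef, LinearMap.det_toMatrix', hzdet]
  have hZA : Z * A = A * Z := by
    have h1 := congrArg LinearMap.toMatrix' hzcomm
    rw [Module.End.mul_eq_comp, Module.End.mul_eq_comp, LinearMap.toMatrix'_comp,
      LinearMap.toMatrix'_comp, LinearMap.toMatrix'_toLin'] at h1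
    exact h1
  have hcdet : c.val.det ≠ 0 := Matrix.GeneralLinearGroup.det_ne_zero c
  set gZ : GL (Fin n) F := Matrix.GeneralLinearGroup.mkOfDetNeZero Z (by rw [hZdet]; exact hcdet)
    with hgZ
  have hgZval : gZ.val = Z := rfl
  set P : GL (Fin n) F := gZ * c⁻¹ with hPdef
  have hPdet : P.val.det = 1 := by
    have h1 : (c.val.det) * ((c⁻¹ : GL (Fin n) F).val.det) = 1 := by
      rw [← Matrix.det_mul, ← Units.val_mul, mul_inv_cancel, Units.val_one, Matrix.det_one]
    rw [hPdef, Units.val_mul, Matrix.det_mul, hgZval, hZdet, h1]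
  have hPmem : P ∈ SLs n F := by
    change P ∈ (Matrix.GeneralLinearGroup.det : GL (Fin n) F →* Fˣ).ker
    rw [MonoidHom.mem_ker]
    apply Units.ext
    rw [Matrix.GeneralLinearGroup.val_det_apply, hPdet, Units.val_one]
  refine ⟨P, hPmem, ?_⟩
  -- `gZ` commutes with `gA`
  have hgZA : gZ * gA = gA * gZ := by
    apply Units.ext
    rw [Units.val_mul, Units.val_mul, hgZval, hgA, hZA]
  have hconjP : P⁻¹ * gA * P = gB := by
    rw [hPdef, _root_.mul_inv_rev, inv_inv, ← hc]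
    have : gZ⁻¹ * gA * gZ = gA := by
      rw [mul_assoc, ← hgZA, ← mul_assoc, inv_mul_cancel, one_mul]
    calc c * gZ⁻¹ * gA * (gZ * c⁻¹) = c * (gZ⁻¹ * gA * gZ) * c⁻¹ := by group
      _ = c * gA * c⁻¹ := by rw [this]
  have hval : ((P⁻¹ * x * P : GL (Fin n) F) : Matrix (Fin n) (Fin n) F) =
      lam • (gB : Matrix (Fin n) (Fin n) F) := by
    have hxA : (x : Matrix (Fin n) (Fin n) F) = lam • A := by
      rw [hAdef, smul_smul, mul_inv_cancel₀ hlam, one_smul]
    rw [Units.val_mul, Units.val_mul, hxA, Matrix.mul_smul, Matrix.smul_mul]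
    congr 1
    have := congrArg (fun g : GL (Fin n) F => (g : Matrix (Fin n) (Fin n) F)) hconjP
    simp only [Units.val_mul] at this
    rw [hgA] at this
    exact this
  exact mem_SimH_of_smul_GU q₀ _ gB Bu.2 lam hlam hval

end Cfsg.Agent.Helper50.USubUK1
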