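import Cfsg.Agent.Helper57.BH.Defs

/-!
# S4503 (helper57), piece (C3): inner products with a class function that is constant on
`p`-singular elements
-/

set_option autoImplicit false
set_option linter.unusedSectionVars false

namespace Cfsg.Agent.Helper50.BH

open Cfsg Cfsg.Agent.Helper16 Cfsg.Agent.Helper16.DefOne Cfsg.Agent.Helper82.DefOne
  Cfsg.Agent.Helper77.DefOne Cfsg.Agent.Helper57.BH
open scoped ComplexConjugate

universe u

variable {G : Type u} [Group G] [Fintype G] {p : ℕ} [Fact p.Prime] (P : Sylow p G)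

/-- (C3) inner products with a class function that is constant on `p`-singular elements -/
theorem classInner_mulConj_sub (ψ ψ₂ : IrrCharacter G) (hne : ψ ≠ ψ₂)
    (hreg : ∀ g : G, ¬ p ∣ orderOf g → (ψ₂ : G → ℂ) g = (ψ : G → ℂ) g)
    (F : G → ℂ) (c : ℂ) (hF : ∀ g : G, p ∣ orderOf g → F g = c) :
    classInner (mulConj (ψ : G → ℂ) (ψ : G → ℂ)) F -
      classInner (mulConj (ψ : G → ℂ) (ψ₂ : G → ℂ)) F = conj c := by
  have hN : (Nat.card G : ℂ) ≠ 0 := by exact_mod_cast Nat.card_pos.ne'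
  have h1 := Cfsg.Agent.Helper74.irr_inner_self ψ
  have h2 := Cfsg.Agent.Helper74.irr_inner_ne hne
  simp only [classInner] at h1 h2 ⊢
  have h1' : ∑ g : G, (ψ : G → ℂ) g * conj ((ψ : G → ℂ) g) = (Nat.card G : ℂ) := by
    have := congrArg (fun z => (Nat.card G : ℂ) * z) h1
    simpa [← mul_assoc, mul_inv_cancel₀ hN] using this
  have h2' : ∑ g : G, (ψ : G → ℂ) g * conj ((ψ₂ : G → ℂ) g) = 0 := by
    have := congrArg (fun z => (Nat.card G : ℂ) * z) h2
    simpa [← mul_assoc, mul_inv_cancel₀ hN] using this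
  have key : ∀ g : G, mulConj (ψ : G → ℂ) (ψ : G → ℂ) g * conj (F g) -
      mulConj (ψ : G → ℂ) (ψ₂ : G → ℂ) g * conj (F g) =
      conj c * ((ψ : G → ℂ) g * conj ((ψ : G → ℂ) g) - (ψ : G → ℂ) g * conj ((ψ₂ : G → ℂ) g)) := by
    intro g
    by_cases hg : p ∣ orderOf g
    · simp only [mulConj]
      rw [hF g hg]
      ring
    · simp only [mulConj]
      rw [hreg g hg]
      ring
  rw [← mul_sub, ← Finset.sum_sub_distrib]
  simp_rw [key]
  rw [← Finset.mul_sum, Finset.sum_sub_distrib, h1', h2', sub_zero, ← mul_assoc,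
    mul_comm _ (conj c), mul_assoc, inv_mul_cancel₀ hN, mul_one]

end Cfsg.Agent.Helper50.BH
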