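import Cfsg.Agent.Helper57.BH.Defs

/-!
# S4503 (helper57), piece (W1): the relation `SameP` (same central character on `P`)
-/

set_option autoImplicit false
set_option linter.unusedSectionVars false

namespace Cfsg.Agent.Helper50.BH

open Cfsg Cfsg.Agent.Helper16 Cfsg.Agent.Helper16.DefOne Cfsg.Agent.Helper82.DefOne
  Cfsg.Agent.Helper77.DefOne Cfsg.Agent.Helper57.BH
open scoped ComplexConjugate

universe u

variable {G : Type u} [Group G] [Fintype G] {p : ℕ} [Fact p.Prime] (P : Sylow p G)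

theorem sameP_refl (φ : IrrCharacter (cen P)) : SameP P φ φ := fun _ _ => rfl

theorem sameP_symm {φ φ' : IrrCharacter (cen P)} (h : SameP P φ φ') : SameP P φ' φ :=
  fun x hx => (h x hx).symm

theorem sameP_trans {φ φ' φ'' : IrrCharacter (cen P)} (h : SameP P φ φ')
    (h' : SameP P φ' φ'') : SameP P φ φ'' := by
  intro x hx
  have h1 := h x hx
  have h2 := h' x hx
  have h0 : (φ' : cen P → ℂ) 1 ≠ 0 := by
    have : Fintype (cen P) := Fintype.ofFinite _
    exact irr_one_ne_zero φ'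
  apply mul_left_cancel₀ h0
  calc (φ' : cen P → ℂ) 1 * ((φ : cen P → ℂ) x * (φ'' : cen P → ℂ) 1)
      = ((φ : cen P → ℂ) x * (φ' : cen P → ℂ) 1) * (φ'' : cen P → ℂ) 1 := by ring
    _ = ((φ' : cen P → ℂ) x * (φ : cen P → ℂ) 1) * (φ'' : cen P → ℂ) 1 := by rw [h1]
    _ = ((φ' : cen P → ℂ) x * (φ'' : cen P → ℂ) 1) * (φ : cen P → ℂ) 1 := by ring
    _ = ((φ'' : cen P → ℂ) x * (φ' : cen P → ℂ) 1) * (φ : cen P → ℂ) 1 := by rw [h2]
    _ = (φ' : cen P → ℂ) 1 * ((φ'' : cen P → ℂ) x * (φ : cen P → ℂ) 1) := by ring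

theorem sameP_smul (hP : Nat.card P = p) (n : nor P) {φ φ' : IrrCharacter (cen P)}
    (h : SameP P φ φ') : SameP P (n • φ) (n • φ') := by
  intro x hx
  rw [smul_irr_apply, smul_irr_apply, smul_irr_apply, smul_irr_apply, map_one]
  apply h
  rw [coe_normConj_symm]
  have hn : (n : G) ∈ Subgroup.normalizer ((P : Subgroup G) : Set G) := by
    rw [← nor_eq_normalizer P hP]
    exact n.2
  have := (Subgroup.mem_normalizer_iff.1 (Subgroup.inv_mem _ hn) (x : G)).1 hx
  simpa using this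

theorem sameP_oneIrr_iff (φ : IrrCharacter (cen P)) : SameP P φ (oneIrr P) ↔ IsCanon P φ := by
  constructor
  · intro h x hx
    have := h x hx
    simpa [oneIrr] using this
  · intro h x hx
    have := h x hx
    simpa [oneIrr] using this

end Cfsg.Agent.Helper50.BH
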