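import Cfsg.Agent.Helper57.BH.Defs

/-!
# S4503 (helper57), piece (W3): orthogonality on `P` of irreducible characters of `C_G(P)` with
different central characters on `P`
-/

set_option autoImplicit false
set_option linter.unusedSectionVars false

namespace Cfsg.Agent.Helper50.BH

open Cfsg Cfsg.Agent.Helper16 Cfsg.Agent.Helper16.DefOne Cfsg.Agent.Helper82.DefOne
  Cfsg.Agent.Helper77.DefOne Cfsg.Agent.Helper57.BH
open scoped ComplexConjugate

universe u

variable {G : Type u} [Group G] [Fintype G] {p : ℕ} [Fact p.Prime] (P : Sylow p G)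

/-- (W-c) orthogonality on `P` -/
theorem finsum_mulConj_of_not_sameP (hP : Nat.card P = p) {φ φ' : IrrCharacter (cen P)}
    (h : ¬ SameP P φ φ') :
    ∑ᶠ x ∈ {x : cen P | (x : G) ∈ (P : Subgroup G)},
      (φ : cen P → ℂ) x * conj ((φ' : cen P → ℂ) x) = 0 := by
  have hfin : Fintype (cen P) := Fintype.ofFinite _
  unfold SameP at h
  push Not at h
  obtain ⟨y, hyP, hy⟩ := h
  have hyZ : y ∈ Subgroup.center (cen P) :=
    subgroupOf_cen_le_center P hP (Subgroup.mem_subgroupOf.2 hyP)
  obtain ⟨c, hc1, hc⟩ := irr_central_mul_norm φ hyZ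
  obtain ⟨c', hc'1, hc'⟩ := irr_central_mul_norm φ' hyZ
  have hφy : (φ : cen P → ℂ) y = c * (φ : cen P → ℂ) 1 := by
    have := hc 1
    rwa [mul_one] at this
  have hφ'y : (φ' : cen P → ℂ) y = c' * (φ' : cen P → ℂ) 1 := by
    have := hc' 1
    rwa [mul_one] at this
  have hcc' : c ≠ c' := by
    rintro rfl
    apply hy
    rw [hφy, hφ'y]
    ring
  -- `conj c' = c'⁻¹`
  have hc'0 : c' ≠ 0 := by
    intro h0
    rw [h0, norm_zero] at hc'1
    exact zero_ne_one hc'1
  have hconj : c' * conj c' = 1 := by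
    rw [Complex.mul_conj, Complex.normSq_eq_norm_sq, hc'1]
    simp
  have hne1 : c * conj c' ≠ 1 := by
    intro h1
    apply hcc'
    calc c = c * (c' * conj c') := by rw [hconj, mul_one]
      _ = (c * conj c') * c' := by ring
      _ = c' := by rw [h1, one_mul]
  set S : Set (cen P) := {x : cen P | (x : G) ∈ (P : Subgroup G)} with hS
  set F : cen P → ℂ := fun x => (φ : cen P → ℂ) x * conj ((φ' : cen P → ℂ) x) with hF
  -- translation by `y`
  have hbij : Set.BijOn (fun x : cen P => y * x) S S := by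
    refine ⟨fun x hx => ?_, fun a _ b _ hab => mul_left_cancel hab, fun x hx => ?_⟩
    · show ((y * x : cen P) : G) ∈ (P : Subgroup G)
      rw [Subgroup.coe_mul]
      exact (P : Subgroup G).mul_mem hyP hx
    · refine ⟨y⁻¹ * x, ?_, by simp⟩
      show ((y⁻¹ * x : cen P) : G) ∈ (P : Subgroup G)
      rw [Subgroup.coe_mul, Subgroup.coe_inv]
      exact (P : Subgroup G).mul_mem ((P : Subgroup G).inv_mem hyP) hx
  have h1 : ∑ᶠ x ∈ S, F (y * x) = ∑ᶠ x ∈ S, F x :=
    finsum_mem_eq_of_bijOn (fun x : cen P => y * x) hbij (fun x _ => rfl)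
  have h2 : ∀ x : cen P, F (y * x) = (c * conj c') * F x := by
    intro x
    simp only [hF]
    rw [hc x, hc' x, map_mul]
    ring
  have h3 : ∑ᶠ x ∈ S, F (y * x) = (c * conj c') * ∑ᶠ x ∈ S, F x := by
    rw [mul_finsum_mem]
    exact finsum_mem_congr rfl (fun x _ => h2 x)
  have h4 : (1 - c * conj c') * ∑ᶠ x ∈ S, F x = 0 := by
    rw [sub_mul, one_mul, ← h3, h1, sub_self]
  rcases mul_eq_zero.1 h4 with h5 | h5
  · exact absurd (sub_eq_zero.1 h5).symm hne1
  · exact h5

end Cfsg.Agent.Helper50.BH
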