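import Mathlib
import Cfsg.Prelude.Def_Transfer
import Cfsg.Prelude.Def_Local
import Cfsg.Prelude.Def_Solvable
import Cfsg.Agent.Helper49.FStar
import Cfsg.Agent.Helper29.Fitting
import Cfsg.Agent.Helper48.PCore
import Cfsg.Agent.Helper53.Heis

/-!
# (F) of helper17's WANTED #4955 for S3313: `F*(C(z))` extraspecial ⇒ it is `O₂(C(z))` (helper50)
-/

set_option autoImplicit false

namespace Cfsg.Agent.Helper50.J2F

open Cfsg

/-- if `F*(X)` is a `p`-group then `F*(X) = O_p(X)` -/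
theorem gfs_eq_pCore_of_isPGroup {X : Type*} [Group X] [Finite X] {p : ℕ} [Fact p.Prime]
    (h : IsPGroup p ↥(generalizedFittingSubgroup X)) : generalizedFittingSubgroup X = pCore p X := by
  apply le_antisymm
  · exact Cfsg.Agent.Helper48.le_pCore (Cfsg.Agent.Helper29.generalizedFittingSubgroup_normal X) h
  · exact (Cfsg.Agent.Lib.pCore_le_fittingSubgroup p).trans le_sup_right

theorem fstar_facts {G : Type*} [Group G] [Finite G] (z : G) (hz : orderOf z = 2)
    (hex : Cfsg.IsExtraspecial 2 ↥(Cfsg.generalizedFittingSubgroup ↥(Subgroup.centralizer ({z} : Set G)))) :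
    z ∈ (Cfsg.pCore 2 ↥(Subgroup.centralizer ({z} : Set G))).map (Subgroup.centralizer ({z} : Set G)).subtype ∧
    (∀ x ∈ Subgroup.centralizer ({z} : Set G),
      ∀ q ∈ (Cfsg.pCore 2 ↥(Subgroup.centralizer ({z} : Set G))).map (Subgroup.centralizer ({z} : Set G)).subtype,
        x * q * x⁻¹ ∈ (Cfsg.pCore 2 ↥(Subgroup.centralizer ({z} : Set G))).map
          (Subgroup.centralizer ({z} : Set G)).subtype) ∧
    Cfsg.IsExtraspecial 2 ↥((Cfsg.pCore 2 ↥(Subgroup.centralizer ({z} : Set G))).map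
      (Subgroup.centralizer ({z} : Set G)).subtype) ∧
    (∀ x ∈ Subgroup.centralizer ({z} : Set G),
      (∀ q ∈ (Cfsg.pCore 2 ↥(Subgroup.centralizer ({z} : Set G))).map (Subgroup.centralizer ({z} : Set G)).subtype,
        x * q = q * x) →
      x ∈ (Cfsg.pCore 2 ↥(Subgroup.centralizer ({z} : Set G))).map (Subgroup.centralizer ({z} : Set G)).subtype) := by
  have : Fact (Nat.Prime 2) := ⟨Nat.prime_two⟩
  set X : Subgroup G := Subgroup.centralizer ({z} : Set G) with hX
  have hP : IsPGroup 2 ↥(generalizedFittingSubgroup ↥X) := hex.1.1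
  have heq : generalizedFittingSubgroup ↥X = pCore 2 ↥X := gfs_eq_pCore_of_isPGroup hP
  have hnorm : (pCore 2 ↥X).Normal := Cfsg.Agent.Helper48.pCore_normal 2 ↥X
  have hzX : z ∈ X := Subgroup.mem_centralizer_singleton_iff.mpr rfl
  refine ⟨?_, ?_, ?_, ?_⟩
  · -- `z ∈ O₂(X)`
    refine ⟨⟨z, hzX⟩, ?_, rfl⟩
    have hcen : (⟨z, hzX⟩ : ↥X) ∈ Subgroup.center ↥X := by
      rw [Subgroup.mem_center_iff]
      intro g
      apply Subtype.ext
      have := Subgroup.mem_centralizer_singleton_iff.mp g.2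
      exact this
    have hN : (Subgroup.zpowers (⟨z, hzX⟩ : ↥X)).Normal := by
      constructor
      intro n hn g
      obtain ⟨i, rfl⟩ := Subgroup.mem_zpowers_iff.mp hn
      have h1 : g * (⟨z, hzX⟩ : ↥X) ^ i * g⁻¹ = (⟨z, hzX⟩ : ↥X) ^ i := by
        have h2 : (⟨z, hzX⟩ : ↥X) ^ i ∈ Subgroup.center ↥X := (Subgroup.center ↥X).zpow_mem hcen i
        rw [Subgroup.mem_center_iff] at h2
        rw [h2 g, mul_inv_cancel_right]
      rw [h1]
      exact hn
    have hp2 : IsPGroup 2 ↥(Subgroup.zpowers (⟨z, hzX⟩ : ↥X)) := by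
      apply IsPGroup.of_card (n := 1)
      rw [Nat.card_zpowers, Subgroup.orderOf_mk, hz, pow_one]
    exact Cfsg.Agent.Helper48.le_pCore hN hp2 (Subgroup.mem_zpowers _)
  · -- normal
    rintro x hx _ ⟨q, hq, rfl⟩
    exact ⟨⟨x, hx⟩ * q * ⟨x, hx⟩⁻¹, hnorm.conj_mem q hq ⟨x, hx⟩, rfl⟩
  · -- extraspecial
    have e1 : ↥(generalizedFittingSubgroup ↥X) ≃* ↥(pCore 2 ↥X) := MulEquiv.subgroupCongr heq
    have e2 : ↥(pCore 2 ↥X) ≃* ↥((pCore 2 ↥X).map X.subtype) :=
      (pCore 2 ↥X).equivMapOfInjective X.subtype X.subtype_injective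
    exact Cfsg.Agent.Helper53.isExtraspecial_of_mulEquiv (e1.trans e2) hex
  · -- self-centralizing
    intro x hx hcomm
    refine ⟨⟨x, hx⟩, ?_, rfl⟩
    rw [← heq]
    apply Cfsg.Agent.Helper22.centralizer_generalizedFittingSubgroup_le
    rw [Subgroup.mem_centralizer_iff]
    intro q hq
    rw [heq] at hq
    apply Subtype.ext
    have := hcomm (q : G) ⟨q, hq, rfl⟩
    exact this.symm

end Cfsg.Agent.Helper50.J2F
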