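-- helper50 for helper19's S1142 (#5717, Feit-Higman): piece (A3) `hm_sq`: the quadratic relation of the Hecke matrix of a
-- simple reflection, its constant row sum `q` and `q ≥ 2`.
import Cfsg.Agent.Helper19.FH.BNDefs

set_option autoImplicit false

open Cfsg.Agent.Helper19.FH Cfsg.Agent.Helper6 Cfsg.Agent.Helper19.Stein Matrix

namespace Cfsg.Agent.Helper50.FH

variable {G : Type*} [Group G] (P : Cfsg.BNPair G)

/-- membership in the rank one parabolic `P_s = B ∪ B s B` in terms of types -/
theorem mem_Ps (s : P.S) (g : G) :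
    g ∈ P.parabolic {s.1} ↔ tau P g = 1 ∨ tau P g = wf P s := by
  have h1 : g ∈ P.parabolic {s.1} ↔ g ∈ ((P.parabolic {s.1} : Subgroup G) : Set G) := Iff.rfl
  rw [h1, parabolic_singleton (P := P) s.2, Set.mem_union, tau_eq_one_iff, ← mkW_S P s, tau_eq_iff]
  rfl

/-- `{1, σ}` is closed under the "product of relative positions" -/
theorem tau_mul_pair (s : P.S) {a b : G} (ha : tau P a = 1 ∨ tau P a = wf P s)
    (hb : tau P b = 1 ∨ tau P b = wf P s) : tau P (a * b) = 1 ∨ tau P (a * b) = wf P s := by
  rw [← mem_Ps] at ha hb ⊢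
  exact (P.parabolic {s.1}).mul_mem ha hb

theorem relPos_pair (s : P.S) {x y z : G ⧸ P.B} (h1 : relPos P x y = 1 ∨ relPos P x y = wf P s)
    (h2 : relPos P y z = 1 ∨ relPos P y z = wf P s) : relPos P x z = 1 ∨ relPos P x z = wf P s := by
  induction x using QuotientGroup.induction_on with
  | _ a =>
    induction y using QuotientGroup.induction_on with
    | _ b =>
      induction z using QuotientGroup.induction_on with
      | _ c =>
        rw [relPos_mk] at h1 h2 ⊢
        have := tau_mul_pair P s h1 h2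
        have e : a⁻¹ * b * (b⁻¹ * c) = a⁻¹ * c := by group
        rwa [e] at this

theorem wf_inv (s : P.S) : (wf P s)⁻¹ = wf P s := inv_gen (exchData_wf P) s

theorem S_not_mem_B (s : P.S) : s.1 ∉ P.B := by
  intro hs
  obtain ⟨b, hb, hb'⟩ := exists_conj_not_mem (P := P) s.2
  exact hb' (P.B.mul_mem (P.B.mul_mem hs hb) hs)

theorem wf_ne_one (s : P.S) : wf P s ≠ 1 := by
  intro h
  rw [← mkW_S P s, mkW_eq_one_iff] at h
  exact S_not_mem_B P s h

open scoped Classical in
/-- (A3) -/
theorem hm_sq [Fintype (G ⧸ P.B)] [DecidableEq (G ⧸ P.B)] (s : P.S) :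
    ∃ q : ℕ, 2 ≤ q ∧ (∀ x : G ⧸ P.B, ∑ y, hm P (wf P s) x y = (q : ℝ)) ∧
      hm P (wf P s) * hm P (wf P s) = (q : ℝ) • (1 : Matrix (G ⧸ P.B) (G ⧸ P.B) ℝ) +
        ((q : ℝ) - 1) • hm P (wf P s) := by
  set σ := wf P s with hσ
  have hσinv : σ⁻¹ = σ := wf_inv P s
  have hσ1 : σ ≠ 1 := wf_ne_one P s
  -- the "sphere" around `x`
  let R : G ⧸ P.B → Finset (G ⧸ P.B) := fun x => Finset.univ.filter (fun y => relPos P x y = σ)
  have hRmem : ∀ x y, y ∈ R x ↔ relPos P x y = σ := fun x y => by simp [R]
  set x₀ : G ⧸ P.B := QuotientGroup.mk 1 with hx₀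
  -- all spheres have the same size
  have hcard : ∀ x, (R x).card = (R x₀).card := by
    intro x
    induction x using QuotientGroup.induction_on with
    | _ g =>
      symm
      apply Finset.card_equiv (MulAction.toPerm g)
      intro y
      rw [hRmem, hRmem, MulAction.toPerm_apply]
      have : (QuotientGroup.mk g : G ⧸ P.B) = g • x₀ := by
        rw [hx₀, MulAction.Quotient.smul_mk, smul_eq_mul, mul_one]
      rw [this, relPos_smul]
  have hrow : ∀ x : G ⧸ P.B, ∑ y, hm P σ x y = ((R x₀).card : ℝ) := by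
    intro x
    rw [← hcard x]
    simp only [hm_apply]
    rw [Finset.sum_boole]
  -- `q ≥ 2`
  have hq2 : 2 ≤ (R x₀).card := by
    obtain ⟨b, hb, hb'⟩ := exists_conj_not_mem (P := P) s.2
    have h1 : (QuotientGroup.mk s.1 : G ⧸ P.B) ∈ R x₀ := by
      rw [hRmem, hx₀, relPos_mk, inv_one, one_mul, tau_of_mem_N P (P.subset s.2), mkW_S]
    have h2 : (QuotientGroup.mk (b * s.1) : G ⧸ P.B) ∈ R x₀ := by
      rw [hRmem, hx₀, relPos_mk, inv_one, one_mul, tau_B_mul P hb, tau_of_mem_N P (P.subset s.2), mkW_S]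
    have hne : (QuotientGroup.mk s.1 : G ⧸ P.B) ≠ QuotientGroup.mk (b * s.1) := by
      intro h
      rw [QuotientGroup.eq] at h
      apply hb'
      have e : s.1 * b * s.1 = (s.1 * s.1) * (s.1⁻¹ * (b * s.1)) := by group
      rw [e]
      exact P.B.mul_mem (P.sq_mem s.1 s.2) h
    exact Finset.one_lt_card.2 ⟨_, h1, _, h2, hne⟩
  refine ⟨(R x₀).card, hq2, hrow, ?_⟩
  ext x z
  rw [Matrix.mul_apply, Matrix.add_apply, Matrix.smul_apply, Matrix.smul_apply, smul_eq_mul, smul_eq_mul,
    Matrix.one_apply]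
  have hsum : ∑ y, hm P σ x y * hm P σ y z =
      ((Finset.univ.filter (fun y => relPos P x y = σ ∧ relPos P y z = σ)).card : ℝ) := by
    rw [← Finset.sum_boole]
    apply Finset.sum_congr rfl
    intro y _
    rw [hm_apply, hm_apply]
    by_cases h1 : relPos P x y = σ <;> by_cases h2 : relPos P y z = σ <;> simp [h1, h2]
  rw [hsum, hm_apply]
  by_cases hxz : x = z
  · subst hxz
    have h1 : relPos P x x ≠ σ := by
      rw [(relPos_eq_one_iff P x x).2 rfl]
      exact fun h => hσ1 h.symm
    rw [if_pos rfl, if_neg h1, mul_one, mul_zero, add_zero, ← hcard x]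
    congr 2
    ext y
    simp only [Finset.mem_filter, Finset.mem_univ, true_and, R]
    constructor
    · exact fun h => h.1
    · intro h
      refine ⟨h, ?_⟩
      rw [relPos_symm P x y, h, hσinv]
  · rw [if_neg hxz, mul_zero, zero_add]
    by_cases hσxz : relPos P x z = σ
    · rw [if_pos hσxz, mul_one]
      have hz : z ∈ R x := (hRmem x z).2 hσxz
      have : Finset.univ.filter (fun y => relPos P x y = σ ∧ relPos P y z = σ) = (R x).erase z := by
        ext y
        simp only [Finset.mem_filter, Finset.mem_univ, true_and, Finset.mem_erase, R]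
        constructor
        · rintro ⟨h1, h2⟩
          refine ⟨?_, h1⟩
          intro hyz
          rw [hyz, (relPos_eq_one_iff P z z).2 rfl] at h2
          exact hσ1 h2.symm
        · rintro ⟨hyz, h1⟩
          refine ⟨h1, ?_⟩
          have hyx : relPos P y x = 1 ∨ relPos P y x = σ := by
            right
            rw [relPos_symm P x y, h1, hσinv]
          rcases relPos_pair P s hyx (Or.inr hσxz) with h | h
          · exact absurd ((relPos_eq_one_iff P y z).1 h) hyz
          · exact h
      rw [this, Finset.card_erase_of_mem hz, hcard x]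
      have hpos : 1 ≤ (R x₀).card := by omega
      rw [Nat.cast_sub hpos, Nat.cast_one]
    · rw [if_neg hσxz, mul_zero]
      have : Finset.univ.filter (fun y => relPos P x y = σ ∧ relPos P y z = σ) = ∅ := by
        rw [Finset.filter_eq_empty_iff]
        rintro y _ ⟨h1, h2⟩
        rcases relPos_pair P s (Or.inr h1) (Or.inr h2) with h | h
        · exact hxz ((relPos_eq_one_iff P x z).1 h)
        · exact hσxz h
      rw [this, Finset.card_empty, Nat.cast_zero]

end Cfsg.Agent.Helper50.FH
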