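import Mathlib
import Cfsg.Prelude.Def_Solvable
import Cfsg.Agent.Lib.Cores

/-!
Normal `p`-complements from Burnside's transfer theorem, phrased with `Cfsg.pPrimeCore` (helper50).
-/

set_option autoImplicit false

namespace Cfsg.Agent.Helper50

open Subgroup

/-- In a finite `p`-group `T`, a subgroup `H ≤ T` with `T ⊓ N(H) = H` equals `T`. -/
theorem eq_of_isPGroup_of_inf_normalizer {G : Type*} [Group G] [Finite G] {p : ℕ} [Fact p.Prime]
    (H T : Subgroup G) (hT : IsPGroup p T) (hHT : H ≤ T)
    (h : T ⊓ Subgroup.normalizer (H : Set G) = H) : H = T := by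
  have : Group.IsNilpotent T := hT.isNilpotent
  have hnc : NormalizerCondition T := Group.normalizerCondition_of_isNilpotent
  rw [normalizerCondition_iff_only_full_group_self_normalizing] at hnc
  have h1 : Subgroup.normalizer ((H.subgroupOf T : Subgroup T) : Set T) = H.subgroupOf T := by
    rw [← Subgroup.subgroupOf_normalizer_eq hHT]
    ext ⟨y, hy⟩
    simp only [Subgroup.mem_subgroupOf]
    constructor
    · intro hyN
      have : y ∈ T ⊓ Subgroup.normalizer (H : Set G) := ⟨hy, hyN⟩
      rw [h] at this
      exact this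
    · intro hyH
      exact Subgroup.le_normalizer hyH
  have h2 := hnc _ h1
  rw [Subgroup.subgroupOf_eq_top] at h2
  exact le_antisymm hHT h2

/-- A self-normalizing abelian `p`-subgroup `H` of a finite group `T` is a Sylow `p`-subgroup with
normal complement `O_{p'}(T)`. -/
theorem normal_complement_of_self_normalizing {T : Type*} [Group T] [Finite T] {p : ℕ} [Fact p.Prime]
    (H : Subgroup T) (hHp : IsPGroup p H) (hHab : IsMulCommutative H)
    (hN : normalizer (H : Set T) = H) :
    H ⊔ Cfsg.pPrimeCore p T = ⊤ ∧ H ⊓ Cfsg.pPrimeCore p T = ⊥ := by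
  obtain ⟨P, hP⟩ := hHp.exists_le_sylow
  have hHP : H = P := eq_of_isPGroup_of_inf_normalizer H P P.isPGroup' hP
    (by rw [hN]; exact inf_eq_right.mpr hP)
  have hPN : normalizer ((P : Subgroup T) : Set T) ≤ centralizer ((P : Subgroup T) : Set T) := by
    rw [← hHP, hN]
    exact le_centralizer_iff_isMulCommutative.mpr hHab
  have hc := MonoidHom.ker_transferSylow_isComplement' P hPN
  have hnd := MonoidHom.not_dvd_card_ker_transferSylow P hPN
  have hcop : (Nat.card (MonoidHom.transferSylow P hPN).ker).Coprime p :=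
    (((Fact.out : p.Prime).coprime_iff_not_dvd).mpr hnd).symm
  have hKle : (MonoidHom.transferSylow P hPN).ker ≤ Cfsg.pPrimeCore p T :=
    Cfsg.Agent.Lib.le_pPrimeCore (MonoidHom.normal_ker _) hcop
  constructor
  · rw [hHP]
    apply top_le_iff.mp
    rw [← hc.sup_eq_top, sup_comm]
    exact sup_le_sup_left hKle _
  · rw [hHP]
    apply disjoint_iff.mp
    apply Subgroup.disjoint_of_coprime_natCard
    obtain ⟨n, hn⟩ := P.isPGroup'.exists_card_eq
    rw [hn]
    exact Nat.Coprime.pow_left n (Cfsg.Agent.Lib.card_pPrimeCore_coprime p).symm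

end Cfsg.Agent.Helper50
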