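import Mathlib
import Cfsg.Agent.Helper50.Burnside

/-!
`p`-locally central elements: `N_G(R) ≤ C_G(x)` for all nontrivial `R ≤ P`, `P` a Sylow `p`-subgroup (helper50).
-/

set_option autoImplicit false

namespace Cfsg.Agent.Helper50

open Subgroup
open scoped Pointwise

variable {G : Type*} [Group G]

/-- Conjugate of a subgroup by `g`. -/
abbrev cjg (g : G) (H : Subgroup G) : Subgroup G := H.map (MulAut.conj g).toMonoidHom

theorem mem_cjg {g x : G} {H : Subgroup G} : x ∈ cjg g H ↔ ∃ h ∈ H, g * h * g⁻¹ = x := by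
  simp [cjg, Subgroup.mem_map]

theorem cjg_cjg (m t : G) (H : Subgroup G) : cjg m (cjg t H) = cjg (m * t) H := by
  ext x
  simp only [mem_cjg]
  constructor
  · rintro ⟨_, ⟨h, hh, rfl⟩, rfl⟩
    exact ⟨h, hh, by group⟩
  · rintro ⟨h, hh, rfl⟩
    exact ⟨t * h * t⁻¹, ⟨h, hh, rfl⟩, by group⟩

theorem cjg_mono (g : G) {H K : Subgroup G} (h : H ≤ K) : cjg g H ≤ cjg g K := Subgroup.map_mono h

theorem card_cjg (g : G) (H : Subgroup G) : Nat.card (cjg g H) = Nat.card H :=
  Subgroup.card_map_of_injective (MulAut.conj g).injective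

theorem cjg_ne_bot (g : G) {H : Subgroup G} (h : H ≠ ⊥) : cjg g H ≠ ⊥ := by
  intro h1
  apply h
  exact (Subgroup.map_eq_bot_iff_of_injective H (MulAut.conj g).injective).mp h1

theorem isPGroup_cjg {p : ℕ} (g : G) {H : Subgroup G} (h : IsPGroup p H) : IsPGroup p (cjg g H) :=
  h.map _

theorem cjg_normalizer_le (g : G) (H : Subgroup G) :
    cjg g (normalizer (H : Set G)) ≤ normalizer ((cjg g H : Subgroup G) : Set G) :=
  Subgroup.le_normalizer_map _

theorem mem_normalizer_of_cjg_le [Finite G] (H : Subgroup G) (g : G) (hle : cjg g H ≤ H) :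
    g ∈ normalizer (H : Set G) := by
  have heq : cjg g H = H := Subgroup.eq_of_le_of_card_ge hle (le_of_eq (card_cjg g H).symm)
  exact Subgroup.mem_normalizer_iff_map_conj_eq.mpr heq

/-- Sylow's theorem inside a subgroup `L`, stated in the ambient group. -/
theorem exists_conj_le_in [Finite G] {p : ℕ} [Fact p.Prime] (L A B : Subgroup G) (hA : IsPGroup p A)
    (hB : IsPGroup p B) (hAL : A ≤ L) (hBL : B ≤ L) :
    ∃ S : Subgroup G, IsPGroup p S ∧ S ≤ L ∧ B ≤ S ∧ ∃ m ∈ L, cjg m A ≤ S := by
  have hB' : IsPGroup p (B.subgroupOf L) := hB.comap_subtype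
  obtain ⟨S', hS'⟩ := hB'.exists_le_sylow
  have hA' : IsPGroup p (A.subgroupOf L) := hA.comap_subtype
  obtain ⟨S'', hS''⟩ := hA'.exists_le_sylow
  obtain ⟨m, hm⟩ := MulAction.exists_smul_eq ↥L S'' S'
  refine ⟨(S' : Subgroup L).map L.subtype, S'.isPGroup'.map _, Subgroup.map_subtype_le _, ?_, m, m.2, ?_⟩
  · intro b hb
    exact ⟨⟨b, hBL hb⟩, hS' (by simpa [Subgroup.mem_subgroupOf] using hb), rfl⟩
  · intro y hy
    obtain ⟨a, ha, rfl⟩ := mem_cjg.mp hy
    have h1 : (⟨a, hAL ha⟩ : L) ∈ (S'' : Subgroup L) := hS'' (by simpa [Subgroup.mem_subgroupOf] using ha)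
    have h2 : m * ⟨a, hAL ha⟩ * m⁻¹ ∈ (S' : Subgroup L) := by
      rw [← hm]
      have : MulAut.conj m • (⟨a, hAL ha⟩ : L) ∈ MulAut.conj m • (S'' : Subgroup L) :=
        Subgroup.smul_mem_pointwise_smul _ _ _ h1
      rw [Sylow.coe_subgroup_smul]
      simpa [MulAut.smul_def] using this
    exact ⟨_, h2, by simp⟩

/-- In a finite `p`-group `P`, a proper subgroup is properly contained in its normalizer in `P`. -/
theorem lt_inf_normalizer [Finite G] {p : ℕ} [Fact p.Prime] (R P : Subgroup G) (hP : IsPGroup p P)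
    (hRP : R < P) : R < P ⊓ normalizer (R : Set G) := by
  refine lt_of_le_of_ne (le_inf hRP.le le_normalizer) ?_
  intro h
  exact hRP.ne (eq_of_isPGroup_of_inf_normalizer R P hP hRP.le h.symm)

/-- Key fusion statement: if `N_G(R) ≤ C_G(x)` for all nontrivial `R ≤ P`, then every `t` conjugating a
nontrivial subgroup of `P` into `P` centralizes `x`. -/
theorem mem_centralizer_of_cjg_le [Finite G] {p : ℕ} [Fact p.Prime] (P : Sylow p G) (x : G)
    (hlc : ∀ R : Subgroup G, R ≤ (P : Subgroup G) → R ≠ ⊥ →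
      normalizer (R : Set G) ≤ centralizer ({x} : Set G)) :
    ∀ (k : ℕ) (R : Subgroup G), R ≤ (P : Subgroup G) → R ≠ ⊥ →
      Nat.card (P : Subgroup G) - Nat.card R = k →
      ∀ t : G, cjg t R ≤ (P : Subgroup G) → t ∈ centralizer ({x} : Set G) := by
  intro k
  induction k using Nat.strong_induction_on with
  | _ k ih =>
    intro R hRP hR1 hk t ht
    by_cases hRP' : R = (P : Subgroup G)
    · subst hRP'
      exact hlc _ le_rfl hR1 (mem_normalizer_of_cjg_le _ t ht)
    · have hlt : R < (P : Subgroup G) := lt_of_le_of_ne hRP hRP'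
      have hcardlt : Nat.card R < Nat.card (P : Subgroup G) := by
        by_contra hge
        exact hRP' (Subgroup.eq_of_le_of_card_ge hRP (not_lt.mp hge))
      -- R'' = t R t⁻¹
      have hR''1 : cjg t R ≠ ⊥ := cjg_ne_bot t hR1
      have hR''P : cjg t R ≠ (P : Subgroup G) := by
        intro h
        have := card_cjg t R
        rw [h] at this
        omega
      have hlt'' : cjg t R < (P : Subgroup G) := lt_of_le_of_ne ht hR''P
      have hN1 := lt_inf_normalizer R P P.isPGroup' hlt
      have hN2 := lt_inf_normalizer (cjg t R) P P.isPGroup' hlt''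
      set N₁ := (P : Subgroup G) ⊓ normalizer (R : Set G) with hN₁
      set N₂ := (P : Subgroup G) ⊓ normalizer ((cjg t R : Subgroup G) : Set G) with hN₂
      have hN₁p : IsPGroup p N₁ := P.isPGroup'.to_le inf_le_left
      have hN₂p : IsPGroup p N₂ := P.isPGroup'.to_le inf_le_left
      have hAL : cjg t N₁ ≤ normalizer ((cjg t R : Subgroup G) : Set G) :=
        le_trans (cjg_mono t inf_le_right) (cjg_normalizer_le t R)
      obtain ⟨S, hSp, hSL, hBS, m, hmL, hmA⟩ :=
        exists_conj_le_in (normalizer ((cjg t R : Subgroup G) : Set G)) (cjg t N₁) N₂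
          (isPGroup_cjg t hN₁p) hN₂p hAL inf_le_right
      have hmC : m ∈ centralizer ({x} : Set G) := hlc _ ht hR''1 hmL
      obtain ⟨Q, hSQ⟩ := hSp.exists_le_sylow
      obtain ⟨c, hc⟩ := MulAction.exists_smul_eq G Q P
      -- conjugation by c maps Q to P
      have hcS : cjg c S ≤ (P : Subgroup G) := by
        have h1 : cjg c (Q : Subgroup G) = (P : Subgroup G) := by
          rw [← hc]; rfl
        rw [← h1]
        exact cjg_mono c hSQ
      have hcardN1 : Nat.card R < Nat.card N₁ := by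
        by_contra hge
        exact hN1.ne (Subgroup.eq_of_le_of_card_ge hN1.le (not_lt.mp hge))
      have hcardN2 : Nat.card (cjg t R) < Nat.card N₂ := by
        by_contra hge
        exact hN2.ne (Subgroup.eq_of_le_of_card_ge hN2.le (not_lt.mp hge))
      rw [card_cjg] at hcardN2
      have hN₁1 : N₁ ≠ ⊥ := by
        intro h; rw [h] at hN1; exact not_lt_bot hN1
      have hN₂1 : N₂ ≠ ⊥ := by
        intro h; rw [h] at hN2; exact not_lt_bot hN2
      have hcC : c ∈ centralizer ({x} : Set G) :=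
        ih (Nat.card (P : Subgroup G) - Nat.card N₂) (by omega) N₂ inf_le_left hN₂1 rfl c
          (le_trans (cjg_mono c hBS) hcS)
      have hcmt : c * m * t ∈ centralizer ({x} : Set G) := by
        apply ih (Nat.card (P : Subgroup G) - Nat.card N₁) (by omega) N₁ inf_le_left hN₁1 rfl
        rw [mul_assoc, ← cjg_cjg, ← cjg_cjg]
        exact le_trans (cjg_mono c hmA) hcS
      have : t = m⁻¹ * (c⁻¹ * (c * m * t)) := by group
      rw [this]
      exact mul_mem (inv_mem hmC) (mul_mem (inv_mem hcC) hcmt)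

end Cfsg.Agent.Helper50
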