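import Cfsg.Agent.Helper2.SC3R.Defs

/-!
# S3331 block R (helper2), leaf (A5Y): an element of order 3 of `A₅` normalizing a four-group
-/

set_option autoImplicit false

namespace Cfsg.Agent.Helper50.SC3R

open Cfsg.Agent.Helper62.SC3 Cfsg.Agent.Helper2.SC3R

universe u v

/-- `(0 1)(2 3)` -/
def A5Y_a : alternatingGroup (Fin 5) :=
  ⟨Equiv.swap 0 1 * Equiv.swap 2 3, by rw [Equiv.Perm.mem_alternatingGroup]; decide⟩

/-- `(0 2)(1 3)` -/
def A5Y_b : alternatingGroup (Fin 5) :=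
  ⟨Equiv.swap 0 2 * Equiv.swap 1 3, by rw [Equiv.Perm.mem_alternatingGroup]; decide⟩

/-- `(0 3)(1 2)` -/
def A5Y_c : alternatingGroup (Fin 5) :=
  ⟨Equiv.swap 0 3 * Equiv.swap 1 2, by rw [Equiv.Perm.mem_alternatingGroup]; decide⟩

/-- the 3-cycle `(0 1 2)` -/
def A5Y_z : alternatingGroup (Fin 5) :=
  ⟨Equiv.swap 0 1 * Equiv.swap 1 2, by rw [Equiv.Perm.mem_alternatingGroup]; decide⟩

/-- the four-group -/
def A5Y_V : Subgroup (alternatingGroup (Fin 5)) where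
  carrier := {g | g = 1 ∨ g = A5Y_a ∨ g = A5Y_b ∨ g = A5Y_c}
  one_mem' := Or.inl rfl
  mul_mem' := by
    rintro _ _ (rfl | rfl | rfl | rfl) (rfl | rfl | rfl | rfl) <;>
    · show _ = 1 ∨ _ = A5Y_a ∨ _ = A5Y_b ∨ _ = A5Y_c
      decide
  inv_mem' := by
    rintro _ (rfl | rfl | rfl | rfl) <;>
    · show _ = 1 ∨ _ = A5Y_a ∨ _ = A5Y_b ∨ _ = A5Y_c
      decide

theorem A5Y_mem_V (g : alternatingGroup (Fin 5)) :
    g ∈ A5Y_V ↔ g = 1 ∨ g = A5Y_a ∨ g = A5Y_b ∨ g = A5Y_c := Iff.rfl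

theorem A5Y_card_V : Nat.card A5Y_V = 4 := by
  have hset : (A5Y_V : Set (alternatingGroup (Fin 5))) =
      ↑({1, A5Y_a, A5Y_b, A5Y_c} : Finset (alternatingGroup (Fin 5))) := by
    ext g
    simp only [SetLike.mem_coe, A5Y_mem_V, Finset.coe_insert, Finset.coe_singleton,
      Set.mem_insert_iff, Set.mem_singleton_iff]
  have h1 : Nat.card A5Y_V = (A5Y_V : Set (alternatingGroup (Fin 5))).ncard :=
    Nat.card_coe_set_eq _
  rw [h1, hset, Set.ncard_coe_finset]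
  decide

/-- (A5Y) -/
theorem A5_invariant_four :
    ∃ (z : alternatingGroup (Fin 5)) (V : Subgroup (alternatingGroup (Fin 5))),
      orderOf z = 3 ∧ Nat.card V = 4 ∧ ∀ v ∈ V, z * v * z⁻¹ ∈ V := by
  refine ⟨A5Y_z, A5Y_V, ?_, A5Y_card_V, ?_⟩
  · have : Fact (Nat.Prime 3) := ⟨Nat.prime_three⟩
    apply orderOf_eq_prime
    · decide
    · decide
  · rintro _ (rfl | rfl | rfl | rfl) <;>
    · show _ = 1 ∨ _ = A5Y_a ∨ _ = A5Y_b ∨ _ = A5Y_c
      decide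

end Cfsg.Agent.Helper50.SC3R
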