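import Cfsg.Agent.Helper2.SC3R.Defs
import Cfsg.Agent.Helper65.Nilpotent

/-!
# S3331 block R (helper2), leaf (CT): the centralizer trick
-/

set_option autoImplicit false

namespace Cfsg.Agent.Helper50.SC3R

open Cfsg.Agent.Helper62.SC3 Cfsg.Agent.Helper2.SC3R

universe u v

/-- an element whose `n`-th power is `1` in a finite group of order prime to `n` is trivial -/
theorem CT_eq_one {H : Type*} [Group H] [Finite H] {h : H} {n : ℕ} (hn : h ^ n = 1)
    (hc : (Nat.card H).Coprime n) : h = 1 := by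
  have h1 : orderOf h ∣ n := orderOf_dvd_of_pow_eq_one hn
  have h2 : orderOf h ∣ Nat.card H := orderOf_dvd_natCard h
  have h3 : orderOf h ∣ Nat.gcd (Nat.card H) n := Nat.dvd_gcd h2 h1
  rw [Nat.Coprime.gcd_eq_one hc, Nat.dvd_one] at h3
  exact orderOf_eq_one_iff.1 h3

/-- the same inside a finite subgroup -/
theorem CT_eq_one_of_mem {H : Type*} [Group H] (K : Subgroup H) [Finite K] {h : H} (hh : h ∈ K)
    {n : ℕ} (hn : h ^ n = 1) (hc : (Nat.card K).Coprime n) : h = 1 := by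
  have : (⟨h, hh⟩ : K) = 1 := by
    apply CT_eq_one (n := n) _ hc
    apply Subtype.ext
    rw [Subgroup.coe_pow]
    exact hn
  exact congrArg Subtype.val this

variable {G : Type u} [Group G]

/-- (CT) the centralizer trick. -/
theorem not_dvd_card_of_invariant [Finite G] {x : G} (hx : SC G x)
    (hnil : ∀ P : Subgroup G, (Nat.card P).Coprime 3 → (∀ p ∈ P, x * p * x⁻¹ ∈ P) →
      Group.IsNilpotent P)
    (N : Subgroup G) [N.Normal] (hN3 : (Nat.card N).Coprime 3) (hsimple : IsSimpleGroup (G ⧸ N))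
    (r : ℕ) (hr : r.Prime) (Y : Subgroup (G ⧸ N)) (hY1 : Y ≠ ⊥)
    (hYx : ∀ y ∈ Y, (QuotientGroup.mk x : G ⧸ N) * y * (QuotientGroup.mk x : G ⧸ N)⁻¹ ∈ Y)
    (hYc : (Nat.card Y).Coprime (3 * r)) : ¬ r ∣ Nat.card N := by
  intro hrN
  have hfr : Fact r.Prime := ⟨hr⟩
  have hY3 : (Nat.card Y).Coprime 3 := Nat.Coprime.coprime_dvd_right (dvd_mul_right 3 r) hYc
  have hYr : (Nat.card Y).Coprime r := Nat.Coprime.coprime_dvd_right (dvd_mul_left r 3) hYc
  have hr3 : r ≠ 3 := by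
    rintro rfl
    have := (Nat.Coprime.symm hN3).eq_one_of_dvd hrN
    norm_num at this
  -- the set `S` of elements of order `r` of `N` and its centralizer
  obtain ⟨S, hS⟩ : ∃ S : Set G, S = {s | s ∈ N ∧ orderOf s = r} := ⟨_, rfl⟩
  have hSconj : ∀ (g s : G), s ∈ S → g * s * g⁻¹ ∈ S := by
    intro g s hs
    rw [hS] at hs ⊢
    refine ⟨‹N.Normal›.conj_mem s hs.1 g, ?_⟩
    have := (MulAut.conj g).orderOf_eq s
    rw [MulAut.conj_apply] at this
    rw [this, hs.2]
  have hCn : (Subgroup.centralizer S).Normal := by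
    constructor
    intro c hc g
    rw [Subgroup.mem_centralizer_iff] at hc ⊢
    intro s hs
    have hs' : g⁻¹ * s * g⁻¹⁻¹ ∈ S := hSconj g⁻¹ s hs
    rw [inv_inv] at hs'
    have e := hc _ hs'
    calc s * (g * c * g⁻¹) = g * ((g⁻¹ * s * g) * c) * g⁻¹ := by group
      _ = g * (c * (g⁻¹ * s * g)) * g⁻¹ := by rw [e]
      _ = g * c * g⁻¹ * s := by group
  -- the preimage `P` of `Y`
  obtain ⟨P, hP⟩ : ∃ P : Subgroup G, P = Y.comap (QuotientGroup.mk' N) := ⟨_, rfl⟩
  have hmemP : ∀ g : G, g ∈ P ↔ (QuotientGroup.mk g : G ⧸ N) ∈ Y := by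
    intro g; rw [hP]; rfl
  have hNP : N ≤ P := by
    intro n hn
    rw [hmemP, (QuotientGroup.eq_one_iff n).2 hn]
    exact Y.one_mem
  -- elements of `P` of order dividing 3 are trivial
  have hP3' : ∀ g ∈ P, g ^ 3 = 1 → g = 1 := by
    intro g hg h3
    have h1 : (QuotientGroup.mk g : G ⧸ N) = 1 := by
      apply CT_eq_one_of_mem Y ((hmemP g).1 hg) (n := 3) _ hY3
      rw [← QuotientGroup.mk_pow, h3]
      rfl
    have hgN : g ∈ N := (QuotientGroup.eq_one_iff g).1 h1
    exact CT_eq_one_of_mem N hgN h3 hN3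
  have hP3 : (Nat.card P).Coprime 3 := by
    rw [Nat.coprime_comm, Nat.Prime.coprime_iff_not_dvd Nat.prime_three]
    intro h3
    have : Fact (Nat.Prime 3) := ⟨Nat.prime_three⟩
    obtain ⟨g, hg⟩ := exists_prime_orderOf_dvd_card' (G := ↥P) 3 h3
    have hg3 : (g : G) ^ 3 = 1 := by
      rw [← Subgroup.coe_pow, ← hg, pow_orderOf_eq_one]
      rfl
    have := hP3' g g.2 hg3
    have hg1 : g = 1 := Subtype.ext this
    rw [hg1, orderOf_one] at hg
    norm_num at hg
  have hPinv : ∀ q ∈ P, x * q * x⁻¹ ∈ P := by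
    intro q hq
    rw [hmemP] at hq ⊢
    have := hYx _ hq
    rwa [← QuotientGroup.mk_mul, ← QuotientGroup.mk_inv, ← QuotientGroup.mk_mul] at this
  have hPnil : Group.IsNilpotent P := hnil P hP3 hPinv
  -- a nontrivial element of `Y` and a lift
  obtain ⟨y, hyY, hy1⟩ : ∃ y ∈ Y, y ≠ 1 := by
    by_contra h
    push Not at h
    exact hY1 ((Subgroup.eq_bot_iff_forall Y).2 h)
  obtain ⟨g, rfl⟩ := QuotientGroup.mk_surjective y
  have hgP : g ∈ P := (hmemP g).2 hyY
  obtain ⟨a, ha⟩ : ∃ a : ℕ, a = (orderOf g).factorization r := ⟨_, rfl⟩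
  have hopos : orderOf g ≠ 0 := (orderOf_pos g).ne'
  have hdvd : r ^ a ∣ orderOf g := by rw [ha]; exact Nat.ordProj_dvd (orderOf g) r
  have hg'P : g ^ (r ^ a) ∈ P := P.pow_mem hgP _
  have hg'o : (orderOf (g ^ (r ^ a))).Coprime r := by
    have h1 : (g ^ (r ^ a)) ^ (orderOf g / r ^ a) = 1 := by
      rw [← pow_mul, Nat.mul_div_cancel' hdvd, pow_orderOf_eq_one]
    have h2 : orderOf (g ^ (r ^ a)) ∣ orderOf g / r ^ a := orderOf_dvd_of_pow_eq_one h1
    have h3 : Nat.Coprime r (orderOf g / r ^ a) := by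
      rw [ha]; exact Nat.coprime_ordCompl hr hopos
    exact (Nat.Coprime.coprime_dvd_right h2 h3).symm
  have hg'N : g ^ (r ^ a) ∉ N := by
    intro hmem
    have h1 : ((QuotientGroup.mk g : G ⧸ N)) ^ (r ^ a) = 1 := by
      rw [← QuotientGroup.mk_pow]
      exact (QuotientGroup.eq_one_iff _).2 hmem
    exact hy1 (CT_eq_one_of_mem Y hyY h1 (Nat.Coprime.pow_right a hYr))
  -- `g'` centralizes `S`
  have hg'C : g ^ (r ^ a) ∈ Subgroup.centralizer S := by
    rw [Subgroup.mem_centralizer_iff]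
    intro s hs
    rw [hS] at hs
    have hco : (orderOf (⟨s, hNP hs.1⟩ : P)).Coprime (orderOf (⟨g ^ (r ^ a), hg'P⟩ : P)) := by
      rw [Subgroup.orderOf_mk, Subgroup.orderOf_mk, hs.2]
      exact hg'o.symm
    have hcomm := Cfsg.Agent.Helper65.commute_of_coprime_orderOf ↥P _ _ hco
    exact congrArg Subtype.val hcomm.eq
  -- the image of the centralizer in `G ⧸ N` is everything
  have hKn : ((Subgroup.centralizer S).map (QuotientGroup.mk' N)).Normal :=
    hCn.map _ (QuotientGroup.mk'_surjective N)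
  have hKtop : (Subgroup.centralizer S).map (QuotientGroup.mk' N) = ⊤ := by
    rcases hKn.eq_bot_or_eq_top with h | h
    · exfalso
      have hm : (QuotientGroup.mk' N) (g ^ (r ^ a)) ∈
          (Subgroup.centralizer S).map (QuotientGroup.mk' N) := Subgroup.mem_map_of_mem _ hg'C
      rw [h, Subgroup.mem_bot] at hm
      exact hg'N ((QuotientGroup.eq_one_iff _).1 hm)
    · exact h
  -- `N → G ⧸ C` is onto
  have hsurj : Function.Surjective
      ((QuotientGroup.mk' (Subgroup.centralizer S)).comp N.subtype) := by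
    intro q
    obtain ⟨g₀, rfl⟩ := QuotientGroup.mk_surjective q
    have hm : (QuotientGroup.mk' N) g₀ ∈ (Subgroup.centralizer S).map (QuotientGroup.mk' N) := by
      rw [hKtop]; exact Subgroup.mem_top _
    obtain ⟨c, hcC, hcg⟩ := hm
    have hn : c⁻¹ * g₀ ∈ N := by
      have : (QuotientGroup.mk c : G ⧸ N) = QuotientGroup.mk g₀ := hcg
      exact QuotientGroup.eq.1 this
    refine ⟨⟨c⁻¹ * g₀, hn⟩, ?_⟩
    show (QuotientGroup.mk (c⁻¹ * g₀) : G ⧸ Subgroup.centralizer S) = QuotientGroup.mk g₀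
    rw [QuotientGroup.mk_mul, (QuotientGroup.eq_one_iff c⁻¹).2 (inv_mem hcC), one_mul]
  have hQ3 : (Nat.card (G ⧸ Subgroup.centralizer S)).Coprime 3 :=
    Nat.Coprime.coprime_dvd_left (Subgroup.card_dvd_of_surjective _ hsurj) hN3
  -- `x` centralizes `S`
  have hxC : x ∈ Subgroup.centralizer S := by
    have h1 : (QuotientGroup.mk x : G ⧸ Subgroup.centralizer S) = 1 := by
      apply CT_eq_one (n := 3) _ hQ3
      rw [← QuotientGroup.mk_pow, ← hx.1, pow_orderOf_eq_one]
      rfl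
    exact (QuotientGroup.eq_one_iff x).1 h1
  -- Cauchy in `N`
  obtain ⟨s, hs⟩ := exists_prime_orderOf_dvd_card' (G := ↥N) r hrN
  have hsS : (s : G) ∈ S := by
    rw [hS]
    exact ⟨s.2, by rw [Subgroup.orderOf_coe, hs]⟩
  have hcomm : (s : G) * x = x * (s : G) := (Subgroup.mem_centralizer_iff.1 hxC) _ hsS
  have hsx : (s : G) ∈ Subgroup.zpowers x := by
    rw [← hx.2, Subgroup.mem_centralizer_iff]
    intro h hh
    rw [Set.mem_singleton_iff] at hh
    rw [hh]
    exact hcomm.symm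
  have hd : orderOf (s : G) ∣ orderOf x := orderOf_dvd_of_mem_zpowers hsx
  rw [Subgroup.orderOf_coe, hs, hx.1] at hd
  exact hr3 ((Nat.prime_dvd_prime_iff_eq hr Nat.prime_three).1 hd)

end Cfsg.Agent.Helper50.SC3R
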