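import Cfsg.Agent.Helper95.Hig.Basic
import Cfsg.Prelude.Def_Transfer
import Cfsg.Prelude.Def_BaumannBlocks
import Cfsg.Agent.Helper5.PSL2Simple

/-!
# S3050 farm (helper95), piece (SIM)
-/

set_option autoImplicit false

namespace Cfsg.Agent.Helper50.Hig

open Cfsg.Agent.Helper40.SL2Hom Cfsg.Agent.Helper95.Hig

universe u v

section sl
variable {K : Type u} [Field K]

/-- in characteristic 2 the centre of `SL₂(K)` is trivial -/
theorem SIM_center_eq_bot [CharP K 2] : Subgroup.center (SL2 K) = ⊥ := by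
  rw [eq_bot_iff]
  intro A hA
  rw [Matrix.SpecialLinearGroup.mem_center_iff] at hA
  obtain ⟨r, hr, hA⟩ := hA
  rw [Fintype.card_fin] at hr
  have hr1 : r = 1 := by
    have h2 : (r - 1) ^ 2 = 0 := by
      have e : (r - 1) ^ 2 = r ^ 2 - 2 * r + 1 := by ring
      have h20 : (2 : K) = 0 := CharTwo.two_eq_zero
      rw [e, hr, h20]
      ring_nf
      exact CharTwo.two_eq_zero
    have := pow_eq_zero_iff (M₀ := K) (a := r - 1) (n := 2) (by norm_num)
    exact sub_eq_zero.1 (this.1 h2)
  rw [Subgroup.mem_bot]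
  apply Subtype.ext
  rw [← hA, hr1, map_one]
  rfl

/-- (SIM) -/
theorem sim [Finite K] [CharP K 2] (hK : 4 ≤ Nat.card K) : IsSimpleGroup (SL2 K) := by
  have : Fintype K := Fintype.ofFinite K
  rw [Nat.card_eq_fintype_card] at hK
  have hs : IsSimpleGroup (Matrix.ProjectiveSpecialLinearGroup (Fin 2) K) :=
    Cfsg.Agent.Helper5.isSimpleGroup_PSL2_of_card hK
  have hbij : Function.Bijective
      (QuotientGroup.mk' (Subgroup.center (SL2 K))) := by
    constructor
    · rw [← MonoidHom.ker_eq_bot_iff, QuotientGroup.ker_mk', SIM_center_eq_bot]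
    · exact QuotientGroup.mk'_surjective _
  exact (MulEquiv.ofBijective (QuotientGroup.mk' (Subgroup.center (SL2 K))) hbij).isSimpleGroup

end sl

end Cfsg.Agent.Helper50.Hig
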