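import Cfsg.Agent.Helper95.Hig.Basic
import Cfsg.Prelude.Def_Transfer
import Cfsg.Prelude.Def_BaumannBlocks

/-!
# S3050 farm (helper95), piece (CHR)
-/

set_option autoImplicit false

namespace Cfsg.Agent.Helper50.Hig

open Cfsg.Agent.Helper40.SL2Hom Cfsg.Agent.Helper95.Hig

universe u v

section sl
variable {K : Type u} [Field K]

/-- (CHR) the characteristic `p` of a finite field satisfies `card K = p ^ m`; compare with `2 ^ n`. -/
theorem chr [Fintype K] (n : ℕ) (hn : 1 ≤ n) (hK : Fintype.card K = 2 ^ n) : CharP K 2 := by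
  have h0 : ((Fintype.card K : ℕ) : K) = 0 := Nat.cast_card_eq_zero K
  rw [hK, Nat.cast_pow] at h0
  have h2 : ((2 : ℕ) : K) = 0 := by
    have := pow_eq_zero_iff (M₀ := K) (a := ((2 : ℕ) : K)) (n := n) (by omega)
    exact this.1 h0
  have h2' : (2 : K) = 0 := by exact_mod_cast h2
  exact CharTwo.of_one_ne_zero_of_two_eq_zero one_ne_zero h2'

end sl

end Cfsg.Agent.Helper50.Hig
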