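import Cfsg.Agent.Helper20.U11.Cfg

/-!
# (V3), (V4) of helper20's WANTED #4781 for S0420 (uniqueness of M11 by order) (helper50)
-/

set_option autoImplicit false
set_option linter.unusedSectionVars false

namespace Cfsg.Agent.Helper50.M11V34

open Cfsg Subgroup Cfsg.Agent.Helper20.U11

universe u

section general

variable {G : Type u} [Group G]

/-- an element conjugating `y` into `⟨y⟩` normalizes `⟨y⟩` (finite group) -/
theorem mem_normalizer_zpowers [Finite G] {g y : G} (h : g * y * g⁻¹ ∈ zpowers y) :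
    g ∈ normalizer ((zpowers y : Subgroup G) : Set G) := by
  apply Subgroup.mem_normalizer_fintype
  intro n hn
  obtain ⟨i, rfl⟩ := Subgroup.mem_zpowers_iff.mp hn
  show g * y ^ i * g⁻¹ ∈ zpowers y
  rw [← conj_zpow]
  exact (zpowers y).zpow_mem h i

/-- `g` normalizes `⟨y⟩`, `y` of prime order `p`, `g ^ n = 1`, and `k ^ n = 1 → k = 1` in `ZMod p`:
then `g` commutes with `y`. -/
theorem commute_of_conj_mem_zpowers [Finite G] {g y : G} {p n : ℕ} [Fact p.Prime] (hy : orderOf y = p)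
    (hg : g ^ n = 1) (hconj : g * y * g⁻¹ ∈ zpowers y)
    (harith : ∀ k : ZMod p, k ^ n = 1 → k = 1) : Commute g y := by
  obtain ⟨k, hk⟩ := (mem_powers_iff_mem_zpowers.mpr hconj)
  have hk' : g * y * g⁻¹ = y ^ k := hk.symm
  have h1 := conj_pow_eq hk' n
  rw [hg, one_mul, inv_one, mul_one] at h1
  -- `y = y ^ (k ^ n)`
  have h2 : y ^ 1 = y ^ (k ^ n) := by rw [pow_one]; exact h1
  rw [pow_eq_pow_iff_modEq, hy] at h2
  have h3 : ((k ^ n : ℕ) : ZMod p) = ((1 : ℕ) : ZMod p) := ((ZMod.natCast_eq_natCast_iff _ _ _).mpr h2).symm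
  rw [Nat.cast_pow, Nat.cast_one] at h3
  have h4 := harith _ h3
  have h5 : k ≡ 1 [MOD p] := by
    rw [← ZMod.natCast_eq_natCast_iff, Nat.cast_one]
    exact h4
  have h6 : y ^ k = y ^ 1 := by
    rw [pow_eq_pow_iff_modEq, hy]
    exact h5
  rw [pow_one] at h6
  rw [h6] at hk'
  -- `g * y * g⁻¹ = y`
  show g * y = y * g
  calc g * y = (g * y * g⁻¹) * g := by group
    _ = y * g := by rw [hk']

end general

theorem zmod5_pow5 : ∀ k : ZMod 5, k ^ 5 = 1 → k = 1 := by decide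

theorem zmod5_pow11 : ∀ k : ZMod 5, k ^ 11 = 1 → k = 1 := by decide

theorem zmod11_pow11 : ∀ k : ZMod 11, k ^ 11 = 1 → k = 1 := by decide

variable {G : Type u} [Group G] [Fintype G] [IsSimpleGroup G]

/-- the order of an element of `N(⟨x⟩)` is `1`, `5` or `11` -/
theorem orderOf_mem_normalizer11 (h : Nat.card G = 7920) {x : G} (hx : orderOf x = 11) {b : G}
    (hb : b ∈ normalizer ((zpowers x : Subgroup G) : Set G)) :
    orderOf b = 1 ∨ orderOf b = 5 ∨ orderOf b = 11 := by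
  have hN := card_normalizer11 h hx
  have h1 : orderOf b ∣ 55 := by
    have := Subgroup.orderOf_dvd_natCard (normalizer ((zpowers x : Subgroup G) : Set G)) hb
    rwa [hN] at this
  have h2 := orderOf_restrict h b
  have h3 : orderOf b ∈ Nat.divisors 55 := Nat.mem_divisors.mpr ⟨h1, by norm_num⟩
  have h4 : Nat.divisors 55 = {1, 5, 11, 55} := by decide
  rw [h4] at h3
  simp only [Finset.mem_insert, Finset.mem_singleton] at h3
  rcases h3 with h3 | h3 | h3 | h3
  · exact Or.inl h3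
  · exact Or.inr (Or.inl h3)
  · exact Or.inr (Or.inr h3)
  · exfalso
    have := h2.2.1 (by rw [h3]; norm_num)
    omega

/-- `N_B(⟨v⟩) = ⟨v⟩` for `B = N(⟨x⟩)` -/
theorem mem_zpowers5_of_normalizes (h : Nat.card G = 7920) {x v : G} (hx : orderOf x = 11)
    (hv : orderOf v = 5) {b : G} (hb : b ∈ normalizer ((zpowers x : Subgroup G) : Set G))
    (hbv : b * v * b⁻¹ ∈ zpowers v) : b ∈ zpowers v := by
  have : Fact (Nat.Prime 5) := ⟨by norm_num⟩
  apply mem_zpowers_of_commute5 h hv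
  rcases orderOf_mem_normalizer11 h hx hb with ho | ho | ho
  · have : b = 1 := orderOf_eq_one_iff.mp ho
    rw [this]
    exact Commute.one_left v
  · refine commute_of_conj_mem_zpowers (p := 5) (n := 5) hv ?_ hbv zmod5_pow5
    rw [← ho]; exact pow_orderOf_eq_one b
  · refine commute_of_conj_mem_zpowers (p := 5) (n := 11) hv ?_ hbv zmod5_pow11
    rw [← ho]; exact pow_orderOf_eq_one b

/-- an element of order `11` of `N(⟨x⟩)` lies in `⟨x⟩` -/
theorem mem_zpowers11_of_order (h : Nat.card G = 7920) {x y : G} (hx : orderOf x = 11)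
    (hy : orderOf y = 11) (hyB : y ∈ normalizer ((zpowers x : Subgroup G) : Set G)) : y ∈ zpowers x := by
  have : Fact (Nat.Prime 11) := ⟨by norm_num⟩
  apply mem_zpowers_of_commute11 h hx
  have hconj : y * x * y⁻¹ ∈ zpowers x :=
    (Subgroup.mem_normalizer_iff.mp hyB x).mp (Subgroup.mem_zpowers x)
  refine commute_of_conj_mem_zpowers (p := 11) (n := 11) hx ?_ hconj zmod11_pow11
  rw [← hy]; exact pow_orderOf_eq_one y

section main

variable (h : Nat.card G = 7920) {x v c : G} (hx : orderOf x = 11) (hv : orderOf v = 5)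
  (hc : orderOf c = 4) (hvx : v * x * v⁻¹ = x ^ 3) (hcv : c * v * c⁻¹ = v ^ 2)

include hc in
theorem w_sq : c ^ 2 * c ^ 2 = 1 := by
  rw [← pow_add]
  show c ^ 4 = 1
  rw [← hc]
  exact pow_orderOf_eq_one c

include hc in
theorem w_inv : (c ^ 2)⁻¹ = c ^ 2 := inv_eq_of_mul_eq_one_right (w_sq hc)

include hv hcv in
/-- `w = c²` inverts `v` -/
theorem w_conj_v : c ^ 2 * v * (c ^ 2)⁻¹ = v⁻¹ := by
  have h1 := conj_pow_eq hcv 2
  rw [h1]
  have : v ^ (2 ^ 2) * v = 1 := by
    rw [← pow_succ]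
    show v ^ 5 = 1
    rw [← hv]
    exact pow_orderOf_eq_one v
  exact eq_inv_of_mul_eq_one_left this

include hv hcv in
theorem w_conj_zpow (j : ℤ) : c ^ 2 * v ^ j * (c ^ 2)⁻¹ = (v ^ j)⁻¹ := by
  rw [← conj_zpow, w_conj_v hv hcv, inv_zpow]

omit [IsSimpleGroup G] in
include hvx in
theorem v_mem_normalizer : v ∈ normalizer ((zpowers x : Subgroup G) : Set G) := by
  apply mem_normalizer_zpowers
  rw [hvx]
  exact (zpowers x).pow_mem (Subgroup.mem_zpowers x) 3

include h hx hc in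
theorem w_not_mem : c ^ 2 ∉ normalizer ((zpowers x : Subgroup G) : Set G) := by
  intro hw
  have ho : orderOf (c ^ 2) = 2 := by
    rw [orderOf_pow' c (by norm_num : (2 : ℕ) ≠ 0), hc]
    rfl
  rcases orderOf_mem_normalizer11 h hx hw with h1 | h1 | h1 <;> omega

include h hx hv hc hvx hcv in
theorem normalizer11_inf_conj (b : G) (hb : b ∈ normalizer ((zpowers x : Subgroup G) : Set G)) :
    (c ^ 2)⁻¹ * b * c ^ 2 ∈ normalizer ((zpowers x : Subgroup G) : Set G) ↔ b ∈ zpowers v := by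
  set B : Subgroup G := normalizer ((zpowers x : Subgroup G) : Set G) with hB
  have hvB : v ∈ B := v_mem_normalizer hvx
  have hwinv := w_inv hc
  constructor
  · intro hconj
    by_contra hbv
    -- `D = B ∩ w B w⁻¹`
    let D : Subgroup G := B ⊓ B.comap (MulAut.conj (c ^ 2)⁻¹).toMonoidHom
    have hDmem : ∀ g : G, g ∈ D ↔ g ∈ B ∧ (c ^ 2)⁻¹ * g * c ^ 2 ∈ B := by
      intro g
      show g ∈ B ∧ (c ^ 2)⁻¹ * g * (c ^ 2)⁻¹⁻¹ ∈ B ↔ _
      rw [inv_inv]
    have hbD : b ∈ D := (hDmem b).mpr ⟨hb, hconj⟩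
    have hvD : zpowers v ≤ D := by
      rw [Subgroup.zpowers_le, hDmem]
      refine ⟨hvB, ?_⟩
      have h1 := w_conj_v hv hcv
      rw [hwinv] at h1 ⊢
      rw [h1]
      exact B.inv_mem hvB
    have hDB : D ≤ B := inf_le_left
    have hcardB : Nat.card B = 55 := card_normalizer11 h hx
    have hcardv : Nat.card (zpowers v) = 5 := by rw [Nat.card_zpowers, hv]
    have h5D : 5 ∣ Nat.card D := by
      rw [← hcardv]; exact Subgroup.card_dvd_of_le hvD
    have hD55 : Nat.card D ∣ 55 := by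
      rw [← hcardB]; exact Subgroup.card_dvd_of_le hDB
    have hDne5 : Nat.card D ≠ 5 := by
      intro h5
      have : zpowers v = D := Subgroup.eq_of_le_of_card_ge hvD (by rw [h5, hcardv])
      exact hbv (this ▸ hbD)
    have hD : Nat.card D = 55 := by
      have h3 : Nat.card D ∈ Nat.divisors 55 := Nat.mem_divisors.mpr ⟨hD55, by norm_num⟩
      have h4 : Nat.divisors 55 = {1, 5, 11, 55} := by decide
      rw [h4] at h3
      simp only [Finset.mem_insert, Finset.mem_singleton] at h3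
      rcases h3 with h3 | h3 | h3 | h3
      · rw [h3] at h5D; omega
      · exact absurd h3 hDne5
      · rw [h3] at h5D; omega
      · exact h3
    have hDeq : D = B := Subgroup.eq_of_le_of_card_ge hDB (by rw [hD, hcardB])
    have hxB : x ∈ B := Subgroup.le_normalizer (Subgroup.mem_zpowers x)
    have hxD : x ∈ D := hDeq ▸ hxB
    have hy := ((hDmem x).mp hxD).2
    -- `y = w⁻¹ x w` has order 11 and lies in `B`, so in `⟨x⟩`
    have hyo : orderOf ((c ^ 2)⁻¹ * x * c ^ 2) = 11 := by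
      have h1 : orderOf (MulAut.conj (c ^ 2)⁻¹ x) = orderOf x := MulEquiv.orderOf_eq _ _
      rw [MulAut.conj_apply, inv_inv, hx] at h1
      exact h1
    have hyx := mem_zpowers11_of_order h hx hyo hy
    have hwB : (c ^ 2)⁻¹ ∈ B := by
      apply mem_normalizer_zpowers
      rw [inv_inv]
      exact hyx
    rw [hwinv] at hwB
    exact w_not_mem h hx hc hwB
  · intro hbv
    obtain ⟨j, rfl⟩ := Subgroup.mem_zpowers_iff.mp hbv
    have h1 := w_conj_zpow hv hcv j
    rw [hwinv] at h1 ⊢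
    rw [h1]
    exact B.inv_mem (B.zpow_mem hvB j)

include h hx hv hc hvx hcv in
theorem c_not_mem_double_coset : c ∉ normalizer ((zpowers x : Subgroup G) : Set G) ∧
    ∀ b1 ∈ normalizer ((zpowers x : Subgroup G) : Set G),
      ∀ b2 ∈ normalizer ((zpowers x : Subgroup G) : Set G), c ≠ b1 * c ^ 2 * b2 := by
  set B : Subgroup G := normalizer ((zpowers x : Subgroup G) : Set G) with hB
  have hvB : v ∈ B := v_mem_normalizer hvx
  have hwinv := w_inv hc
  refine ⟨?_, ?_⟩
  · intro hcB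
    rcases orderOf_mem_normalizer11 h hx hcB with h1 | h1 | h1 <;> omega
  · intro b1 hb1 b2 hb2 hcb
    -- `w (b2 v b2⁻¹) w⁻¹ = b1⁻¹ v² b1`
    have hkey : c ^ 2 * (b2 * v * b2⁻¹) * (c ^ 2)⁻¹ = b1⁻¹ * v ^ 2 * b1 := by
      have h1 : c * v * c⁻¹ = b1 * (c ^ 2 * (b2 * v * b2⁻¹) * (c ^ 2)⁻¹) * b1⁻¹ := by
        conv_lhs => rw [hcb]
        group
      rw [hcv] at h1
      rw [h1]
      group
    have hbbB : b2 * v * b2⁻¹ ∈ B := B.mul_mem (B.mul_mem hb2 hvB) (B.inv_mem hb2)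
    have hrhsB : b1⁻¹ * v ^ 2 * b1 ∈ B :=
      B.mul_mem (B.mul_mem (B.inv_mem hb1) (B.pow_mem hvB 2)) hb1
    have h2 : (c ^ 2)⁻¹ * (b2 * v * b2⁻¹) * c ^ 2 ∈ B := by
      have : (c ^ 2)⁻¹ * (b2 * v * b2⁻¹) * c ^ 2 = c ^ 2 * (b2 * v * b2⁻¹) * (c ^ 2)⁻¹ := by
        rw [hwinv]
      rw [this, hkey]
      exact hrhsB
    have h3 : b2 * v * b2⁻¹ ∈ zpowers v :=
      (normalizer11_inf_conj h hx hv hc hvx hcv _ hbbB).mp h2
    have hb2v : b2 ∈ zpowers v := mem_zpowers5_of_normalizes h hx hv hb2 h3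
    -- the right hand side lies in `⟨v⟩`
    have h4 : b1⁻¹ * v ^ 2 * b1 ∈ zpowers v := by
      rw [← hkey]
      obtain ⟨j, hj⟩ := Subgroup.mem_zpowers_iff.mp h3
      rw [← hj, w_conj_zpow hv hcv j]
      exact (zpowers v).inv_mem ((zpowers v).zpow_mem (Subgroup.mem_zpowers v) j)
    have h5 : b1⁻¹ * v * b1⁻¹⁻¹ ∈ zpowers v := by
      have hv6 : v = (v ^ 2) ^ 3 := by
        rw [← pow_mul]
        show v = v ^ (5 + 1)
        rw [pow_succ, ← hv, pow_orderOf_eq_one, one_mul]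
      have : b1⁻¹ * v * b1⁻¹⁻¹ = (b1⁻¹ * v ^ 2 * b1) ^ 3 := by
        rw [inv_inv]
        conv_lhs => rw [hv6]
        have : b1⁻¹ * v ^ 2 * b1 = b1⁻¹ * v ^ 2 * b1⁻¹⁻¹ := by rw [inv_inv]
        rw [this, conj_pow, inv_inv]
      rw [this]
      exact (zpowers v).pow_mem h4 3
    have hb1v : b1 ∈ zpowers v := by
      have := mem_zpowers5_of_normalizes h hx hv (B.inv_mem hb1) h5
      exact (Subgroup.inv_mem_iff (zpowers v)).mp this
    -- `c = v^i w v^j = w v^(j-i)`
    obtain ⟨i, rfl⟩ := Subgroup.mem_zpowers_iff.mp hb1v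
    obtain ⟨j, rfl⟩ := Subgroup.mem_zpowers_iff.mp hb2v
    have hw2 := w_sq hc
    have h6 : v ^ i * c ^ 2 = c ^ 2 * (v ^ i)⁻¹ := by
      have h61 := w_conj_zpow hv hcv i
      rw [hwinv] at h61
      calc v ^ i * c ^ 2 = (c ^ 2 * c ^ 2) * v ^ i * c ^ 2 := by rw [hw2, one_mul]
        _ = c ^ 2 * (c ^ 2 * v ^ i * c ^ 2) := by simp only [mul_assoc]
        _ = c ^ 2 * (v ^ i)⁻¹ := by rw [h61]
    have h7 : c * ((v ^ i)⁻¹ * v ^ j) = 1 := by
      have : c * (c * ((v ^ i)⁻¹ * v ^ j)) = c * 1 := by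
        rw [mul_one]
        conv_rhs => rw [hcb, h6]
        rw [pow_two]
        group
      exact mul_left_cancel this
    have h8 : c ∈ zpowers v := by
      have : c = ((v ^ i)⁻¹ * v ^ j)⁻¹ := eq_inv_of_mul_eq_one_left h7
      rw [this]
      exact (zpowers v).inv_mem ((zpowers v).mul_mem
        ((zpowers v).inv_mem ((zpowers v).zpow_mem (Subgroup.mem_zpowers v) i))
        ((zpowers v).zpow_mem (Subgroup.mem_zpowers v) j))
    have h9 : orderOf c ∣ 5 := by
      have := Subgroup.orderOf_dvd_natCard (zpowers v) h8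
      rwa [Nat.card_zpowers, hv] at this
    rw [hc] at h9
    omega

end main

end Cfsg.Agent.Helper50.M11V34
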