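import Mathlib

/-!
# (W1) of helper21's WANTED #5260 for S3797 (Thompson, 2-length 1): the parity lemma (helper50)
-/

set_option autoImplicit false

namespace Cfsg.Agent.Helper50.TH

open Subgroup

/-- a finite set with a fixed-point-free involution has even cardinality (in `ZMod 2`) -/
theorem card_eq_zero_of_involution {α : Type*} [DecidableEq α] (s : Finset α) (g : α → α)
    (hmap : ∀ a ∈ s, g a ∈ s) (hne : ∀ a ∈ s, g a ≠ a) (hinv : ∀ a ∈ s, g (g a) = a) :
    ((s.card : ℕ) : ZMod 2) = 0 := by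
  have h := Finset.sum_involution (s := s) (f := fun _ => (1 : ZMod 2)) (fun a _ => g a)
    (fun a _ => by decide) (fun a ha _ => hne a ha) (fun a ha => hmap a ha) (fun a ha => hinv a ha)
  simpa using h

/-- (W1) parity: `V \ 1` (`V ≠ 1` of exponent 2) cannot be partitioned into `≥ 2` blocks of equal size such
that the product of two elements from different blocks lies in one of the two blocks. -/
theorem parity_false {G : Type*} [Group G] (V : Subgroup G) [Finite V] (hV : ∀ v ∈ V, v ^ 2 = 1)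
    (hnt : V ≠ ⊥)
    {ι : Type*} [Finite ι] (Θ : ι → Set G)
    (hsub : ∀ i, ∀ v ∈ Θ i, v ∈ V ∧ v ≠ 1)
    (hdisj : ∀ i j, i ≠ j → ∀ v ∈ Θ i, v ∉ Θ j)
    (hcover : ∀ v ∈ V, v ≠ 1 → ∃ i, v ∈ Θ i)
    (hcard : ∀ i j, Nat.card (Θ i) = Nat.card (Θ j))
    (hclos : ∀ i j, i ≠ j → ∀ a ∈ Θ i, ∀ b ∈ Θ j, a * b ∈ Θ i ∨ a * b ∈ Θ j)
    (i₀ i₁ : ι) (hne : i₀ ≠ i₁) : False := by
  classical
  have instι := Fintype.ofFinite ι
  have hVfin : (V : Set G).Finite := Set.toFinite _
  have hΘfin : ∀ i, (Θ i).Finite := fun i => hVfin.subset (fun v hv => (hsub i v hv).1)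
  let T : ι → Finset G := fun i => (hΘfin i).toFinset
  have hT : ∀ i v, v ∈ T i ↔ v ∈ Θ i := fun i v => Set.Finite.mem_toFinset _
  have hTcard : ∀ i j, (T i).card = (T j).card := by
    intro i j
    have h1 : ∀ k, (T k).card = Nat.card (Θ k) := by
      intro k
      rw [Nat.card_coe_set_eq, Set.ncard_eq_toFinset_card (Θ k) (hΘfin k)]
    rw [h1, h1, hcard i j]
  set s := (T i₀).card with hs
  -- `|V|` is even
  have hVeven : Even (Nat.card V) := by
    obtain ⟨v, hv, hv1⟩ := (Subgroup.ne_bot_iff_exists_ne_one).mp hnt |>.elim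
      (fun v hv => (⟨(v : G), v.2, fun h => hv (Subtype.ext h)⟩ : ∃ v : G, v ∈ V ∧ v ≠ 1))
    have ho : orderOf v = 2 := orderOf_eq_prime (hV v hv) hv1
    have := Subgroup.orderOf_dvd_natCard V hv
    rw [ho] at this
    exact even_iff_two_dvd.mpr this
  -- the partition
  let Vf : Finset G := hVfin.toFinset.erase 1
  have hVf : ∀ v, v ∈ Vf ↔ v ∈ V ∧ v ≠ 1 := by
    intro v
    simp only [Vf, Finset.mem_erase, Set.Finite.mem_toFinset, SetLike.mem_coe]
    tauto
  have hVfcard : Vf.card + 1 = Nat.card V := by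
    have h1 : (1 : G) ∈ hVfin.toFinset := by
      rw [Set.Finite.mem_toFinset]; exact V.one_mem
    have h2 := Finset.card_erase_add_one h1
    rw [h2]
    rw [← Set.ncard_eq_toFinset_card (V : Set G) hVfin, ← Nat.card_coe_set_eq]
    rfl
  have hunion : Vf = Finset.univ.biUnion T := by
    ext v
    rw [hVf, Finset.mem_biUnion]
    constructor
    · rintro ⟨hv, hv1⟩
      obtain ⟨i, hi⟩ := hcover v hv hv1
      exact ⟨i, Finset.mem_univ _, (hT i v).mpr hi⟩
    · rintro ⟨i, -, hi⟩
      exact hsub i v ((hT i v).mp hi)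
  have hcount : Vf.card = Fintype.card ι * s := by
    rw [hunion, Finset.card_biUnion]
    · rw [Finset.sum_congr rfl (fun i _ => hTcard i i₀), Finset.sum_const, Finset.card_univ,
        smul_eq_mul]
    · intro i _ j _ hij
      show Disjoint (T i) (T j)
      rw [Finset.disjoint_left]
      intro v hvi hvj
      exact hdisj i j hij v ((hT i v).mp hvi) ((hT j v).mp hvj)
  have hsodd : Odd s := by
    have h1 : Odd (Vf.card) := by
      rcases hVeven with ⟨m, hm⟩
      refine ⟨m - 1, ?_⟩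
      omega
    rw [hcount] at h1
    exact (Nat.odd_mul.mp h1).2
  have hs2 : ((s : ℕ) : ZMod 2) = 1 := by
    rcases hsodd with ⟨m, hm⟩
    rw [hm]
    push_cast
    have : (2 : ZMod 2) = 0 := by decide
    rw [this, zero_mul, zero_add]
  -- squares and products in `V`
  have hsq : ∀ i, ∀ v ∈ T i, v * v = 1 := by
    intro i v hv
    have := hV v (hsub i v ((hT i v).mp hv)).1
    rwa [pow_two] at this
  have hne1 : ∀ i, ∀ v ∈ T i, v ≠ 1 := fun i v hv => (hsub i v ((hT i v).mp hv)).2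
  -- the double count in `ZMod 2`
  have hA : ∀ b ∈ T i₁, (((T i₀).filter (fun a => a * b ∈ T i₀)).card : ZMod 2) = 0 := by
    intro b hb
    apply card_eq_zero_of_involution _ (fun a => a * b)
    · intro a ha
      rw [Finset.mem_filter] at ha ⊢
      refine ⟨ha.2, ?_⟩
      rw [mul_assoc, hsq i₁ b hb, mul_one]
      exact ha.1
    · intro a _ h
      exact hne1 i₁ b hb (by simpa using h)
    · intro a _
      show a * b * b = a
      rw [mul_assoc, hsq i₁ b hb, mul_one]
  have hB : ∀ a ∈ T i₀, (((T i₁).filter (fun b => a * b ∈ T i₁)).card : ZMod 2) = 0 := by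
    intro a ha
    apply card_eq_zero_of_involution _ (fun b => a * b)
    · intro b hb
      rw [Finset.mem_filter] at hb ⊢
      refine ⟨hb.2, ?_⟩
      rw [← mul_assoc, hsq i₀ a ha, one_mul]
      exact hb.1
    · intro b _ h
      exact hne1 i₀ a ha (by simpa using h)
    · intro b _
      show a * (a * b) = b
      rw [← mul_assoc, hsq i₀ a ha, one_mul]
  have hsplit : ∀ a ∈ T i₀, ∀ b ∈ T i₁,
      (1 : ZMod 2) = (if a * b ∈ T i₀ then 1 else 0) + (if a * b ∈ T i₁ then 1 else 0) := by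
    intro a ha b hb
    rcases hclos i₀ i₁ hne a ((hT _ _).mp ha) b ((hT _ _).mp hb) with h | h
    · have h' : a * b ∉ T i₁ := fun h2 => hdisj i₀ i₁ hne _ h ((hT _ _).mp h2)
      rw [if_pos ((hT _ _).mpr h), if_neg h', add_zero]
    · have h' : a * b ∉ T i₀ := fun h2 => hdisj i₀ i₁ hne _ ((hT _ _).mp h2) h
      rw [if_neg h', if_pos ((hT _ _).mpr h), zero_add]
  have htotal : ((s * s : ℕ) : ZMod 2) = 0 := by
    have h1 : ((s * s : ℕ) : ZMod 2) = ∑ a ∈ T i₀, ∑ b ∈ T i₁, (1 : ZMod 2) := by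
      simp only [Finset.sum_const, nsmul_eq_mul, mul_one]
      rw [← hTcard i₀ i₁, ← hs, Nat.cast_mul]
    rw [h1]
    have h2 : ∑ a ∈ T i₀, ∑ b ∈ T i₁, (1 : ZMod 2) =
        ∑ a ∈ T i₀, ∑ b ∈ T i₁, ((if a * b ∈ T i₀ then (1 : ZMod 2) else 0) +
          (if a * b ∈ T i₁ then 1 else 0)) :=
      Finset.sum_congr rfl (fun a ha => Finset.sum_congr rfl (fun b hb => hsplit a ha b hb))
    rw [h2]
    simp only [Finset.sum_add_distrib]
    have h3 : ∑ a ∈ T i₀, ∑ b ∈ T i₁, (if a * b ∈ T i₀ then (1 : ZMod 2) else 0) = 0 := by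
      rw [Finset.sum_comm]
      apply Finset.sum_eq_zero
      intro b hb
      have h5 := hA b hb
      rw [Finset.card_filter, Nat.cast_sum] at h5
      simp only [Nat.cast_ite, Nat.cast_one, Nat.cast_zero] at h5
      exact h5
    have h4 : ∑ a ∈ T i₀, ∑ b ∈ T i₁, (if a * b ∈ T i₁ then (1 : ZMod 2) else 0) = 0 := by
      apply Finset.sum_eq_zero
      intro a ha
      have h5 := hB a ha
      rw [Finset.card_filter, Nat.cast_sum] at h5
      simp only [Nat.cast_ite, Nat.cast_one, Nat.cast_zero] at h5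
      exact h5
    rw [h3, h4, add_zero]
  rw [Nat.cast_mul, hs2, one_mul] at htotal
  exact one_ne_zero htotal

end Cfsg.Agent.Helper50.TH
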