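-- helper50 for helper21's S3797 (#5569): piece (P1a) `exists_scfg` (the set-up inside a minimal counterexample)
import Mathlib
import Cfsg.Agent.Helper21.THDefs2
import Cfsg.Agent.Helper70.PSolvable

set_option autoImplicit false

namespace Cfsg.Agent.Helper50.THP

open Subgroup Cfsg Cfsg.Agent.Helper21.TH Cfsg.Agent.Helper21.GY

universe u

variable {G : Type u} [Group G] [Finite G]

/-- (P1a) -/
theorem exists_scfg (hsol : Group.IsSolvable G) (h1 : OneClass G) (h2 : TwoInv G)
    (hO : pPrimeCore 2 G = ⊥) (hdvd : 2 ∣ (pCore 2 G).index) :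
    ∃ V T : Subgroup G, SCfg G V T := by
  classical
  have : Fact (Nat.Prime 2) := ⟨Nat.prime_two⟩
  have hG : IsPSolvable 2 G := Cfsg.Agent.Helper70.isPSolvable_of_isSolvable 2
  have hPp : IsPGroup 2 (pCore 2 G) := Cfsg.Agent.Lib.isPGroup_pCore 2
  have hCP := Cfsg.Agent.Helper11.centralizer_pCore_le_of_isPSolvable hG hO
  have hnot1 : ¬ 2 ∣ 1 := by decide
  have hne : pCore 2 G ≠ ⊥ := by
    intro h
    have htop : pCore 2 G = ⊤ := by
      rw [eq_top_iff]
      refine le_trans ?_ hCP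
      rw [h]
      intro g _
      rw [Subgroup.mem_centralizer_iff]
      intro y hy
      have : y = 1 := by simpa using hy
      rw [this]; simp
    rw [htop, Subgroup.index_top] at hdvd
    exact hnot1 hdvd
  -- a central involution of `P`
  have : Nontrivial ↥(pCore 2 G) := (Subgroup.nontrivial_iff_ne_bot _).mpr hne
  have hZ : Nontrivial (Subgroup.center ↥(pCore 2 G)) := hPp.center_nontrivial
  have hZp : IsPGroup 2 (Subgroup.center ↥(pCore 2 G)) := hPp.to_subgroup _
  have hdvdZ : 2 ∣ Nat.card (Subgroup.center ↥(pCore 2 G)) := by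
    obtain ⟨k, hk⟩ := IsPGroup.iff_card.mp hZp
    have h1 : 1 < Nat.card (Subgroup.center ↥(pCore 2 G)) := Finite.one_lt_card
    rw [hk] at h1 ⊢
    cases k with
    | zero => simp at h1
    | succ k => exact dvd_pow_self 2 (Nat.succ_ne_zero k)
  obtain ⟨z, hz⟩ := exists_prime_orderOf_dvd_card' (G := Subgroup.center ↥(pCore 2 G)) 2 hdvdZ
  set z0 : G := ((z : ↥(pCore 2 G)) : G) with hz0
  have hz0ord : orderOf z0 = 2 := by
    rw [hz0, Subgroup.orderOf_coe, Subgroup.orderOf_coe]; exact hz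
  have hz0P : z0 ∈ pCore 2 G := (z : ↥(pCore 2 G)).2
  have hz0c : ∀ y ∈ pCore 2 G, z0 * y = y * z0 := by
    intro y hy
    have h1 := (Subgroup.mem_center_iff.mp z.2) ⟨y, hy⟩
    have h2 := congrArg (Subtype.val) h1
    simpa using h2.symm
  have hz0ne : z0 ≠ 1 := by
    intro h
    rw [h, orderOf_one] at hz0ord
    omega
  have hz0sq : z0 ^ 2 = 1 := by
    rw [← hz0ord]; exact pow_orderOf_eq_one z0
  -- every involution is central in `P`
  have hcen : ∀ g : G, g ^ 2 = 1 → g ∈ pCore 2 G ∧ ∀ y ∈ pCore 2 G, g * y = y * g := by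
    intro g hg
    by_cases hg1 : g = 1
    · subst hg1
      exact ⟨Subgroup.one_mem _, fun y _ => by simp⟩
    · obtain ⟨c, hc⟩ := isConj_iff.1 (h1 z0 g hz0ne hz0sq hg1 hg)
      refine ⟨?_, ?_⟩
      · rw [← hc]
        exact (pCore_normal 2 G).conj_mem _ hz0P c
      · intro y hy
        have hy' : c⁻¹ * y * c ∈ pCore 2 G := by
          have := (pCore_normal 2 G).conj_mem _ hy c⁻¹
          simpa using this
        have h3 := hz0c _ hy'
        rw [← hc]
        calc c * z0 * c⁻¹ * y = c * (z0 * (c⁻¹ * y * c)) * c⁻¹ := by group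
          _ = c * ((c⁻¹ * y * c) * z0) * c⁻¹ := by rw [h3]
          _ = y * (c * z0 * c⁻¹) := by group
  -- the subgroup `V`
  let V : Subgroup G :=
    { carrier := {g | g ∈ pCore 2 G ∧ g ^ 2 = 1}
      mul_mem' := by
        rintro a b ⟨ha, ha2⟩ ⟨hb, hb2⟩
        refine ⟨Subgroup.mul_mem _ ha hb, ?_⟩
        have hcomm : b * a = a * b := (hcen b hb2).2 a ha
        calc (a * b) ^ 2 = a * (b * a) * b := by rw [pow_two]; group
          _ = a * (a * b) * b := by rw [hcomm]
          _ = a ^ 2 * b ^ 2 := by rw [pow_two, pow_two]; group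
          _ = 1 := by rw [ha2, hb2, one_mul]
      one_mem' := ⟨Subgroup.one_mem _, one_pow 2⟩
      inv_mem' := by
        rintro a ⟨ha, ha2⟩
        exact ⟨Subgroup.inv_mem _ ha, by rw [inv_pow, ha2, inv_one]⟩ }
  have hVmem : ∀ g : G, g ∈ V ↔ g ∈ pCore 2 G ∧ g ^ 2 = 1 := fun g => Iff.rfl
  have hinv : ∀ g : G, g ^ 2 = 1 → g ∈ V := fun g hg => ⟨(hcen g hg).1, hg⟩
  have hVP : V ≤ pCore 2 G := fun g hg => hg.1
  have hVZ : V ≤ centralizer (pCore 2 G : Set G) := by
    intro g hg
    rw [Subgroup.mem_centralizer_iff]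
    intro y hy
    exact ((hcen g hg.2).2 y hy).symm
  have hV4 : 4 ≤ Nat.card V := by
    obtain ⟨x, y, hxy, hx1, hx2, hy1, hy2, -⟩ := h2
    have hV2 : IsPGroup 2 V := hPp.to_le hVP
    obtain ⟨k, hk⟩ := IsPGroup.iff_card.mp hV2
    have h3 : 2 < Nat.card V := by
      have : Fintype V := Fintype.ofFinite V
      rw [Nat.card_eq_fintype_card, Fintype.two_lt_card_iff]
      refine ⟨⟨1, V.one_mem⟩, ⟨x, hinv x hx2⟩, ⟨y, hinv y hy2⟩, ?_, ?_, ?_⟩
      · intro h; exact hx1 (congrArg Subtype.val h).symm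
      · intro h; exact hy1 (congrArg Subtype.val h).symm
      · intro h; exact hxy (congrArg Subtype.val h)
    rw [hk] at h3 ⊢
    have hk2 : 2 ≤ k := by
      by_contra hlt
      have : k = 0 ∨ k = 1 := by omega
      rcases this with rfl | rfl <;> simp at h3
    calc 4 = 2 ^ 2 := by norm_num
      _ ≤ 2 ^ k := Nat.pow_le_pow_right (by norm_num) hk2
  -- the complement `T`
  obtain ⟨T, hTK, hKeq, hcardT, hfrat⟩ :=
    exists_compl_frattini (pCore 2 G) (pqCore 2 G) (pCore_le_pqCore 2) hPp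
      (not_dvd_relIndex_pqCore 2)
  have hTcop : (Nat.card T).Coprime 2 := by
    rw [hcardT]
    exact ((Nat.Prime.coprime_iff_not_dvd Nat.prime_two).mpr (not_dvd_relIndex_pqCore 2)).symm
  have hTodd : Odd (Nat.card T) := Nat.coprime_two_right.1 hTcop
  have hPT : pCore 2 G ⊓ T = ⊥ := by
    apply disjoint_iff.mp
    apply Subgroup.disjoint_of_coprime_natCard
    obtain ⟨k, hk⟩ := IsPGroup.iff_card.mp hPp
    rw [hk]
    exact (Nat.Coprime.pow_right k hTcop).symm
  have hTne : T ≠ ⊥ := by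
    intro hTbot
    have hKP : pqCore 2 G = pCore 2 G := by rw [hKeq, hTbot, sup_bot_eq]
    have htop := pCore_eq_top_of_pqCore_eq hG hKP
    rw [htop, Subgroup.index_top] at hdvd
    exact hnot1 hdvd
  -- `T` centralizes `V`
  have hTV : T ≤ centralizer (V : Set G) := by
    have hdvdN : 2 ∣ Nat.card (Subgroup.normalizer (T : Set G)) := by
      have h1 : (pCore 2 G).relIndex (Subgroup.normalizer (T : Set G) ⊔ pCore 2 G) =
          (pCore 2 G).relIndex (Subgroup.normalizer (T : Set G)) :=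
        Subgroup.relIndex_sup_right _ _
      rw [hfrat, Subgroup.relIndex_top_right] at h1
      rw [h1] at hdvd
      exact hdvd.trans (Subgroup.relIndex_dvd_card _ _)
    obtain ⟨y, hy⟩ := exists_prime_orderOf_dvd_card'
      (G := ↥(Subgroup.normalizer (T : Set G))) 2 hdvdN
    have hy0 : orderOf (y : G) = 2 := by rw [Subgroup.orderOf_coe]; exact hy
    have hyne : (y : G) ≠ 1 := by
      intro h
      rw [h, orderOf_one] at hy0
      omega
    have hysq : (y : G) ^ 2 = 1 := by
      rw [← hy0]; exact pow_orderOf_eq_one _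
    obtain ⟨hyP, hyc⟩ := hcen (y : G) hysq
    have hyT : ∀ t ∈ T, (y : G) * t = t * (y : G) := by
      intro t ht
      have h1 : (y : G) * t * (y : G)⁻¹ ∈ T := (Subgroup.mem_normalizer_iff.mp y.2 t).mp ht
      have h2 : (y : G) * t * (y : G)⁻¹ * t⁻¹ ∈ T := T.mul_mem h1 (T.inv_mem ht)
      have h3 : (y : G) * t * (y : G)⁻¹ * t⁻¹ ∈ pCore 2 G := by
        have h4 : t * (y : G)⁻¹ * t⁻¹ ∈ pCore 2 G :=
          (pCore_normal 2 G).conj_mem _ ((pCore 2 G).inv_mem hyP) t
        have := (pCore 2 G).mul_mem hyP h4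
        simpa [mul_assoc] using this
      have h5 : (y : G) * t * (y : G)⁻¹ * t⁻¹ ∈ pCore 2 G ⊓ T := ⟨h3, h2⟩
      rw [hPT, Subgroup.mem_bot] at h5
      calc (y : G) * t = ((y : G) * t * (y : G)⁻¹ * t⁻¹) * (t * (y : G)) := by group
        _ = t * (y : G) := by rw [h5, one_mul]
    have hle : pqCore 2 G ≤ Subgroup.centralizer ({(y : G)} : Set G) := by
      rw [hKeq]
      apply sup_le
      · intro k hk
        rw [Subgroup.mem_centralizer_singleton_iff]
        exact (hyc k hk).symm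
      · intro k hk
        rw [Subgroup.mem_centralizer_singleton_iff]
        exact (hyT k hk).symm
    intro t ht
    rw [Subgroup.mem_centralizer_iff]
    intro v hv
    by_cases hv1 : v = 1
    · rw [hv1]; simp
    · obtain ⟨c, hc⟩ := isConj_iff.1 (h1 (y : G) v hyne hysq hv1 hv.2)
      have ht' : c⁻¹ * t * c ∈ pqCore 2 G := by
        have := (pqCore_normal 2 G).conj_mem _ (hTK ht) c⁻¹
        simpa using this
      have h3 := hle ht'
      rw [Subgroup.mem_centralizer_singleton_iff] at h3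
      -- h3 : (c⁻¹ t c) * y = y * (c⁻¹ t c)
      rw [← hc]
      calc c * (y : G) * c⁻¹ * t = c * ((y : G) * (c⁻¹ * t * c)) * c⁻¹ := by group
        _ = c * ((c⁻¹ * t * c) * (y : G)) * c⁻¹ := by rw [h3]
        _ = t * (c * (y : G) * c⁻¹) := by group
  exact ⟨V, T, ⟨hVmem, hinv, hVZ, hV4, hCP, hTodd, hTne, hPT, hKeq, hfrat, hTV⟩⟩

end Cfsg.Agent.Helper50.THP
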