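import Mathlib
import Cfsg.Agent.Helper1.CoprimeAction

/-!
# (W4) of helper21's WANTED #5260 for S3797: coprime action, fixed point in a right coset (helper50)

A corollary of helper1's `exists_mem_coset_centralizer` (left cosets), by inversion.
-/

set_option autoImplicit false

namespace Cfsg.Agent.Helper50.TH

open Subgroup

universe u

/-- (W4) coprime action, fixed point in a fixed coset. -/
theorem exists_fixed_in_coset_coprime {G : Type u} [Group G] [Finite G] (D R : Subgroup G)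
    (hRD : R ≤ normalizer (D : Set G)) (hcop : (Nat.card R).Coprime (Nat.card D))
    (hsol : Group.IsSolvable D ∨ Group.IsSolvable R) (x : G)
    (hx : ∀ r ∈ R, x⁻¹ * (r * x * r⁻¹) ∈ D) :
    ∃ d ∈ D, ∀ r ∈ R, r * (x * d) * r⁻¹ = x * d := by
  have hinv : ∀ r ∈ R, ∃ d ∈ D, r * x⁻¹ * r⁻¹ = d * x⁻¹ := by
    intro r hr
    refine ⟨(x⁻¹ * (r * x * r⁻¹))⁻¹, D.inv_mem (hx r hr), ?_⟩
    group
  obtain ⟨d, hd, hcen⟩ :=
    Cfsg.Agent.Helper1.exists_mem_coset_centralizer R D hRD hcop hsol.symm x⁻¹ hinv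
  refine ⟨d⁻¹, D.inv_mem hd, fun r hr => ?_⟩
  have h1 : x * d⁻¹ ∈ centralizer (R : Set G) := by
    have := (centralizer (R : Set G)).inv_mem hcen
    rwa [mul_inv_rev, inv_inv] at this
  have h2 := (mem_centralizer_iff.mp h1) r hr
  -- h2 : r * (x * d⁻¹) = x * d⁻¹ * r
  rw [h2, mul_inv_cancel_right]

end Cfsg.Agent.Helper50.TH
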