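import Mathlib
import Cfsg.Prelude.Def_OddOrderLocal
import Cfsg.Prelude.Def_OddOrder
import Cfsg.Agent.Lib.Hall
import Cfsg.Agent.Lib.Cores
import Cfsg.Agent.S0581
import Cfsg.Agent.Helper23.FittingHall
import Cfsg.Agent.Helper60.BGAsmB
import Cfsg.Agent.Helper60.BGAsmD

/-!
# Bender--Glauberman section 16 (type characterisations), generic group theory (helper50)

Generic lemmas used by the assembly of statements S1381, S1382, S1383: complements in the sense of
`IsComplIn`, the normal nilpotent Hall subgroup `M_F` of a normal Hall subgroup, Hall conjugacy of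
complements.
-/

set_option autoImplicit false
set_option linter.unusedVariables false
set_option linter.style.haveILetI false
set_option linter.unusedSectionVars false

namespace Cfsg.Agent.Helper50.BG16

open Cfsg Subgroup Cfsg.Agent.Helper60.BGAsm

variable {G : Type*} [Group G]

/-- product form of `A ⊔ N` when `A` normalizes `N`: normal factor on the left -/
theorem exists_mul_of_mem_sup_right {A N : Subgroup G} (hA : A ≤ normalizer (N : Set G)) {z : G}
    (hz : z ∈ A ⊔ N) : ∃ n ∈ N, ∃ a ∈ A, z = n * a := by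
  have hz' : z ∈ ((N ⊔ A : Subgroup G) : Set G) := by rw [sup_comm]; exact hz
  rw [Subgroup.coe_mul_of_right_le_normalizer_left N A hA] at hz'
  obtain ⟨n, hn, a, ha, rfl⟩ := hz'
  exact ⟨n, hn, a, ha, rfl⟩

/-- product form of `A ⊔ N` when `A` normalizes `N`: normal factor on the right -/
theorem exists_mul_of_mem_sup_left {A N : Subgroup G} (hA : A ≤ normalizer (N : Set G)) {z : G}
    (hz : z ∈ A ⊔ N) : ∃ a ∈ A, ∃ n ∈ N, z = a * n := by
  have hz' : z ∈ ((A ⊔ N : Subgroup G) : Set G) := hz
  rw [Subgroup.coe_mul_of_left_le_normalizer_right A N hA] at hz'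
  obtain ⟨a, ha, n, hn, rfl⟩ := hz'
  exact ⟨a, ha, n, hn, rfl⟩

/-- `IsComplIn` gives complements inside `↥M` -/
theorem isComplement'_subgroupOf_of_isComplIn {A B M : Subgroup G} (h : Cfsg.IsComplIn A B M) :
    Subgroup.IsComplement' (A.subgroupOf M) (B.subgroupOf M) := by
  apply Subgroup.isComplement'_of_disjoint_and_mul_eq_univ
  · rw [disjoint_iff, eq_bot_iff]
    intro x hx
    have h1 : (x : G) ∈ A ⊓ B := ⟨Subgroup.mem_subgroupOf.mp hx.1, Subgroup.mem_subgroupOf.mp hx.2⟩
    rw [h.2.2.1, Subgroup.mem_bot] at h1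
    rw [Subgroup.mem_bot]
    exact Subtype.ext h1
  · rw [Set.eq_univ_iff_forall]
    intro m
    obtain ⟨a, ha, b, hb, hab⟩ := h.2.2.2 m m.2
    refine ⟨⟨a, h.1 ha⟩, Subgroup.mem_subgroupOf.mpr ha, ⟨b, h.2.1 hb⟩,
      Subgroup.mem_subgroupOf.mpr hb, ?_⟩
    exact Subtype.ext hab.symm

/-- swapping the factors of `IsComplIn` when the first one is normalized by the second -/
theorem IsComplIn_symm_of_normal {A B M : Subgroup G} (h : Cfsg.IsComplIn A B M)
    (hBA : B ≤ normalizer (A : Set G)) : Cfsg.IsComplIn B A M := by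
  refine ⟨h.2.1, h.1, by rw [inf_comm]; exact h.2.2.1, ?_⟩
  intro m hm
  obtain ⟨a, ha, b, hb, rfl⟩ := h.2.2.2 m hm
  refine ⟨b, hb, b⁻¹ * a * b, ?_, by group⟩
  have := (mem_normalizer_iff.mp (hBA (B.inv_mem hb)) a).mp ha
  simpa using this

/-! ### `M_F` of a normal Hall subgroup -/

/-- `fittingHall` is nilpotent -/
theorem fittingHall_isNilpotent (X : Type*) [Group X] [Finite X] :
    Group.IsNilpotent (Cfsg.fittingHall X) := by
  have hle : Cfsg.fittingHall X ≤ Cfsg.fittingSubgroup X := by
    apply sSup_le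
    intro N hN
    exact Cfsg.Agent.Lib.le_fittingSubgroup hN.1 hN.2.1
  exact Cfsg.Agent.S0581.nilpotent_of_le hle Cfsg.Agent.Lib.isNilpotent_fittingSubgroup

/-- `fittingHallOf M` is nilpotent -/
theorem fittingHallOf_isNilpotent [Finite G] (M : Subgroup G) :
    Group.IsNilpotent (Cfsg.fittingHallOf M) := by
  haveI := fittingHall_isNilpotent ↥M
  exact Group.nilpotent_of_mulEquiv
    (Subgroup.equivMapOfInjective _ M.subtype M.subtype_injective)

theorem fittingHallOf_le_self (M : Subgroup G) : Cfsg.fittingHallOf M ≤ M :=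
  Subgroup.map_subtype_le _

/-- `M_F` is normalized by `M` -/
theorem le_normalizer_fittingHallOf' (M : Subgroup G) :
    M ≤ Subgroup.normalizer ((Cfsg.fittingHallOf M : Subgroup G) : Set G) := by
  apply le_normalizer_of_forall_conj_mem
  rintro m hm _ ⟨x, hx, rfl⟩
  refine ⟨⟨m, hm⟩ * x * ⟨m, hm⟩⁻¹, ?_, rfl⟩
  exact (Cfsg.fittingHall_normal ↥M).conj_mem x hx _

theorem card_fittingHallOf' (M : Subgroup G) :
    Nat.card (Cfsg.fittingHallOf M) = Nat.card (Cfsg.fittingHall ↥M) :=
  Subgroup.card_subtype _ _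

theorem relIndex_fittingHallOf' (M : Subgroup G) :
    (Cfsg.fittingHallOf M).relIndex M = (Cfsg.fittingHall ↥M).index := by
  unfold Subgroup.relIndex Cfsg.fittingHallOf Subgroup.subgroupOf
  rw [Subgroup.comap_map_eq_self_of_injective M.subtype_injective]

/-- `|M_F|` is prime to `|M : M_F|` -/
theorem coprime_card_fittingHallOf [Finite G] (M : Subgroup G) :
    (Nat.card (Cfsg.fittingHallOf M)).Coprime ((Cfsg.fittingHallOf M).relIndex M) := by
  rw [card_fittingHallOf', relIndex_fittingHallOf']
  exact Cfsg.Agent.Helper23.fittingHall_coprime ↥M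

/-- the image of `fittingHall` under an isomorphism lies in `fittingHall` -/
theorem map_fittingHall_mulEquiv_le {X Y : Type*} [Group X] [Group Y] [Finite X] (e : X ≃* Y) :
    (Cfsg.fittingHall X).map e.toMonoidHom ≤ Cfsg.fittingHall Y := by
  apply Cfsg.Agent.Helper23.le_fittingHall
  · exact (Cfsg.fittingHall_normal X).map e.toMonoidHom e.surjective
  · haveI := fittingHall_isNilpotent X
    exact Group.nilpotent_of_mulEquiv
      (Subgroup.equivMapOfInjective _ e.toMonoidHom e.injective)
  · have h1 : Nat.card ((Cfsg.fittingHall X).map e.toMonoidHom) = Nat.card (Cfsg.fittingHall X) :=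
      Subgroup.card_map_of_injective e.injective
    have h2 : ((Cfsg.fittingHall X).map e.toMonoidHom).index = (Cfsg.fittingHall X).index :=
      Subgroup.index_map_equiv _ e
    rw [h1, h2]
    exact Cfsg.Agent.Helper23.fittingHall_coprime X

/-- conjugation by a normalizing element as an automorphism of the subgroup -/
theorem exists_conj_mulEquiv {D : Subgroup G} {m : G} (hm : m ∈ normalizer (D : Set G)) :
    ∃ e : ↥D ≃* ↥D, ∀ x : ↥D, ((e x : ↥D) : G) = m * x * m⁻¹ := by
  have h1 : ∀ x : ↥D, m * x * m⁻¹ ∈ D := fun x => (mem_normalizer_iff.mp hm x).mp x.2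
  have h2 : ∀ x : ↥D, m⁻¹ * x * m ∈ D := fun x => by
    have := (mem_normalizer_iff.mp (inv_mem hm) x).mp x.2
    simpa using this
  refine ⟨{ toFun := fun x => ⟨m * x * m⁻¹, h1 x⟩
            invFun := fun x => ⟨m⁻¹ * x * m, h2 x⟩
            left_inv := fun x => by ext; simp [mul_assoc]
            right_inv := fun x => by ext; simp [mul_assoc]
            map_mul' := fun x y => by ext; simp [mul_assoc] }, fun x => rfl⟩

/-- `(M')_F` is normalized by `M` when `M' = D` is normalized by `M` -/
theorem le_normalizer_fittingHallOf_of_le_normalizer [Finite G] {M D : Subgroup G}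
    (hMD : M ≤ normalizer (D : Set G)) :
    M ≤ normalizer ((Cfsg.fittingHallOf D : Subgroup G) : Set G) := by
  apply le_normalizer_of_forall_conj_mem
  rintro m hm _ ⟨y, hy, rfl⟩
  obtain ⟨e, he⟩ := exists_conj_mulEquiv (hMD hm)
  have h1 : e y ∈ (Cfsg.fittingHall ↥D).map e.toMonoidHom := ⟨y, hy, rfl⟩
  have h2 := map_fittingHall_mulEquiv_le e h1
  exact ⟨e y, h2, he y⟩

/-- if `D ≤ M` is normal in `M`, of order prime to its index in `M`, and contains `M_F`, then
`D_F = M_F` -/
theorem fittingHallOf_eq_of_normal_hall [Finite G] {M D : Subgroup G} (hDM : D ≤ M)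
    (hMD : M ≤ normalizer (D : Set G)) (hHD : Cfsg.fittingHallOf M ≤ D)
    (hcop : (Nat.card D).Coprime (D.relIndex M)) :
    Cfsg.fittingHallOf D = Cfsg.fittingHallOf M := by
  apply le_antisymm
  · -- `D_F` is a normal nilpotent Hall subgroup of `M`
    have hFD : Cfsg.fittingHallOf D ≤ D := fittingHallOf_le_self D
    have hFM : Cfsg.fittingHallOf D ≤ M := hFD.trans hDM
    have hn : ((Cfsg.fittingHallOf D).subgroupOf M).Normal :=
      Subgroup.normal_subgroupOf_of_le_normalizer (le_normalizer_fittingHallOf_of_le_normalizer hMD)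
    have hnil : Group.IsNilpotent ((Cfsg.fittingHallOf D).subgroupOf M) := by
      haveI := fittingHallOf_isNilpotent D
      exact Group.nilpotent_of_mulEquiv (Subgroup.subgroupOfEquivOfLe hFM).symm
    have hc : (Nat.card ((Cfsg.fittingHallOf D).subgroupOf M)).Coprime
        ((Cfsg.fittingHallOf D).subgroupOf M).index := by
      rw [Nat.card_congr (Subgroup.subgroupOfEquivOfLe hFM).toEquiv]
      have h1 : ((Cfsg.fittingHallOf D).subgroupOf M).index = (Cfsg.fittingHallOf D).relIndex M := rfl
      rw [h1, ← Subgroup.relIndex_mul_relIndex _ D M hFD hDM]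
      apply Nat.Coprime.mul_right (coprime_card_fittingHallOf D)
      exact Nat.Coprime.coprime_dvd_left (Subgroup.card_dvd_of_le hFD) hcop
    have hle := Cfsg.Agent.Helper23.le_fittingHall hn hnil hc
    intro x hx
    exact ⟨⟨x, hFM hx⟩, hle (Subgroup.mem_subgroupOf.mpr hx), rfl⟩
  · -- `M_F` is a normal nilpotent Hall subgroup of `D`
    have hHM : Cfsg.fittingHallOf M ≤ M := fittingHallOf_le_self M
    have hn : ((Cfsg.fittingHallOf M).subgroupOf D).Normal :=
      Subgroup.normal_subgroupOf_of_le_normalizer (hDM.trans (le_normalizer_fittingHallOf' M))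
    have hnil : Group.IsNilpotent ((Cfsg.fittingHallOf M).subgroupOf D) := by
      haveI := fittingHallOf_isNilpotent M
      exact Group.nilpotent_of_mulEquiv (Subgroup.subgroupOfEquivOfLe hHD).symm
    have hc : (Nat.card ((Cfsg.fittingHallOf M).subgroupOf D)).Coprime
        ((Cfsg.fittingHallOf M).subgroupOf D).index := by
      rw [Nat.card_congr (Subgroup.subgroupOfEquivOfLe hHD).toEquiv]
      have h1 : ((Cfsg.fittingHallOf M).subgroupOf D).index = (Cfsg.fittingHallOf M).relIndex D := rfl
      rw [h1]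
      have h2 := Subgroup.relIndex_mul_relIndex _ D M hHD hDM
      exact Nat.Coprime.coprime_dvd_right (Dvd.intro _ h2) (coprime_card_fittingHallOf M)
    have hle := Cfsg.Agent.Helper23.le_fittingHall hn hnil hc
    intro x hx
    exact ⟨⟨x, hHD hx⟩, hle (Subgroup.mem_subgroupOf.mpr hx), rfl⟩

end Cfsg.Agent.Helper50.BG16
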