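import Cfsg.Agent.Helper25.FSwan.Defs2
import Cfsg.Agent.Helper87.DT_DEC

/-!
# Fong–Swan farm (helper25, S4440), leaf (S3d): core, with the other leaves as hypotheses
-/

set_option autoImplicit false
set_option linter.unusedSectionVars false
set_option linter.unusedVariables false

namespace Cfsg.Agent.Helper50.FS

open Cfsg Cfsg.Agent.Helper16 Cfsg.Agent.Helper16.DT Cfsg.Agent.Helper25.FS

universe u

variable {p : ℕ} [Fact p.Prime] {M : Ideal AlgInt} [M.IsMaximal] {G : Type u} [Group G]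

/-- composition with a map commutes with sums of lists of functions -/
theorem S3d_sum_comp {A B : Type*} (f : A → B) (l : List (B → ℂ)) :
    l.sum ∘ f = (l.map (fun ψ => ψ ∘ f)).sum := by
  induction l with
  | nil => rfl
  | cons a l ih =>
    rw [List.sum_cons, List.map_cons, List.sum_cons, ← ih]
    rfl

/-- restriction of a list of irreducible Brauer characters to a subgroup: a longer list -/
theorem S3d_restrict_list {E : Type u} [Group E] (H : Subgroup E)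
    (hBRC : ∀ {n : ℕ} (ρ : H →* Matrix (Fin n) (Fin n) (AlgInt ⧸ M)),
      ∃ l : List (H → ℂ), (∀ ψ ∈ l, ψ ∈ IBr p M H) ∧ brauerChar p M ρ = l.sum ∧ (0 < n → l ≠ []))
    (hINFL : ∀ {n : ℕ} (ρ : E →* Matrix (Fin n) (Fin n) (AlgInt ⧸ M)),
      brauerChar p M (ρ.comp H.subtype) = brauerChar p M ρ ∘ H.subtype)
    (l : List (E → ℂ)) (hl : ∀ ψ ∈ l, ψ ∈ IBr p M E) :
    ∃ L : List (H → ℂ), (∀ φ ∈ L, φ ∈ IBr p M H) ∧ L.sum = l.sum ∘ H.subtype ∧
      l.length ≤ L.length := by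
  induction l with
  | nil => exact ⟨[], by simp, rfl, le_refl _⟩
  | cons ψ l ih =>
    obtain ⟨L', hL', hsum', hlen'⟩ := ih (fun φ hφ => hl φ (List.mem_cons_of_mem _ hφ))
    obtain ⟨n, ρ, hρ, hψ⟩ := hl ψ List.mem_cons_self
    obtain ⟨lψ, hlψ, hsumψ, hne⟩ := hBRC (ρ.comp H.subtype)
    have hn : 0 < n := by
      obtain ⟨⟨i⟩, _⟩ := hρ
      exact Fin.pos i
    have hlen : 1 ≤ lψ.length := by
      rcases lψ with _ | ⟨a, t⟩
      · exact absurd rfl (hne hn)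
      · simp
    refine ⟨lψ ++ L', ?_, ?_, ?_⟩
    · intro φ hφ
      rcases List.mem_append.1 hφ with h | h
      · exact hlψ φ h
      · exact hL' φ h
    · rw [List.sum_append, List.sum_cons, hsum', ← hsumψ, hINFL ρ, ← hψ]
      rfl
    · rw [List.length_append, List.length_cons]
      omega

variable [Fintype G] (N : Subgroup G) [hN : N.Normal] [Fintype N] {d : ℕ}
  (Y : Representation ℂ N (Fin d → ℂ))

/-- the copy of `N` has the order of `N` -/
theorem S3d_card_N1 : Nat.card (N1 N Y) = Nat.card N :=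
  (Nat.card_congr (MonoidHom.ofInjective (Helper74.extIncl_injective N Y)).toEquiv).symm

/-- (S3d), from the other leaves -/
theorem exists_modular_ext_of (hpM : (p : AlgInt) ∈ M) (hY : Y.IsIrreducible) [Finite (EG N Y)]
    (hNp : ¬ p ∣ Nat.card N)
    (hS3b : IsIrrCharacter (EG N Y) (thetaExt N Y) ∧
      IsIrrCharacter (N1 N Y) (fun x : N1 N Y => thetaExt N Y x))
    (hPPI : ¬ p ∣ Nat.card (N1 N Y) → ∀ χ : IrrCharacter (N1 N Y),
      (χ : N1 N Y → ℂ) ∈ IBr p M (N1 N Y))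
    (hBRC : ∀ {n : ℕ} (ρ : N1 N Y →* Matrix (Fin n) (Fin n) (AlgInt ⧸ M)),
      ∃ l : List (N1 N Y → ℂ), (∀ ψ ∈ l, ψ ∈ IBr p M (N1 N Y)) ∧ brauerChar p M ρ = l.sum ∧
        (0 < n → l ≠ []))
    (hPERM : ∀ {φ : N1 N Y → ℂ}, φ ∈ IBr p M (N1 N Y) → ∀ l : List (N1 N Y → ℂ),
      (∀ ψ ∈ l, ψ ∈ IBr p M (N1 N Y)) → l.sum = φ → l = [φ])
    (hINFL : ∀ {n : ℕ} (ρ : EG N Y →* Matrix (Fin n) (Fin n) (AlgInt ⧸ M)),
      brauerChar p M (ρ.comp (N1 N Y).subtype) = brauerChar p M ρ ∘ (N1 N Y).subtype)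
    (hIRR1 : ∀ {n : ℕ} (ρ : N1 N Y →* Matrix (Fin n) (Fin n) (AlgInt ⧸ M)),
      brauerChar p M ρ ∈ IBr p M (N1 N Y) → IsIrredMat ρ) :
    ∃ (m : ℕ) (ρ : EG N Y →* Matrix (Fin m) (Fin m) (AlgInt ⧸ M)), IsIrredMat ρ ∧
      brauerChar p M ρ = pRegularPart p (thetaExt N Y) ∧
      IsIrredMat (ρ.comp (N1 N Y).subtype) := by
  classical
  have : Fintype (EG N Y) := Fintype.ofFinite _
  have hN1p : ¬ p ∣ Nat.card (N1 N Y) := by rw [S3d_card_N1]; exact hNp
  -- the restriction of `thetaExt` to `N1`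
  obtain ⟨θ₁, hθ₁⟩ : ∃ θ₁ : N1 N Y → ℂ, θ₁ = fun x : N1 N Y => thetaExt N Y x := ⟨_, rfl⟩
  have hθ₁IBr : θ₁ ∈ IBr p M (N1 N Y) := by
    rw [hθ₁]
    exact hPPI hN1p ⟨_, hS3b.2⟩
  -- all elements of `N1` are `p`-regular
  have hreg : pRegularPart p (thetaExt N Y) ∘ (N1 N Y).subtype = θ₁ := by
    funext x
    rw [hθ₁]
    show pRegularPart p (thetaExt N Y) (x : EG N Y) = thetaExt N Y x
    unfold pRegularPart
    have hx : IsPRegular p (x : EG N Y) := by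
      intro hdiv
      apply hN1p
      rw [Subgroup.orderOf_coe] at hdiv
      exact dvd_trans hdiv (orderOf_dvd_natCard x)
    rw [if_pos hx]
  -- the decomposition of `thetaExt`
  obtain ⟨l, hl, hsum⟩ := Cfsg.Agent.Helper87.DT.decomposition (p := p) (M := M) hpM
    (⟨thetaExt N Y, hS3b.1⟩ : IrrCharacter (EG N Y))
  have hsum' : pRegularPart p (thetaExt N Y) = l.sum := hsum
  have hlIBr : ∀ ψ ∈ l, ψ ∈ IBr p M (EG N Y) := by
    intro ψ hψ
    obtain ⟨n, ρ, hρ, hψρ, _⟩ := hl ψ hψ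
    exact ⟨n, ρ, hρ, hψρ⟩
  obtain ⟨L, hL, hLsum, hLlen⟩ := S3d_restrict_list (p := p) (M := M) (N1 N Y) hBRC hINFL l hlIBr
  have hLθ : L.sum = θ₁ := by rw [hLsum, ← hsum', hreg]
  have hLeq : L = [θ₁] := hPERM hθ₁IBr L hL hLθ
  have hlen1 : l.length ≤ 1 := by
    rw [hLeq] at hLlen
    simpa using hLlen
  -- `l` is a singleton
  rcases l with _ | ⟨ψ, t⟩
  · exfalso
    have h0 : ([] : List (N1 N Y → ℂ)).sum = θ₁ := by
      rw [← hreg, hsum']
      rfl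
    have := hPERM hθ₁IBr [] (by simp) h0
    simp at this
  · have ht : t = [] := by
      rcases t with _ | ⟨b, t'⟩
      · rfl
      · simp at hlen1
    subst ht
    obtain ⟨n, ρ, hρ, hψρ⟩ := hlIBr ψ List.mem_cons_self
    have hψ : pRegularPart p (thetaExt N Y) = ψ := by
      rw [hsum']
      simp
    refine ⟨n, ρ, hρ, ?_, ?_⟩
    · rw [hψ, hψρ]
    · apply hIRR1
      rw [hINFL ρ, ← hψρ, ← hψ, hreg]
      exact hθ₁IBr

end Cfsg.Agent.Helper50.FS
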