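import Cfsg.Agent.Helper50.BG16D

/-!
# Bender--Glauberman section 16 (type characterisations), part E (helper50)

The characterisations of Types II, III/IV and V in terms of the standard factorisation
`M = K U M_σ` (statements S1381, S1382, S1383), with the inputs from Theorems A-E as hypotheses.
-/

set_option autoImplicit false
set_option linter.unusedVariables false
set_option linter.style.haveILetI false
set_option linter.unusedSectionVars false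

namespace Cfsg.Agent.Helper50.BG16

open Cfsg Subgroup Cfsg.Agent.Helper60.BGAsm Cfsg.Agent.Helper29.BG10
open scoped Pointwise commutatorElement

variable {G : Type*} [Group G] [Finite G] {M K U : Subgroup G}

/-- `M' ⊴ M` -/
theorem le_normalizer_commutator (M : Subgroup G) : M ≤ normalizer ((⁅M, M⁆ : Subgroup G) : Set G) := by
  apply le_normalizer_of_forall_conj_mem
  intro m hm y hy
  have hyM : y ∈ M := (Subgroup.commutator_le.mpr
    (fun a ha b hb => M.mul_mem (M.mul_mem (M.mul_mem ha hb) (M.inv_mem ha)) (M.inv_mem hb))) hy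
  have h1 : m * y * m⁻¹ = ⁅m, y⁆ * y := by rw [commutatorElement_def]; group
  rw [h1]
  exact Subgroup.mul_mem _ (Subgroup.commutator_mem_commutator hm hyM) hy

theorem isNilpotent_of_isMulCommutative {X : Type*} [Group X] (h : IsMulCommutative X) :
    Group.IsNilpotent X :=
  ⟨⟨1, Subgroup.upperCentralSeries_one_eq_top_iff.mpr h⟩⟩

/-- `|U|` is prime to `|M_σ|` -/
theorem coprime_card_U_sigmaCore (hKU : Cfsg.IsSigmaDecomposition M K U)
    (hall : Cfsg.IsPiHallOf (Cfsg.sigma M) (Cfsg.sigmaCore M) M) :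
    (Nat.card U).Coprime (Nat.card (Cfsg.sigmaCore M)) := by
  apply Nat.coprime_of_dvd
  intro q hq hq1 hq2
  rw [card_eq_relIndex_of_isComplIn hKU.compl] at hq1
  exact hall.2.2 q hq (hall.2.1 q hq hq2)
    (hq1.trans (Subgroup.relIndex_dvd_of_le_left M le_sup_right))

/-! ### Type II -/

/-- `K ≠ 1` and `U ≠ 1` imply Type II (B-G Theorem II, statement S1381, `⇐`) -/
theorem isOfTypeII_of (hG : Cfsg.IsMinSimpleOddOrder G) (hM : IsCoatom M)
    (hKU : Cfsg.IsSigmaDecomposition M K U) (hK1 : K ≠ ⊥) (hU1 : U ≠ ⊥) (f : KStarFacts M K U)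
    (hHN : Cfsg.fittingHallOf M = Cfsg.sigmaCore M)
    (hUab : IsMulCommutative U) (hNU : ¬ Subgroup.normalizer (U : Set G) ≤ M)
    (hKp : (Nat.card K).Prime) (hTI : Cfsg.IsTISubset (Cfsg.fittingOf M : Set G))
    (h1360 : ∃ U₀ : Subgroup G, U₀ ≤ U ∧ Monoid.exponent U₀ = Monoid.exponent U ∧
      ∀ u ∈ U₀, u ∈ Cfsg.sigmaHat M → u = 1) :
    Cfsg.IsOfTypeII M := by
  have hcompl1 : Cfsg.IsComplIn ⁅M, M⁆ K M := by
    rw [f.der_eq]; exact isComplIn_sup_K hKU f.hall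
  have hM'M : ⁅M, M⁆ ≤ M := hcompl1.1
  have hc : Cfsg.IsComplIn (Cfsg.sigmaCore M) U ⁅M, M⁆ := by
    rw [f.der_eq]; exact isComplIn_sigmaCore_U hKU
  have hP : Cfsg.IsTypePWith M K U (Cfsg.sigmaCore M ⊓ Subgroup.centralizer (K : Set G)) := by
    apply isTypePWith_of hKU hK1 f (isNilpotent_of_isMulCommutative hUab) hKU.normal
    rw [hHN]; exact hc
  have hM'top : (⁅M, M⁆ : Subgroup G) ≠ ⊤ := fun h => hM.1 (top_le_iff.mp (h ▸ hM'M))
  have hF : Cfsg.fittingHallOf ⁅M, M⁆ = Cfsg.sigmaCore M := by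
    rw [← hHN]
    apply fittingHallOf_eq_of_normal_hall hM'M (le_normalizer_commutator M)
    · rw [hHN]; exact f.N_le
    · rw [← card_right_eq_relIndex_of_isComplIn hcompl1, f.der_eq]
      exact coprime_card_sup_K hKU f.hall
  have hN1 : Cfsg.sigmaCore M ≠ ⊥ := by
    rw [← hHN]; exact f.H_ne
  obtain ⟨U₀, hU₀, hexp, hfpf⟩ := h1360
  have hTF : Cfsg.IsOfTypeF ↥⁅M, M⁆ := by
    apply isOfTypeF_of_isComplIn (hG.2.2.2 _ hM'top)
      (Odd.of_dvd_nat hG.1 (Subgroup.card_subgroup_dvd_card _)) hF hN1 hU1 hc hUab hU₀ hexp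
    intro u hu hu1 x hx hux
    by_contra hx1
    exact hu1 (hfpf u hu ⟨hKU.compl.1 (hU₀ hu), x, hx, hx1, hux⟩)
  exact ⟨K, U, _, hP, hU1, hKp, hTI, hUab, hNU, hTF, hF.trans hHN.symm⟩

/-- Type II implies `K ≠ 1` and `U ≠ 1` (statement S1381, `⇒`) -/
theorem ne_bot_of_isOfTypeII (hG : Cfsg.IsMinSimpleOddOrder G) (hM : IsCoatom M)
    (hKU : Cfsg.IsSigmaDecomposition M K U)
    (hall : Cfsg.IsPiHallOf (Cfsg.sigma M) (Cfsg.sigmaCore M) M)
    (hHN : Cfsg.fittingHallOf M ≤ Cfsg.sigmaCore M) (hNM' : Cfsg.sigmaCore M ≤ ⁅M, M⁆)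
    (hder : K ≠ ⊥ → ⁅M, M⁆ = U ⊔ Cfsg.sigmaCore M) (h : Cfsg.IsOfTypeII M) : K ≠ ⊥ ∧ U ≠ ⊥ := by
  obtain ⟨W₁, U', W₂, hP, hU'1, -, -, -, hNU', -, -⟩ := h
  have hK1 := ne_bot_of_typeP hG hM hP hall hHN hNM' hKU.hall
  refine ⟨hK1, fun hUb => ?_⟩
  have hM'N : ⁅M, M⁆ = Cfsg.sigmaCore M := by rw [hder hK1, hUb, bot_sup_eq]
  have hc : Cfsg.IsComplIn (Cfsg.fittingHallOf M) U' (Cfsg.sigmaCore M) := by
    have := hP.U_compl
    rwa [hM'N] at this
  exact hNU' (normalizer_le_of_isComplIn_sigmaCore hall hHN hc hU'1)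

/-! ### Types III and IV -/

/-- `K ≠ 1`, `U = 1`, `M_F ≠ M_σ` imply Type III or IV (statement S1382, `⇐`) -/
theorem isOfTypeIII_or_IV_of (hG : Cfsg.IsMinSimpleOddOrder G) (hM : IsCoatom M)
    (hKU : Cfsg.IsSigmaDecomposition M K U) (hK1 : K ≠ ⊥) (hUb : U = ⊥) (f : KStarFacts M K U)
    (hHN : Cfsg.fittingHallOf M ≠ Cfsg.sigmaCore M)
    (hKp : (Nat.card K).Prime) (hTI : Cfsg.IsTISubset (Cfsg.fittingOf M : Set G))
    (hQ : ∃ q : ℕ, q.Prime ∧ q ∣ Nat.card (Cfsg.fittingHallOf M) ∧ ∃ Q : Subgroup G,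
      Q ≤ Cfsg.fittingHallOf M ∧ IsPGroup q Q ∧ ¬ q ∣ Q.relIndex (Cfsg.sigmaCore M) ∧
      ∀ D : Subgroup G, Cfsg.IsComplIn Q D (Cfsg.sigmaCore M) → Group.IsNilpotent D) :
    Cfsg.IsOfTypeIII M ∨ Cfsg.IsOfTypeIV M := by
  have hKM : K ≤ M := hKU.hall.1
  have hNM : Cfsg.sigmaCore M ≤ M := f.hall.1
  have hsolvM : Group.IsSolvable ↥M := hG.2.2.2 M hM.1
  have hM'N : ⁅M, M⁆ = Cfsg.sigmaCore M := by rw [f.der_eq, hUb, bot_sup_eq]
  have hcopKN : (Nat.card K).Coprime (Nat.card (Cfsg.sigmaCore M)) := by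
    have := coprime_card_sup_K hKU f.hall
    rw [hUb, bot_sup_eq] at this
    exact this.symm
  have hcopKH : (Nat.card K).Coprime (Nat.card (Cfsg.fittingHallOf M)) :=
    Nat.Coprime.coprime_dvd_right (Subgroup.card_dvd_of_le f.H_le) hcopKN
  obtain ⟨U', hnorm, hc⟩ := exists_invariant_isComplIn hsolvM hKM hNM (le_normalizer_sigmaCore M)
    f.H_le hcopKH
  have hU'N : U' ≤ Cfsg.sigmaCore M := hc.2.1
  have hU'1 : U' ≠ ⊥ := by
    intro hb
    apply hHN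
    apply le_antisymm f.H_le
    intro m hm
    obtain ⟨a, ha, b, hb', rfl⟩ := hc.2.2.2 m hm
    rw [hb, Subgroup.mem_bot] at hb'
    rw [hb', mul_one]; exact ha
  have hN := normalizer_le_of_isComplIn_sigmaCore f.hall f.H_le hc hU'1
  -- nilpotency of `U'`
  have hnil : Group.IsNilpotent U' := by
    obtain ⟨q, hq, hqH, Q, hQH, hQp, hQrel, hQD⟩ := hQ
    haveI : Fact q.Prime := ⟨hq⟩
    have hQN : Q ≤ Cfsg.sigmaCore M := hQH.trans f.H_le
    have hNtop : Cfsg.sigmaCore M ≠ ⊤ := fun h => hM.1 (top_le_iff.mp (h ▸ hNM))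
    haveI : Group.IsSolvable ↥(Cfsg.sigmaCore M) := hG.2.2.2 _ hNtop
    obtain ⟨k, hk⟩ := IsPGroup.iff_card.mp hQp
    have hcopQ : (Q.relIndex (Cfsg.sigmaCore M)).Coprime (Nat.card Q) := by
      rw [hk]
      exact (Nat.Coprime.pow_left k ((Nat.Prime.coprime_iff_not_dvd hq).mpr hQrel)).symm
    have hcardN : Nat.card ↥(Cfsg.sigmaCore M) = Q.relIndex (Cfsg.sigmaCore M) * Nat.card Q := by
      rw [mul_comm]; exact (card_mul_relIndex_of_le hQN).symm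
    -- `q ∤ |U'|`
    have hqU' : ¬ q ∣ Nat.card U' := by
      intro hd
      have h1 : q ∣ (Cfsg.fittingHallOf M).relIndex M := by
        rw [← Subgroup.relIndex_mul_relIndex _ _ M f.H_le hNM,
          ← card_right_eq_relIndex_of_isComplIn hc]
        exact Dvd.dvd.mul_right hd _
      exact hq.one_lt.ne' (Nat.eq_one_of_dvd_coprimes (coprime_card_fittingHallOf M) hqH h1)
    have hU'c : (Nat.card (U'.subgroupOf (Cfsg.sigmaCore M))).Coprime (Nat.card Q) := by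
      rw [Nat.card_congr (Subgroup.subgroupOfEquivOfLe hU'N).toEquiv, hk]
      exact (Nat.Coprime.pow_left k ((Nat.Prime.coprime_iff_not_dvd hq).mpr hqU')).symm
    obtain ⟨D', hD'card, hD'⟩ := Cfsg.Agent.Lib.hall_le _ _ hcardN hcopQ
      (U'.subgroupOf (Cfsg.sigmaCore M)) hU'c
    have hQ'card : Nat.card (Q.subgroupOf (Cfsg.sigmaCore M)) = Nat.card Q :=
      Nat.card_congr (Subgroup.subgroupOfEquivOfLe hQN).toEquiv
    have hcompl' : Subgroup.IsComplement' (Q.subgroupOf (Cfsg.sigmaCore M)) D' := by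
      apply Subgroup.isComplement'_of_coprime
      · rw [hQ'card, hD'card, hcardN, mul_comm]
      · rw [hQ'card, hD'card]; exact hcopQ.symm
    have hcD := isComplIn_of_isComplement' _ _ hcompl'
    rw [Subgroup.map_subgroupOf_eq_of_le hQN] at hcD
    have hDnil := hQD _ hcD
    have hU'D : U' ≤ D'.map (Cfsg.sigmaCore M).subtype := by
      intro x hx
      exact ⟨⟨x, hU'N hx⟩, hD' (Subgroup.mem_subgroupOf.mpr hx), rfl⟩
    exact Cfsg.Agent.S0581.nilpotent_of_le hU'D hDnil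
  have hP : Cfsg.IsTypePWith M K U' (Cfsg.sigmaCore M ⊓ Subgroup.centralizer (K : Set G)) := by
    apply isTypePWith_of hKU hK1 f hnil hnorm
    rw [hM'N]; exact hc
  by_cases hab : IsMulCommutative U'
  · exact Or.inl ⟨K, U', _, hP, hU'1, hKp, hTI, hab, hN⟩
  · exact Or.inr ⟨K, U', _, hP, hU'1, hKp, hTI, hab, hN⟩

/-- Type III or IV implies `K ≠ 1`, `U = 1`, `M_F ≠ M_σ` (statement S1382, `⇒`) -/
theorem of_isOfTypeIII_or_IV (hG : Cfsg.IsMinSimpleOddOrder G) (hM : IsCoatom M)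
    (hKU : Cfsg.IsSigmaDecomposition M K U)
    (hall : Cfsg.IsPiHallOf (Cfsg.sigma M) (Cfsg.sigmaCore M) M)
    (hHN : Cfsg.fittingHallOf M ≤ Cfsg.sigmaCore M) (hNM' : Cfsg.sigmaCore M ≤ ⁅M, M⁆)
    (hder : K ≠ ⊥ → ⁅M, M⁆ = U ⊔ Cfsg.sigmaCore M)
    (h1357 : Cfsg.fittingHallOf M ≠ Cfsg.sigmaCore M → U = ⊥)
    (h1363 : K ≠ ⊥ → ¬ Subgroup.normalizer (U : Set G) ≤ M)
    (h : Cfsg.IsOfTypeIII M ∨ Cfsg.IsOfTypeIV M) :
    K ≠ ⊥ ∧ U = ⊥ ∧ Cfsg.fittingHallOf M ≠ Cfsg.sigmaCore M := by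
  have key : ∀ W₁ U' W₂ : Subgroup G, Cfsg.IsTypePWith M W₁ U' W₂ → U' ≠ ⊥ →
      Subgroup.normalizer (U' : Set G) ≤ M →
      K ≠ ⊥ ∧ U = ⊥ ∧ Cfsg.fittingHallOf M ≠ Cfsg.sigmaCore M := by
    intro W₁ U' W₂ hP hU'1 hN
    have hK1 := ne_bot_of_typeP hG hM hP hall hHN hNM' hKU.hall
    have hM'M : ⁅M, M⁆ ≤ M := hP.W₁_compl.1
    have hUb : U = ⊥ := by
      by_contra hU1
      have hHN' : Cfsg.fittingHallOf M = Cfsg.sigmaCore M := by
        by_contra h; exact hU1 (h1357 h)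
      have hc : Cfsg.IsComplIn (Cfsg.sigmaCore M) U ⁅M, M⁆ := by
        rw [hder hK1]; exact isComplIn_sigmaCore_U hKU
      have hc' : Cfsg.IsComplIn (Cfsg.sigmaCore M) U' ⁅M, M⁆ := by
        have := hP.U_compl
        rwa [hHN'] at this
      have hM'top : (⁅M, M⁆ : Subgroup G) ≠ ⊤ := fun h => hM.1 (top_le_iff.mp (h ▸ hM'M))
      obtain ⟨g, hg, hgU⟩ := exists_cj_eq_of_isComplIn (hG.2.2.2 _ hM'top) hc hc'
        (coprime_card_U_sigmaCore hKU hall)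
      apply h1363 hK1
      have h1 : cj g (Subgroup.normalizer (U : Set G)) ≤ M := by
        rw [← normalizer_cj, hgU]; exact hN
      have h2 := cj_le_iff.mp h1
      rwa [cj_eq_self_of_mem (M.inv_mem (hM'M hg))] at h2
    refine ⟨hK1, hUb, fun hHN' => hU'1 ?_⟩
    have hM'H : ⁅M, M⁆ = Cfsg.fittingHallOf M := by rw [hder hK1, hUb, bot_sup_eq, hHN']
    have hc := hP.U_compl
    rw [eq_bot_iff, ← hc.2.2.1]
    refine le_inf ?_ le_rfl
    rw [← hM'H]; exact hc.2.1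
  rcases h with ⟨W₁, U', W₂, hP, hU'1, -, -, -, hN⟩ | ⟨W₁, U', W₂, hP, hU'1, -, -, -, hN⟩
  · exact key W₁ U' W₂ hP hU'1 hN
  · exact key W₁ U' W₂ hP hU'1 hN

end Cfsg.Agent.Helper50.BG16
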