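import Cfsg.Agent.Helper50.BG16C

/-!
# Bender--Glauberman section 16 (type characterisations), part D (helper50)

The type-P data `(K, U', K*)` of a maximal subgroup `M = K U M_σ` with `K ≠ 1`.  The inputs from
Theorems A-D (statements S1350, S1354, S1355, S1356, S1364, S1365, S1370) are bundled in the
structure `KStarFacts`.
-/

set_option autoImplicit false
set_option linter.unusedVariables false
set_option linter.style.haveILetI false
set_option linter.unusedSectionVars false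

namespace Cfsg.Agent.Helper50.BG16

open Cfsg Subgroup Cfsg.Agent.Helper60.BGAsm Cfsg.Agent.Helper29.BG10
open scoped Pointwise

variable {G : Type*} [Group G] [Finite G]

/-- the facts on `M`, `K`, `K* = M_σ ∩ C_G(K)` (for `K ≠ 1`) provided by Theorems A-D -/
structure KStarFacts (M K U : Subgroup G) : Prop where
  hall : Cfsg.IsPiHallOf (Cfsg.sigma M) (Cfsg.sigmaCore M) M
  H_ne : Cfsg.fittingHallOf M ≠ ⊥
  H_le : Cfsg.fittingHallOf M ≤ Cfsg.sigmaCore M
  N_le : Cfsg.sigmaCore M ≤ ⁅M, M⁆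
  der2 : ⁅⁅M, M⁆, ⁅M, M⁆⁆ ≤ Cfsg.fittingOf M
  fit_eq : Cfsg.fittingOf M =
    (M ⊓ Subgroup.centralizer (Cfsg.fittingHallOf M : Set G)) ⊔ Cfsg.fittingHallOf M
  fit_le : (Cfsg.kappa M).Nonempty → Cfsg.fittingOf M ≤ ⁅M, M⁆
  cent : ∀ k ∈ K, k ≠ 1 → M ⊓ Subgroup.centralizer ({k} : Set G) =
    K ⊔ (Cfsg.sigmaCore M ⊓ Subgroup.centralizer (K : Set G))
  ks_cyclic : IsCyclic ↥(Cfsg.sigmaCore M ⊓ Subgroup.centralizer (K : Set G))
  ks_ne : Cfsg.sigmaCore M ⊓ Subgroup.centralizer (K : Set G) ≠ ⊥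
  ks_le : Cfsg.sigmaCore M ⊓ Subgroup.centralizer (K : Set G) ≤ Cfsg.fittingHallOf M
  H_not_cyclic : ¬ IsCyclic (Cfsg.fittingHallOf M)
  der_eq : ⁅M, M⁆ = U ⊔ Cfsg.sigmaCore M
  ks_le_der2 : Cfsg.sigmaCore M ⊓ Subgroup.centralizer (K : Set G) ≤ ⁅⁅M, M⁆, ⁅M, M⁆⁆
  ti : Cfsg.IsTISubset ((↑(K ⊔ (Cfsg.sigmaCore M ⊓ Subgroup.centralizer (K : Set G))) : Set G) \
    ((K : Set G) ∪ ↑(Cfsg.sigmaCore M ⊓ Subgroup.centralizer (K : Set G))))
  norm : Subgroup.normalizer ((↑(K ⊔ (Cfsg.sigmaCore M ⊓ Subgroup.centralizer (K : Set G))) : Set G) \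
    ((K : Set G) ∪ ↑(Cfsg.sigmaCore M ⊓ Subgroup.centralizer (K : Set G)))) =
    K ⊔ (Cfsg.sigmaCore M ⊓ Subgroup.centralizer (K : Set G))

section
variable {M K U : Subgroup G}

/-- `|U M_σ|` is prime to `|K|` -/
theorem coprime_card_sup_K (hKU : Cfsg.IsSigmaDecomposition M K U)
    (hall : Cfsg.IsPiHallOf (Cfsg.sigma M) (Cfsg.sigmaCore M) M) :
    (Nat.card ↥(U ⊔ Cfsg.sigmaCore M)).Coprime (Nat.card K) := by
  apply Nat.coprime_of_dvd
  intro q hq hq1 hq2
  have hqκ : q ∈ Cfsg.kappa M := hKU.hall.2.1 q hq hq2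
  have hUσ : U ≤ Subgroup.normalizer ((Cfsg.sigmaCore M : Subgroup G) : Set G) :=
    hKU.compl.1.trans (le_normalizer_sigmaCore M)
  have h4 := hq1.trans (Cfsg.Agent.Helper22.card_sup_dvd_of_le_normalizer U _ hUσ)
  rcases (Nat.Prime.dvd_mul hq).mp h4 with h5 | h5
  · rw [card_eq_relIndex_of_isComplIn hKU.compl] at h5
    exact hKU.hall.2.2 q hq hqκ (h5.trans (Subgroup.relIndex_dvd_of_le_left M le_sup_left))
  · exact hqκ.2.2.1 (hall.2.1 q hq h5)

/-- `M = (U M_σ) K` with `U M_σ ∩ K = 1` -/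
theorem isComplIn_sup_K (hKU : Cfsg.IsSigmaDecomposition M K U)
    (hall : Cfsg.IsPiHallOf (Cfsg.sigma M) (Cfsg.sigmaCore M) M) :
    Cfsg.IsComplIn (U ⊔ Cfsg.sigmaCore M) K M := by
  have hNM : Cfsg.sigmaCore M ≤ M := hall.1
  have hKσ : K ≤ Subgroup.normalizer ((Cfsg.sigmaCore M : Subgroup G) : Set G) :=
    hKU.hall.1.trans (le_normalizer_sigmaCore M)
  refine ⟨sup_le hKU.compl.1 hNM, hKU.hall.1,
    inf_eq_bot_of_coprime_card (coprime_card_sup_K hKU hall), ?_⟩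
  intro m hm
  obtain ⟨a, ha, b, hb, rfl⟩ := hKU.compl.2.2.2 m hm
  obtain ⟨n, hn, k, hk, rfl⟩ := exists_mul_of_mem_sup_right hKσ hb
  refine ⟨a * n, Subgroup.mul_mem _ (Subgroup.mem_sup_left ha) (Subgroup.mem_sup_right hn), k, hk,
    by group⟩

/-- `M_σ U` with `M_σ ∩ U = 1` -/
theorem isComplIn_sigmaCore_U (hKU : Cfsg.IsSigmaDecomposition M K U) :
    Cfsg.IsComplIn (Cfsg.sigmaCore M) U (U ⊔ Cfsg.sigmaCore M) := by
  have hUσ : U ≤ Subgroup.normalizer ((Cfsg.sigmaCore M : Subgroup G) : Set G) :=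
    hKU.compl.1.trans (le_normalizer_sigmaCore M)
  refine ⟨le_sup_right, le_sup_left, ?_, ?_⟩
  · rw [eq_bot_iff, ← hKU.compl.2.2.1]
    exact le_inf inf_le_right (inf_le_left.trans le_sup_right)
  · intro m hm
    obtain ⟨n, hn, a, ha, rfl⟩ := exists_mul_of_mem_sup_right hUσ hm
    exact ⟨n, hn, a, ha, rfl⟩

theorem commute_K_kstar' (M K : Subgroup G) :
    ∀ a ∈ K, ∀ b ∈ Cfsg.sigmaCore M ⊓ Subgroup.centralizer (K : Set G), a * b = b * a :=
  fun a ha b hb => (Subgroup.mem_centralizer_iff.mp hb.2) a ha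

/-- `|K|` is prime to `|M : K|` -/
theorem coprime_card_K_relIndex' (hK : Cfsg.IsPiHallOf (Cfsg.kappa M) K M) :
    (Nat.card K).Coprime (K.relIndex M) := by
  apply Nat.coprime_of_dvd
  intro q hq hq1 hq2
  exact hK.2.2 q hq (hK.2.1 q hq hq1) hq2

/-- the type-P data `(K, U', K*)` -/
theorem isTypePWith_of (hKU : Cfsg.IsSigmaDecomposition M K U) (hK1 : K ≠ ⊥)
    (f : KStarFacts M K U) {U' : Subgroup G} (hnil : Group.IsNilpotent U')
    (hnorm : K ≤ Subgroup.normalizer (U' : Set G))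
    (hcompl : Cfsg.IsComplIn (Cfsg.fittingHallOf M) U' ⁅M, M⁆) :
    Cfsg.IsTypePWith M K U' (Cfsg.sigmaCore M ⊓ Subgroup.centralizer (K : Set G)) := by
  have hKM : K ≤ M := hKU.hall.1
  have hcop := coprime_card_sup_K hKU f.hall
  have hcompl1 : Cfsg.IsComplIn ⁅M, M⁆ K M := by
    rw [f.der_eq]; exact isComplIn_sup_K hKU f.hall
  have hM'M : ⁅M, M⁆ ≤ M := hcompl1.1
  have hKM' : ⁅M, M⁆ ⊓ K = ⊥ := hcompl1.2.2.1
  have hcomm := commute_K_kstar' M K
  have hksM' : Cfsg.sigmaCore M ⊓ Subgroup.centralizer (K : Set G) ≤ ⁅M, M⁆ :=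
    inf_le_left.trans f.N_le
  have hcopK : (Nat.card K).Coprime
      (Nat.card ↥(Cfsg.sigmaCore M ⊓ Subgroup.centralizer (K : Set G))) := by
    have h1 : Cfsg.sigmaCore M ⊓ Subgroup.centralizer (K : Set G) ≤ U ⊔ Cfsg.sigmaCore M :=
      inf_le_left.trans le_sup_right
    exact (Nat.Coprime.coprime_dvd_left (Subgroup.card_dvd_of_le h1) hcop).symm
  have hκ : (Cfsg.kappa M).Nonempty := by
    have hcard : Nat.card K ≠ 1 := fun h => hK1 (Subgroup.card_eq_one.mp h)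
    obtain ⟨r, hr, hrK⟩ := Nat.exists_prime_and_dvd hcard
    exact ⟨r, hKU.hall.2.1 r hr hrK⟩
  refine ⟨hK1, hKU.cyclic, coprime_card_K_relIndex' hKU.hall, hcompl1, hnil, hnorm, hcompl,
    f.H_not_cyclic, ?_, ?_, f.fit_le hκ, le_inf f.ks_le f.ks_le_der2, ?_, ?_⟩
  · rw [sup_comm, ← f.fit_eq]; exact f.der2
  · rw [sup_comm, ← f.fit_eq]
  · -- `C_{M'}(x) = K*`
    intro x hx hx1
    apply le_antisymm
    · intro z hz
      have hz1 : z ∈ M ⊓ Subgroup.centralizer ({x} : Set G) := ⟨hM'M hz.1, hz.2⟩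
      rw [f.cent x hx hx1] at hz1
      obtain ⟨a, ha, b, hb, rfl⟩ := (mem_sup_of_commute hcomm).mp hz1
      have ha' : a ∈ ⁅M, M⁆ := by
        have h2 : a = a * b * b⁻¹ := by group
        rw [h2]
        exact Subgroup.mul_mem _ hz.1 (Subgroup.inv_mem _ (hksM' hb))
      have ha1 : a ∈ ⁅M, M⁆ ⊓ K := ⟨ha', ha⟩
      rw [hKM', Subgroup.mem_bot] at ha1
      rw [ha1, one_mul]; exact hb
    · intro z hz
      refine ⟨hksM' hz, ?_⟩
      show z ∈ Subgroup.centralizer ({x} : Set G)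
      rw [Subgroup.mem_centralizer_iff]
      intro y hy
      rw [Set.mem_singleton_iff] at hy
      subst hy
      exact (Subgroup.mem_centralizer_iff.mp hz.2) y hx
  · -- the self-normalizing cyclic subgroup `K × K*`
    refine ⟨hK1, f.ks_ne, ?_, hcomm, isCyclic_sup_of_commute hKU.cyclic f.ks_cyclic hcomm hcopK, ?_⟩
    · exact inf_eq_bot_of_coprime_card hcopK
    · intro X hX hXne
      apply le_antisymm
      · intro g hg
        rw [← f.norm]
        by_contra hgn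
        obtain ⟨x, hx⟩ := hXne
        have h1 : g * x * g⁻¹ ∈ X := (Subgroup.mem_set_normalizer_iff.mp hg x).mp hx
        have h2 := f.ti g hgn x (hX hx) (hX h1)
        have h3 := (hX hx).2
        apply h3
        left
        rw [h2]; exact K.one_mem
      · intro g hg
        rw [Subgroup.mem_set_normalizer_iff]
        intro x
        have key : ∀ y ∈ X, g * y * g⁻¹ = y := by
          intro y hy
          have hy' : y ∈ K ⊔ (Cfsg.sigmaCore M ⊓ Subgroup.centralizer (K : Set G)) := (hX hy).1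
          haveI := isCyclic_sup_of_commute hKU.cyclic f.ks_cyclic hcomm hcopK
          have hc : (⟨g, hg⟩ : ↥(K ⊔ (Cfsg.sigmaCore M ⊓ Subgroup.centralizer (K : Set G)))) *
              ⟨y, hy'⟩ = ⟨y, hy'⟩ * ⟨g, hg⟩ := by
            letI := IsCyclic.commGroup
              (α := ↥(K ⊔ (Cfsg.sigmaCore M ⊓ Subgroup.centralizer (K : Set G))))
            exact mul_comm _ _
          have hc' : g * y = y * g := congrArg Subtype.val hc
          rw [hc', mul_inv_cancel_right]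
        constructor
        · intro hx
          rw [key x hx]; exact hx
        · intro hx
          have h1 := key _ hx
          -- `g (g x g⁻¹) g⁻¹ = g x g⁻¹` gives `g x g⁻¹ = x`
          have h2 : g * x * g⁻¹ = x := by
            have h3 : g * (g * x * g⁻¹) * g⁻¹ = g * x * g⁻¹ := h1
            have h4 : g * x * g⁻¹ = g⁻¹ * (g * (g * x * g⁻¹) * g⁻¹) * g := by group
            rw [h4, h3]; group
          rw [← h2]; exact hx

end

end Cfsg.Agent.Helper50.BG16
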