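import Cfsg.Agent.S1350
import Cfsg.Agent.S1354
import Cfsg.Agent.S1355
import Cfsg.Agent.S1356
import Cfsg.Agent.S1364
import Cfsg.Agent.S1365
import Cfsg.Agent.S1370
import Cfsg.Agent.Helper50.BG16D

/-!
# Bender--Glauberman section 16: the facts `KStarFacts` from Theorems A-D (helper50)

CONDITIONAL file: it cites the statements S1350, S1354, S1355, S1356, S1364, S1365, S1370.
-/

set_option autoImplicit false

namespace Cfsg.Agent.Helper50.BG16

open Cfsg

theorem kStarFacts_of {G : Type*} [Group G] [Finite G] (hG : Cfsg.IsMinSimpleOddOrder G)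
    (M : Subgroup G) (hM : IsCoatom M) (K U : Subgroup G)
    (hKU : Cfsg.IsSigmaDecomposition M K U) (hK1 : K ≠ ⊥) : KStarFacts M K U := by
  have h50 := (Cfsg.Agent.S1350.result hG M hM).1
  obtain ⟨h55a, h55b, h55c, -, -⟩ := Cfsg.Agent.S1355.result hG M hM
  obtain ⟨h56a, h56b, h56c⟩ := Cfsg.Agent.S1356.result hG M hM
  have h54 := (Cfsg.Agent.S1354.result hG M hM K hKU.cyclic hKU.hall).2 hK1
  obtain ⟨h64a, h64b, h64c, h64d⟩ := Cfsg.Agent.S1364.result hG M hM K U hKU hK1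
  obtain ⟨h65a, h65b⟩ := Cfsg.Agent.S1365.result hG M hM K U hKU hK1
  obtain ⟨h70a, h70b⟩ := Cfsg.Agent.S1370.result hG M hM K U hKU hK1
  exact ⟨h50, h55a, h55b, h55c, h56a, h56b, h56c, h54, h64a, h64b, h64c, h64d, h65a, h65b,
    h70a, h70b⟩

end Cfsg.Agent.Helper50.BG16
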