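import Mathlib
import Cfsg.Prelude.Def_OddOrderLocal
import Cfsg.Agent.Helper64.BG1372
import Cfsg.Agent.Helper60.BGAsmE
import Cfsg.Agent.Helper50.BG16A
import Cfsg.Agent.S1403
import Cfsg.Agent.S1404
import Cfsg.Agent.S1446
import Cfsg.Agent.Helper35.BG153I
import Cfsg.Agent.Helper23.RankTwo

/-!
# B-G Theorem 15.9 (statement S1435), part I (helper50)

`M = M_σ U K` of type P2 (`K ≠ 1`, `U ≠ 1`), `R` a Sylow `r`-subgroup of `U`, `H` a maximal subgroup
containing `N_G(R)`.  Part I: `U K ≤ H`, `H` is not conjugate to `M`, `H ∩ M_σ = 1`, `M ∩ H = U K`,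
`H` is not conjugate to `M*`, `κ(H) = ∅`, `|K| ∉ σ(H)`, `H_σ` nilpotent.
All inputs which are not landed unconditionally are statement-shaped hypotheses.
-/

set_option autoImplicit false
set_option linter.unusedVariables false
set_option linter.style.haveILetI false
set_option linter.unusedSectionVars false

namespace Cfsg.Agent.Helper50.BG159

open Cfsg Subgroup Cfsg.Agent.Helper29.BG10 Cfsg.Agent.Helper29.BG11 Cfsg.Agent.Helper60.BGAsm
open scoped commutatorElement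

variable {G : Type*} [Group G] [Finite G]

/-- a Sylow subgroup of an abelian subgroup `U` is normalized by everything normalizing `U` -/
theorem normalizer_le_normalizer_sylow_of_comm {U : Subgroup G} (hUab : IsMulCommutative U)
    {r : ℕ} [Fact r.Prime] (R : Sylow r U) :
    Subgroup.normalizer (U : Set G) ≤
      Subgroup.normalizer ((((R : Subgroup U).map U.subtype : Subgroup G)) : Set G) := by
  haveI := hUab
  have hnorm : (R : Subgroup U).Normal := inferInstance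
  have hchar : (R : Subgroup U).Characteristic := Sylow.characteristic_of_normal R hnorm
  apply le_normalizer_of_forall_conj_mem
  rintro k hk _ ⟨x, hx, rfl⟩
  let φ : MulAut U := Subgroup.normalizerMonoidHom U ⟨k, hk⟩
  have h1 : φ x ∈ (R : Subgroup U) := by
    have := hchar.fixed φ
    have h2 : x ∈ (R : Subgroup U).comap φ.symm.toMonoidHom := by
      rw [(Subgroup.characteristic_iff_comap_eq.mp hchar) φ.symm]; exact hx
    have h3 := (Subgroup.characteristic_iff_map_eq.mp hchar) φ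
    rw [← h3]
    exact ⟨x, hx, rfl⟩
  exact ⟨φ x, h1, rfl⟩

/-- (a) `U K ≤ H` -/
theorem sup_le_of_normalizer_le {M K U H : Subgroup G}
    (hKU : Cfsg.IsSigmaDecomposition M K U) (hUab : IsMulCommutative U)
    {r : ℕ} [Fact r.Prime] (R : Sylow r U)
    (hNR : Subgroup.normalizer (((R : Subgroup U).map U.subtype : Subgroup G) : Set G) ≤ H) :
    U ⊔ K ≤ H := by
  apply sup_le
  · exact (Subgroup.le_normalizer.trans (normalizer_le_normalizer_sylow_of_comm hUab R)).trans hNR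
  · exact (hKU.normal.trans (normalizer_le_normalizer_sylow_of_comm hUab R)).trans hNR

/-- a Sylow `r`-subgroup of `U` is a Sylow `r`-subgroup of `M` -/
theorem isSylowIn_sylow_U (hG : Cfsg.IsMinSimpleOddOrder G) {M K U : Subgroup G}
    (hM : IsCoatom M) (hKU : Cfsg.IsSigmaDecomposition M K U)
    {r : ℕ} [hr : Fact r.Prime] (hrU : r ∣ Nat.card U) (R : Sylow r U) :
    IsSylowIn r ((R : Subgroup U).map U.subtype) M := by
  have hUM : U ≤ M := hKU.compl.1
  have h1 : IsSylowIn r ((R : Subgroup U).map U.subtype) U := isSylowIn_map_sylow R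
  refine ⟨h1.1.trans hUM, h1.2.1, ?_⟩
  rw [← Subgroup.relIndex_mul_relIndex _ _ _ h1.1 hUM]
  intro hd
  rcases (Nat.Prime.dvd_mul hr.out).mp hd with h | h
  · exact h1.2.2 h
  · rw [relIndex_U_eq hKU] at h
    obtain ⟨hκ, hσ⟩ := not_mem_of_dvd_card_U' hG hM hKU hr.out hrU
    have hKσ : K ≤ Subgroup.normalizer ((Cfsg.sigmaCore M : Subgroup G) : Set G) :=
      hKU.hall.1.trans (Cfsg.Agent.Helper60.BGAsm.le_normalizer_sigmaCore M)
    have h4 := h.trans (Cfsg.Agent.Helper22.card_sup_dvd_of_le_normalizer K _ hKσ)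
    have h50 := (Cfsg.Agent.S1350.result hG M hM).1
    rcases (Nat.Prime.dvd_mul hr.out).mp h4 with h5 | h5
    · exact hκ (hKU.hall.2.1 r hr.out h5)
    · exact hσ (h50.2.1 r hr.out h5)

/-- `H` is not conjugate to `M` (in particular `H ≠ M`) -/
theorem ne_conj_of_normalizer_le (hG : Cfsg.IsMinSimpleOddOrder G) {M K U H : Subgroup G}
    (hM : IsCoatom M) (hKU : Cfsg.IsSigmaDecomposition M K U)
    {r : ℕ} [hr : Fact r.Prime] (hrU : r ∣ Nat.card U) (R : Sylow r U)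
    (hNR : Subgroup.normalizer (((R : Subgroup U).map U.subtype : Subgroup G) : Set G) ≤ H) (g : G) :
    H ≠ M.map (MulAut.conj g).toMonoidHom := by
  intro hH
  have hS := isSylowIn_sylow_U hG hM hKU hrU R
  obtain ⟨hκ, hσ⟩ := not_mem_of_dvd_card_U' hG hM hKU hr.out hrU
  apply hσ
  have hrM : r ∣ Nat.card M := hrU.trans (Subgroup.card_dvd_of_le hKU.compl.1)
  -- conjugate back by `g⁻¹`
  have hS' : IsSylowIn r (cj g⁻¹ ((R : Subgroup U).map U.subtype)) M := by
    have h1 : (R : Subgroup U).map U.subtype ≤ cj g M :=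
      (Subgroup.le_normalizer.trans hNR).trans (le_of_eq hH)
    have h2 := (hS.cj g⁻¹)
    -- `cj g⁻¹ R` is a Sylow subgroup of `cj g⁻¹ M`, of the same order as a Sylow subgroup of `M`
    refine ⟨?_, h2.2.1, ?_⟩
    · rw [cj_le_iff, inv_inv]; exact h1
    · have hle : cj g⁻¹ ((R : Subgroup U).map U.subtype) ≤ M := by
        rw [cj_le_iff, inv_inv]; exact h1
      intro hd
      have e1 := Cfsg.Agent.Helper64.BG1372.card_mul_relIndex hle
      have e2 := Cfsg.Agent.Helper64.BG1372.card_mul_relIndex hS.1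
      have e3 : Nat.card ↥(cj g⁻¹ ((R : Subgroup U).map U.subtype)) =
          Nat.card ↥((R : Subgroup U).map U.subtype) := by
        unfold cj
        exact Subgroup.card_map_of_injective (MulAut.conj g⁻¹).injective
      rw [e3, ← e2] at e1
      have e4 := Nat.eq_of_mul_eq_mul_left Nat.card_pos e1
      rw [e4] at hd
      exact hS.2.2 hd
  rw [mem_sigma_iff]
  refine ⟨hrM, _, hS', ?_⟩
  rw [normalizer_cj, cj_le_iff, inv_inv]
  exact hNR.trans (le_of_eq hH)

/-- S1446 for a `U K`-invariant nilpotent subgroup `V ≠ 1` of `M_σ` (helper64's `apply1446` with a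
weaker invariance hypothesis) -/
theorem apply1446' (hG : Cfsg.IsMinSimpleOddOrder G) {M K U : Subgroup G}
    (h : Cfsg.Agent.Helper64.BG1372.Setup M K U)
    {V : Subgroup G} (hV1 : V ≠ ⊥) (hVσ : V ≤ Cfsg.sigmaCore M)
    (hVn : U ⊔ K ≤ Subgroup.normalizer (V : Set G)) (hVnil : Group.IsNilpotent ↥V) :
    (Nat.card ↥K).Prime ∧
      Nat.card ↥V = Nat.card ↥(V ⊓ Subgroup.centralizer (K : Set G)) ^ Nat.card ↥K := by
  have hUKM : U ⊔ K ≤ M := sup_le h.hUM h.hKM
  have hne : U ⊔ K ≠ ⊤ := fun ht => h.hM.1 (top_le_iff.1 (ht ▸ hUKM))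
  have hsolv : Group.IsSolvable ↥(U ⊔ K) := hG.2.2.2 _ hne
  have hodd : Odd (Nat.card ↥(U ⊔ K)) := by
    have h1 : Nat.card ↥(U ⊔ K) ∣ Nat.card G := Subgroup.card_subgroup_dvd_card _
    exact hG.1.of_dvd_nat h1
  have hcop : (Nat.card ↥(U ⊔ K)).Coprime (Nat.card ↥V) :=
    Nat.Coprime.coprime_dvd_right (Subgroup.card_dvd_of_le hVσ) h.hcop
  have hCK : V ⊓ Subgroup.centralizer (U : Set G) = ⊥ := by
    rw [eq_bot_iff, ← h.hCU]
    exact inf_le_inf_right _ hVσ
  have hpr : ∀ x ∈ K, x ≠ 1 → V ⊓ Subgroup.centralizer ({x} : Set G) =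
      V ⊓ Subgroup.centralizer (K : Set G) := by
    intro x hx hx1
    have h1 := h.hpr x hx hx1
    apply le_antisymm
    · intro v hv
      have : v ∈ Cfsg.sigmaCore M ⊓ Subgroup.centralizer (K : Set G) := by
        rw [← h1]; exact ⟨hVσ hv.1, hv.2⟩
      exact ⟨hv.1, this.2⟩
    · intro v hv
      have : v ∈ Cfsg.sigmaCore M ⊓ Subgroup.centralizer ({x} : Set G) := by
        rw [h1]; exact ⟨hVσ hv.1, hv.2⟩
      exact ⟨hv.1, this.2⟩
  obtain ⟨h1, h2, -⟩ := Cfsg.Agent.S1446.result U K V h.hU1 h.hK1 h.hUK h.hKU h.hfrob hsolv hodd hV1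
    hVnil (le_sup_left.trans hVn) (le_sup_right.trans hVn) hcop hCK hpr
  exact ⟨h1, h2⟩

/-- (b) `H ∩ M_σ = 1` for every maximal subgroup `H ≠ M` containing `U K` -/
theorem inf_sigmaCore_eq_bot (hG : Cfsg.IsMinSimpleOddOrder G) (hU : UniquenessThm G)
    {M K U H : Subgroup G} (hH : IsCoatom H)
    (h : Cfsg.Agent.Helper64.BG1372.Setup M K U) (hUKH : U ⊔ K ≤ H) (hHM : H ≠ M) :
    H ⊓ Cfsg.sigmaCore M = ⊥ := by
  by_contra hD
  have hUKM : U ⊔ K ≤ M := sup_le h.hUM h.hKM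
  have hDnil : Group.IsNilpotent ↥(H ⊓ Cfsg.sigmaCore M) :=
    Cfsg.Agent.Helper35.BG153.isNilpotent_of_le' inf_le_right h.hnil
  have hcard : Nat.card ↥(H ⊓ Cfsg.sigmaCore M) ≠ 1 := fun hc => hD (Subgroup.card_eq_one.mp hc)
  obtain ⟨q, hq, hqd⟩ := Nat.exists_prime_and_dvd hcard
  haveI : Fact q.Prime := ⟨hq⟩
  obtain ⟨S, -, hS⟩ := exists_isSylowIn_ge (p := q) (N := H ⊓ Cfsg.sigmaCore M) (Y := ⊥) bot_le
    (IsPGroup.of_bot)
  have hS1 : S ≠ ⊥ := by
    rintro rfl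
    have e := Cfsg.Agent.Helper64.BG1372.card_mul_relIndex hS.1
    rw [Subgroup.card_bot, one_mul] at e
    rw [← e] at hqd
    exact hS.2.2 hqd
  have hUKD : U ⊔ K ≤ Subgroup.normalizer ((H ⊓ Cfsg.sigmaCore M : Subgroup G) : Set G) := by
    intro g hg
    exact mem_normalizer_inf (Subgroup.le_normalizer (hUKH hg))
      (Cfsg.Agent.Helper60.BGAsm.le_normalizer_sigmaCore M (hUKM hg))
  have hUKS : U ⊔ K ≤ Subgroup.normalizer (S : Set G) :=
    hUKD.trans (IsSylowIn.normalizer_le_of_isNilpotent hS hDnil)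
  have hV1 := Cfsg.Agent.Helper64.BG1372.omegaZ_ne_bot hS.2.1 hS1
  have hVr : IsPGroup q ↥(Cfsg.Agent.Helper64.BG1372.omegaZ q S) :=
    hS.2.1.to_le (Cfsg.Agent.Helper64.BG1372.omegaZ_le q S)
  have hVD : Cfsg.Agent.Helper64.BG1372.omegaZ q S ≤ H ⊓ Cfsg.sigmaCore M :=
    (Cfsg.Agent.Helper64.BG1372.omegaZ_le q S).trans hS.1
  obtain ⟨hKp, hcardV⟩ := apply1446' hG h hV1 (hVD.trans inf_le_right)
    (hUKS.trans (Cfsg.Agent.Helper64.BG1372.normalizer_le_normalizer_omegaZ q S)) hVr.isNilpotent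
  have h3 := h.three_le hG hKp
  have hlt : q ^ 2 < Nat.card ↥(Cfsg.Agent.Helper64.BG1372.omegaZ q S) := by
    have hCr : IsPGroup q ↥(Cfsg.Agent.Helper64.BG1372.omegaZ q S ⊓
        Subgroup.centralizer (K : Set G)) := hVr.to_le inf_le_left
    obtain ⟨j, hj⟩ := IsPGroup.iff_card.1 hCr
    have hj0 : j ≠ 0 := by
      rintro rfl
      rw [pow_zero] at hj
      rw [hj, one_pow] at hcardV
      exact hV1 (Subgroup.card_eq_one.1 hcardV)
    rw [hcardV, hj, ← pow_mul]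
    apply Nat.pow_lt_pow_right hq.one_lt
    have : 1 ≤ j := Nat.one_le_iff_ne_zero.2 hj0
    nlinarith
  have hrk : ¬ Cfsg.PRankLE q 2 ↥(Cfsg.Agent.Helper64.BG1372.omegaZ q S) := by
    rw [Cfsg.Agent.Helper23.not_pRankLE_subgroup_iff]
    exact ⟨_, le_rfl, Cfsg.Agent.Helper64.BG1372.isElementaryAbelian_omegaZ q S, hlt⟩
  obtain ⟨L, -, huniq⟩ := uniq_of_uniquenessThm hG hU _ hVr hrk
  have h1 := huniq M ⟨h.hM, (hVD.trans inf_le_right).trans (sigmaCore_le M)⟩
  have h2 := huniq H ⟨hH, hVD.trans inf_le_left⟩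
  exact hHM (h2.trans h1.symm)

/-- `M ∩ H = U K` -/
theorem inf_eq_sup (hG : Cfsg.IsMinSimpleOddOrder G) {M K U H : Subgroup G}
    (hKU : Cfsg.IsSigmaDecomposition M K U) (hUKH : U ⊔ K ≤ H)
    (hD : H ⊓ Cfsg.sigmaCore M = ⊥) : M ⊓ H = U ⊔ K := by
  apply le_antisymm
  · rintro m ⟨hmM, hmH⟩
    obtain ⟨u, hu, b, hb, rfl⟩ := hKU.compl.2.2.2 m hmM
    have hKσ : K ≤ Subgroup.normalizer ((Cfsg.sigmaCore M : Subgroup G) : Set G) :=
      hKU.hall.1.trans (Cfsg.Agent.Helper60.BGAsm.le_normalizer_sigmaCore M)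
    obtain ⟨k, hk, s, hs, rfl⟩ := Cfsg.Agent.Helper50.BG16.exists_mul_of_mem_sup_left hKσ hb
    have huk : u * k ∈ U ⊔ K :=
      Subgroup.mul_mem _ (Subgroup.mem_sup_left hu) (Subgroup.mem_sup_right hk)
    have hsH : s ∈ H := by
      have : s = (u * k)⁻¹ * (u * (k * s)) := by group
      rw [this]
      exact H.mul_mem (H.inv_mem (hUKH huk)) hmH
    have hs1 : s = 1 := by
      have : s ∈ H ⊓ Cfsg.sigmaCore M := ⟨hsH, hs⟩
      rwa [hD, Subgroup.mem_bot] at this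
    rw [hs1, mul_one]
    exact huk
  · exact le_inf (sup_le hKU.compl.1 hKU.hall.1) hUKH

end Cfsg.Agent.Helper50.BG159
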