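import Mathlib
import Cfsg.Prelude.Def_OddOrderLocal
import Cfsg.Agent.Helper50.BG159A
import Cfsg.Agent.S1429

/-!
# B-G Theorem 15.9 (statement S1435), part I continued (helper50)

`H` is not conjugate to `M*`, `κ(H) = ∅`, `|K| ∉ σ(H)`, `H_σ` is nilpotent, `K` acts without fixed
points on `H_σ`, `H_σ ∩ M* = 1`, and `U ≤ H_σ` implies `N_H(U) ≰ M`.
The inputs S1367, S1368, S1369, S1378, S1432 are statement-shaped hypotheses.
-/

set_option autoImplicit false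
set_option linter.unusedVariables false
set_option linter.style.haveILetI false
set_option linter.unusedSectionVars false

namespace Cfsg.Agent.Helper50.BG159

open Cfsg Subgroup Cfsg.Agent.Helper29.BG10 Cfsg.Agent.Helper29.BG11 Cfsg.Agent.Helper60.BGAsm
open scoped commutatorElement

variable {G : Type*} [Group G] [Finite G]

/-- a subgroup of prime order is generated by each of its nonidentity elements: `C_G(k) ≤ C_G(K)` -/
theorem centralizer_singleton_le_of_prime {K : Subgroup G} (hKp : (Nat.card K).Prime) {k : G}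
    (hk : k ∈ K) (hk1 : k ≠ 1) :
    Subgroup.centralizer ({k} : Set G) ≤ Subgroup.centralizer (K : Set G) := by
  haveI : Fact (Nat.card K).Prime := ⟨hKp⟩
  have hz : Subgroup.zpowers (⟨k, hk⟩ : K) = ⊤ :=
    zpowers_eq_top_of_prime_card rfl (fun h => hk1 (congrArg Subtype.val h))
  intro c hc
  rw [Subgroup.mem_centralizer_iff] at hc ⊢
  intro y hy
  have hy' : (⟨y, hy⟩ : K) ∈ Subgroup.zpowers (⟨k, hk⟩ : K) := by rw [hz]; trivial
  obtain ⟨n, hn⟩ := Subgroup.mem_zpowers_iff.mp hy'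
  have hyk : y = k ^ n := by
    have := congrArg Subtype.val hn
    simpa using this.symm
  have hck : Commute k c := hc k (Set.mem_singleton k)
  rw [hyk]
  exact (hck.zpow_left n).eq

/-- the order of `K` lies in `σ(M*)` when `1 ≠ K ≤ M*_σ` -/
theorem card_mem_sigma_of_le_sigmaCore (hG : Cfsg.IsMinSimpleOddOrder G) {K Mstar : Subgroup G}
    (hMstar : IsCoatom Mstar) (hKp : (Nat.card K).Prime) (hKσ : K ≤ Cfsg.sigmaCore Mstar) :
    Nat.card K ∈ Cfsg.sigma Mstar :=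
  (Cfsg.Agent.S1350.result hG Mstar hMstar).1.2.1 _ hKp (Subgroup.card_dvd_of_le hKσ)

/-- `H` is not conjugate to `M*` -/
theorem ne_conj_Mstar (hG : Cfsg.IsMinSimpleOddOrder G) {M K U H Mstar : Subgroup G}
    (hMstar : IsCoatom Mstar) (hKU : Cfsg.IsSigmaDecomposition M K U) (hK1 : K ≠ ⊥) (hU1 : U ≠ ⊥)
    (hKp : (Nat.card K).Prime) (hKσ : K ≤ Cfsg.sigmaCore Mstar)
    (h67 : Subgroup.centralizer (K : Set G) ≤ Mstar)
    (h68 : M ⊓ Mstar = K ⊔ (Cfsg.sigmaCore M ⊓ Subgroup.centralizer (K : Set G)))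
    (hUKH : U ⊔ K ≤ H) (g : G) : H ≠ Mstar.map (MulAut.conj g).toMonoidHom := by
  intro hH
  haveI : Fact (Nat.card K).Prime := ⟨hKp⟩
  have hqσ := card_mem_sigma_of_le_sigmaCore hG hMstar hKp hKσ
  have hKM : K ≤ Mstar := hKσ.trans (sigmaCore_le Mstar)
  have hKpg : IsPGroup (Nat.card K) K := IsPGroup.of_card (n := 1) (by rw [pow_one])
  have h1 : K ≤ cj g Mstar := (le_sup_right.trans hUKH).trans (le_of_eq hH)
  have h2 : cj g⁻¹ K ≤ Mstar := by
    rw [cj_le_iff, inv_inv]; exact h1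
  obtain ⟨m, hm, c, hc, hgmc⟩ :=
    (Cfsg.Agent.S1404.result hG Mstar hMstar (Nat.card K) hqσ K hKpg hK1 hKM).1 g⁻¹ h2
  have hgM : g ∈ Mstar := by
    have : g = (m * c)⁻¹ := by rw [← hgmc, inv_inv]
    rw [this]
    exact Mstar.inv_mem (Mstar.mul_mem hm (h67 hc))
  have hHM : H = Mstar := by
    rw [hH]
    exact cj_eq_self_of_mem hgM
  have hU : U ≤ M ⊓ Mstar := le_inf hKU.compl.1 ((le_sup_left.trans hUKH).trans (le_of_eq hHM))
  rw [h68] at hU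
  apply hU1
  rw [eq_bot_iff, ← hKU.compl.2.2.1]
  exact le_inf le_rfl (hU.trans (sup_le_sup_left inf_le_left K))

/-- `κ(H) = ∅` -/
theorem kappa_eq_empty {M H Mstar : Subgroup G} (hH : IsCoatom H)
    (h69 : ∀ H : Subgroup G, IsCoatom H → (Cfsg.kappa H).Nonempty →
      ∃ g : G, H = M.map (MulAut.conj g).toMonoidHom ∨ H = Mstar.map (MulAut.conj g).toMonoidHom)
    (hnM : ∀ g : G, H ≠ M.map (MulAut.conj g).toMonoidHom)
    (hnMs : ∀ g : G, H ≠ Mstar.map (MulAut.conj g).toMonoidHom) : Cfsg.kappa H = ∅ := by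
  by_contra hne
  obtain ⟨g, h | h⟩ := h69 H hH (Set.nonempty_iff_ne_empty.mpr hne)
  · exact hnM g h
  · exact hnMs g h

/-- `σ(H) ∩ σ(M*) = ∅` -/
theorem sigma_disjoint_Mstar {H Mstar : Subgroup G} (hH : IsCoatom H) (hMstar : IsCoatom Mstar)
    (h78 : ∀ M N : Subgroup G, IsCoatom M → IsCoatom N → (Cfsg.sigma M ∩ Cfsg.sigma N).Nonempty →
      ∃ g : G, N = M.map (MulAut.conj g).toMonoidHom)
    (hnMs : ∀ g : G, H ≠ Mstar.map (MulAut.conj g).toMonoidHom) {q : ℕ}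
    (hqH : q ∈ Cfsg.sigma H) : q ∉ Cfsg.sigma Mstar := by
  intro hqM
  obtain ⟨g, hg⟩ := h78 Mstar H hMstar hH ⟨q, hqM, hqH⟩
  exact hnMs g hg

/-- `H_σ` is nilpotent -/
theorem isNilpotent_sigmaCore (hG : Cfsg.IsMinSimpleOddOrder G) {K H : Subgroup G}
    (hH : IsCoatom H) (hKp : (Nat.card K).Prime) (hKH : K ≤ H) (hκ : Cfsg.kappa H = ∅)
    (hqσ : Nat.card K ∉ Cfsg.sigma H) : Group.IsNilpotent ↥(Cfsg.sigmaCore H) := by
  haveI : Fact (Nat.card K).Prime := ⟨hKp⟩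
  have hqH : Nat.card K ∣ Nat.card H := Subgroup.card_dvd_of_le hKH
  refine (Cfsg.Agent.S1429.result hG H hH ?_ (Nat.card K) hqH ?_ default).2.2
  · intro h
    have := h _ hKp hqH hqσ
    rw [hκ] at this
    exact this
  · rintro (h | h)
    · exact hqσ h
    · rw [hκ] at h; exact h

/-- `K` acts without fixed points on `H_σ` -/
theorem fpf_on_sigmaCore {K H Mstar : Subgroup G} (hH : IsCoatom H) (hMstar : IsCoatom Mstar)
    (hKp : (Nat.card K).Prime) (hKH : K ≤ H) (hκ : Cfsg.kappa H = ∅)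
    (hqσ : Nat.card K ∉ Cfsg.sigma H)
    (h67 : Subgroup.centralizer (K : Set G) ≤ Mstar) (hHMs : H ≠ Mstar)
    (h32 : ∀ x ∈ Cfsg.sigmaCore H, x ≠ 1 → ∀ x' ∈ H ⊓ Subgroup.centralizer ({x} : Set G), x' ≠ 1 →
      (∀ p : ℕ, p.Prime → p ∣ orderOf x' → p ∉ Cfsg.sigma H) →
      ((∀ p : ℕ, p.Prime → p ∣ orderOf x' → p ∈ Cfsg.kappa H) ∧
          Subgroup.centralizer ({x} : Set G) ≤ H) ∨
        ((∀ p : ℕ, p.Prime → p ∣ orderOf x' → p ∈ Cfsg.tau2 H) ∧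
          (∃ L : Subgroup G, IsCoatom L ∧ ∀ p : ℕ, p.Prime → p ∣ orderOf x' → p ∈ Cfsg.sigma L) ∧
          (Subgroup.centralizer ({x'} : Set G) ≤ H ∧ ∀ L : Subgroup G, IsCoatom L →
            Subgroup.centralizer ({x'} : Set G) ≤ L → L = H))) :
    ∀ k ∈ K, k ≠ 1 → ∀ y ∈ Cfsg.sigmaCore H, y ≠ 1 → k * y ≠ y * k := by
  intro k hk hk1 y hy hy1 hcomm
  have hko : orderOf k = Nat.card K := by
    have h1 : orderOf k ∣ Nat.card K := by
      have := orderOf_dvd_natCard (⟨k, hk⟩ : K)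
      rwa [Subgroup.orderOf_mk] at this
    rcases (Nat.dvd_prime hKp).mp h1 with h | h
    · exact absurd (orderOf_eq_one_iff.mp h) hk1
    · exact h
  have hkc : k ∈ H ⊓ Subgroup.centralizer ({y} : Set G) := by
    refine ⟨hKH hk, ?_⟩
    show k ∈ Subgroup.centralizer ({y} : Set G)
    rw [Subgroup.mem_centralizer_iff]
    intro z hz
    rw [Set.mem_singleton_iff] at hz
    rw [hz]; exact hcomm.symm
  have hprimes : ∀ p : ℕ, p.Prime → p ∣ orderOf k → p ∉ Cfsg.sigma H := by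
    intro p hp hpd
    rw [hko] at hpd
    rw [(Nat.prime_dvd_prime_iff_eq hp hKp).mp hpd]
    exact hqσ
  rcases h32 y hy hy1 k hkc hk1 hprimes with ⟨h1, -⟩ | ⟨-, -, -, h2⟩
  · have := h1 (Nat.card K) hKp (by rw [hko])
    rw [hκ] at this
    exact this
  · exact hHMs (h2 Mstar hMstar ((centralizer_singleton_le_of_prime hKp hk hk1).trans h67)).symm

/-- (P0) `H_σ ∩ M* = 1` -/
theorem sigmaCore_inf_Mstar_eq_bot (hG : Cfsg.IsMinSimpleOddOrder G) {K H Mstar : Subgroup G}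
    (hH : IsCoatom H) (hMstar : IsCoatom Mstar) (hK1 : K ≠ ⊥) (hKH : K ≤ H)
    (hKσ : K ≤ Cfsg.sigmaCore Mstar)
    (hdisj : ∀ q : ℕ, q ∈ Cfsg.sigma H → q ∉ Cfsg.sigma Mstar)
    (hfpf : ∀ k ∈ K, k ≠ 1 → ∀ y ∈ Cfsg.sigmaCore H, y ≠ 1 → k * y ≠ y * k) :
    Cfsg.sigmaCore H ⊓ Mstar = ⊥ := by
  have hcop : (Nat.card ↥(Cfsg.sigmaCore H)).Coprime (Nat.card ↥(Cfsg.sigmaCore Mstar)) := by
    apply Nat.coprime_of_dvd
    intro q hq h1 h2
    exact hdisj q ((Cfsg.Agent.S1350.result hG H hH).1.2.1 q hq h1)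
      ((Cfsg.Agent.S1350.result hG Mstar hMstar).1.2.1 q hq h2)
  have hbot : Cfsg.sigmaCore H ⊓ Cfsg.sigmaCore Mstar = ⊥ := inf_eq_bot_of_coprime_card hcop
  obtain ⟨⟨k, hk⟩, hk1'⟩ := (Subgroup.ne_bot_iff_exists_ne_one).mp hK1
  have hk1 : k ≠ 1 := fun h => hk1' (Subtype.ext h)
  rw [eq_bot_iff]
  intro w hw
  rw [Subgroup.mem_bot]
  by_contra hw1
  have hkH : k ∈ H := hKH hk
  have hkM : k ∈ Mstar := sigmaCore_le Mstar (hKσ hk)
  -- the commutator `w k w⁻¹ k⁻¹` lies in `H_σ ∩ M*_σ = 1`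
  have hc1 : w * k * w⁻¹ * k⁻¹ ∈ Cfsg.sigmaCore H := by
    have h1 : k * w⁻¹ * k⁻¹ ∈ Cfsg.sigmaCore H :=
      (Subgroup.mem_normalizer_iff.mp
        (Cfsg.Agent.Helper60.BGAsm.le_normalizer_sigmaCore H hkH) w⁻¹).mp
        ((Cfsg.sigmaCore H).inv_mem hw.1)
    have : w * k * w⁻¹ * k⁻¹ = w * (k * w⁻¹ * k⁻¹) := by group
    rw [this]
    exact (Cfsg.sigmaCore H).mul_mem hw.1 h1
  have hc2 : w * k * w⁻¹ * k⁻¹ ∈ Cfsg.sigmaCore Mstar := by
    have h1 : w * k * w⁻¹ ∈ Cfsg.sigmaCore Mstar :=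
      (Subgroup.mem_normalizer_iff.mp
        (Cfsg.Agent.Helper60.BGAsm.le_normalizer_sigmaCore Mstar hw.2) k).mp (hKσ hk)
    exact (Cfsg.sigmaCore Mstar).mul_mem h1 ((Cfsg.sigmaCore Mstar).inv_mem (hKσ hk))
  have hc : w * k * w⁻¹ * k⁻¹ = 1 := by
    have : w * k * w⁻¹ * k⁻¹ ∈ Cfsg.sigmaCore H ⊓ Cfsg.sigmaCore Mstar := ⟨hc1, hc2⟩
    rwa [hbot, Subgroup.mem_bot] at this
  apply hfpf k hk hk1 w hw.1 hw1
  have : w * k = k * w := by
    have h2 : w * k * w⁻¹ = k := by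
      calc w * k * w⁻¹ = (w * k * w⁻¹ * k⁻¹) * k := by group
        _ = k := by rw [hc, one_mul]
    calc w * k = (w * k * w⁻¹) * w := by group
      _ = k * w := by rw [h2]
  exact this.symm

/-- conclusion (4): if `U ≤ H_σ` then `N_H(U) ≰ M` -/
theorem normalizer_not_le {M K U H : Subgroup G} (hM : IsCoatom M) (hH : IsCoatom H)
    (hHM : H ≠ M) (hinf : M ⊓ H = U ⊔ K) (hKU : K ≤ Subgroup.normalizer (U : Set G))
    (hnil : Group.IsNilpotent ↥(Cfsg.sigmaCore H))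
    (hKσ : K ⊓ Cfsg.sigmaCore H = ⊥) (hUσ : U ≤ Cfsg.sigmaCore H) :
    ¬ H ⊓ Subgroup.normalizer (U : Set G) ≤ M := by
  intro hle
  have hσH : Cfsg.sigmaCore H ≤ H := sigmaCore_le H
  -- `H_σ ∩ M = U`
  have hUeq : Cfsg.sigmaCore H ⊓ M = U := by
    apply le_antisymm
    · rintro x ⟨hxσ, hxM⟩
      have hx : x ∈ U ⊔ K := by rw [← hinf]; exact ⟨hxM, hσH hxσ⟩
      obtain ⟨k, hk, u, hu, rfl⟩ := Cfsg.Agent.Helper50.BG16.exists_mul_of_mem_sup_left hKU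
        (by rwa [sup_comm] at hx)
      have hk1 : k ∈ K ⊓ Cfsg.sigmaCore H := by
        refine ⟨hk, ?_⟩
        have : k = (k * u) * u⁻¹ := by group
        rw [this]
        exact (Cfsg.sigmaCore H).mul_mem hxσ ((Cfsg.sigmaCore H).inv_mem (hUσ hu))
      rw [hKσ, Subgroup.mem_bot] at hk1
      rw [hk1, one_mul]; exact hu
    · exact le_inf hUσ ((le_sup_left.trans (le_of_eq hinf.symm)).trans inf_le_left)
  by_cases hUtop : U = Cfsg.sigmaCore H
  · -- `N_G(U) ≥ H`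
    apply hHM
    have hHN : H ≤ Subgroup.normalizer (U : Set G) := by
      rw [hUtop]; exact Cfsg.Agent.Helper60.BGAsm.le_normalizer_sigmaCore H
    have hHM' : H ≤ M := (le_inf le_rfl hHN).trans hle
    rcases hH.le_iff.mp hHM' with h | h
    · exact absurd h hM.1
    · exact h.symm
  · -- the normalizer condition in the nilpotent group `H_σ`
    haveI := hnil
    have hlt : U.subgroupOf (Cfsg.sigmaCore H) < ⊤ := by
      rw [lt_top_iff_ne_top]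
      intro h
      apply hUtop
      exact le_antisymm hUσ (Subgroup.subgroupOf_eq_top.mp h)
    have hnc := Group.normalizerCondition_of_isNilpotent (G := ↥(Cfsg.sigmaCore H)) _ hlt
    obtain ⟨x, hxN, hxU⟩ := SetLike.exists_of_lt hnc
    have hxU' : (x : G) ∉ U := fun h => hxU (Subgroup.mem_subgroupOf.mpr h)
    apply hxU'
    rw [← hUeq]
    refine ⟨x.2, hle ⟨hσH x.2, ?_⟩⟩
    show (x : G) ∈ Subgroup.normalizer (U : Set G)
    rw [Subgroup.mem_normalizer_iff]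
    intro u
    have hx' := Subgroup.mem_normalizer_iff.mp hxN
    constructor
    · intro hu
      have := (hx' ⟨u, hUσ hu⟩).mp (Subgroup.mem_subgroupOf.mpr hu)
      exact Subgroup.mem_subgroupOf.mp this
    · intro hu
      have huσ : u ∈ Cfsg.sigmaCore H := by
        have h1 : (x : G)⁻¹ * ((x : G) * u * (x : G)⁻¹) * (x : G) ∈ Cfsg.sigmaCore H :=
          (Cfsg.sigmaCore H).mul_mem ((Cfsg.sigmaCore H).mul_mem
            ((Cfsg.sigmaCore H).inv_mem x.2) (hUσ hu)) x.2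
        have e : (x : G)⁻¹ * ((x : G) * u * (x : G)⁻¹) * (x : G) = u := by group
        rwa [e] at h1
      have := (hx' ⟨u, huσ⟩).mpr (Subgroup.mem_subgroupOf.mpr hu)
      exact Subgroup.mem_subgroupOf.mp this

/-- **Part I of S1435**, packaged.  `hKσ` is the inclusion `K ≤ M*_σ` (from the hypothesis
`K = M*_σ ∩ C_G(K*)` of S1435); `hUab` = first half of S1363; `h53` = S1353; `h30` = S1430(1);
`hKp` = S1372(1); `h67` = S1367(2) for `Y = K`; `h68` = S1368(1); `h69` = S1369(2); `h78` = S1378(2);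
`h32` = S1432 for `H`. -/
theorem partI (hG : Cfsg.IsMinSimpleOddOrder G) {M K U : Subgroup G} (hM : IsCoatom M)
    (hKU : Cfsg.IsSigmaDecomposition M K U) (hK1 : K ≠ ⊥) (hU1 : U ≠ ⊥)
    {Mstar : Subgroup G} (hMstar : IsCoatom Mstar) (hKσ : K ≤ Cfsg.sigmaCore Mstar)
    {r : ℕ} [Fact r.Prime] (hr : r ∣ Nat.card U) (R : Sylow r U) {H : Subgroup G} (hH : IsCoatom H)
    (hNR : Subgroup.normalizer (((R : Subgroup U).map U.subtype : Subgroup G) : Set G) ≤ H)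
    (hUab : IsMulCommutative U)
    (h53 : ∀ k ∈ K, k ≠ 1 → U ⊓ Subgroup.centralizer ({k} : Set G) = ⊥)
    (h30 : ∀ k ∈ K, k ≠ 1 → Cfsg.sigmaCore M ⊓ Subgroup.centralizer ({k} : Set G) =
      Cfsg.sigmaCore M ⊓ Subgroup.centralizer (K : Set G))
    (hKp : (Nat.card K).Prime)
    (h67 : Subgroup.centralizer (K : Set G) ≤ Mstar)
    (h68 : M ⊓ Mstar = K ⊔ (Cfsg.sigmaCore M ⊓ Subgroup.centralizer (K : Set G)))
    (h69 : ∀ H : Subgroup G, IsCoatom H → (Cfsg.kappa H).Nonempty →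
      ∃ g : G, H = M.map (MulAut.conj g).toMonoidHom ∨ H = Mstar.map (MulAut.conj g).toMonoidHom)
    (h78 : ∀ M N : Subgroup G, IsCoatom M → IsCoatom N → (Cfsg.sigma M ∩ Cfsg.sigma N).Nonempty →
      ∃ g : G, N = M.map (MulAut.conj g).toMonoidHom)
    (h32 : ∀ x ∈ Cfsg.sigmaCore H, x ≠ 1 → ∀ x' ∈ H ⊓ Subgroup.centralizer ({x} : Set G), x' ≠ 1 →
      (∀ p : ℕ, p.Prime → p ∣ orderOf x' → p ∉ Cfsg.sigma H) →
      ((∀ p : ℕ, p.Prime → p ∣ orderOf x' → p ∈ Cfsg.kappa H) ∧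
          Subgroup.centralizer ({x} : Set G) ≤ H) ∨
        ((∀ p : ℕ, p.Prime → p ∣ orderOf x' → p ∈ Cfsg.tau2 H) ∧
          (∃ L : Subgroup G, IsCoatom L ∧ ∀ p : ℕ, p.Prime → p ∣ orderOf x' → p ∈ Cfsg.sigma L) ∧
          (Subgroup.centralizer ({x'} : Set G) ≤ H ∧ ∀ L : Subgroup G, IsCoatom L →
            Subgroup.centralizer ({x'} : Set G) ≤ L → L = H))) :
    U ⊔ K ≤ H ∧ H ⊓ Cfsg.sigmaCore M = ⊥ ∧ M ⊓ H = U ⊔ K ∧
      (∀ g : G, H ≠ M.map (MulAut.conj g).toMonoidHom) ∧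
      (∀ g : G, H ≠ Mstar.map (MulAut.conj g).toMonoidHom) ∧
      Cfsg.kappa H = ∅ ∧ Nat.card K ∉ Cfsg.sigma H ∧ Group.IsNilpotent ↥(Cfsg.sigmaCore H) ∧
      (∀ k ∈ K, k ≠ 1 → ∀ y ∈ Cfsg.sigmaCore H, y ≠ 1 → k * y ≠ y * k) ∧
      Cfsg.sigmaCore H ⊓ Mstar = ⊥ ∧ K ⊓ Cfsg.sigmaCore H = ⊥ ∧
      (U ≤ Cfsg.sigmaCore H → ¬ H ⊓ Subgroup.normalizer (U : Set G) ≤ M) := by
  have hU : UniquenessThm G := fun K hK hK2 hK3 => Cfsg.Agent.S1403.result hG K hK hK2 hK3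
  have hUKH : U ⊔ K ≤ H := sup_le_of_normalizer_le hKU hUab R hNR
  have hnM := ne_conj_of_normalizer_le hG hM hKU hr R hNR
  have hHM : H ≠ M := by
    have := hnM 1
    intro h
    apply this
    rw [h]
    ext x
    simp
  have hsetup := Cfsg.Agent.Helper64.BG1372.setup_of hG hU hM hKU hK1 hU1 h53 h30
    (fun hP1 p _ hpM hp S => (Cfsg.Agent.S1429.result hG M hM hP1 p hpM hp S).2)
  have hD := inf_sigmaCore_eq_bot hG hU hH hsetup hUKH hHM
  have hinf := inf_eq_sup hG hKU hUKH hD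
  have hnMs := ne_conj_Mstar hG hMstar hKU hK1 hU1 hKp hKσ h67 h68 hUKH
  have hκ := kappa_eq_empty hH h69 hnM hnMs
  have hqMs := card_mem_sigma_of_le_sigmaCore hG hMstar hKp hKσ
  have hqσ : Nat.card K ∉ Cfsg.sigma H := fun h => sigma_disjoint_Mstar hH hMstar h78 hnMs h hqMs
  have hKH : K ≤ H := le_sup_right.trans hUKH
  have hnil := isNilpotent_sigmaCore hG hH hKp hKH hκ hqσ
  have hHMs : H ≠ Mstar := by
    have := hnMs 1
    intro h
    apply this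
    rw [h]
    ext x
    simp
  have hfpf := fpf_on_sigmaCore hH hMstar hKp hKH hκ hqσ h67 hHMs h32
  have hp0 := sigmaCore_inf_Mstar_eq_bot hG hH hMstar hK1 hKH hKσ
    (fun q hq => sigma_disjoint_Mstar hH hMstar h78 hnMs hq) hfpf
  have hKσH : K ⊓ Cfsg.sigmaCore H = ⊥ := by
    apply inf_eq_bot_of_coprime_card
    rw [Nat.Prime.coprime_iff_not_dvd hKp]
    intro hd
    exact hqσ ((Cfsg.Agent.S1350.result hG H hH).1.2.1 _ hKp hd)
  exact ⟨hUKH, hD, hinf, hnM, hnMs, hκ, hqσ, hnil, hfpf, hp0, hKσH,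
    normalizer_not_le hM hH hHM hinf hKU.normal hnil hKσH⟩

end Cfsg.Agent.Helper50.BG159
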