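import Mathlib
import Cfsg.Agent.Helper30.HallSym.Defs
import Cfsg.Agent.Helper33.HallSymGC
import Cfsg.Agent.Helper33.HallSymGD
import Cfsg.Agent.S0713

/-!
# Hall subgroups of alternating groups, piece (A-8) of board post #6463 (helper30)

A primitive Hall `π`-subgroup `M` of `alternatingGroup α` with two primes of `π` up to `|α|` has all
of them.  `alt_primitive_hall_allIn_of` takes the pieces (A-5), (A-6), (A-7) (for this `M`) as
explicit hypotheses.
-/

set_option autoImplicit false

open Equiv Equiv.Perm MulAction Subgroup Cfsg Cfsg.Agent.Helper30.HallSym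
open scoped Nat Pointwise
universe u

namespace Cfsg.Agent.Helper50.HallSym

/-- `v_ℓ(d!) = 1` for a prime `ℓ ≤ d < 2ℓ`. -/
theorem padicValNat_factorial_eq_one {ℓ d : ℕ} (hℓ : ℓ.Prime) (h1 : ℓ ≤ d) (h2 : d < 2 * ℓ) :
    padicValNat ℓ d ! = 1 := by
  have : Fact ℓ.Prime := ⟨hℓ⟩
  obtain ⟨e, rfl⟩ : ∃ e, d = ℓ * 1 + e := ⟨d - ℓ, by omega⟩
  rw [padicValNat_factorial_mul_add 1 (by omega), padicValNat_factorial_mul]
  simp

/-- the order of `M` from its primes -/
theorem card_eq_of_primes {N R d ℓ : ℕ} (hNR : N * R * 2 = d !) (h2R : ¬ 2 ∣ R) (hℓ : ℓ.Prime)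
    (hℓ2 : ℓ ≠ 2) (hℓd : ℓ ≤ d) (hdℓ : d < 2 * ℓ) (hℓR : ¬ ℓ ∣ R)
    (hN : ∀ q : ℕ, q.Prime → q ∣ N → q = 2 ∨ q = ℓ) :
    N = 2 ^ (padicValNat 2 d ! - 1) * ℓ := by
  have hF2 : Fact (2 : ℕ).Prime := ⟨Nat.prime_two⟩
  have hFℓ : Fact ℓ.Prime := ⟨hℓ⟩
  have hd0 : d ! ≠ 0 := Nat.factorial_ne_zero d
  have hN0 : N ≠ 0 := by
    rintro rfl
    simp at hNR
    exact hd0 hNR.symm
  have hR0 : R ≠ 0 := by
    rintro rfl
    simp at hNR
    exact hd0 hNR.symm
  have hv2 : padicValNat 2 d ! = padicValNat 2 N + 1 := by
    rw [← hNR, padicValNat.mul (mul_ne_zero hN0 hR0) two_ne_zero, padicValNat.mul hN0 hR0,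
      padicValNat.eq_zero_of_not_dvd h2R, padicValNat_self]
  have hℓ2' : ¬ ℓ ∣ 2 := by
    intro h
    exact hℓ2 ((Nat.prime_dvd_prime_iff_eq hℓ Nat.prime_two).1 h)
  have hvℓ : padicValNat ℓ N = 1 := by
    have h1 := padicValNat_factorial_eq_one hℓ hℓd hdℓ
    rw [← hNR, padicValNat.mul (mul_ne_zero hN0 hR0) two_ne_zero, padicValNat.mul hN0 hR0,
      padicValNat.eq_zero_of_not_dvd hℓR, padicValNat.eq_zero_of_not_dvd hℓ2'] at h1
    omega
  have hrhs0 : 2 ^ (padicValNat 2 d ! - 1) * ℓ ≠ 0 :=
    mul_ne_zero (pow_ne_zero _ two_ne_zero) hℓ.ne_zero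
  refine Nat.eq_of_factorization_eq hN0 hrhs0 (fun q => ?_)
  by_cases hq : q.Prime
  · have hFq : Fact q.Prime := ⟨hq⟩
    rw [Nat.factorization_def _ hq, Nat.factorization_def _ hq,
      padicValNat.mul (pow_ne_zero _ two_ne_zero) hℓ.ne_zero, padicValNat.pow 2 _]
    by_cases hq2 : q = 2
    · subst hq2
      rw [padicValNat_self, padicValNat.eq_zero_of_not_dvd (fun h => hℓ2
        ((Nat.prime_dvd_prime_iff_eq Nat.prime_two hℓ).1 h).symm)]
      omega
    · by_cases hqℓ : q = ℓ
      · subst hqℓ
        rw [padicValNat_self, padicValNat.eq_zero_of_not_dvd hℓ2', hvℓ]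
        omega
      · have h1 : ¬ q ∣ N := fun h => by
          rcases hN q hq h with h' | h'
          · exact hq2 h'
          · exact hqℓ h'
        rw [padicValNat.eq_zero_of_not_dvd h1, padicValNat.eq_zero_of_not_dvd (fun h => hq2
          ((Nat.prime_dvd_prime_iff_eq hq Nat.prime_two).1 h)),
          padicValNat.eq_zero_of_not_dvd (fun h => hqℓ ((Nat.prime_dvd_prime_iff_eq hq hℓ).1 h))]
        omega
  · rw [Nat.factorization_eq_zero_of_not_prime _ hq, Nat.factorization_eq_zero_of_not_prime _ hq]

/-- a `2`-transitive group of degree `d` has order divisible by `d (d - 1)` -/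
theorem mul_pred_dvd_card_of_two_pretransitive {α : Type u} [Fintype α] [DecidableEq α]
    (M : Subgroup (Perm α)) (h2t : IsMultiplyPretransitive M α 2) (hd : 2 ≤ Fintype.card α) :
    Fintype.card α * (Fintype.card α - 1) ∣ Nat.card M := by
  have hnt : Nontrivial α := Fintype.one_lt_card_iff_nontrivial.mp (by omega)
  obtain ⟨a, b, hab⟩ := exists_pair_ne α
  have hs : ({a, b} : Set α).ncard = 2 := Set.ncard_pair hab
  have h1 := h2t.index_of_fixingSubgroup_mul hs
  rw [Nat.card_eq_fintype_card] at h1
  obtain ⟨e, he⟩ : ∃ e, Fintype.card α = e + 2 := ⟨Fintype.card α - 2, by omega⟩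
  have h2 : (fixingSubgroup M ({a, b} : Set α)).index = Fintype.card α * (Fintype.card α - 1) := by
    rw [he] at h1 ⊢
    have e1 : e + 2 - 2 = e := by omega
    have e2 : e + 2 - 1 = e + 1 := by omega
    rw [e1] at h1
    rw [e2]
    have e3 : (e + 2)! = (e + 2) * (e + 1) * e ! := by
      rw [Nat.factorial_succ, Nat.factorial_succ]; ring
    rw [e3] at h1
    exact Nat.eq_of_mul_eq_mul_right (Nat.factorial_pos e) h1
  rw [← h2]
  exact Subgroup.index_dvd_card _

/-- (A-8), with (A-5), (A-6), (A-7) for this `M` as explicit hypotheses -/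
theorem alt_primitive_hall_allIn_of {α : Type u} [Fintype α] [DecidableEq α] {π : Set ℕ}
    (M : Subgroup (Perm α)) (hM : IsPiHallOf π M (alternatingGroup α))
    (hprim : IsPreprimitive M α) (h2 : ¬ AtMostOne π (Fintype.card α))
    (hA5 : 5 ≤ Fintype.card α → ¬ 2 ∣ M.relIndex (alternatingGroup α) →
      IsMultiplyPretransitive M α 2)
    (hA6 : IsMultiplyPretransitive M α 2 → 5 ≤ Fintype.card α → (Fintype.card α).Prime →
      Nat.card M = 2 ^ (padicValNat 2 (Fintype.card α)! - 1) * Fintype.card α → False)
    (hA7 : IsMultiplyPretransitive M α 2 → 5 ≤ Fintype.card α → (Fintype.card α - 1).Prime →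
      Nat.card M = 2 ^ (padicValNat 2 (Fintype.card α)! - 1) * (Fintype.card α - 1) → False) :
    AllIn π (Fintype.card α) := by
  classical
  obtain ⟨hle, hMπ, hMidx⟩ := hM
  -- two primes
  obtain ⟨r, s, hr, hs, hrπ, hsπ, hrd, hsd, hrs⟩ : ∃ r s : ℕ, r.Prime ∧ s.Prime ∧ r ∈ π ∧ s ∈ π ∧
      r ≤ Fintype.card α ∧ s ≤ Fintype.card α ∧ r ≠ s := by
    unfold AtMostOne at h2
    push Not at h2
    obtain ⟨r, s, h⟩ := h2
    exact ⟨r, s, h⟩
  wlog hlt : r < s generalizing r s
  · exact this s r hs hr hsπ hrπ hsd hrd (Ne.symm hrs)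
      (lt_of_le_of_ne (not_lt.mp hlt) (Ne.symm hrs))
  have hd3 : 3 ≤ Fintype.card α := by
    have := hr.two_le
    omega
  have hnt : Nontrivial α := Fintype.one_lt_card_iff_nontrivial.mp (by omega)
  -- index and order
  have hidx : M.index = M.relIndex (alternatingGroup α) * 2 := by
    rw [← Subgroup.relIndex_mul_index hle, alternatingGroup.index_eq_two]
  have hNR : Nat.card M * M.relIndex (alternatingGroup α) * 2 = (Fintype.card α)! := by
    rw [mul_assoc, ← hidx, Subgroup.card_mul_index, Nat.card_eq_fintype_card, Fintype.card_perm]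
  by_cases h2π : (2 : ℕ) ∈ π
  swap
  · -- `M` is a Hall subgroup of `Perm α`
    have hH : IsPiHall π M := by
      refine ⟨hMπ, fun p hp hpπ hdiv => ?_⟩
      rw [hidx] at hdiv
      rcases (Nat.Prime.dvd_mul hp).1 hdiv with h | h
      · exact hMidx p hp hpπ h
      · have : p = 2 := (Nat.prime_dvd_prime_iff_eq hp Nat.prime_two).1 h
        exact h2π (this ▸ hpπ)
    exact Cfsg.Agent.Helper33.HallSym.primitive_hall_allIn M hH hprim h2
  intro q hq hqd
  by_cases hd4 : Fintype.card α ≤ 4
  · -- the two primes are 2 and 3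
    have hs4 : s ≤ 4 := hsd.trans hd4
    have hq4 : q ≤ 4 := hqd.trans hd4
    have hs3 : s = 3 := by
      interval_cases s
      · exact absurd hs (by decide)
      · exact absurd hs (by decide)
      · exfalso
        have : r ≤ 1 := by omega
        interval_cases r
        · exact absurd hr (by decide)
        · exact absurd hr (by decide)
      · rfl
      · exact absurd hs (by decide)
    interval_cases q
    · exact absurd hq (by decide)
    · exact absurd hq (by decide)
    · exact h2π
    · rw [← hs3]; exact hsπ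
    · exact absurd hq (by decide)
  · push Not at hd4
    have hd5 : 5 ≤ Fintype.card α := hd4
    -- cycles of odd prime length
    have hcyc : ∀ t : ℕ, t.Prime → t ≠ 2 → t ∈ π → t ≤ Fintype.card α →
        ∃ c ∈ M, c.IsCycle ∧ c.support.card = t := by
      intro t ht ht2 htπ htd
      have : Fact t.Prime := ⟨ht⟩
      refine Cfsg.Agent.Helper33.HallSym.exists_prime_cycle_mem htd M ?_
      rw [hidx]
      intro hdiv
      rcases (Nat.Prime.dvd_mul ht).1 hdiv with h | h
      · exact hMidx t ht htπ h
      · exact ht2 ((Nat.prime_dvd_prime_iff_eq ht Nat.prime_two).1 h)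
    by_cases hJ : ∃ t : ℕ, t.Prime ∧ t ≠ 2 ∧ t ∈ π ∧ t + 3 ≤ Fintype.card α
    · obtain ⟨t, ht, ht2, htπ, ht3⟩ := hJ
      obtain ⟨c, hcM, hc, hcs⟩ := hcyc t ht ht2 htπ (by omega)
      have hA : alternatingGroup α ≤ M :=
        Cfsg.Agent.S0713.result M hprim ht hd5 ht3 hc hcs hcM
      apply hMπ q hq
      have h1 : Nat.card (alternatingGroup α) ∣ Nat.card M := Subgroup.card_dvd_of_le hA
      refine Dvd.dvd.trans ?_ h1
      have h3 : 2 * Nat.card (alternatingGroup α) = (Fintype.card α)! := by
        rw [two_mul_nat_card_alternatingGroup, Nat.card_eq_fintype_card, Fintype.card_perm]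
      have hqd' : q ∣ (Fintype.card α)! := (Nat.Prime.dvd_factorial hq).mpr hqd
      by_cases hq2 : q = 2
      · subst hq2
        have h4 : 4 ∣ (Fintype.card α)! := by
          have : (4 : ℕ) ∣ 4 ! := by decide
          exact this.trans (Nat.factorial_dvd_factorial (by omega))
        rw [← h3] at h4
        have : 2 * 2 ∣ 2 * Nat.card (alternatingGroup α) := by simpa using h4
        exact Nat.dvd_of_mul_dvd_mul_left (by norm_num) this
      · rw [← h3] at hqd'
        exact Nat.Coprime.dvd_of_dvd_mul_left
          ((Nat.coprime_primes hq Nat.prime_two).mpr hq2) hqd'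
    · push Not at hJ
      -- every odd prime dividing `|M|` lies in `π ∩ [d - 2, d]`
      have hoddp : ∀ t : ℕ, t.Prime → t ≠ 2 → t ∣ Nat.card M →
          t ∈ π ∧ t ≤ Fintype.card α ∧ Fintype.card α < t + 3 := by
        intro t ht ht2 htM
        have htπ := hMπ t ht htM
        have htd : t ≤ Fintype.card α := by
          have : t ∣ (Fintype.card α)! := by
            rw [← hNR]
            exact Dvd.dvd.mul_right (Dvd.dvd.mul_right htM _) _
          exact (Nat.Prime.dvd_factorial ht).mp this
        refine ⟨htπ, htd, ?_⟩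
        by_contra hcon
        push Not at hcon
        exact absurd hcon (by have := hJ t ht ht2 htπ; omega)
      have h2rel : ¬ 2 ∣ M.relIndex (alternatingGroup α) := hMidx 2 Nat.prime_two h2π
      have h2t := hA5 hd5 h2rel
      have hdvd := mul_pred_dvd_card_of_two_pretransitive M h2t (by omega)
      have hdM : Fintype.card α ∣ Nat.card M := (Dvd.intro _ rfl).trans hdvd
      have hd1M : Fintype.card α - 1 ∣ Nat.card M := (Dvd.intro_left _ rfl).trans hdvd
      rcases Nat.even_or_odd (Fintype.card α) with hev | hodd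
      · -- `d` even: `d - 1` is a prime of `π`
        exfalso
        obtain ⟨e, he⟩ := hev
        set q0 := Nat.minFac (Fintype.card α - 1) with hq0
        have hq0p : q0.Prime := Nat.minFac_prime (by omega)
        have hq0d : q0 ∣ Fintype.card α - 1 := Nat.minFac_dvd _
        have hq02 : q0 ≠ 2 := by
          intro h
          rw [h] at hq0d
          omega
        obtain ⟨hq0π, hq0le, hq0ge⟩ := hoddp q0 hq0p hq02 (hq0d.trans hd1M)
        have hq0le' : q0 ≤ Fintype.card α - 1 := Nat.le_of_dvd (by omega) hq0d
        have hq0eq : q0 = Fintype.card α - 1 := by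
          by_contra hne
          have h1 : q0 = Fintype.card α - 2 := by omega
          have h2 : q0 ∣ (Fintype.card α - 1) - q0 := Nat.dvd_sub hq0d dvd_rfl
          have h3 : (Fintype.card α - 1) - q0 = 1 := by omega
          rw [h3] at h2
          exact hq0p.one_lt.ne' (Nat.dvd_one.mp h2)
        have hdp' : (Fintype.card α - 1).Prime := hq0eq ▸ hq0p
        have hd1π : Fintype.card α - 1 ∈ π := hq0eq ▸ hq0π
        have hcard : Nat.card M =
            2 ^ (padicValNat 2 (Fintype.card α)! - 1) * (Fintype.card α - 1) := by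
          refine card_eq_of_primes hNR h2rel hdp' (by omega) (by omega) (by omega)
            (hMidx _ hdp' hd1π) ?_
          intro t ht htM
          by_cases ht2 : t = 2
          · exact Or.inl ht2
          · right
            obtain ⟨_, htle, htge⟩ := hoddp t ht ht2 htM
            have hteven : ¬ Even t := fun h => ht2 ((Nat.Prime.even_iff ht).mp h)
            by_contra hne
            have h1 : t = Fintype.card α ∨ t = Fintype.card α - 2 := by omega
            rcases h1 with h1 | h1
            · exact hteven ⟨e, by omega⟩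
            · exact hteven ⟨e - 1, by omega⟩
        exact hA7 h2t hd5 hdp' hcard
      · -- `d` odd: `d` is a prime of `π`
        obtain ⟨e, he⟩ := hodd
        set q0 := Nat.minFac (Fintype.card α) with hq0
        have hq0p : q0.Prime := Nat.minFac_prime (by omega)
        have hq0d : q0 ∣ Fintype.card α := Nat.minFac_dvd _
        have hq02 : q0 ≠ 2 := by
          intro h
          rw [h] at hq0d
          omega
        obtain ⟨hq0π, hq0le, hq0ge⟩ := hoddp q0 hq0p hq02 (hq0d.trans hdM)
        have hq0eq : q0 = Fintype.card α := by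
          obtain ⟨k, hk⟩ := hq0d
          have hq0pos : 3 ≤ q0 := by
            have := hq0p.two_le
            omega
          rcases Nat.lt_or_ge k 2 with hk2 | hk2
          · interval_cases k
            · omega
            · omega
          · exfalso
            have : 2 * q0 ≤ q0 * k := by nlinarith
            omega
        have hdp : (Fintype.card α).Prime := hq0eq ▸ hq0p
        have hdπ : Fintype.card α ∈ π := hq0eq ▸ hq0π
        by_cases hsub : (Fintype.card α - 2).Prime ∧ Fintype.card α - 2 ∈ π
        · -- then `d = 5`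
          obtain ⟨hd2p, hd2π⟩ := hsub
          -- `d - 1` is a power of `2`
          have hpow : ∀ t : ℕ, t.Prime → t ∣ Fintype.card α - 1 → t = 2 := by
            intro t ht htd
            by_contra ht2
            obtain ⟨_, htle, htge⟩ := hoddp t ht ht2 (htd.trans hd1M)
            have hteven : ¬ Even t := fun h => ht2 ((Nat.Prime.even_iff ht).mp h)
            have htle' : t ≤ Fintype.card α - 1 := Nat.le_of_dvd (by omega) htd
            have h1 : t = Fintype.card α - 1 ∨ t = Fintype.card α - 2 := by omega
            rcases h1 with h1 | h1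
            · exact hteven ⟨e, by omega⟩
            · have h2 : t ∣ (Fintype.card α - 1) - t := Nat.dvd_sub htd dvd_rfl
              have h3 : (Fintype.card α - 1) - t = 1 := by omega
              rw [h3] at h2
              exact ht.one_lt.ne' (Nat.dvd_one.mp h2)
          have h3nd : ¬ 3 ∣ Fintype.card α - 1 := by
            intro h
            have := hpow 3 Nat.prime_three h
            omega
          have hd5' : Fintype.card α = 5 := by
            have h3 : 3 ∣ Fintype.card α ∨ 3 ∣ Fintype.card α - 1 ∨ 3 ∣ Fintype.card α - 2 := by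
              rcases (by omega : Fintype.card α % 3 = 0 ∨ Fintype.card α % 3 = 1 ∨
                Fintype.card α % 3 = 2) with h | h | h
              · left; omega
              · right; left; omega
              · right; right; omega
            rcases h3 with h3 | h3 | h3
            · have := (Nat.prime_dvd_prime_iff_eq Nat.prime_three hdp).1 h3
              omega
            · exact absurd h3 h3nd
            · have := (Nat.prime_dvd_prime_iff_eq Nat.prime_three hd2p).1 h3
              omega
          rw [hd5'] at hqd hdπ hd2π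
          interval_cases q
          · exact absurd hq (by decide)
          · exact absurd hq (by decide)
          · exact h2π
          · exact hd2π
          · exact absurd hq (by decide)
          · exact hdπ
        · exfalso
          have hcard : Nat.card M =
              2 ^ (padicValNat 2 (Fintype.card α)! - 1) * Fintype.card α := by
            refine card_eq_of_primes hNR h2rel hdp (by omega) le_rfl (by omega)
              (hMidx _ hdp hdπ) ?_
            intro t ht htM
            by_cases ht2 : t = 2
            · exact Or.inl ht2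
            · right
              obtain ⟨htπ, htle, htge⟩ := hoddp t ht ht2 htM
              have hteven : ¬ Even t := fun h => ht2 ((Nat.Prime.even_iff ht).mp h)
              by_contra hne
              have h1 : t = Fintype.card α - 1 ∨ t = Fintype.card α - 2 := by omega
              rcases h1 with h1 | h1
              · exact hteven ⟨e, by omega⟩
              · exact hsub ⟨h1 ▸ ht, h1 ▸ htπ⟩
          exact hA6 h2t hd5 hdp hcard

end Cfsg.Agent.Helper50.HallSym
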