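import Mathlib

/-!
# Piece (NT-B) for the Hall-subgroups-of-`S_n` cluster (helper30, #6074)

`wreath_index_prime`: if `v_r((ab)!) = b * v_r(a!) + v_r(b!)` for a prime `r` and `a, b ≥ 1`, then
`a` is a power of `r` or `b < r`.  Proof by Legendre's formula and submultiplicativity of the
base-`r` digit sum.
-/

set_option autoImplicit false
open scoped Nat

namespace Cfsg.Agent.Helper50.HallSym

/-- digit sum of `d + r * n` for a digit `d < r`. -/
theorem digits_sum_add_mul {r : ℕ} (hr : 1 < r) (d n : ℕ) (hd : d < r) :
    (Nat.digits r (d + r * n)).sum = d + (Nat.digits r n).sum := by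
  by_cases h0 : d ≠ 0 ∨ n ≠ 0
  · rw [Nat.digits_add r hr d n hd h0, List.sum_cons]
  · push Not at h0
    obtain ⟨rfl, rfl⟩ := h0
    simp

theorem digits_sum_mul {r : ℕ} (hr : 1 < r) (n : ℕ) :
    (Nat.digits r (r * n)).sum = (Nat.digits r n).sum := by
  have := digits_sum_add_mul hr 0 n (by omega)
  simpa using this

/-- Legendre in additive form. -/
theorem legendre_add {r : ℕ} (hr : r.Prime) (n : ℕ) :
    (r - 1) * padicValNat r n ! + (Nat.digits r n).sum = n := by
  have : Fact r.Prime := ⟨hr⟩
  have h1 := sub_one_mul_padicValNat_factorial (p := r) n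
  have h2 := Nat.digit_sum_le r n
  omega

/-- digit sums are subadditive. -/
theorem digits_sum_add_le {r : ℕ} (hr : r.Prime) (m n : ℕ) :
    (Nat.digits r (m + n)).sum ≤ (Nat.digits r m).sum + (Nat.digits r n).sum := by
  have : Fact r.Prime := ⟨hr⟩
  have hfac : (m + n).choose n * m ! * n ! = (m + n)! := Nat.add_choose_mul_factorial_mul_factorial m n
  have hc : (m + n).choose n ≠ 0 := (Nat.choose_pos (Nat.le_add_left n m)).ne'
  have hv : padicValNat r (m + n)! =
      padicValNat r ((m + n).choose n) + padicValNat r m ! + padicValNat r n ! := by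
    rw [← hfac, padicValNat.mul (mul_ne_zero hc (Nat.factorial_ne_zero m)) (Nat.factorial_ne_zero n),
      padicValNat.mul hc (Nat.factorial_ne_zero m)]
  have h1 := legendre_add hr (m + n)
  have h2 := legendre_add hr m
  have h3 := legendre_add hr n
  rw [hv, mul_add, mul_add] at h1
  omega

theorem digits_sum_mul_digit_le {r : ℕ} (hr : r.Prime) (a d : ℕ) :
    (Nat.digits r (a * d)).sum ≤ d * (Nat.digits r a).sum := by
  induction d with
  | zero => simp
  | succ d ih =>
    have := digits_sum_add_le hr (a * d) a
    rw [Nat.mul_succ]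
    calc (Nat.digits r (a * d + a)).sum ≤ (Nat.digits r (a * d)).sum + (Nat.digits r a).sum := this
      _ ≤ d * (Nat.digits r a).sum + (Nat.digits r a).sum := by omega
      _ = (d + 1) * (Nat.digits r a).sum := by ring

/-- digit sums are submultiplicative. -/
theorem digits_sum_mul_le {r : ℕ} (hr : r.Prime) (a b : ℕ) :
    (Nat.digits r (a * b)).sum ≤ (Nat.digits r a).sum * (Nat.digits r b).sum := by
  have hr1 : 1 < r := hr.one_lt
  induction b using Nat.strong_induction_on with
  | _ b ih =>
    rcases Nat.eq_zero_or_pos b with rfl | hb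
    · simp
    · have hdiv : b / r < b := Nat.div_lt_self hb hr1
      have hmod : b % r < r := Nat.mod_lt _ (by omega)
      have hb' : b = b % r + r * (b / r) := (Nat.mod_add_div b r).symm
      have hsb : (Nat.digits r b).sum = b % r + (Nat.digits r (b / r)).sum := by
        conv_lhs => rw [hb']
        exact digits_sum_add_mul hr1 _ _ hmod
      have hab : a * b = a * (b % r) + r * (a * (b / r)) := by
        conv_lhs => rw [hb']
        ring
      rw [hab, hsb]
      calc (Nat.digits r (a * (b % r) + r * (a * (b / r)))).sum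
          ≤ (Nat.digits r (a * (b % r))).sum + (Nat.digits r (r * (a * (b / r)))).sum :=
            digits_sum_add_le hr _ _
        _ = (Nat.digits r (a * (b % r))).sum + (Nat.digits r (a * (b / r))).sum := by
            rw [digits_sum_mul hr1]
        _ ≤ (b % r) * (Nat.digits r a).sum + (Nat.digits r a).sum * (Nat.digits r (b / r)).sum :=
            Nat.add_le_add (digits_sum_mul_digit_le hr a _) (ih _ hdiv)
        _ = (Nat.digits r a).sum * (b % r + (Nat.digits r (b / r)).sum) := by ring

theorem digits_sum_pos {r : ℕ} (hr : 1 < r) {n : ℕ} (hn : 0 < n) : 0 < (Nat.digits r n).sum := by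
  induction n using Nat.strong_induction_on with
  | _ n ih =>
    have hdiv : n / r < n := Nat.div_lt_self hn hr
    have hmod : n % r < r := Nat.mod_lt _ (by omega)
    have hn' : n = n % r + r * (n / r) := (Nat.mod_add_div n r).symm
    have hs : (Nat.digits r n).sum = n % r + (Nat.digits r (n / r)).sum := by
      conv_lhs => rw [hn']
      exact digits_sum_add_mul hr _ _ hmod
    rw [hs]
    rcases Nat.eq_zero_or_pos (n % r) with h0 | h0
    · have : 0 < n / r := by
        rcases Nat.eq_zero_or_pos (n / r) with h1 | h1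
        · rw [h0, h1] at hn'
          omega
        · exact h1
      have := ih _ hdiv this
      omega
    · omega

theorem eq_pow_of_digits_sum_eq_one {r : ℕ} (hr : 1 < r) {n : ℕ}
    (h : (Nat.digits r n).sum = 1) : ∃ k : ℕ, n = r ^ k := by
  induction n using Nat.strong_induction_on with
  | _ n ih =>
    have hn : 0 < n := by
      rcases Nat.eq_zero_or_pos n with rfl | hn
      · simp at h
      · exact hn
    have hdiv : n / r < n := Nat.div_lt_self hn hr
    have hmod : n % r < r := Nat.mod_lt _ (by omega)
    have hn' : n = n % r + r * (n / r) := (Nat.mod_add_div n r).symm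
    have hs : (Nat.digits r n).sum = n % r + (Nat.digits r (n / r)).sum := by
      conv_lhs => rw [hn']
      exact digits_sum_add_mul hr _ _ hmod
    rw [hs] at h
    rcases Nat.eq_zero_or_pos (n / r) with h1 | h1
    · -- `n / r = 0`, so `n = n % r = 1`
      rw [h1] at h hn'
      simp at h
      refine ⟨0, ?_⟩
      rw [hn', h]
      simp
    · have hpos := digits_sum_pos hr h1
      have h2 : (Nat.digits r (n / r)).sum = 1 := by omega
      have h3 : n % r = 0 := by omega
      obtain ⟨k, hk⟩ := ih _ hdiv h2
      refine ⟨k + 1, ?_⟩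
      rw [hn', h3, hk, pow_succ]
      ring

theorem lt_of_digits_sum_eq_self {r : ℕ} (hr : 1 < r) {n : ℕ}
    (h : (Nat.digits r n).sum = n) : n < r := by
  by_contra hlt
  push Not at hlt
  have hmod : n % r < r := Nat.mod_lt _ (by omega)
  have hn' : n = n % r + r * (n / r) := (Nat.mod_add_div n r).symm
  have hs : (Nat.digits r n).sum = n % r + (Nat.digits r (n / r)).sum := by
    conv_lhs => rw [hn']
    exact digits_sum_add_mul hr _ _ hmod
  have h1 : 0 < n / r := Nat.div_pos hlt (by omega)
  have h2 := Nat.digit_sum_le r (n / r)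
  have h3 : n / r < r * (n / r) := by nlinarith
  omega

theorem wreath_index_prime {r a b : ℕ} (hr : r.Prime) (ha : 1 ≤ a) (hb : 1 ≤ b)
    (h : padicValNat r (a * b)! = b * padicValNat r a ! + padicValNat r b !) :
    (∃ k : ℕ, a = r ^ k) ∨ b < r := by
  have _hb' := hb
  have hr1 : 1 < r := hr.one_lt
  have h1 := legendre_add hr (a * b)
  have h2 := legendre_add hr a
  have h3 := legendre_add hr b
  have h4 := digits_sum_mul_le hr a b
  have h5 := digits_sum_pos hr1 (show 0 < a by omega)
  set sa := (Nat.digits r a).sum with hsa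
  set sb := (Nat.digits r b).sum with hsb
  set sab := (Nat.digits r (a * b)).sum with hsab
  have hsb_le : sb ≤ b := Nat.digit_sum_le r b
  -- `sab + b = b * sa + sb`
  have hkey : sab + b = b * sa + sb := by
    rw [h, mul_add, ← mul_assoc, mul_comm (r - 1) b, mul_assoc] at h1
    have e1 : a * b = b * ((r - 1) * padicValNat r a ! + sa) := by rw [h2, mul_comm]
    rw [mul_add] at e1
    omega
  by_cases hsa1 : sa = 1
  · left
    exact eq_pow_of_digits_sum_eq_one hr1 hsa1
  · right
    apply lt_of_digits_sum_eq_self hr1
    have h6 : 2 ≤ sa := by omega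
    -- `b * sa + sb ≤ sa * sb + b`
    have h7 : b * sa + sb ≤ sa * sb + b := by omega
    -- `(b - sb) * (sa - 1) ≤ 0`
    by_contra hne
    have h8 : sb < b := lt_of_le_of_ne hsb_le hne
    obtain ⟨t, ht⟩ : ∃ t, sa = t + 2 := ⟨sa - 2, by omega⟩
    obtain ⟨u, hu⟩ : ∃ u, b = sb + u + 1 := ⟨b - sb - 1, by omega⟩
    rw [ht, hu] at h7
    nlinarith

end Cfsg.Agent.Helper50.HallSym
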