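import Mathlib
import Cfsg.Agent.Helper30.HallSym.Defs

/-!
# Pieces (X-6), (X-6b) for the Hall-subgroups-of-`S_n` cluster (helper30, #6117)

* `isPiHall_eq_of_le`: two Hall `π`-subgroups `H ≤ K` of a finite group are equal.
* `isPiHall_inf_normal`: a Hall `π`-subgroup meets a normal subgroup `N` in a Hall `π`-subgroup
  of `N`.
-/

set_option autoImplicit false
open Equiv Equiv.Perm MulAction Subgroup Cfsg Cfsg.Agent.Helper30.HallSym
open scoped Nat Pointwise
universe u

namespace Cfsg.Agent.Helper50.HallSym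

theorem card_mul_relIndex_of_le {G : Type u} [Group G] {A B : Subgroup G} (h : A ≤ B) :
    Nat.card A * A.relIndex B = Nat.card B := by
  have h1 := Subgroup.card_mul_index (A.subgroupOf B)
  rw [Nat.card_congr (Subgroup.subgroupOfEquivOfLe h).toEquiv] at h1
  exact h1

theorem isPiHall_eq_of_le {G : Type u} [Group G] [Finite G] {π : Set ℕ} {H K : Subgroup G}
    (hH : IsPiHall π H) (hK : IsPiHall π K) (hle : H ≤ K) : H = K := by
  refine le_antisymm hle ?_
  rw [← Subgroup.relIndex_eq_one]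
  by_contra hne
  obtain ⟨p, hp, hpd⟩ := Nat.exists_prime_and_dvd hne
  have h1 : p ∣ Nat.card K := hpd.trans (Subgroup.relIndex_dvd_card H K)
  have h2 : p ∣ H.index := hpd.trans (Subgroup.relIndex_dvd_index_of_le hle)
  exact hH.2 p hp (hK.1 p hp h1) h2

/-- For `N` normal, `|N : H ∩ N| = |HN : H|`. -/
theorem relIndex_eq_relIndex_sup {G : Type u} [Group G] [Finite G] (H N : Subgroup G) [N.Normal] :
    H.relIndex N = H.relIndex (H ⊔ N) := by
  have e1 : Nat.card N * N.relIndex (H ⊔ N) = Nat.card ↥(H ⊔ N) :=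
    card_mul_relIndex_of_le le_sup_right
  have e2 : Nat.card ↥(H ⊓ N) * (H ⊓ N).relIndex H = Nat.card H :=
    card_mul_relIndex_of_le inf_le_left
  have e3 : Nat.card ↥(H ⊓ N) * (H ⊓ N).relIndex N = Nat.card N :=
    card_mul_relIndex_of_le inf_le_right
  have e4 : Nat.card H * H.relIndex (H ⊔ N) = Nat.card ↥(H ⊔ N) :=
    card_mul_relIndex_of_le le_sup_left
  rw [Subgroup.inf_relIndex_left] at e2
  rw [Subgroup.inf_relIndex_right] at e3
  rw [Subgroup.relIndex_sup_right] at e1
  have hpos : 0 < Nat.card ↥(H ⊓ N) := Nat.card_pos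
  have hpos2 : 0 < N.relIndex H := by
    rcases Nat.eq_zero_or_pos (N.relIndex H) with h0 | h0
    · rw [h0, mul_zero] at e2
      have : 0 < Nat.card H := Nat.card_pos
      omega
    · exact h0
  -- `a * x * r = a * r * y`, where `a = |H ∩ N|`, `r = |H : H ∩ N|`
  have key : Nat.card ↥(H ⊓ N) * N.relIndex H * H.relIndex N =
      Nat.card ↥(H ⊓ N) * N.relIndex H * H.relIndex (H ⊔ N) := by
    calc Nat.card ↥(H ⊓ N) * N.relIndex H * H.relIndex N
        = (Nat.card ↥(H ⊓ N) * H.relIndex N) * N.relIndex H := by ring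
      _ = Nat.card ↥(H ⊔ N) := by rw [e3, e1]
      _ = Nat.card ↥(H ⊓ N) * N.relIndex H * H.relIndex (H ⊔ N) := by rw [e2, e4]
  exact Nat.eq_of_mul_eq_mul_left (Nat.mul_pos hpos hpos2) key

theorem isPiHall_inf_normal {G : Type u} [Group G] [Finite G] {π : Set ℕ} {H : Subgroup G}
    (hH : IsPiHall π H) (N : Subgroup G) [N.Normal] : IsPiHall π (H.subgroupOf N) := by
  refine ⟨fun p hp hpd => ?_, fun p hp hpπ hpd => ?_⟩
  · refine hH.1 p hp (hpd.trans ?_)
    -- `|H.subgroupOf N| = |H ⊓ N| ∣ |H|`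
    have h1 : Nat.card ↥(H.subgroupOf N) = Nat.card ↥(H ⊓ N) := by
      rw [← Subgroup.inf_subgroupOf_right H N]
      exact Nat.card_congr (Subgroup.subgroupOfEquivOfLe inf_le_right).toEquiv
    rw [h1]
    exact Subgroup.card_dvd_of_le inf_le_left
  · -- `(H.subgroupOf N).index = H.relIndex N = H.relIndex (H ⊔ N) ∣ H.index`
    have h1 : (H.subgroupOf N).index = H.relIndex N := rfl
    rw [h1, relIndex_eq_relIndex_sup] at hpd
    exact hH.2 p hp hpπ (hpd.trans (Subgroup.relIndex_dvd_index_of_le le_sup_left))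

end Cfsg.Agent.Helper50.HallSym
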