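import Mathlib
import Cfsg.Agent.Helper30.HallSym.Defs

/-!
# Piece (D-2) of board post #6830 (helper30, S2534): a `{2,3}`-subgroup of `A_7` stabilizing no
`3`-subset

The witness is `A_4` acting on the six `2`-subsets of four points (and fixing the point `6`), given
by an explicit table of its `12` elements, intersected with `alternatingGroup (Fin 7)`.
-/

set_option autoImplicit false
open Equiv Equiv.Perm MulAction Subgroup
open scoped Nat Pointwise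

namespace Cfsg.Agent.Helper50.HallSym

/-- the twelve elements of `A_4` on the six `2`-subsets of four points, fixing `6`, as functions -/
def a4Tbl : Fin 12 → Fin 7 → Fin 7 :=
  ![![0, 1, 2, 3, 4, 5, 6],
    ![3, 0, 4, 1, 5, 2, 6],
    ![0, 4, 3, 2, 1, 5, 6],
    ![1, 3, 5, 0, 2, 4, 6],
    ![2, 0, 1, 4, 5, 3, 6],
    ![3, 5, 1, 4, 0, 2, 6],
    ![4, 2, 5, 0, 3, 1, 6],
    ![4, 3, 0, 5, 2, 1, 6],
    ![1, 2, 0, 5, 3, 4, 6],
    ![2, 5, 4, 1, 0, 3, 6],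
    ![5, 4, 2, 3, 1, 0, 6],
    ![5, 1, 3, 2, 4, 0, 6]]

/-- multiplication table -/
def a4Mul : Fin 12 → Fin 12 → Fin 12 :=
  ![![0, 1, 2, 3, 4, 5, 6, 7, 8, 9, 10, 11],
    ![1, 3, 5, 0, 7, 8, 10, 11, 2, 6, 9, 4],
    ![2, 4, 0, 6, 1, 9, 3, 8, 7, 5, 11, 10],
    ![3, 0, 8, 1, 11, 2, 9, 4, 5, 10, 6, 7],
    ![4, 6, 9, 2, 8, 7, 11, 10, 0, 3, 5, 1],
    ![5, 7, 1, 10, 3, 6, 0, 2, 11, 8, 4, 9],
    ![6, 2, 7, 4, 10, 0, 5, 1, 9, 11, 3, 8],
    ![7, 10, 6, 5, 2, 11, 4, 9, 1, 0, 8, 3],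
    ![8, 11, 3, 9, 0, 10, 1, 5, 4, 2, 7, 6],
    ![9, 8, 4, 11, 6, 3, 2, 0, 10, 7, 1, 5],
    ![10, 5, 11, 7, 9, 1, 8, 3, 6, 4, 0, 2],
    ![11, 9, 10, 8, 5, 4, 7, 6, 3, 1, 2, 0]]

/-- inverses -/
def a4Inv : Fin 12 → Fin 12 := ![0, 3, 2, 1, 8, 6, 5, 9, 4, 7, 10, 11]

theorem a4Tbl_mul : ∀ i j : Fin 12, ∀ x : Fin 7, a4Tbl i (a4Tbl j x) = a4Tbl (a4Mul i j) x := by
  decide +kernel

theorem a4Tbl_inv : ∀ i : Fin 12, ∀ x : Fin 7, a4Tbl (a4Inv i) (a4Tbl i x) = x ∧ a4Tbl i (a4Tbl (a4Inv i) x) = x := by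
  decide +kernel

theorem a4Tbl_one : ∀ x : Fin 7, a4Tbl 0 x = x := by decide +kernel

theorem a4Tbl_inj : ∀ i j : Fin 12, (∀ x : Fin 7, a4Tbl i x = a4Tbl j x) → i = j := by decide +kernel


/-- no `3`-subset is closed under the elements number `1` (`(0 3 1)(2 4 5)`) and `2`
(`(1 4)(2 3)`) -/
theorem a4Tbl_no_three : ∀ a b c : Fin 7, a ≠ b → a ≠ c → b ≠ c →
    ¬ ((a4Tbl 1 a = a ∨ a4Tbl 1 a = b ∨ a4Tbl 1 a = c) ∧
       (a4Tbl 1 b = a ∨ a4Tbl 1 b = b ∨ a4Tbl 1 b = c) ∧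
       (a4Tbl 1 c = a ∨ a4Tbl 1 c = b ∨ a4Tbl 1 c = c) ∧
       (a4Tbl 2 a = a ∨ a4Tbl 2 a = b ∨ a4Tbl 2 a = c) ∧
       (a4Tbl 2 b = a ∨ a4Tbl 2 b = b ∨ a4Tbl 2 b = c) ∧
       (a4Tbl 2 c = a ∨ a4Tbl 2 c = b ∨ a4Tbl 2 c = c)) := by
  decide +kernel

/-- the two generators as products of transpositions -/
theorem a4Tbl_one_eq : ∀ x : Fin 7,
    a4Tbl 1 x = (swap (0 : Fin 7) 3 * swap 3 1 * swap 2 4 * swap 4 5 : Perm (Fin 7)) x := by
  decide +kernel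

theorem a4Tbl_two_eq : ∀ x : Fin 7,
    a4Tbl 2 x = (swap (1 : Fin 7) 4 * swap 2 3 : Perm (Fin 7)) x := by decide +kernel

/-- the permutations -/
def a4Perm (i : Fin 12) : Perm (Fin 7) where
  toFun := a4Tbl i
  invFun := a4Tbl (a4Inv i)
  left_inv x := (a4Tbl_inv i x).1
  right_inv x := (a4Tbl_inv i x).2

theorem a4Perm_apply (i : Fin 12) (x : Fin 7) : a4Perm i x = a4Tbl i x := rfl

theorem a4Perm_mul (i j : Fin 12) : a4Perm i * a4Perm j = a4Perm (a4Mul i j) :=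
  Equiv.ext (fun x => a4Tbl_mul i j x)

theorem a4Perm_one : a4Perm 0 = 1 := Equiv.ext a4Tbl_one

theorem a4Perm_inv (i : Fin 12) : (a4Perm i)⁻¹ = a4Perm (a4Inv i) := Equiv.ext (fun _ => rfl)

theorem a4Perm_injective : Function.Injective a4Perm := fun i j h =>
  a4Tbl_inj i j (fun x => by rw [← a4Perm_apply, ← a4Perm_apply, h])

/-- the subgroup `A_4` of `Perm (Fin 7)` -/
def a4Sub : Subgroup (Perm (Fin 7)) where
  carrier := Set.range a4Perm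
  mul_mem' := by
    rintro _ _ ⟨i, rfl⟩ ⟨j, rfl⟩
    exact ⟨a4Mul i j, (a4Perm_mul i j).symm⟩
  one_mem' := ⟨0, a4Perm_one⟩
  inv_mem' := by
    rintro _ ⟨i, rfl⟩
    exact ⟨a4Inv i, (a4Perm_inv i).symm⟩

theorem card_a4Sub : Nat.card a4Sub = 12 := by
  have e : Fin 12 ≃ Set.range a4Perm := Equiv.ofInjective a4Perm a4Perm_injective
  have h : Nat.card (Set.range a4Perm) = 12 := by
    rw [← Nat.card_congr e]
    simp
  exact h

theorem a4Perm_one_mem_alt : a4Perm 1 ∈ alternatingGroup (Fin 7) := by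
  have h : a4Perm 1 = swap (0 : Fin 7) 3 * swap 3 1 * swap 2 4 * swap 4 5 :=
    Equiv.ext a4Tbl_one_eq
  rw [Equiv.Perm.mem_alternatingGroup, h]
  simp only [Equiv.Perm.sign_mul]
  rw [Equiv.Perm.sign_swap (by decide), Equiv.Perm.sign_swap (by decide),
    Equiv.Perm.sign_swap (by decide), Equiv.Perm.sign_swap (by decide)]
  decide

theorem a4Perm_two_mem_alt : a4Perm 2 ∈ alternatingGroup (Fin 7) := by
  have h : a4Perm 2 = swap (1 : Fin 7) 4 * swap 2 3 := Equiv.ext a4Tbl_two_eq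
  rw [Equiv.Perm.mem_alternatingGroup, h]
  simp only [Equiv.Perm.sign_mul]
  rw [Equiv.Perm.sign_swap (by decide), Equiv.Perm.sign_swap (by decide)]
  decide

/-- (D-2) -/
theorem exists_subgroup_no_three_set :
    ∃ X : Subgroup (Perm (Fin 7)), X ≤ alternatingGroup (Fin 7) ∧
      (∀ p : ℕ, p.Prime → p ∣ Nat.card X → p = 2 ∨ p = 3) ∧
      ∀ s : Set (Fin 7), s.ncard = 3 → ¬ X ≤ stabilizer (Perm (Fin 7)) s := by
  refine ⟨a4Sub ⊓ alternatingGroup (Fin 7), inf_le_right, ?_, ?_⟩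
  · intro p hp hpd
    have h1 : Nat.card ↥(a4Sub ⊓ alternatingGroup (Fin 7)) ∣ 12 := by
      rw [← card_a4Sub]
      exact Subgroup.card_dvd_of_le inf_le_left
    have h2 : p ∣ 2 ^ 2 * 3 := hpd.trans h1
    rcases (Nat.Prime.dvd_mul hp).1 h2 with h | h
    · left
      exact (Nat.prime_dvd_prime_iff_eq hp Nat.prime_two).1 (hp.dvd_of_dvd_pow h)
    · right
      exact (Nat.prime_dvd_prime_iff_eq hp Nat.prime_three).1 h
  · intro s hs hle
    obtain ⟨a, b, c, hab, hac, hbc, rfl⟩ := Set.ncard_eq_three.1 hs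
    have hmem : ∀ i : Fin 12, a4Perm i ∈ alternatingGroup (Fin 7) →
        ∀ x ∈ ({a, b, c} : Set (Fin 7)), a4Tbl i x ∈ ({a, b, c} : Set (Fin 7)) := by
      intro i hi x hx
      have h1 : a4Perm i ∈ stabilizer (Perm (Fin 7)) ({a, b, c} : Set (Fin 7)) :=
        hle ⟨⟨i, rfl⟩, hi⟩
      rw [mem_stabilizer_iff] at h1
      have h2 : a4Perm i • x ∈ a4Perm i • ({a, b, c} : Set (Fin 7)) := Set.smul_mem_smul_set hx
      rw [h1] at h2
      exact h2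
    have h1 := hmem 1 a4Perm_one_mem_alt
    have h2 := hmem 2 a4Perm_two_mem_alt
    refine a4Tbl_no_three a b c hab hac hbc ⟨?_, ?_, ?_, ?_, ?_, ?_⟩
    · simpa using h1 a (by simp)
    · simpa using h1 b (by simp)
    · simpa using h1 c (by simp)
    · simpa using h2 a (by simp)
    · simpa using h2 b (by simp)
    · simpa using h2 c (by simp)

end Cfsg.Agent.Helper50.HallSym
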