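import Mathlib

/-!
# Piece (C) for S5142 (helper85): a product of two `p`-groups modulo a normal subgroup

`exists_pow_mem_of_mul`: if `B ≤ Y ≤ X`, `Z ≤ X`, `B` is normalized by `X`, `Y / B` is a
`p`-group, `Z` is a `p`-group and `X = Y Z` as a set, then `X / B` is a `p`-group.
-/

namespace Cfsg.Agent.Helper50.KL

/-- A finite group that is the (setwise) product of two `p`-subgroups is a `p`-group. -/
theorem isPGroup_of_mul {Q : Type*} [Group Q] [Finite Q] (p : ℕ) [Fact p.Prime]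
    (Y Z : Subgroup Q) (hY : IsPGroup p Y) (hZ : IsPGroup p Z)
    (h : ∀ q : Q, ∃ y ∈ Y, ∃ z ∈ Z, q = y * z) : IsPGroup p Q := by
  obtain ⟨P, hYP⟩ := hY.exists_le_sylow
  obtain ⟨P', hZP'⟩ := hZ.exists_le_sylow
  obtain ⟨g, hg⟩ := MulAction.exists_smul_eq Q P P'
  -- `g⁻¹ = y * z`
  obtain ⟨y, hy, z, hz, hgyz⟩ := h g⁻¹
  have hZP : Z ≤ (P : Subgroup Q) := by
    intro w hw
    -- `z⁻¹ * w * z ∈ Z ≤ P' = g • P`
    have h1 : z⁻¹ * w * z ∈ (P' : Subgroup Q) :=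
      hZP' (Z.mul_mem (Z.mul_mem (Z.inv_mem hz) hw) hz)
    rw [← hg, Sylow.coe_subgroup_smul, Subgroup.mem_pointwise_smul_iff_inv_smul_mem] at h1
    -- `g⁻¹ * (z⁻¹ w z) * g ∈ P`
    have h2 : g⁻¹ * (z⁻¹ * w * z) * g ∈ (P : Subgroup Q) := by
      have h0 : (MulAut.conj g)⁻¹ • (z⁻¹ * w * z) = g⁻¹ * (z⁻¹ * w * z) * g := by
        rw [MulAut.smul_def, MulAut.conj_inv_apply]
      rwa [h0] at h1
    have hyP : y ∈ (P : Subgroup Q) := hYP hy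
    have hg' : g = z⁻¹ * y⁻¹ := by
      rw [← inv_inv g, hgyz, _root_.mul_inv_rev]
    have h3 : y⁻¹ * (g⁻¹ * (z⁻¹ * w * z) * g) * y ∈ (P : Subgroup Q) :=
      (P : Subgroup Q).mul_mem ((P : Subgroup Q).mul_mem ((P : Subgroup Q).inv_mem hyP) h2) hyP
    have h4 : y⁻¹ * (g⁻¹ * (z⁻¹ * w * z) * g) * y = w := by
      rw [hgyz, hg']
      group
    rwa [h4] at h3
  have htop : (P : Subgroup Q) = ⊤ := by
    rw [eq_top_iff]
    intro q _
    obtain ⟨y', hy', z', hz', rfl⟩ := h q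
    exact (P : Subgroup Q).mul_mem (hYP hy') (hZP hz')
  have hP : IsPGroup p (P : Subgroup Q) := P.isPGroup'
  rw [htop] at hP
  exact hP.of_equiv Subgroup.topEquiv

theorem exists_pow_mem_of_mul {G : Type*} [Group G] [Finite G] (p : ℕ) [Fact p.Prime]
    (X B Y Z : Subgroup G)
    (hBY : B ≤ Y) (hYX : Y ≤ X) (hZX : Z ≤ X) (hBn : ∀ x ∈ X, ∀ b ∈ B, x * b * x⁻¹ ∈ B)
    (hY : ∀ y ∈ Y, ∃ k : ℕ, y ^ p ^ k ∈ B) (hZ : IsPGroup p Z)
    (hX : ∀ x ∈ X, ∃ y ∈ Y, ∃ z ∈ Z, x = y * z) :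
    ∀ x ∈ X, ∃ k : ℕ, x ^ p ^ k ∈ B := by
  have _hBY' := hBY
  have hBnorm : (B.subgroupOf X).Normal := by
    refine ⟨fun b hb x => ?_⟩
    rw [Subgroup.mem_subgroupOf] at hb ⊢
    simpa using hBn x x.2 b hb
  let π : ↥X →* ↥X ⧸ B.subgroupOf X := QuotientGroup.mk' (B.subgroupOf X)
  have hπ : ∀ x : ↥X, π x = 1 ↔ (x : G) ∈ B := by
    intro x
    rw [← MonoidHom.mem_ker, QuotientGroup.ker_mk', Subgroup.mem_subgroupOf]
  have hYbar : IsPGroup p ((Y.subgroupOf X).map π) := by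
    rintro ⟨q, hq⟩
    obtain ⟨y, hy, rfl⟩ := Subgroup.mem_map.mp hq
    rw [Subgroup.mem_subgroupOf] at hy
    obtain ⟨k, hk⟩ := hY y hy
    refine ⟨k, Subtype.ext ?_⟩
    simp only [SubmonoidClass.mk_pow, Subgroup.coe_one]
    rw [← map_pow, hπ]
    simpa using hk
  have hZbar : IsPGroup p ((Z.subgroupOf X).map π) := (hZ.comap_subtype).map π
  have hQ : IsPGroup p (↥X ⧸ B.subgroupOf X) := by
    refine isPGroup_of_mul p _ _ hYbar hZbar ?_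
    intro q
    obtain ⟨x, rfl⟩ := QuotientGroup.mk'_surjective (B.subgroupOf X) q
    obtain ⟨y, hy, z, hz, hxyz⟩ := hX x x.2
    refine ⟨π ⟨y, hYX hy⟩, Subgroup.mem_map_of_mem π (by simpa [Subgroup.mem_subgroupOf] using hy),
      π ⟨z, hZX hz⟩, Subgroup.mem_map_of_mem π (by simpa [Subgroup.mem_subgroupOf] using hz), ?_⟩
    rw [← map_mul]
    congr 1
    exact Subtype.ext hxyz
  intro x hx
  obtain ⟨k, hk⟩ := hQ (π ⟨x, hx⟩)
  refine ⟨k, ?_⟩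
  rw [← map_pow, hπ] at hk
  simpa using hk

end Cfsg.Agent.Helper50.KL
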