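-- helper50 for helper71's S4394 (#5897): piece (B2): a subgroup stabilizing a normal series `1 ≤ N ≤ O_p(Γ)` lies in `O_p(Γ)`
-- (when `C(O_p(Γ)) ≤ O_p(Γ)`).
import Mathlib
import Cfsg.Prelude.Def_Local
import Cfsg.Agent.Lib.Cores

set_option autoImplicit false

namespace Cfsg.Agent.Helper50.Sch

open scoped commutatorElement
open Cfsg

/-- the stabilizer of the series `1 ≤ N ≤ R` (`N`, `R` normal): a normal subgroup -/
def stabSeries {Γ : Type*} [Group Γ] (R N : Subgroup Γ) [R.Normal] [N.Normal] : Subgroup Γ where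
  carrier := {g | (∀ n ∈ N, g * n = n * g) ∧ ∀ r ∈ R, ⁅r, g⁆ ∈ N}
  one_mem' := ⟨fun n _ => by simp, fun r _ => by simp [commutatorElement_def]⟩
  mul_mem' := by
    rintro g h ⟨hg1, hg2⟩ ⟨hh1, hh2⟩
    refine ⟨fun n hn => ?_, fun r hr => ?_⟩
    · rw [mul_assoc, hh1 n hn, ← mul_assoc, hg1 n hn, mul_assoc]
    · have e : ⁅r, g * h⁆ = ⁅r, g⁆ * (g * ⁅r, h⁆ * g⁻¹) := by
        simp only [commutatorElement_def]; group
      rw [e]
      exact N.mul_mem (hg2 r hr) (‹N.Normal›.conj_mem _ (hh2 r hr) g)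
  inv_mem' := by
    rintro g ⟨hg1, hg2⟩
    refine ⟨fun n hn => ?_, fun r hr => ?_⟩
    · have := hg1 n hn
      calc g⁻¹ * n = g⁻¹ * (n * g) * g⁻¹ := by group
        _ = g⁻¹ * (g * n) * g⁻¹ := by rw [this]
        _ = n * g⁻¹ := by group
    · have e : ⁅r, g⁻¹⁆ = g⁻¹ * (⁅r, g⁆)⁻¹ * g⁻¹⁻¹ := by
        simp only [commutatorElement_def]; group
      rw [e]
      exact ‹N.Normal›.conj_mem _ (N.inv_mem (hg2 r hr)) g⁻¹

theorem mem_stabSeries {Γ : Type*} [Group Γ] (R N : Subgroup Γ) [R.Normal] [N.Normal] (g : Γ) :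
    g ∈ stabSeries R N ↔ (∀ n ∈ N, g * n = n * g) ∧ ∀ r ∈ R, ⁅r, g⁆ ∈ N := Iff.rfl

instance stabSeries_normal {Γ : Type*} [Group Γ] (R N : Subgroup Γ) [R.Normal] [N.Normal] :
    (stabSeries R N).Normal := by
  constructor
  rintro g ⟨hg1, hg2⟩ x
  refine ⟨fun n hn => ?_, fun r hr => ?_⟩
  · have hn' : x⁻¹ * n * x ∈ N := by
      have := ‹N.Normal›.conj_mem n hn x⁻¹
      simpa using this
    have := hg1 _ hn'
    calc x * g * x⁻¹ * n = x * (g * (x⁻¹ * n * x)) * x⁻¹ := by group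
      _ = x * ((x⁻¹ * n * x) * g) * x⁻¹ := by rw [this]
      _ = n * (x * g * x⁻¹) := by group
  · have hr' : x⁻¹ * r * x ∈ R := by
      have := ‹R.Normal›.conj_mem r hr x⁻¹
      simpa using this
    have e : ⁅r, x * g * x⁻¹⁆ = x * ⁅x⁻¹ * r * x, g⁆ * x⁻¹ := by
      simp only [commutatorElement_def]; group
    rw [e]
    exact ‹N.Normal›.conj_mem _ (hg2 _ hr') x

/-- (B2) a subgroup stabilizing a normal series `1 ≤ N ≤ O_p(Γ)` lies in `O_p(Γ)`. -/
theorem le_pCore_of_stabilizes {Γ : Type*} [Group Γ] [Finite Γ] {p : ℕ} [Fact p.Prime]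
    (hC : Subgroup.centralizer (Cfsg.pCore p Γ : Set Γ) ≤ Cfsg.pCore p Γ)
    (N A : Subgroup Γ) [N.Normal] (hNR : N ≤ Cfsg.pCore p Γ)
    (h1 : ∀ r ∈ Cfsg.pCore p Γ, ∀ a ∈ A, ⁅r, a⁆ ∈ N)
    (h2 : ∀ n ∈ N, ∀ a ∈ A, a * n = n * a) : A ≤ Cfsg.pCore p Γ := by
  classical
  have hp : p.Prime := Fact.out
  have : (Cfsg.pCore p Γ).Normal := Cfsg.pCore_normal p Γ
  set R := Cfsg.pCore p Γ with hR
  have hRp : IsPGroup p R := Cfsg.Agent.Lib.isPGroup_pCore p
  set B := stabSeries R N with hB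
  have hAB : A ≤ B := fun a ha => ⟨fun n hn => h2 n hn a ha, fun r hr => h1 r hr a ha⟩
  -- `p'`-elements of `B` are trivial
  have hp' : ∀ b ∈ B, (orderOf b).Coprime p → b = 1 := by
    rintro b ⟨hb1, hb2⟩ hcop
    have hcent : b ∈ Subgroup.centralizer (R : Set Γ) := by
      rw [Subgroup.mem_centralizer_iff]
      intro r hr
      -- z := ⁅b, r⁆ ∈ N, b r b⁻¹ = z r, b z = z b
      set z := ⁅b, r⁆ with hz
      have hzN : z ∈ N := by
        have := N.inv_mem (hb2 r hr)
        rwa [commutatorElement_inv] at this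
      have hbz : b * z = z * b := hb1 z hzN
      have hconj : b * r * b⁻¹ = z * r := by
        rw [hz, commutatorElement_def]; group
      have hpow : ∀ k : ℕ, b ^ k * r * (b ^ k)⁻¹ = z ^ k * r := by
        intro k
        induction k with
        | zero => simp
        | succ k ih =>
          have hbzk : b * z ^ k = z ^ k * b := (Commute.pow_right hbz k : Commute b (z ^ k)).eq
          calc b ^ (k + 1) * r * (b ^ (k + 1))⁻¹ = b * (b ^ k * r * (b ^ k)⁻¹) * b⁻¹ := by
                rw [pow_succ']; group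
            _ = b * (z ^ k * r) * b⁻¹ := by rw [ih]
            _ = (b * z ^ k) * r * b⁻¹ := by group
            _ = z ^ k * (b * r * b⁻¹) := by rw [hbzk]; group
            _ = z ^ (k + 1) * r := by rw [hconj, pow_succ]; group
      have h3 := hpow (orderOf b)
      rw [pow_orderOf_eq_one, one_mul, inv_one, mul_one] at h3
      have hz1 : z ^ orderOf b = 1 := by
        have : z ^ orderOf b * r = 1 * r := by rw [← h3, one_mul]
        exact mul_right_cancel this
      have hzR : z ∈ R := hNR hzN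
      obtain ⟨j, hj⟩ := (IsPGroup.iff_orderOf.1 hRp) ⟨z, hzR⟩
      have hj' : orderOf z = p ^ j := by rw [← hj, Subgroup.orderOf_mk]
      have hd1 : orderOf z ∣ orderOf b := orderOf_dvd_of_pow_eq_one hz1
      have hd2 : orderOf z ∣ p ^ j := by rw [hj']
      have h1' : orderOf z = 1 :=
        Nat.eq_one_of_dvd_coprimes (Nat.Coprime.pow_right j hcop) hd1 hd2
      have hz1' : z = 1 := orderOf_eq_one_iff.1 h1'
      rw [hz1', one_mul] at hconj
      calc r * b = (b * r * b⁻¹) * b := by rw [hconj]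
        _ = b * r := by group
    have hbR : b ∈ R := hC hcent
    obtain ⟨j, hj⟩ := (IsPGroup.iff_orderOf.1 hRp) ⟨b, hbR⟩
    have hj' : orderOf b = p ^ j := by rw [← hj, Subgroup.orderOf_mk]
    have : orderOf b = 1 := by
      have hd : orderOf b ∣ p ^ j := by rw [hj']
      exact Nat.eq_one_of_dvd_coprimes (Nat.Coprime.pow_right j hcop) dvd_rfl hd
    exact orderOf_eq_one_iff.1 this
  -- hence `B` is a `p`-group
  have hBp : IsPGroup p B := by
    rw [IsPGroup.iff_card]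
    refine ⟨(Nat.card B).primeFactorsList.length, ?_⟩
    apply Nat.eq_prime_pow_of_unique_prime_dvd Nat.card_pos.ne'
    intro q hq hqd
    by_contra hne
    have : Fact q.Prime := ⟨hq⟩
    obtain ⟨b, hb⟩ := exists_prime_orderOf_dvd_card' (G := B) q hqd
    have hb' : orderOf (b : Γ) = q := by rw [Subgroup.orderOf_coe]; exact hb
    have hcop : (orderOf (b : Γ)).Coprime p := by
      rw [hb']
      exact (Nat.coprime_primes hq hp).2 hne
    have := hp' b b.2 hcop
    rw [this, orderOf_one] at hb'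
    exact hq.one_lt.ne hb'
  exact hAB.trans (Cfsg.Agent.Lib.le_pCore inferInstance hBp)

end Cfsg.Agent.Helper50.Sch
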