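-- helper50 for helper71's S4394 (#5897): piece (B3a): `|Z(S)| = p` and a noncentral element of `S` in `Z(O_p(Γ))`.
import Mathlib
import Cfsg.Prelude.Def_Local
import Cfsg.Agent.Helper71.SchDefs
import Cfsg.Agent.Lib.Cores
import Cfsg.Agent.Helper50.SchB2

set_option autoImplicit false

namespace Cfsg.Agent.Helper50.Sch

open scoped commutatorElement
open Cfsg Cfsg.Agent.Helper71.Sch

/-- commutators with a fixed `u ∈ S` as a homomorphism `S → Z(S)` (class two) -/
noncomputable def commHom {Γ : Type*} [Group Γ] {p : ℕ} (S : Subgroup Γ) (hS : SchIn p S) (u : Γ) (hu : u ∈ S) :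
    ↥S →* ↥(S ⊓ Subgroup.centralizer (S : Set Γ)) :=
  MonoidHom.mk' (fun v => ⟨⁅u, (v : Γ)⁆, by
      refine ⟨?_, hS.comm_mem u hu v v.2⟩
      rw [commutatorElement_def]
      exact S.mul_mem (S.mul_mem (S.mul_mem hu v.2) (S.inv_mem hu)) (S.inv_mem v.2)⟩) (by
    intro v w
    apply Subtype.ext
    show ⁅u, ((v * w : ↥S) : Γ)⁆ = ⁅u, (v : Γ)⁆ * ⁅u, (w : Γ)⁆
    have hz : ⁅u, (w : Γ)⁆ ∈ Subgroup.centralizer (S : Set Γ) := hS.comm_mem u hu w w.2
    have hvz : (v : Γ) * ⁅u, (w : Γ)⁆ = ⁅u, (w : Γ)⁆ * (v : Γ) :=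
      (Subgroup.mem_centralizer_iff.1 hz (v : Γ) v.2)
    have e : ⁅u, ((v * w : ↥S) : Γ)⁆ = ⁅u, (v : Γ)⁆ * ((v : Γ) * ⁅u, (w : Γ)⁆ * (v : Γ)⁻¹) := by
      rw [Subgroup.coe_mul]
      simp only [commutatorElement_def]; group
    rw [e, hvz]
    group)

theorem commHom_apply {Γ : Type*} [Group Γ] {p : ℕ} (S : Subgroup Γ) (hS : SchIn p S) (u : Γ) (hu : u ∈ S)
    (v : ↥S) : ((commHom S hS u hu v : ↥(S ⊓ Subgroup.centralizer (S : Set Γ))) : Γ) = ⁅u, (v : Γ)⁆ := rfl

/-- (B3a) `|Z(S)| = p` and a noncentral element of `S` in `Z(O_p(Γ))`. -/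
theorem card_center_eq {Γ : Type*} [Group Γ] [Finite Γ] {p : ℕ} [Fact p.Prime]
    (hC : Subgroup.centralizer (Cfsg.pCore p Γ : Set Γ) ≤ Cfsg.pCore p Γ)
    (S : Sylow p Γ) (hS : SchIn p (S : Subgroup Γ))
    (hidx : Nat.card (S : Subgroup Γ) = p * Nat.card (Cfsg.pCore p Γ)) :
    Nat.card ↥((S : Subgroup Γ) ⊓ Subgroup.centralizer ((S : Subgroup Γ) : Set Γ)) = p ∧
      ∃ u ∈ Cfsg.pCore p Γ, u ∈ Subgroup.centralizer (Cfsg.pCore p Γ : Set Γ) ∧
        u ∉ Subgroup.centralizer ((S : Subgroup Γ) : Set Γ) := by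
  classical
  have hp : p.Prime := Fact.out
  set R := Cfsg.pCore p Γ with hR
  have hRS : R ≤ (S : Subgroup Γ) := Cfsg.Agent.Lib.pCore_le_sylow S
  -- `Z(S) ≤ Z(R)`
  have hZcR : ∀ z ∈ Subgroup.centralizer ((S : Subgroup Γ) : Set Γ), z ∈ Subgroup.centralizer (R : Set Γ) :=
    fun z hz => Subgroup.centralizer_le (by exact_mod_cast hRS) hz
  -- some element of `Z(R)` is not centralized by `S`
  have hex : ∃ u ∈ R, u ∈ Subgroup.centralizer (R : Set Γ) ∧
      u ∉ Subgroup.centralizer ((S : Subgroup Γ) : Set Γ) := by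
    by_contra hcon
    push Not at hcon
    have hle : (S : Subgroup Γ) ≤ R := by
      apply le_pCore_of_stabilizes hC (R ⊓ Subgroup.centralizer (R : Set Γ)) (S : Subgroup Γ) inf_le_left
      · intro r hr a ha
        have h1 : ⁅r, a⁆ ∈ Subgroup.centralizer ((S : Subgroup Γ) : Set Γ) := hS.comm_mem r (hRS hr) a ha
        exact ⟨hC (hZcR _ h1), hZcR _ h1⟩
      · intro n hn a ha
        have := hcon n hn.1 hn.2
        exact Subgroup.mem_centralizer_iff.1 this a ha
    have hcard : Nat.card (S : Subgroup Γ) ≤ Nat.card R := Subgroup.card_le_of_le hle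
    have hRpos : 0 < Nat.card R := Nat.card_pos
    have : 2 * Nat.card R ≤ p * Nat.card R := Nat.mul_le_mul_right _ hp.two_le
    omega
  obtain ⟨u, huR, hucR, hunS⟩ := hex
  refine ⟨?_, u, huR, hucR, hunS⟩
  have huS : u ∈ (S : Subgroup Γ) := hRS huR
  set φ := commHom (S : Subgroup Γ) hS u huS with hφ
  -- `φ` is onto
  have hsurj : Function.Surjective φ := by
    rintro ⟨z, hz1, hz2⟩
    obtain ⟨v, hv, hvz⟩ := hS.surj u huS hunS z hz1 hz2
    exact ⟨⟨v, hv⟩, Subtype.ext hvz⟩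
  -- its kernel contains `R`
  have hker : R.subgroupOf (S : Subgroup Γ) ≤ φ.ker := by
    intro v hv
    rw [MonoidHom.mem_ker]
    apply Subtype.ext
    rw [commHom_apply]
    have hv' : (v : Γ) ∈ R := hv
    have := Subgroup.mem_centralizer_iff.1 hucR (v : Γ) hv'
    -- v * u = u * v
    show ⁅u, (v : Γ)⁆ = 1
    rw [commutatorElement_def, ← this]
    group
  have hidxR : (R.subgroupOf (S : Subgroup Γ)).index = p := by
    have h1 := (R.subgroupOf (S : Subgroup Γ)).card_mul_index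
    have h2 : Nat.card (R.subgroupOf (S : Subgroup Γ)) = Nat.card R :=
      Nat.card_congr (Subgroup.subgroupOfEquivOfLe hRS).toEquiv
    rw [h2, hidx] at h1
    have hRpos : 0 < Nat.card R := Nat.card_pos
    have : Nat.card R * (R.subgroupOf (S : Subgroup Γ)).index = Nat.card R * p := by rw [h1, mul_comm]
    exact Nat.eq_of_mul_eq_mul_left hRpos this
  have hdvd : Nat.card ↥((S : Subgroup Γ) ⊓ Subgroup.centralizer ((S : Subgroup Γ) : Set Γ)) ∣ p := by
    have h1 := Subgroup.index_dvd_of_le hker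
    rw [hidxR, Subgroup.index_ker, MonoidHom.range_eq_top.2 hsurj, Subgroup.card_top] at h1
    exact h1
  rcases (Nat.dvd_prime hp).1 hdvd with h | h
  · exfalso
    -- `Z(S)` trivial contradicts `u ∉ C(S)`
    apply hunS
    rw [Subgroup.mem_centralizer_iff]
    intro v hv
    have h1 : φ ⟨v, hv⟩ = 1 := by
      have hsub : Subsingleton ↥((S : Subgroup Γ) ⊓ Subgroup.centralizer ((S : Subgroup Γ) : Set Γ)) :=
        (Nat.card_eq_one_iff_unique.1 h).1
      exact Subsingleton.elim _ _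
    have h2 := congrArg Subtype.val h1
    rw [commHom_apply] at h2
    have h3 : ⁅u, v⁆ = 1 := h2
    rw [commutatorElement_eq_one_iff_commute] at h3
    exact h3.eq.symm
  · exact h

end Cfsg.Agent.Helper50.Sch
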