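import Cfsg.Agent.Helper50.HSubgroupAux
import Cfsg.Agent.S4250
import Cfsg.Agent.S0081
import Cfsg.Agent.Helper53.NormalComplement

/-!
# Groups whose `p`-subgroups of one fixed order are strongly closed in their normalizers (helper50)

`p` the smallest prime divisor of `#G`: such a group has a normal `p`-complement.
-/

set_option autoImplicit false

namespace Cfsg.Agent.Helper50

open Cfsg.Agent.Helper24
open scoped commutatorElement

variable {G : Type*} [Group G]

/-- A subgroup `E` of a `p`-subgroup `P` with `E^g ∩ N(E) ≤ E` for all `g` is normal in `P`. -/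
theorem le_normalizer_of_hsubgroup [Finite G] {p : ℕ} [Fact p.Prime] {P E : Subgroup G}
    (hP : IsPGroup p P) (hEP : E ≤ P)
    (hE : ∀ g : G, cjg g E ⊓ Subgroup.normalizer (E : Set G) ≤ E) :
    P ≤ Subgroup.normalizer (E : Set G) := by
  set N₁ : Subgroup G := P ⊓ Subgroup.normalizer (E : Set G) with hN₁
  by_contra hcon
  have hne : N₁ ≠ P := fun h => hcon (h ▸ inf_le_right)
  have hlt : N₁ < P := lt_of_le_of_ne inf_le_left hne
  have h2 := lt_inf_normalizer N₁ P hP hlt
  obtain ⟨g, hg, hgN⟩ := SetLike.exists_of_lt h2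
  apply hgN
  refine ⟨hg.1, ?_⟩
  apply mem_normalizer_of_cjg_le
  have hEN₁ : E ≤ N₁ := le_inf hEP Subgroup.le_normalizer
  have h3 : cjg g E ≤ N₁ := by
    calc cjg g E ≤ cjg g N₁ := cjg_mono g hEN₁
      _ = N₁ := Subgroup.mem_normalizer_iff_map_conj_eq.mp hg.2
  exact le_trans (le_inf le_rfl (le_trans h3 inf_le_right)) (hE g)

/-- The focal subgroup lies in the Frattini subgroup of the Sylow subgroup. -/
theorem inf_commutator_le_frattini_of_hsubgroups [Finite G] {p : ℕ} [hp : Fact p.Prime]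
    (hmin : ∀ q : ℕ, q.Prime → q ∣ Nat.card G → p ≤ q) (P : Sylow p G) {d : ℕ} (hd1 : 1 ≤ d)
    (hdP : p ^ d < Nat.card (P : Subgroup G))
    (hE : ∀ E : Subgroup G, E ≤ (P : Subgroup G) →
      (Nat.card E = p ^ d ∨ (p ^ d = 2 ∧ Nat.card E = 4)) →
        ∀ g : G, cjg g E ⊓ Subgroup.normalizer (E : Set G) ≤ E) :
    (P : Subgroup G) ⊓ commutator G ≤ (frattini ↥(P : Subgroup G)).map (P : Subgroup G).subtype := by
  classical
  set Pg : Subgroup G := (P : Subgroup G) with hPg
  have hPp : IsPGroup p Pg := P.isPGroup'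
  set Φ : Subgroup G := (frattini ↥Pg).map Pg.subtype with hΦ
  have hΦP : Φ ≤ Pg := Subgroup.map_subtype_le _
  -- elements of order prime to `p` have order prime to `p - 1`
  have hcop' : ∀ g : G, (orderOf g).Coprime (p - 1) := by
    intro g
    apply Nat.Coprime.symm
    apply Nat.coprime_of_dvd
    intro q hq hq2 hq1
    have h1 : q ∣ Nat.card G := dvd_trans hq1 (orderOf_dvd_natCard g)
    have h2 : p ≤ q := hmin q hq h1
    have h3 : q ≤ p - 1 := Nat.le_of_dvd (by have := hp.out.two_le; omega) hq2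
    have := hp.out.two_le
    omega
  have hnormP : ∀ E : Subgroup G, E ≤ Pg → (Nat.card E = p ^ d ∨ (p ^ d = 2 ∧ Nat.card E = 4)) →
      Pg ≤ Subgroup.normalizer (E : Set G) :=
    fun E hEP hc => le_normalizer_of_hsubgroup hPp hEP (hE E hEP hc)
  have hsc : ∀ E : Subgroup G, E ≤ Pg → (Nat.card E = p ^ d ∨ (p ^ d = 2 ∧ Nat.card E = 4)) →
      ∀ y ∈ E, ∀ g : G, g * y * g⁻¹ ∈ Pg → g * y * g⁻¹ ∈ E := by
    intro E hEP hc y hy g hgy
    apply hE E hEP hc g
    exact ⟨mem_cjg.mpr ⟨y, hy, rfl⟩, hnormP E hEP hc hgy⟩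
  have hF2 : ∀ U : Subgroup G, U ≤ Pg → p ^ d < Nat.card U →
      ∀ g ∈ Subgroup.normalizer (U : Set G), (orderOf g).Coprime p →
        g ∈ Subgroup.centralizer (U : Set G) := by
    intro U hUP hUc g hg hgc
    rw [Subgroup.mem_centralizer_iff]
    intro y hy
    symm
    apply commute_of_normalizes_fixed_order (hPp.to_le hUP) hg hgc (hcop' g) hd1 hUc _ y hy
    intro E hEU hc
    have hEP := le_trans hEU hUP
    apply mem_normalizer_of_cjg_le
    have h1 : cjg g E ≤ U := by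
      calc cjg g E ≤ cjg g U := cjg_mono g hEU
        _ = U := Subgroup.mem_normalizer_iff_map_conj_eq.mp hg
    exact le_trans (le_inf le_rfl (le_trans h1 (le_trans hUP (hnormP E hEP hc)))) (hE E hEP hc g)
  have hΦcomm : ∀ y ∈ Pg, ∀ t ∈ Pg, y * t * y⁻¹ * t⁻¹ ∈ Φ := by
    intro y hy t ht
    refine ⟨⟨y, hy⟩ * ⟨t, ht⟩ * ⟨y, hy⟩⁻¹ * ⟨t, ht⟩⁻¹, (mem_frattini_iff' _).mpr ?_, rfl⟩
    intro M hM
    apply Cfsg.Agent.Helper1.commutator_le_coatom hPp M hM
    have := Subgroup.commutator_mem_commutator (Subgroup.mem_top (⟨y, hy⟩ : Pg))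
      (Subgroup.mem_top (⟨t, ht⟩ : Pg))
    rw [commutatorElement_def] at this
    exact this
  have hlarge : ∀ U : Subgroup G, U ≤ Pg → p ^ d < Nat.card U →
      ¬ p ∣ (Pg ⊓ Subgroup.normalizer (U : Set G)).relIndex (Subgroup.normalizer (U : Set G)) →
      ∀ y ∈ U, ∀ h ∈ Subgroup.normalizer (U : Set G), y * h * y⁻¹ * h⁻¹ ∈ Φ := by
    intro U hUP hUc hidx y hy h hh
    obtain ⟨t, ht, c, hc, rfl⟩ := exists_mul_centralizer_of_coprime_central U
      (Pg ⊓ Subgroup.normalizer (U : Set G)) inf_le_right hidx (hF2 U hUP hUc) h hh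
    have hcy : y⁻¹ * c = c * y⁻¹ := Subgroup.mem_centralizer_iff.mp hc y⁻¹ (U.inv_mem hy)
    have e : y * (t * c) * y⁻¹ * (t * c)⁻¹ = y * t * y⁻¹ * t⁻¹ := by
      calc y * (t * c) * y⁻¹ * (t * c)⁻¹ = y * t * (c * y⁻¹) * c⁻¹ * t⁻¹ := by group
        _ = y * t * (y⁻¹ * c) * c⁻¹ * t⁻¹ := by rw [hcy]
        _ = y * t * y⁻¹ * t⁻¹ := by group
    rw [e]
    exact hΦcomm y (hUP hy) t ht.1
  obtain ⟨kP, hkP⟩ := (IsPGroup.iff_card).mp hPp
  have hdkP : d < kP := by
    rw [hkP] at hdP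
    exact (Nat.pow_lt_pow_iff_right hp.out.one_lt).mp hdP
  have hcoatom_card : ∀ M' : Subgroup ↥Pg, IsCoatom M' →
      p ^ d ∣ Nat.card ↥(M'.map Pg.subtype) := by
    intro M' hM'
    set M : Subgroup G := M'.map Pg.subtype with hM
    have hMP : M ≤ Pg := Subgroup.map_subtype_le _
    obtain ⟨m, hm⟩ := exists_card_eq_pow_of_le hPp hMP
    rw [hm]
    apply pow_dvd_pow
    by_contra hmd
    push Not at hmd
    obtain ⟨E, hME, hEP, hEcard⟩ := exists_between_card_pow hMP hm hmd.le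
      (hkP ▸ pow_dvd_pow p hdkP.le)
    have hM'E : M' ≤ E.subgroupOf Pg := by
      intro z hz
      rw [Subgroup.mem_subgroupOf]
      exact hME ⟨z, hz, rfl⟩
    have hEtop : E.subgroupOf Pg ≠ ⊤ := by
      intro h
      have h1 : Pg ≤ E := by
        intro z hz
        have : (⟨z, hz⟩ : Pg) ∈ E.subgroupOf Pg := by rw [h]; trivial
        exact Subgroup.mem_subgroupOf.mp this
      have h2 := Subgroup.card_dvd_of_le h1
      have h3 := Nat.le_of_dvd Nat.card_pos h2
      rw [hEcard] at h3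
      omega
    have hEq : M' = E.subgroupOf Pg := by
      by_contra hne
      exact hEtop (hM'.2 _ (lt_of_le_of_ne hM'E hne))
    have hcardE : Nat.card ↥(E.subgroupOf Pg) = Nat.card E :=
      Nat.card_congr (Subgroup.subgroupOfEquivOfLe hEP).toEquiv
    have hcardM : Nat.card M = Nat.card M' := Subgroup.card_map_of_injective Pg.subtype_injective
    rw [hcardM, hEq, hcardE, hEcard] at hm
    have := Nat.pow_right_injective hp.out.two_le hm
    omega
  have hsmallM : ∀ U : Subgroup G, U ≤ Pg → Nat.card U ≤ p ^ d →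
      ∀ M' : Subgroup ↥Pg, IsCoatom M' → ∀ g ∈ Subgroup.normalizer (U : Set G),
        ∀ y ∈ U, y ∈ M'.map Pg.subtype → g * y * g⁻¹ ∈ M'.map Pg.subtype := by
    intro U hUP hUc M' hM' g hg y hy hyM
    set M : Subgroup G := M'.map Pg.subtype with hM
    have hMP : M ≤ Pg := Subgroup.map_subtype_le _
    have hzU : Subgroup.zpowers y ≤ U := Subgroup.zpowers_le.mpr hy
    have hzM : Subgroup.zpowers y ≤ M := Subgroup.zpowers_le.mpr hyM
    obtain ⟨j, hj⟩ := exists_card_eq_pow_of_le hPp (le_trans hzU hUP)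
    have hjd : j ≤ d := by
      have h1 := Nat.le_of_dvd Nat.card_pos (Subgroup.card_dvd_of_le hzU)
      rw [hj] at h1
      exact (Nat.pow_le_pow_iff_right hp.out.one_lt).mp (le_trans h1 hUc)
    obtain ⟨E, hyE, hEM, hEcard⟩ := exists_between_card_pow hzM hj hjd (hcoatom_card M' hM')
    have hgy : g * y * g⁻¹ ∈ Pg := hUP (conj_mem_of_mem_normalizer hg hy)
    exact hEM (hsc E (le_trans hEM hMP) (Or.inl hEcard) y (hyE (Subgroup.mem_zpowers y)) g hgy)
  have hsmallΦ : ∀ U : Subgroup G, U ≤ Pg → Nat.card U ≤ p ^ d →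
      ∀ g ∈ Subgroup.normalizer (U : Set G), ∀ y ∈ U, y ∈ Φ → g * y * g⁻¹ ∈ Φ := by
    intro U hUP hUc g hg y hy hyΦ
    have hgy : g * y * g⁻¹ ∈ Pg := hUP (conj_mem_of_mem_normalizer hg hy)
    refine ⟨⟨g * y * g⁻¹, hgy⟩, (mem_frattini_iff' _).mpr ?_, rfl⟩
    intro M' hM'
    have hyM : y ∈ M'.map Pg.subtype := Subgroup.map_mono (frattini_le_coatom hM') hyΦ
    obtain ⟨w, hw, hwe⟩ := hsmallM U hUP hUc M' hM' g hg y hy hyM
    have : w = ⟨g * y * g⁻¹, hgy⟩ := Subtype.ext hwe
    rw [← this]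
    exact hw
  rw [Cfsg.Agent.S4250.result p P]
  apply sup_le
  · rw [Subgroup.commutator_le]
    intro y hy h hh
    rw [commutatorElement_def]
    apply hlarge Pg le_rfl hdP _ y hy h hh
    have e : Pg ⊓ Subgroup.normalizer (Pg : Set G) = Pg := inf_eq_left.mpr Subgroup.le_normalizer
    rw [e]
    intro hdvd
    exact P.not_dvd_index (dvd_trans hdvd (Subgroup.relIndex_dvd_index_of_le Subgroup.le_normalizer))
  · apply iSup_le; intro Q
    apply iSup_le; intro hQ
    apply iSup_le; intro x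
    apply iSup_le; intro hx
    rw [Subgroup.commutator_le]
    intro y hy h hh
    rw [commutatorElement_def]
    set U : Subgroup G := Pg ⊓ (Q : Subgroup G) with hU
    have hUP : U ≤ Pg := inf_le_left
    have hhN : h ∈ Subgroup.normalizer (U : Set G) := (Subgroup.zpowers_le.mpr hx.1) hh
    by_cases hUc : p ^ d < Nat.card U
    · exact hlarge U hUP hUc hQ.1 y hy h hhN
    · push Not at hUc
      obtain ⟨k, hk⟩ := hx.2
      have hxp : IsPGroup p (Subgroup.zpowers x) := by
        apply IsPGroup.of_card (n := k)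
        rw [Nat.card_zpowers, hk]
      set H : Subgroup G := Subgroup.normalizer (U : Set G) with hH
      obtain ⟨S, hS, hSL, hTS, n, hn, hnS⟩ := exists_conj_le_in H (Subgroup.zpowers x) (Pg ⊓ H) hxp
        (hPp.to_le inf_le_left) (Subgroup.zpowers_le.mpr hx.1) inf_le_right
      have hST : S ≤ Pg ⊓ H := le_of_isPGroup_of_not_dvd_relIndex hTS hSL hS hQ.1
      have ht' : n * h * n⁻¹ ∈ Pg ⊓ H := hST (hnS (mem_cjg.mpr ⟨h, hh, rfl⟩))
      have hy' : n * y * n⁻¹ ∈ U := conj_mem_of_mem_normalizer hn hy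
      set w : G := (n * y * n⁻¹) * (n * h * n⁻¹) * (n * y * n⁻¹)⁻¹ * (n * h * n⁻¹)⁻¹ with hw
      have hwΦ : w ∈ Φ := hΦcomm _ (hUP hy') _ ht'.1
      have hwU : w ∈ U := by
        have e : w = (n * y * n⁻¹) * ((n * h * n⁻¹) * (n * y * n⁻¹)⁻¹ * (n * h * n⁻¹)⁻¹) := by
          rw [hw]; group
        rw [e]
        exact U.mul_mem hy' (conj_mem_of_mem_normalizer ht'.2 (U.inv_mem hy'))
      have := hsmallΦ U hUP hUc n⁻¹ (H.inv_mem hn) w hwU hwΦ
      have e2 : n⁻¹ * w * n⁻¹⁻¹ = y * h * y⁻¹ * h⁻¹ := by rw [hw]; group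
      rw [e2] at this
      exact this

/-- **Tate's criterion in focal form**: if `P ∩ G' ≤ Φ(P)` then `G` has a normal `p`-complement. -/
theorem hasNormalPComplement_of_inf_commutator_le_frattini [Finite G] {p : ℕ} [hp : Fact p.Prime]
    (P : Sylow p G)
    (h : (P : Subgroup G) ⊓ commutator G ≤
      (frattini ↥(P : Subgroup G)).map (P : Subgroup G).subtype) :
    Cfsg.HasNormalPComplement p G := by
  classical
  -- `#G = p ^ k * m` with `m` prime to `p`
  obtain ⟨k, m, hm, hkm⟩ := Nat.exists_eq_pow_mul_and_not_dvd (Nat.card_pos (α := G)).ne' p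
    hp.out.ne_one
  have hmp : m.Coprime p := ((Nat.Prime.coprime_iff_not_dvd hp.out).mpr hm).symm
  set ψ : G →* Abelianization G := (powMonoidHom m).comp Abelianization.of with hψ
  set N : Subgroup G := ψ.ker with hN
  have hψapp : ∀ g : G, ψ g = (Abelianization.of g) ^ m := fun g => rfl
  -- the index of `N` is a power of `p`
  have hrange : IsPGroup p ψ.range := by
    rintro ⟨z, g, rfl⟩
    refine ⟨k, ?_⟩
    apply Subtype.ext
    rw [Subgroup.coe_pow, Subgroup.coe_one]
    show (ψ g) ^ p ^ k = 1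
    rw [hψapp, ← pow_mul, mul_comm, ← hkm, ← map_pow, pow_card_eq_one', map_one]
  obtain ⟨j, hj⟩ := (IsPGroup.iff_card).mp hrange
  have hidx : N.index = p ^ j := by rw [hN, Subgroup.index_ker]; exact hj
  -- `N ∩ P ≤ G'`
  have hNP : N ⊓ (P : Subgroup G) ≤ (frattini ↥(P : Subgroup G)).map (P : Subgroup G).subtype := by
    intro x hx
    apply h
    refine ⟨hx.2, ?_⟩
    have h1 : (Abelianization.of x) ^ m = 1 := by
      have h0 : x ∈ ψ.ker := hx.1
      rw [MonoidHom.mem_ker, hψapp] at h0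
      exact h0
    obtain ⟨i, hi⟩ := (P.isPGroup' ⟨x, hx.2⟩)
    have h2 : x ^ p ^ i = 1 := by
      have := congrArg Subtype.val hi
      simpa using this
    have h3 : (Abelianization.of x) ^ p ^ i = 1 := by rw [← map_pow, h2, map_one]
    have h4 : orderOf (Abelianization.of x) ∣ m := orderOf_dvd_of_pow_eq_one h1
    have h5 : orderOf (Abelianization.of x) ∣ p ^ i := orderOf_dvd_of_pow_eq_one h3
    have h6 : orderOf (Abelianization.of x) = 1 :=
      Nat.eq_one_of_dvd_coprimes (Nat.Coprime.pow_right i hmp) h4 h5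
    have h7 : Abelianization.of x = 1 := orderOf_eq_one_iff.mp h6
    have h8 : x ∈ (Abelianization.of (G := G)).ker := MonoidHom.mem_ker.mpr h7
    rwa [Abelianization.ker_of] at h8
  have hTate := Cfsg.Agent.S0081.result P N hNP
  exact Cfsg.Agent.Helper53.hasNormalPComplement_of_normal_of_index_pow N j hidx hTate

/-- **Groups whose subgroups of one fixed order of a Sylow `p`-subgroup are strongly closed in their
normalizers**, `p` the smallest prime divisor of the group order, have a normal `p`-complement. -/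
theorem hasNormalPComplement_of_hsubgroups [Finite G] {p : ℕ} [hp : Fact p.Prime]
    (hmin : ∀ q : ℕ, q.Prime → q ∣ Nat.card G → p ≤ q) (P : Sylow p G) {d : ℕ} (hd1 : 1 ≤ d)
    (hdP : p ^ d < Nat.card (P : Subgroup G))
    (hE : ∀ E : Subgroup G, E ≤ (P : Subgroup G) →
      (Nat.card E = p ^ d ∨ (p ^ d = 2 ∧ Nat.card E = 4)) →
        ∀ g : G, cjg g E ⊓ Subgroup.normalizer (E : Set G) ≤ E) :
    Cfsg.HasNormalPComplement p G :=
  hasNormalPComplement_of_inf_commutator_le_frattini P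
    (inf_commutator_le_frattini_of_hsubgroups hmin P hd1 hdP hE)

end Cfsg.Agent.Helper50
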