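-- helper50 for helper34's S4067 (#5812/#5817): piece (D): the automorphism fixing a normal subgroup `M` of prime index
-- pointwise and sending `y ∉ M` to `y * m`, `m ∈ Z(M)` with `(y m)^p = y^p`.
import Mathlib

set_option autoImplicit false

namespace Cfsg.Agent.Helper50.AutOrb

/-- (D) -/
theorem exists_mulAut_of_fuse {G : Type*} [Group G] [Finite G] {p : ℕ} [Fact p.Prime] (M : Subgroup G) [M.Normal]
    (hidx : M.index = p) (m : G) (hm : m ∈ M) (hcomm : ∀ u ∈ M, m * u = u * m) (y : G) (hy : y ∉ M)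
    (hpow : (y * m) ^ p = y ^ p) : ∃ θ : MulAut G, θ y = y * m ∧ ∀ u ∈ M, θ u = u := by
  classical
  obtain ⟨Y, hY⟩ : ∃ Y : G, Y = y * m := ⟨_, rfl⟩
  rw [← hY] at hpow
  set π := QuotientGroup.mk' M with hπ
  have hπ1 : ∀ g : G, π g = 1 ↔ g ∈ M := fun g => QuotientGroup.eq_one_iff g
  have hπy1 : π y ≠ 1 := fun h => hy ((hπ1 y).1 h)
  have hπY : π Y = π y := by rw [hY, map_mul, (hπ1 m).2 hm, mul_one]
  have hcardQ : Nat.card (G ⧸ M) = p := by rw [← Subgroup.index_eq_card, hidx]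
  have hord : orderOf (π y) = p := by
    have h1 : orderOf (π y) ∣ p := by rw [← hcardQ]; exact orderOf_dvd_natCard _
    rcases (Nat.dvd_prime (Fact.out)).1 h1 with h | h
    · exact absurd (orderOf_eq_one_iff.1 h) hπy1
    · exact h
  have hgen : ∀ q : G ⧸ M, ∃ j : ℕ, (π y) ^ j = q := by
    intro q
    have htop : Subgroup.zpowers (π y) = ⊤ := zpowers_eq_top_of_prime_card hcardQ hπy1
    have hq : q ∈ Subgroup.zpowers (π y) := by rw [htop]; trivial
    obtain ⟨k, hk⟩ := Subgroup.mem_zpowers_iff.1 hq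
    refine ⟨(k % (p : ℤ)).toNat, ?_⟩
    have hp0 : (p : ℤ) ≠ 0 := by exact_mod_cast (Fact.out : p.Prime).ne_zero
    have hnn : 0 ≤ k % (p : ℤ) := Int.emod_nonneg k hp0
    rw [← zpow_natCast, Int.toNat_of_nonneg hnn, ← hord, zpow_mod_orderOf, hk]
  have hypM : y ^ p ∈ M := by
    rw [← hπ1, map_pow, ← hord, pow_orderOf_eq_one]
  -- conjugation by powers of `Y` and of `y` agree on `M`
  have hconj1 : ∀ u ∈ M, Y * u * Y⁻¹ = y * u * y⁻¹ := by
    intro u hu
    rw [hY]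
    calc y * m * u * (y * m)⁻¹ = y * (m * u * m⁻¹) * y⁻¹ := by group
      _ = y * u * y⁻¹ := by rw [hcomm u hu]; group
  have hconj : ∀ j : ℕ, ∀ u ∈ M, Y ^ j * u * (Y ^ j)⁻¹ = y ^ j * u * (y ^ j)⁻¹ := by
    intro j
    induction j with
    | zero => intro u _; simp
    | succ j ih =>
      intro u hu
      have hu' : y ^ j * u * (y ^ j)⁻¹ ∈ M := ‹M.Normal›.conj_mem u hu (y ^ j)
      calc Y ^ (j + 1) * u * (Y ^ (j + 1))⁻¹ = Y * (Y ^ j * u * (Y ^ j)⁻¹) * Y⁻¹ := by
            rw [pow_succ']; group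
        _ = Y * (y ^ j * u * (y ^ j)⁻¹) * Y⁻¹ := by rw [ih u hu]
        _ = y * (y ^ j * u * (y ^ j)⁻¹) * y⁻¹ := hconj1 _ hu'
        _ = y ^ (j + 1) * u * (y ^ (j + 1))⁻¹ := by rw [pow_succ']; group
  -- the cocycle
  let D : ℕ → G := fun j => (y ^ j)⁻¹ * Y ^ j
  have hD_def : ∀ j, D j = (y ^ j)⁻¹ * Y ^ j := fun j => rfl
  have hD_mem : ∀ j, D j ∈ M := by
    intro j
    rw [← hπ1, hD_def, map_mul, map_inv, map_pow, map_pow, hπY, inv_mul_cancel]
  have hD_comm : ∀ j, ∀ u ∈ M, D j * u = u * D j := by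
    intro j u hu
    rw [hD_def]
    calc (y ^ j)⁻¹ * Y ^ j * u = (y ^ j)⁻¹ * (Y ^ j * u * (Y ^ j)⁻¹) * Y ^ j := by group
      _ = (y ^ j)⁻¹ * (y ^ j * u * (y ^ j)⁻¹) * Y ^ j := by rw [hconj j u hu]
      _ = u * ((y ^ j)⁻¹ * Y ^ j) := by group
  have hD_add : ∀ i j, D (i + j) = (y ^ j)⁻¹ * D i * y ^ j * D j := by
    intro i j
    simp only [hD_def, pow_add]
    group
  have hD_mulp : ∀ k, D (p * k) = 1 := by
    intro k
    rw [hD_def, pow_mul, pow_mul, hpow, inv_mul_cancel]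
  have hD_mod : ∀ j, D j = D (j % p) := by
    intro j
    conv_lhs => rw [← Nat.mod_add_div j p]
    rw [hD_add, hD_mulp, mul_one]
    have hM : y ^ (p * (j / p)) ∈ M := by
      rw [pow_mul]; exact M.pow_mem hypM _
    rw [mul_assoc, hD_comm _ _ hM, ← mul_assoc, inv_mul_cancel, one_mul]
  have hD_congr : ∀ i j, (π y) ^ i = (π y) ^ j → D i = D j := by
    intro i j h
    rw [pow_eq_pow_iff_modEq, hord] at h
    rw [hD_mod i, hD_mod j, h]
  -- the map
  let J : G → ℕ := fun g => Classical.choose (hgen (π g))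
  have hJ : ∀ g, (π y) ^ (J g) = π g := fun g => Classical.choose_spec (hgen (π g))
  have hc : ∀ g j, (π y) ^ j = π g → D (J g) = D j := fun g j h => hD_congr _ _ ((hJ g).trans h.symm)
  let f : G → G := fun g => g * D (J g)
  have hf_def : ∀ g, f g = g * D (J g) := fun g => rfl
  have hf_mul : ∀ g h, f (g * h) = f g * f h := by
    intro g h
    have e1 : (π y) ^ (J g + J h) = π (g * h) := by rw [pow_add, hJ, hJ, map_mul]
    rw [hf_def, hf_def, hf_def, hc (g * h) _ e1, hD_add]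
    have hu : h * (y ^ (J h))⁻¹ ∈ M := by
      rw [← hπ1, map_mul, map_inv, map_pow, hJ, mul_inv_cancel]
    have key : h * (y ^ (J h))⁻¹ * D (J g) = D (J g) * (h * (y ^ (J h))⁻¹) := (hD_comm _ _ hu).symm
    calc g * h * ((y ^ J h)⁻¹ * D (J g) * y ^ J h * D (J h))
        = g * (h * (y ^ J h)⁻¹ * D (J g)) * y ^ J h * D (J h) := by group
      _ = g * (D (J g) * (h * (y ^ J h)⁻¹)) * y ^ J h * D (J h) := by rw [key]
      _ = g * D (J g) * (h * D (J h)) := by group
  have hf_π : ∀ g, π (f g) = π g := by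
    intro g
    rw [hf_def, map_mul, (hπ1 _).2 (hD_mem _), mul_one]
  have hf_inj : Function.Injective f := by
    intro g h hgh
    have h1 : π g = π h := by rw [← hf_π g, ← hf_π h, hgh]
    have h2 : D (J g) = D (J h) := hc g (J h) ((hJ h).trans h1.symm)
    rw [hf_def, hf_def, h2] at hgh
    exact mul_right_cancel hgh
  have hf_bij : Function.Bijective f := Finite.injective_iff_bijective.1 hf_inj
  refine ⟨MulEquiv.ofBijective (MonoidHom.mk' f hf_mul) hf_bij, ?_, ?_⟩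
  · show f y = y * m
    have e1 : (π y) ^ 1 = π y := pow_one _
    rw [hf_def, hc y 1 e1, hD_def, pow_one, pow_one, hY]
    group
  · intro u hu
    show f u = u
    have e0 : (π y) ^ 0 = π u := by rw [pow_zero, (hπ1 u).2 hu]
    rw [hf_def, hc u 0 e0, hD_def, pow_zero, pow_zero, inv_one, one_mul, mul_one]

end Cfsg.Agent.Helper50.AutOrb
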