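import Cfsg.Agent.Helper36.F4Odd.Defs2

/-!
# helper36's S4280, batch II+III, piece (UL): `U` is generated by the root subgroups of `posList`.
-/

set_option autoImplicit false
set_option maxRecDepth 100000

namespace Cfsg.Agent.Helper50.F4Odd

open Cfsg Cfsg.Lie Cfsg.Agent.Helper18 Cfsg.Agent.Helper36.F4Odd Cfsg.Agent.Helper19.Twist
  Cfsg.Agent.Helper36.FieldFix

variable {F : Type*} [Field F]

/-- (UL) -/
theorem pos_eq_list : chevF4.posUnipotent F = listSubgroup chevF4 F posList := by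
  unfold ChevalleyDatum.posUnipotent listSubgroup
  congr 1
  ext g
  constructor
  · rintro ⟨r, t, hr, hg⟩
    have h := (isPosRoot_iff chevF4 _ (posOK_of_mem chevF4 Cfsg.Agent.Helper36.SigmaF4.hF4) r).mp hr
    exact ⟨r, t, (mem_posList r).mpr h, hg⟩
  · rintro ⟨r, t, hr, hg⟩
    have h := (mem_posList r).mp hr
    exact ⟨r, t, Cfsg.Agent.Helper36.F4Mix.NP_isPos r h.1 h.2, hg⟩

end Cfsg.Agent.Helper50.F4Odd
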