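import Mathlib
import Cfsg.Agent.Helper38.Cov2P5.Defs

/-!
# helper38's S2500 part 5, leaf (BO): a Borel element of `SU(J0)` in characteristic three without
nonisotropic eigenvector is regular unipotent
-/

set_option autoImplicit false

namespace Cfsg.Agent.Helper50.P5

open Matrix Polynomial Module Cfsg.Agent.S2587 Cfsg.Agent.S2578 Cfsg.Agent.Helper45.GU
  Cfsg.Agent.Helper38.Cov2

variable {F : Type*} [Field F] [Fintype F] {q : ℕ}

omit [Fintype F] in
/-- rank of a strictly upper triangular `3 × 3` matrix with nonzero superdiagonal -/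
theorem BO_rank (x y z : F) (hx : x ≠ 0) (hz : z ≠ 0) :
    (!![0, x, y; 0, 0, z; 0, 0, 0] : Matrix (Fin 3) (Fin 3) F).rank = 2 := by
  apply le_antisymm
  · -- factor through `F²`
    have e : (!![0, x, y; 0, 0, z; 0, 0, 0] : Matrix (Fin 3) (Fin 3) F) =
        (!![x, y; 0, z; 0, 0] : Matrix (Fin 3) (Fin 2) F) *
          (!![0, 1, 0; 0, 0, 1] : Matrix (Fin 2) (Fin 3) F) := by
      ext i j
      fin_cases i <;> fin_cases j <;> simp [Matrix.mul_apply, Fin.sum_univ_two]
    rw [e]
    refine (Matrix.rank_mul_le_left _ _).trans ?_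
    refine (Matrix.rank_le_width _).trans ?_
    simp
  · have e : (!![1, 0, 0; 0, 1, 0] : Matrix (Fin 2) (Fin 3) F) *
        ((!![0, x, y; 0, 0, z; 0, 0, 0] : Matrix (Fin 3) (Fin 3) F) *
          (!![0, 0; x⁻¹, -(y * x⁻¹ * z⁻¹); 0, z⁻¹] : Matrix (Fin 3) (Fin 2) F)) = 1 := by
      ext i j
      fin_cases i <;> fin_cases j <;>
        simp [Matrix.mul_apply, Fin.sum_univ_three, hx, hz] <;> field_simp <;> ring
    have h1 : (1 : Matrix (Fin 2) (Fin 2) F).rank = 2 := by
      rw [Matrix.rank_one]; simp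
    calc 2 = (1 : Matrix (Fin 2) (Fin 2) F).rank := h1.symm
      _ = ((!![1, 0, 0; 0, 1, 0] : Matrix (Fin 2) (Fin 3) F) *
        ((!![0, x, y; 0, 0, z; 0, 0, 0] : Matrix (Fin 3) (Fin 3) F) *
          (!![0, 0; x⁻¹, -(y * x⁻¹ * z⁻¹); 0, z⁻¹] : Matrix (Fin 3) (Fin 2) F))).rank := by rw [e]
      _ ≤ ((!![0, x, y; 0, 0, z; 0, 0, 0] : Matrix (Fin 3) (Fin 3) F) *
          (!![0, 0; x⁻¹, -(y * x⁻¹ * z⁻¹); 0, z⁻¹] : Matrix (Fin 3) (Fin 2) F)).rank :=
        Matrix.rank_mul_le_right _ _
      _ ≤ _ := Matrix.rank_mul_le_left _ _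

/-- (BO) an element of the Borel subgroup of `SU(J0)` in characteristic three without nonisotropic
eigenvector is regular unipotent -/
theorem borel_regUnip [CharP F 3] (bar : F →+* F) (B : Matrix (Fin 3) (Fin 3) F)
    (hB : st bar B * J0 * B = J0) (hdet : B.det = 1) (lam : F)
    (he : B *ᵥ (Pi.single 0 1) = lam • (Pi.single 0 1 : Fin 3 → F))
    (hiso : ∀ (w : Fin 3 → F) (μ : F), w ≠ 0 → B *ᵥ w = μ • w →
      w 0 * bar (w 2) + w 1 * bar (w 1) + w 2 * bar (w 0) = 0) :
    IsRegUnipMat B := by
  -- the first column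
  have h00 : B 0 0 = lam := by
    have := congrFun he 0
    simpa [Matrix.mulVec, dotProduct, Fin.sum_univ_three, Pi.single_apply] using this
  have h10 : B 1 0 = 0 := by
    have := congrFun he 1
    simpa [Matrix.mulVec, dotProduct, Fin.sum_univ_three, Pi.single_apply] using this
  have h20 : B 2 0 = 0 := by
    have := congrFun he 2
    simpa [Matrix.mulVec, dotProduct, Fin.sum_univ_three, Pi.single_apply] using this
  -- the entries of the form equation
  have hent : ∀ i j : Fin 3, bar (B 0 i) * B 2 j + bar (B 1 i) * B 1 j + bar (B 2 i) * B 0 j =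
      (J0 : Matrix (Fin 3) (Fin 3) F) i j := by
    intro i j
    have := congrFun (congrFun hB i) j
    rw [← this]
    simp [Matrix.mul_apply, Fin.sum_univ_three, st_apply, J0]
    ring
  have hdet' : lam * (B 1 1 * B 2 2 - B 1 2 * B 2 1) = 1 := by
    rw [Matrix.det_fin_three, h00, h10, h20] at hdet
    linear_combination hdet
  have hlam : lam ≠ 0 := by
    rintro rfl
    rw [zero_mul] at hdet'
    exact zero_ne_one hdet'
  have hbl : bar lam ≠ 0 := fun h => hlam ((map_eq_zero bar).mp h)
  -- `u = B 2 1 = 0`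
  have e01 := hent 0 1
  have e02 := hent 0 2
  have e11 := hent 1 1
  have e12 := hent 1 2
  simp only [h00, h10, h20, map_zero, zero_mul, add_zero, J0, Matrix.of_apply, Matrix.cons_val',
    Matrix.cons_val_zero, Matrix.cons_val_one] at e01 e02 e11 e12
  have e02' : bar lam * B 2 2 = 1 := by simpa using e02
  have e12' : bar (B 0 1) * B 2 2 + bar (B 1 1) * B 1 2 + bar (B 2 1) * B 0 2 = 0 := by
    simpa using e12
  have hu : B 2 1 = 0 := by
    rcases mul_eq_zero.mp e01 with h | h
    · exact absurd h hbl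
    · exact h
  rw [hu, map_zero, mul_zero, zero_mul, add_zero, zero_add] at e11
  rw [hu, map_zero, zero_mul, add_zero] at e12'
  rw [hu, mul_zero, sub_zero] at hdet'
  -- `μ = B 1 1 = lam`
  have hmu : B 1 1 = lam := by
    by_contra hne
    have hd : B 1 1 - lam ≠ 0 := sub_ne_zero.mpr hne
    have h := hiso ![B 0 1 / (B 1 1 - lam), 1, 0] (B 1 1)
      (by intro h; have := congrFun h 1; simp at this) (by
        ext i
        fin_cases i
        · simp [Matrix.mulVec, dotProduct, Fin.sum_univ_three, h00]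
          field_simp
          ring
        · simp [Matrix.mulVec, dotProduct, Fin.sum_univ_three, h10]
        · simp [Matrix.mulVec, dotProduct, Fin.sum_univ_three, h20, hu])
    simp at h
  -- `x = B 0 1 ≠ 0`
  have hx : B 0 1 ≠ 0 := by
    intro hx0
    have h := hiso ![0, 1, 0] (B 1 1)
      (by intro h; have := congrFun h 1; simp at this) (by
        ext i
        fin_cases i
        · simp [Matrix.mulVec, dotProduct, Fin.sum_univ_three, hx0]
        · simp [Matrix.mulVec, dotProduct, Fin.sum_univ_three]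
        · simp [Matrix.mulVec, dotProduct, Fin.sum_univ_three, hu])
    simp at h
  rw [hmu] at e11 e12' hdet'
  have hv : B 2 2 = lam := by
    apply mul_left_cancel₀ hbl
    rw [e02', e11]
  rw [hv] at e12' hdet'
  have hl1 : lam = 1 := by
    have h3 : lam ^ 3 = 1 := by linear_combination hdet'
    have h30 : (3 : F) = 0 := by
      have := CharP.cast_eq_zero F 3
      exact_mod_cast this
    have h4 : (lam - 1) ^ 3 = 0 := by
      linear_combination h3 + (-lam ^ 2 + lam) * h30
    exact sub_eq_zero.mp (pow_eq_zero_iff (n := 3) (by norm_num) |>.mp h4)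
  have hz : B 1 2 ≠ 0 := by
    intro hz0
    rw [hz0, mul_zero, add_zero] at e12'
    rcases mul_eq_zero.mp e12' with h | h
    · exact hx ((map_eq_zero bar).mp h)
    · exact hlam h
  have hN : B - 1 = !![0, B 0 1, B 0 2; 0, 0, B 1 2; 0, 0, 0] := by
    ext i j
    fin_cases i <;> fin_cases j <;> simp [h00, h10, h20, hu, hmu, hv, hl1]
  constructor
  · rw [hN]
    ext i j
    fin_cases i <;> fin_cases j <;> simp [pow_succ, Matrix.mul_apply, Fin.sum_univ_three]
  · rw [hN]
    exact BO_rank _ _ _ hx hz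

end Cfsg.Agent.Helper50.P5
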