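import Mathlib

/-!
# helper38's S2500 part 5, leaf (PF): in a perfect group a normal cyclic subgroup is central
-/

set_option autoImplicit false

namespace Cfsg.Agent.Helper50.P5

open scoped commutatorElement

/-- (PF) in a perfect group a normal cyclic subgroup is central -/
theorem mem_center_of_normalizer_zpowers_eq_top {G : Type*} [Group G] (hperf : commutator G = ⊤)
    (s : G) (h : Subgroup.normalizer (Subgroup.zpowers s : Set G) = ⊤) : s ∈ Subgroup.center G := by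
  have hn : ∀ g : G, ∃ i : ℤ, g * s * g⁻¹ = s ^ i := by
    intro g
    have hg : g ∈ Subgroup.normalizer (Subgroup.zpowers s : Set G) := by rw [h]; trivial
    rw [Subgroup.mem_normalizer_iff] at hg
    have h1 := (hg s).mp (Subgroup.mem_zpowers s)
    obtain ⟨i, hi⟩ := Subgroup.mem_zpowers_iff.mp h1
    exact ⟨i, hi.symm⟩
  have hcomm : ∀ a b : G, (a * b) * s * (a * b)⁻¹ = (b * a) * s * (b * a)⁻¹ := by
    intro a b
    obtain ⟨i, hi⟩ := hn a
    obtain ⟨j, hj⟩ := hn b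
    have e1 : (a * b) * s * (a * b)⁻¹ = a * (b * s * b⁻¹) * a⁻¹ := by group
    have e2 : (b * a) * s * (b * a)⁻¹ = b * (a * s * a⁻¹) * b⁻¹ := by group
    have e3 : a * s ^ j * a⁻¹ = (a * s * a⁻¹) ^ j := (conj_zpow).symm
    have e4 : b * s ^ i * b⁻¹ = (b * s * b⁻¹) ^ i := (conj_zpow).symm
    rw [e1, e2, hi, hj, e3, e4, hi, hj, ← zpow_mul, ← zpow_mul, mul_comm]
  have hC : ∀ a b : G, ⁅a, b⁆ ∈ Subgroup.centralizer ({s} : Set G) := by
    intro a b
    rw [Subgroup.mem_centralizer_singleton_iff, commutatorElement_def]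
    have h1 := hcomm a⁻¹ b⁻¹
    have h2 : a * b * a⁻¹ * b⁻¹ * s = (b⁻¹ * a⁻¹)⁻¹ * ((a⁻¹ * b⁻¹) * s * (a⁻¹ * b⁻¹)⁻¹) * (a⁻¹ * b⁻¹) := by
      group
    have h3 : s * (a * b * a⁻¹ * b⁻¹) = (b⁻¹ * a⁻¹)⁻¹ * ((b⁻¹ * a⁻¹) * s * (b⁻¹ * a⁻¹)⁻¹) * (a⁻¹ * b⁻¹) := by
      group
    rw [h2, h3, h1]
  have hle : commutator G ≤ Subgroup.centralizer ({s} : Set G) := by
    rw [commutator_eq_closure, Subgroup.closure_le]
    rintro g ⟨a, b, rfl⟩
    exact hC a b
  rw [Subgroup.mem_center_iff]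
  intro g
  have hg : g ∈ Subgroup.centralizer ({s} : Set G) := hle (by rw [hperf]; trivial)
  rw [Subgroup.mem_centralizer_singleton_iff] at hg
  exact hg

end Cfsg.Agent.Helper50.P5
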