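import Cfsg.Agent.Helper39.C320.Conc

/-!
# S1903 (helper39), piece (C1) `rel_conc` : the defining relations hold for `X0`, `A0`
-/

set_option autoImplicit false

namespace Cfsg.Agent.Helper50.C320

open Cfsg.Agent.Helper39.C320 Cfsg.Agent.Helper39.U34 Cfsg.Agent.Helper23.U34E

theorem X0_pow_five : X0 ^ 5 = 1 := by
  rw [pow_eq_one_iff, mat_X0]; decide +kernel

theorem A0_pow_four : A0 ^ 4 = 1 := by
  rw [pow_eq_one_iff, mat_A0]; decide +kernel

theorem X0_inv : X0⁻¹ = X0 ^ 4 := by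
  apply inv_eq_of_mul_eq_one_right
  rw [← pow_succ', X0_pow_five]

theorem A0_inv : A0⁻¹ = A0 ^ 3 := by
  apply inv_eq_of_mul_eq_one_right
  rw [← pow_succ', A0_pow_four]

theorem X0sq_inv : (X0 ^ 2)⁻¹ = X0 ^ 3 := by
  apply inv_eq_of_mul_eq_one_right
  rw [← pow_add, X0_pow_five]

theorem cj1_conc : cj1 X0 A0 = X0 * A0 * X0 ^ 4 := by
  unfold cj1; rw [X0_inv]

theorem cj1_inv_conc : (cj1 X0 A0)⁻¹ = X0 * A0 ^ 3 * X0 ^ 4 := by
  unfold cj1; rw [mul_inv_rev, mul_inv_rev, inv_inv, A0_inv, X0_inv, mul_assoc]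

theorem cj2_conc : cj2 X0 A0 = X0 ^ 2 * A0 * X0 ^ 3 := by
  unfold cj2; rw [X0sq_inv]

theorem cj2_inv_conc : (cj2 X0 A0)⁻¹ = X0 ^ 2 * A0 ^ 3 * X0 ^ 3 := by
  unfold cj2; rw [mul_inv_rev, mul_inv_rev, inv_inv, A0_inv, X0sq_inv, mul_assoc]

/-- matrix of `k1 X0 A0` -/
theorem mat_k1 : mat (k1 X0 A0) =
    a0m * (x0m * a0m * x0m ^ 4) * a0m ^ 3 * (x0m * a0m ^ 3 * x0m ^ 4) := by
  unfold k1
  rw [cj1_inv_conc, A0_inv, cj1_conc]
  simp only [mat_mul, mat_pow, mat_X0, mat_A0]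

/-- matrix of `k2 X0 A0` -/
theorem mat_k2 : mat (k2 X0 A0) =
    a0m * (x0m ^ 2 * a0m * x0m ^ 3) * a0m ^ 3 * (x0m ^ 2 * a0m ^ 3 * x0m ^ 3) := by
  unfold k2
  rw [cj2_inv_conc, A0_inv, cj2_conc]
  simp only [mat_mul, mat_pow, mat_X0, mat_A0]

set_option maxRecDepth 100000 in
/-- (C1) the relations hold for `X0`, `A0` -/
theorem rel_conc : Rel X0 A0 where
  x5 := X0_pow_five
  ax5 := by
    rw [pow_eq_one_iff, mat_mul, mat_X0, mat_A0]; decide +kernel
  a4 := A0_pow_four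
  sx := by
    apply mat_injective
    simp only [mat_mul, mat_X0, mat_A0]; decide +kernel
  k1a := by
    apply mat_injective
    rw [mat_mul, mat_mul, mat_k1, mat_A0]; decide +kernel
  k1x := by
    apply mat_injective
    rw [mat_mul, mat_mul, mat_k1, mat_X0]; decide +kernel
  k2a := by
    apply mat_injective
    rw [mat_mul, mat_mul, mat_k2, mat_A0]; decide +kernel
  k2x := by
    apply mat_injective
    rw [mat_mul, mat_mul, mat_k2, mat_X0]; decide +kernel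
  k1sq := by
    apply mat_injective
    rw [mat_mul, mat_k1, Cfsg.Agent.Helper23.U34E.mat_one]; decide +kernel
  k2sq := by
    apply mat_injective
    rw [mat_mul, mat_k2, Cfsg.Agent.Helper23.U34E.mat_one]; decide +kernel

end Cfsg.Agent.Helper50.C320
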