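-- helper50: piece (CKU) `ck_unip` of helper40's S2376 farm (WANTED #13182).
import Cfsg.Agent.Helper40.D4Tor.Defs
import Cfsg.Agent.Helper19.Twist.UD4
import Cfsg.Agent.Helper19.Twist.FixProd
import Cfsg.Agent.Helper18.BNMain

set_option autoImplicit false
set_option maxRecDepth 100000

namespace Cfsg.Agent.Helper50.D4Tor

open Cfsg Cfsg.Lie Cfsg.Agent.Helper18 Cfsg.Agent.Helper19.Twist Cfsg.Agent.Helper40.D4Tor

/-- conjugating an ordered product of root elements by a diagonal element -/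
theorem CKU_diag_pwG {K : Type*} [Field K] (τ : GL chevD4.Idx K) (χ : ℕ → K)
    (hχ : ∀ r < chevD4.nroots, ∀ t : K, τ * xGL chevD4 K r t = xGL chevD4 K r (χ r * t) * τ)
    (P : List ℕ) (hP : ∀ r ∈ P, r < chevD4.nroots) (t : ℕ → K) :
    τ * pwG chevD4 K P t = pwG chevD4 K P (fun r => χ r * t r) * τ := by
  induction P with
  | nil => rw [pwG_nil, pwG_nil, mul_one, one_mul]
  | cons r L ih =>
    rw [pwG_cons, pwG_cons, ← mul_assoc, hχ r (hP r List.mem_cons_self), mul_assoc,
      ih (fun s hs => hP s (List.mem_cons_of_mem _ hs)), mul_assoc]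

/-- (CK-U) an element of `U` commuting with a torus element all of whose root values are `≠ 1` is trivial -/
theorem ck_unip {K : Type*} [Field K] (τ : GL chevD4.Idx K) (hτ : τ ∈ chevD4.diagonalSubgroup K)
    (hne : ∀ r < 24, ent τ r ≠ 1) (v : GL chevD4.Idx K) (hv : v ∈ chevD4.posUnipotent K) (hcv : v * τ = τ * v) :
    v = 1 := by
  have hP : ClosedList chevD4 phiTD4 ClD4.flatten := closedOK_spec closedOK_D4
  have hv' : v ∈ listSubgroup chevD4 K ClD4.flatten := by rw [listSubgroup_ClD4]; exact hv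
  obtain ⟨t, ht0, rfl⟩ := exists_pwG memD4 gradeOK'_D4 ClD4.flatten hP v hv'
  obtain ⟨χ, hχ0, hχd, hχ⟩ := diagonalSubgroup_char chevD4 memD4 τ hτ
  have hlt : ∀ r ∈ ClD4.flatten, r < chevD4.nroots := fun r hr => (hP.pos r hr).1
  have h1 := CKU_diag_pwG τ χ hχ ClD4.flatten hlt t
  rw [← hcv] at h1
  have h2 : pwG chevD4 K ClD4.flatten t = pwG chevD4 K ClD4.flatten (fun r => χ r * t r) :=
    mul_right_cancel h1
  have h3 := pwG_injOn memD4 gradeOK'_D4 ClD4.flatten hP t (fun r => χ r * t r) ht0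
    (fun r hr => by rw [ht0 r hr, mul_zero]) h2
  have hent : ∀ r < 24, ent τ r = χ r := by
    intro r hr
    unfold ent
    rw [hχd]
    exact rootEntry_diagonal chevD4 χ r hr
  have ht : ∀ r ∈ ClD4.flatten, t r = 0 := by
    intro r hr
    have hr24 : r < 24 := hlt r hr
    have h4 : t r = χ r * t r := congrFun h3 r
    by_contra hne0
    apply hne r hr24
    rw [hent r hr24]
    have h5 : (1 - χ r) * t r = 0 := by rw [sub_mul, one_mul, ← h4, sub_self]
    rcases mul_eq_zero.mp h5 with h6 | h6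
    · exact (sub_eq_zero.mp h6).symm
    · exact absurd h6 hne0
  have h7 : pwG chevD4 K ClD4.flatten t = pwG chevD4 K ClD4.flatten (fun _ => 0) :=
    pwG_congr chevD4 ClD4.flatten t (fun _ => 0) ht
  rw [h7]
  have h8 : ∀ L : List ℕ, pwG chevD4 K L (fun _ => (0 : K)) = 1 := by
    intro L
    induction L with
    | nil => exact pwG_nil (D := chevD4) (K := K) _
    | cons r L ih => rw [pwG_cons, ih, mul_one]; exact xGL_zero' chevD4 memD4 r
  exact h8 _

end Cfsg.Agent.Helper50.D4Tor
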