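-- helper50: piece (WEYLFIX) `weyl_fix` of helper40's S2376 farm (WANTED #13182).
import Cfsg.Agent.Helper40.D4Tor.Defs

set_option autoImplicit false
set_option maxRecDepth 100000

namespace Cfsg.Agent.Helper50.D4Tor

open Cfsg Cfsg.Lie Cfsg.Agent.Helper18 Cfsg.Agent.Helper19.Twist Cfsg.Agent.Helper40.D4Tor

/-- the coordinate vector of a root -/
def WEYLFIX_cv (r : ℕ) : Fin 4 → ℤ := fun k => coordD4 r k.val

/-- the matrices of the simple reflections on the coordinates -/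
def WEYLFIX_S (i : ℕ) : Matrix (Fin 4) (Fin 4) ℤ :=
  match i with
  | 0 => !![-1, 1, 0, 0; 0, 1, 0, 0; 0, 0, 1, 0; 0, 0, 0, 1]
  | 1 => !![1, 0, 0, 0; 1, -1, 1, 1; 0, 0, 1, 0; 0, 0, 0, 1]
  | 2 => !![1, 0, 0, 0; 0, 1, 0, 0; 0, 1, -1, 0; 0, 0, 0, 1]
  | _ => !![1, 0, 0, 0; 0, 1, 0, 0; 0, 0, 1, 0; 0, 1, 0, -1]

/-- the simple reflections act linearly on the coordinates -/
theorem WEYLFIX_refl : ∀ i < 4, ∀ r < 24, chevD4.reflectRoot i r < 24 ∧
    WEYLFIX_cv (chevD4.reflectRoot i r) = Matrix.mulVec (WEYLFIX_S i) (WEYLFIX_cv r) := by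
  decide +kernel

/-- the coordinates separate the roots -/
theorem WEYLFIX_cv_inj : ∀ r < 24, ∀ s < 24, WEYLFIX_cv r = WEYLFIX_cv s → r = s := by
  decide +kernel

/-- every root in the basis `p₁, p₂+p₃, p₄, p₁+p₂` -/
theorem WEYLFIX_basis : ∀ r < 24, WEYLFIX_cv r =
    (coordD4 r 0 - coordD4 r 1 + coordD4 r 2) • WEYLFIX_cv 18 + coordD4 r 2 • WEYLFIX_cv 16 +
      coordD4 r 3 • WEYLFIX_cv 12 + (coordD4 r 1 - coordD4 r 2) • WEYLFIX_cv 19 := by
  decide +kernel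

/-- a word acts linearly on the coordinates -/
theorem WEYLFIX_word (w : List ℕ) (hw : ∀ i ∈ w, i < 4) :
    ∃ M : Matrix (Fin 4) (Fin 4) ℤ, ∀ r < 24, rho chevD4 w r < 24 ∧
      WEYLFIX_cv (rho chevD4 w r) = Matrix.mulVec M (WEYLFIX_cv r) := by
  induction w with
  | nil =>
    refine ⟨1, fun r hr => ⟨hr, ?_⟩⟩
    rw [Matrix.one_mulVec]
    rfl
  | cons i w ih =>
    obtain ⟨M, hM⟩ := ih (fun j hj => hw j (List.mem_cons_of_mem _ hj))
    have hi : i < 4 := hw i List.mem_cons_self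
    refine ⟨WEYLFIX_S i * M, fun r hr => ?_⟩
    obtain ⟨h1, h2⟩ := hM r hr
    have e : rho chevD4 (i :: w) r = chevD4.reflectRoot i (rho chevD4 w r) := rfl
    obtain ⟨h3, h4⟩ := WEYLFIX_refl i hi _ h1
    rw [e]
    refine ⟨h3, ?_⟩
    rw [h4, h2, Matrix.mulVec_mulVec]

/-- (WEYLFIX) a word of the Weyl group fixing the four independent roots `p₁, p₂+p₃, p₄, p₁+p₂` fixes every root -/
theorem weyl_fix (w : List ℕ) (hw : ∀ i ∈ w, i < 4) (h : ∀ b ∈ [18, 16, 12, 19], rho chevD4 w b = b) :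
    ∀ r < 24, rho chevD4 w r = r := by
  obtain ⟨M, hM⟩ := WEYLFIX_word w hw
  have hb : ∀ b ∈ [18, 16, 12, 19], Matrix.mulVec M (WEYLFIX_cv b) = WEYLFIX_cv b := by
    intro b hb
    have hb24 : b < 24 := by
      simp only [List.mem_cons, List.not_mem_nil, or_false] at hb
      rcases hb with rfl | rfl | rfl | rfl <;> norm_num
    rw [← (hM b hb24).2, h b hb]
  intro r hr
  obtain ⟨h1, h2⟩ := hM r hr
  apply WEYLFIX_cv_inj _ h1 _ hr
  rw [h2]
  conv_lhs => rw [WEYLFIX_basis r hr]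
  rw [Matrix.mulVec_add, Matrix.mulVec_add, Matrix.mulVec_add, Matrix.mulVec_smul, Matrix.mulVec_smul,
    Matrix.mulVec_smul, Matrix.mulVec_smul, hb 18 (by simp), hb 16 (by simp), hb 12 (by simp),
    hb 19 (by simp)]
  exact (WEYLFIX_basis r hr).symm

end Cfsg.Agent.Helper50.D4Tor
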