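-- helper50 for helper42's S2440 (#5654): piece (FD-Z1): a `p`-regular element of `SL_n(F)` centralizing the upper
-- unitriangular subgroup is central (via helper57's (A) applied to the Sylow `p`-subgroup `US n F`).
import Mathlib
import Cfsg.Agent.Helper42.DZDefs
import Cfsg.Agent.Helper57.DZA

set_option autoImplicit false

namespace Cfsg.Agent.Helper50.DZ

open Matrix Cfsg Cfsg.Agent.Helper42.DZ

variable {n : ℕ} {F : Type*} [Field F] [Fintype F]

/-- `US n F` is nontrivial for `n ≥ 2` -/
theorem US_ne_bot (hn : 2 ≤ n) : US n F ≠ ⊥ := by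
  rw [← Subgroup.one_lt_card_iff_ne_bot, Cfsg.Agent.Helper14.AutPSL.card_UT]
  apply Nat.one_lt_pow
  · have h1 : (1 : ℕ) ≤ ∑ i : Fin n, (i : ℕ) := by
      have := Finset.single_le_sum (f := fun i : Fin n => (i : ℕ)) (fun i _ => Nat.zero_le _)
        (Finset.mem_univ (⟨1, by omega⟩ : Fin n))
      simpa using this
    omega
  · exact Fintype.one_lt_card

/-- `US n F` is a radical `p`-subgroup: `O_p(N(US)) = US` -/
theorem US_radical (p : ℕ) [hp : Fact p.Prime] [CharP F p] (hn : 1 ≤ n) :
    IsPGroup p (US n F) ∧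
    (Cfsg.pCore p (Subgroup.normalizer ((US n F : Subgroup (SLn n F)) : Set (SLn n F)))).map
      (Subgroup.normalizer ((US n F : Subgroup (SLn n F)) : Set (SLn n F))).subtype = US n F := by
  classical
  obtain ⟨f, -, hF⟩ := FiniteField.card F p
  have hf : 1 ≤ (f : ℕ) := f.pos
  have hcard := Cfsg.Agent.Helper14.AutPSL.card_UT_eq hF hf n hn
  let P : Sylow p (SLn n F) := Sylow.ofCard (US n F) hcard
  have hPU : (P : Subgroup (SLn n F)) = US n F := Sylow.coe_ofCard _ _
  refine ⟨by rw [← hPU]; exact P.isPGroup', ?_⟩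
  have hle : (P : Subgroup (SLn n F)) ≤ Subgroup.normalizer ((US n F : Subgroup (SLn n F)) : Set (SLn n F)) := by
    rw [hPU]; exact Subgroup.le_normalizer
  have hP' : ((P.subtype hle : Sylow p _) : Subgroup (Subgroup.normalizer ((US n F : Subgroup (SLn n F)) : Set (SLn n F)))) =
      (US n F).subgroupOf (Subgroup.normalizer ((US n F : Subgroup (SLn n F)) : Set (SLn n F))) := by
    rw [Sylow.coe_subtype, hPU]
  have hnorm : ((P.subtype hle : Sylow p _) : Subgroup (Subgroup.normalizer ((US n F : Subgroup (SLn n F)) : Set (SLn n F)))).Normal := by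
    rw [hP']; exact Subgroup.normal_in_normalizer
  rw [Cfsg.Agent.Lib.pCore_eq_of_normal_sylow (P.subtype hle) hnorm, hP', Subgroup.subgroupOf_map_subtype,
    inf_of_le_left Subgroup.le_normalizer]

/-- (FD-Z1) -/
theorem central_of_centralizes_US (p : ℕ) [hp : Fact p.Prime] [CharP F p] (hn : 2 ≤ n) (x : SLn n F)
    (hx : ¬ p ∣ orderOf x)
    (hxU : x ∈ Subgroup.centralizer ((US n F : Subgroup (SLn n F)) : Set (SLn n F))) :
    x ∈ Subgroup.center (SLn n F) := by
  obtain ⟨hD, hrad⟩ := US_radical (n := n) (F := F) p (by omega)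
  exact Cfsg.Agent.Helper57.DZA.central_of_centralizes_radical p (US n F) hD (US_ne_bot hn) hrad x hx hxU

end Cfsg.Agent.Helper50.DZ
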