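-- helper50: leaf (P5) `not_seven` of helper8's S3385/S3685 farm (WANTED #12989):
-- the proof from (P1b) `tower_comm_mem`, taken here as a hypothesis.
import Cfsg.Agent.Helper8.Sims3Defs

set_option autoImplicit false

namespace Cfsg.Agent.Helper50.Sims3

open Cfsg.Agent.Helper8.Sims3 Pointwise

variable {G : Type*} [Group G]

/-! ### general group lemmas -/

theorem p5_comm_closure {S : Set G} {t : G} (h : ∀ z ∈ S, Commute t z) :
    ∀ w ∈ Subgroup.closure S, Commute t w := by
  intro w hw
  induction hw using Subgroup.closure_induction with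
  | mem z hz => exact h z hz
  | one => exact Commute.one_right t
  | mul a b _ _ ha hb => exact ha.mul_right hb
  | inv a _ ha => exact ha.inv_right

theorem p5_comm_closure₂ {S : Set G} (h : ∀ a ∈ S, ∀ b ∈ S, Commute a b) :
    ∀ v ∈ Subgroup.closure S, ∀ w ∈ Subgroup.closure S, Commute v w := by
  intro v hv
  apply p5_comm_closure
  intro z hz
  exact (p5_comm_closure (fun a ha => h z hz a ha) v hv).symm

/-- a group generated by commuting involutions has exponent two -/
theorem p5_sq_closure {S : Set G} (hsq : ∀ a ∈ S, a * a = 1)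
    (h : ∀ a ∈ S, ∀ b ∈ S, Commute a b) : ∀ x ∈ Subgroup.closure S, x * x = 1 := by
  intro x hx
  induction hx using Subgroup.closure_induction with
  | mem z hz => exact hsq z hz
  | one => exact mul_one 1
  | mul a b ha hb iha ihb =>
    have hc : Commute b a := p5_comm_closure₂ h b hb a ha
    rw [hc.mul_mul_mul_comm, iha, ihb, mul_one]
  | inv a _ iha => rw [← mul_inv_rev, iha, inv_one]

/-- splitting off a generator which is an involution commuting with the others -/
theorem p5_split {S : Set G} {u x : G} (hu : u * u = 1) (hS : ∀ z ∈ S, Commute u z)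
    (hx : x ∈ Subgroup.closure (insert u S)) :
    x ∈ Subgroup.closure S ∨ ∃ w ∈ Subgroup.closure S, x = u * w := by
  have hA := p5_comm_closure hS
  have hui : u⁻¹ = u := inv_eq_of_mul_eq_one_right hu
  induction hx using Subgroup.closure_induction with
  | mem z hz =>
    rcases hz with rfl | hz
    · exact Or.inr ⟨1, one_mem _, (mul_one _).symm⟩
    · exact Or.inl (Subgroup.subset_closure hz)
  | one => exact Or.inl (one_mem _)
  | mul a b _ _ iha ihb =>
    rcases iha with ha | ⟨w, hw, rfl⟩ <;> rcases ihb with hb | ⟨w', hw', rfl⟩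
    · exact Or.inl (mul_mem ha hb)
    · refine Or.inr ⟨a * w', mul_mem ha hw', ?_⟩
      rw [← mul_assoc, ← (hA a ha).eq, mul_assoc]
    · exact Or.inr ⟨w * b, mul_mem hw hb, by rw [mul_assoc]⟩
    · refine Or.inl ?_
      have e : u * w * (u * w') = w * w' := by
        rw [(hA w hw).eq, mul_assoc, ← mul_assoc u u, hu, one_mul]
      rw [e]
      exact mul_mem hw hw'
  | inv a _ iha =>
    rcases iha with ha | ⟨w, hw, rfl⟩
    · exact Or.inl (inv_mem ha)
    · refine Or.inr ⟨w⁻¹, inv_mem hw, ?_⟩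
      rw [mul_inv_rev, hui, (hA w⁻¹ (inv_mem hw)).eq]

/-- dropping the split generator with the help of a witness `t` -/
theorem p5_drop {A : Subgroup G} {u x t : G} (htx : Commute t x) (htA : ∀ w ∈ A, Commute t w)
    (htu : ¬ Commute t u) (hx : x ∈ A ∨ ∃ w ∈ A, x = u * w) : x ∈ A := by
  rcases hx with hx | ⟨w, hw, rfl⟩
  · exact hx
  · exfalso
    apply htu
    have h1 : Commute t (u * w * w⁻¹) := htx.mul_right (htA w hw).inv_right
    rwa [mul_inv_cancel_right] at h1

theorem p5_mem_normalizer {S : Set G} {t : G} (ht : t * t = 1)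
    (hS : ∀ z ∈ S, t * z * t * z ∈ Subgroup.closure S) :
    t ∈ Subgroup.normalizer (Subgroup.closure S : Set G) := by
  have hti : t⁻¹ = t := inv_eq_of_mul_eq_one_right ht
  have hfwd : ∀ x ∈ Subgroup.closure S, t * x * t⁻¹ ∈ Subgroup.closure S := by
    intro x hx
    induction hx using Subgroup.closure_induction with
    | mem z hz =>
      have e : t * z * t⁻¹ = t * z * t * z * z⁻¹ := by rw [hti]; group
      rw [e]
      exact mul_mem (hS z hz) (inv_mem (Subgroup.subset_closure hz))
    | one => rw [mul_one, mul_inv_cancel]; exact one_mem _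
    | mul a b _ _ iha ihb =>
      have e : t * (a * b) * t⁻¹ = t * a * t⁻¹ * (t * b * t⁻¹) := by group
      rw [e]
      exact mul_mem iha ihb
    | inv a _ iha =>
      have e : t * a⁻¹ * t⁻¹ = (t * a * t⁻¹)⁻¹ := by group
      rw [e]
      exact inv_mem iha
  rw [Subgroup.mem_normalizer_iff]
  intro x
  refine ⟨hfwd x, fun hx => ?_⟩
  have h1 := hfwd _ hx
  have e : t * (t * x * t⁻¹) * t⁻¹ = x := by
    rw [hti]
    have : t * (t * x * t) * t = (t * t) * x * (t * t) := by group
    rw [this, ht, one_mul, mul_one]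
  rwa [e] at h1

/-! ### the sequence -/

/-- the facts used about the sequence `y` (`s = 7`, `l = 4`) -/
structure P5Data (y : ℤ → G) : Prop where
  sq : ∀ i, y i * y i = 1
  cm : ∀ i j : ℤ, i - 3 ≤ j → j ≤ i + 3 → Commute (y i) (y j)
  nc : ∀ i j : ℤ, j = i + 4 → ¬ Commute (y i) (y j)
  hC : ∀ i j : ℤ, j = i + 4 →
    y i * y j * y i * y j ∈ Subgroup.closure {y (i + 1), y (i + 2), y (i + 3)}
  hD : ∀ i j : ℤ, j = i + 5 →
    y i * y j * y i * y j ∈ Subgroup.closure {y (i + 1), y (i + 2), y (i + 3), y (i + 4)}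

variable {y : ℤ → G}

theorem P5Data.inv (D : P5Data y) (i : ℤ) : (y i)⁻¹ = y i :=
  inv_eq_of_mul_eq_one_right (D.sq i)

/-- `y (i+5)` centralises `[y i, y (i+4)]` -/
theorem p5_step1 (D : P5Data y) (i j t : ℤ) (hj : j = i + 4) (ht : t = i + 5) :
    Commute (y t) (y i * y j * y i * y j) := by
  obtain ⟨d, hd⟩ : ∃ d, d = y i * y t * y i * y t := ⟨_, rfl⟩
  have hdm : d ∈ Subgroup.closure {y (i + 1), y (i + 2), y (i + 3), y (i + 4)} := by
    rw [hd]; exact D.hD i t ht
  have hdj : Commute d (y j) := by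
    refine (p5_comm_closure (t := y j) ?_ d hdm).symm
    intro z hz
    simp only [Set.mem_insert_iff, Set.mem_singleton_iff] at hz
    rcases hz with rfl | rfl | rfl | rfl <;> exact D.cm _ _ (by omega) (by omega)
  have ht1 : y t * y i * (y t)⁻¹ = y i * d := by
    rw [hd, D.inv t]
    have e : y i * (y i * y t * y i * y t) = (y i * y i) * y t * y i * y t := by group
    rw [e, D.sq, one_mul]
  have ht2 : y t * y i * (y t)⁻¹ = d⁻¹ * y i := by
    rw [hd, D.inv t]
    have e : (y i * y t * y i * y t)⁻¹ * y i = (y t)⁻¹ * (y i)⁻¹ * (y t)⁻¹ * ((y i)⁻¹ * y i) := by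
      group
    rw [e, inv_mul_cancel, mul_one, D.inv, D.inv]
  have ht3 : y t * y j * (y t)⁻¹ = y j := by
    have hc : Commute (y t) (y j) := D.cm _ _ (by omega) (by omega)
    rw [hc.eq, mul_inv_cancel_right]
  have key : y t * (y i * y j * y i * y j) * (y t)⁻¹ = y i * y j * y i * y j := by
    have e1 : y t * (y i * y j * y i * y j) * (y t)⁻¹ =
        (y t * y i * (y t)⁻¹) * (y t * y j * (y t)⁻¹) *
          ((y t * y i * (y t)⁻¹) * (y t * y j * (y t)⁻¹)) := by group
    rw [e1, ht3]
    have e2 : y t * y i * (y t)⁻¹ * y j * (y t * y i * (y t)⁻¹ * y j) =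
        (y i * d) * y j * ((d⁻¹ * y i) * y j) := by
      rw [← ht1, ← ht2]
    rw [e2]
    have e3 : (y i * d) * y j * ((d⁻¹ * y i) * y j) = y i * (d * y j * d⁻¹) * y i * y j := by
      group
    rw [e3, hdj.eq, mul_inv_cancel_right]
  exact mul_inv_eq_iff_eq_mul.mp key

/-- `y (i-1)` centralises `[y i, y (i+4)]` -/
theorem p5_step1' (D : P5Data y) (i j t : ℤ) (hj : j = i + 4) (ht : t = i - 1) :
    Commute (y t) (y i * y j * y i * y j) := by
  obtain ⟨e, he⟩ : ∃ e, e = y t * y j * y t * y j := ⟨_, rfl⟩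
  have hem : e ∈ Subgroup.closure {y (t + 1), y (t + 2), y (t + 3), y (t + 4)} := by
    rw [he]; exact D.hD t j (by omega)
  have hei : Commute e (y i) := by
    refine (p5_comm_closure (t := y i) ?_ e hem).symm
    intro z hz
    simp only [Set.mem_insert_iff, Set.mem_singleton_iff] at hz
    rcases hz with rfl | rfl | rfl | rfl <;> exact D.cm _ _ (by omega) (by omega)
  have ht1 : y t * y j * (y t)⁻¹ = e * y j := by
    rw [he, D.inv t]
    have e' : y t * y j * y t * y j * y j = y t * y j * y t * (y j * y j) := by group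
    rw [e', D.sq, mul_one]
  have ht2 : y t * y j * (y t)⁻¹ = y j * e⁻¹ := by
    rw [he, D.inv t]
    have e' : y j * (y t * y j * y t * y j)⁻¹ = (y j * (y j)⁻¹) * (y t)⁻¹ * (y j)⁻¹ * (y t)⁻¹ := by
      group
    rw [e', mul_inv_cancel, one_mul, D.inv, D.inv]
  have ht3 : y t * y i * (y t)⁻¹ = y i := by
    have hc : Commute (y t) (y i) := D.cm _ _ (by omega) (by omega)
    rw [hc.eq, mul_inv_cancel_right]
  have key : y t * (y i * y j * y i * y j) * (y t)⁻¹ = y i * y j * y i * y j := by
    have e1 : y t * (y i * y j * y i * y j) * (y t)⁻¹ =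
        (y t * y i * (y t)⁻¹) * (y t * y j * (y t)⁻¹) *
          ((y t * y i * (y t)⁻¹) * (y t * y j * (y t)⁻¹)) := by group
    rw [e1, ht3]
    have e2 : y i * (y t * y j * (y t)⁻¹) * (y i * (y t * y j * (y t)⁻¹)) =
        y i * (y j * e⁻¹) * (y i * (e * y j)) := by
      rw [← ht2, ← ht1]
    rw [e2]
    have e3 : y i * (y j * e⁻¹) * (y i * (e * y j)) = y i * y j * (e⁻¹ * (y i * e)) * y j := by
      group
    rw [e3, ← hei.eq, inv_mul_cancel_left]
  exact mul_inv_eq_iff_eq_mul.mp key

/-- `[y i, y (i+4)] = y (i+2)` -/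
theorem p5_c_eq (D : P5Data y) (i j : ℤ) (hj : j = i + 4) :
    y i * y j * y i * y j = y (i + 2) := by
  have h1 := D.hC i j hj
  have h2 := p5_split (D.sq (i + 1)) (S := {y (i + 2), y (i + 3)}) (by
    intro z hz
    simp only [Set.mem_insert_iff, Set.mem_singleton_iff] at hz
    rcases hz with rfl | rfl <;> exact D.cm _ _ (by omega) (by omega)) h1
  have h3 := p5_drop (p5_step1 D i j (i + 5) hj rfl) (p5_comm_closure (by
    intro z hz
    simp only [Set.mem_insert_iff, Set.mem_singleton_iff] at hz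
    rcases hz with rfl | rfl <;> exact D.cm _ _ (by omega) (by omega)))
    (fun hc => D.nc (i + 1) (i + 5) (by ring) hc.symm) h2
  rw [Set.pair_comm] at h3
  have h4 := p5_split (D.sq (i + 3)) (S := {y (i + 2)}) (by
    intro z hz
    rw [Set.mem_singleton_iff] at hz
    subst hz
    exact D.cm _ _ (by omega) (by omega)) h3
  have h5 := p5_drop (p5_step1' D i j (i - 1) hj rfl) (p5_comm_closure (by
    intro z hz
    rw [Set.mem_singleton_iff] at hz
    subst hz
    exact D.cm _ _ (by omega) (by omega)))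
    (D.nc (i - 1) (i + 3) (by ring)) h4
  have h5' : y i * y j * y i * y j ∈ Subgroup.closure (insert (y (i + 2)) (∅ : Set G)) := by
    rw [LawfulSingleton.insert_empty_eq]; exact h5
  have h6 := p5_split (D.sq (i + 2)) (S := ∅) (by simp) h5'
  rw [Subgroup.closure_empty] at h6
  rcases h6 with h6 | ⟨w, hw, h6⟩
  · rw [Subgroup.mem_bot] at h6
    exfalso
    apply D.nc i j hj
    have h7 : y i * y j = (y i * y j)⁻¹ :=
      eq_inv_of_mul_eq_one_left (by rw [← h6]; group)
    rw [mul_inv_rev, D.inv, D.inv] at h7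
    exact h7
  · rw [Subgroup.mem_bot] at hw
    rw [h6, hw, mul_one]

/-- `[y i, y (i+5)] ∈ ⟨y (i+2), y (i+3)⟩` -/
theorem p5_d_mem (D : P5Data y) (i j : ℤ) (hj : j = i + 5) :
    y i * y j * y i * y j ∈ Subgroup.closure {y (i + 2), y (i + 3)} := by
  obtain ⟨d, hd⟩ : ∃ d, d = y i * y j * y i * y j := ⟨_, rfl⟩
  rw [← hd]
  have hdm : d ∈ Subgroup.closure {y (i + 1), y (i + 2), y (i + 3), y (i + 4)} := by
    rw [hd]; exact D.hD i j hj
  have hdd : d * d = 1 := by
    refine p5_sq_closure ?_ ?_ d hdm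
    · intro z hz
      simp only [Set.mem_insert_iff, Set.mem_singleton_iff] at hz
      rcases hz with rfl | rfl | rfl | rfl <;> exact D.sq _
    · intro a ha b hb
      simp only [Set.mem_insert_iff, Set.mem_singleton_iff] at ha hb
      rcases ha with rfl | rfl | rfl | rfl <;> rcases hb with rfl | rfl | rfl | rfl <;>
        exact D.cm _ _ (by omega) (by omega)
  have hdi : d⁻¹ = d := inv_eq_of_mul_eq_one_right hdd
  have hci : Commute (y i) d := by
    have h1 : y i * d * (y i)⁻¹ = d⁻¹ := by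
      rw [hd, D.inv i]
      have e1 : y i * (y i * y j * y i * y j) * y i = (y i * y i) * y j * y i * y j * y i := by
        group
      have e2 : (y i * y j * y i * y j)⁻¹ = (y j)⁻¹ * (y i)⁻¹ * (y j)⁻¹ * (y i)⁻¹ := by group
      rw [e1, e2, D.sq, one_mul, D.inv, D.inv]
    rw [hdi] at h1
    exact mul_inv_eq_iff_eq_mul.mp h1
  have hcj : Commute (y j) d := by
    have h1 : y j * d * (y j)⁻¹ = d⁻¹ := by
      rw [hd, D.inv j]
      have e1 : y j * (y i * y j * y i * y j) * y j = y j * y i * y j * y i * (y j * y j) := by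
        group
      have e2 : (y i * y j * y i * y j)⁻¹ = (y j)⁻¹ * (y i)⁻¹ * (y j)⁻¹ * (y i)⁻¹ := by group
      rw [e1, e2, D.sq, mul_one, D.inv, D.inv]
    rw [hdi] at h1
    exact mul_inv_eq_iff_eq_mul.mp h1
  have h2 := p5_split (D.sq (i + 1)) (S := {y (i + 2), y (i + 3), y (i + 4)}) (by
    intro z hz
    simp only [Set.mem_insert_iff, Set.mem_singleton_iff] at hz
    rcases hz with rfl | rfl | rfl <;> exact D.cm _ _ (by omega) (by omega)) hdm
  have h3 := p5_drop hcj (p5_comm_closure (by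
    intro z hz
    simp only [Set.mem_insert_iff, Set.mem_singleton_iff] at hz
    rcases hz with rfl | rfl | rfl <;> exact D.cm _ _ (by omega) (by omega)))
    (fun hc => D.nc (i + 1) j (by omega) hc.symm) h2
  have hset : ({y (i + 2), y (i + 3), y (i + 4)} : Set G) =
      insert (y (i + 4)) {y (i + 2), y (i + 3)} := by
    ext z
    simp only [Set.mem_insert_iff, Set.mem_singleton_iff]
    tauto
  rw [hset] at h3
  have h4 := p5_split (D.sq (i + 4)) (S := {y (i + 2), y (i + 3)}) (by
    intro z hz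
    simp only [Set.mem_insert_iff, Set.mem_singleton_iff] at hz
    rcases hz with rfl | rfl <;> exact D.cm _ _ (by omega) (by omega)) h3
  exact p5_drop hci (p5_comm_closure (by
    intro z hz
    simp only [Set.mem_insert_iff, Set.mem_singleton_iff] at hz
    rcases hz with rfl | rfl <;> exact D.cm _ _ (by omega) (by omega)))
    (D.nc i (i + 4) rfl) h4

/-- all the commutators `[y i, y j]`, `i ≤ j ≤ i + 5`, at once -/
theorem p5_W (D : P5Data y) (i j : ℤ) (h1 : i ≤ j) (h2 : j ≤ i + 5) :
    y i * y j * y i * y j ∈ Subgroup.closure (y '' Set.Icc (i + 2) (j - 2)) := by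
  rcases (by omega : j ≤ i + 3 ∨ j = i + 4 ∨ j = i + 5) with h | h | h
  · have hc : Commute (y j) (y i) := D.cm _ _ (by omega) (by omega)
    have e : y i * y j * y i * y j = 1 := by
      rw [mul_assoc (y i * y j), hc.mul_mul_mul_comm, D.sq, D.sq, mul_one]
    rw [e]
    exact one_mem _
  · rw [p5_c_eq D i j h]
    exact Subgroup.subset_closure ⟨i + 2, ⟨le_rfl, by omega⟩, rfl⟩
  · refine Subgroup.closure_mono ?_ (p5_d_mem D i j h)
    intro z hz
    simp only [Set.mem_insert_iff, Set.mem_singleton_iff] at hz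
    rcases hz with rfl | rfl
    · exact ⟨i + 2, ⟨by omega, by omega⟩, rfl⟩
    · exact ⟨i + 3, ⟨by omega, by omega⟩, rfl⟩

theorem p5_false (h : Tower 7 y) (D : P5Data y) : False := by
  obtain ⟨N, hN⟩ : ∃ N : Subgroup G, N = Subgroup.closure (y '' Set.Icc 2 5) := ⟨_, rfl⟩
  have hnorm : ∀ k : ℤ, 0 ≤ k → k ≤ 7 → y k ∈ Subgroup.normalizer (N : Set G) := by
    intro k hk0 hk7
    rw [hN]
    apply p5_mem_normalizer (D.sq k)
    rintro z ⟨m, ⟨hm2, hm5⟩, rfl⟩
    rcases le_or_gt k m with hkm | hkm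
    · exact Subgroup.closure_mono (Set.image_mono (Set.Icc_subset_Icc (by omega) (by omega)))
        (p5_W D k m hkm (by omega))
    · have e : y k * y m * y k * y m = (y m * y k * y m * y k)⁻¹ := by
        have e' : (y m * y k * y m * y k)⁻¹ = (y k)⁻¹ * (y m)⁻¹ * (y k)⁻¹ * (y m)⁻¹ := by group
        rw [e', D.inv, D.inv]
      rw [e]
      exact inv_mem (Subgroup.closure_mono
        (Set.image_mono (Set.Icc_subset_Icc (by omega) (by omega))) (p5_W D m k hkm.le (by omega)))
  have htop : Subgroup.normalizer (N : Set G) = ⊤ := by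
    rw [eq_top_iff, ← h.gen 0]
    unfold U
    rw [Subgroup.closure_le]
    rintro z ⟨k, hk, rfl⟩
    rw [Set.mem_Ico] at hk
    have hk2 : k < 8 := by
      have := hk.2
      push_cast at this
      omega
    exact hnorm k hk.1 (by omega)
  have hNn : N.Normal := Subgroup.normalizer_eq_top_iff.mp htop
  have hle : N ≤ U y 0 7 := by
    rw [hN]
    unfold U
    apply Subgroup.closure_mono
    apply Set.image_mono
    intro k hk
    rw [Set.mem_Icc] at hk
    rw [Set.mem_Ico]
    constructor
    · omega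
    · push_cast
      omega
  have hbot := h.core 0 N hNn hle
  have h2 : y 2 ∈ N := by
    rw [hN]
    exact Subgroup.subset_closure ⟨2, ⟨le_rfl, by norm_num⟩, rfl⟩
  rw [hbot, Subgroup.mem_bot] at h2
  exact D.nc 2 6 (by norm_num) (by rw [h2]; exact Commute.one_left _)

/-- the data, from the tower and (P1b) -/
theorem p5_data (h : Tower 7 y) (hl : IsLam y 4)
    (hP1b : ∀ (a : ℤ) (d : ℕ), d + 2 < 7 →
      y a * y (a + (d + 1 : ℕ)) * y a * y (a + (d + 1 : ℕ)) ∈ U y (a + 1) d) : P5Data y where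
  sq := h.sq
  cm := by
    intro i j h1 h2
    rcases le_total i j with hij | hij
    · have h3 := hl.comm i (j - i).toNat (by omega)
      rwa [show i + ((j - i).toNat : ℤ) = j by omega] at h3
    · have h3 := hl.comm j (i - j).toNat (by omega)
      rw [show j + ((i - j).toNat : ℤ) = i by omega] at h3
      exact h3.symm
  nc := by
    intro i j hj
    have h3 := hl.ncomm i
    rwa [show i + ((4 : ℕ) : ℤ) = j by rw [hj]; norm_num] at h3
  hC := by
    intro i j hj
    have h3 := hP1b i 3 (by norm_num)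
    rw [show i + ((3 + 1 : ℕ) : ℤ) = j by rw [hj]; norm_num] at h3
    unfold U at h3
    refine Subgroup.closure_mono ?_ h3
    rintro z ⟨k, ⟨hk1, hk2⟩, rfl⟩
    have hk : k = i + 1 ∨ k = i + 2 ∨ k = i + 3 := by
      push_cast at hk2
      omega
    rcases hk with rfl | rfl | rfl <;> simp
  hD := by
    intro i j hj
    have h3 := hP1b i 4 (by norm_num)
    rw [show i + ((4 + 1 : ℕ) : ℤ) = j by rw [hj]; norm_num] at h3
    unfold U at h3
    refine Subgroup.closure_mono ?_ h3
    rintro z ⟨k, ⟨hk1, hk2⟩, rfl⟩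
    have hk : k = i + 1 ∨ k = i + 2 ∨ k = i + 3 ∨ k = i + 4 := by
      push_cast at hk2
      omega
    rcases hk with rfl | rfl | rfl | rfl <;> simp

/-- (P5) from (P1b) -/
theorem not_seven_of_comm_mem (h : Tower 7 y) (hl : IsLam y 4)
    (hP1b : ∀ (a : ℤ) (d : ℕ), d + 2 < 7 →
      y a * y (a + (d + 1 : ℕ)) * y a * y (a + (d + 1 : ℕ)) ∈ U y (a + 1) d) : False :=
  p5_false h (p5_data h hl hP1b)

end Cfsg.Agent.Helper50.Sims3
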