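-- helper50: piece (LA2) `la_upper` of helper39's S3777 (Vaughan-Lee) STEP 1 farm (WANTED #13542).
-- Same argument as helper59's `card_dual_vanishing_pair` (VL_LA1, for helper38's farm), restated in
-- helper39's shape; Mathlib only.
import Mathlib

set_option autoImplicit false

namespace Cfsg.Agent.Helper50.VL

universe u

/-- (LA2) functionals vanishing on two independent vectors -/
theorem la_upper {p : ℕ} [Fact p.Prime] {V : Type*} [AddCommGroup V] [Module (ZMod p) V] [Finite V]
    (v w : V) (hw : w ∉ Submodule.span (ZMod p) {v}) (hv : v ≠ 0) :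
    p ^ 2 * Nat.card {α : Module.Dual (ZMod p) V | α v = 0 ∧ α w = 0} = Nat.card V := by
  have hfin : Module.Finite (ZMod p) V := Module.Finite.of_finite
  have hli : LinearIndependent (ZMod p) ![v, w] := by
    rw [LinearIndependent.pair_iff' hv]
    intro a ha
    apply hw
    rw [Submodule.mem_span_singleton]
    exact ⟨a, ha⟩
  have hrange : Set.range ![v, w] = {v, w} := by
    ext x
    simp [eq_comm]
    tauto
  have hrank : Module.finrank (ZMod p) ↥(Submodule.span (ZMod p) ({v, w} : Set V)) = 2 := by
    have h1 := finrank_span_eq_card hli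
    rw [hrange] at h1
    simpa using h1
  have hmem : ∀ α : Module.Dual (ZMod p) V,
      α ∈ (Submodule.span (ZMod p) ({v, w} : Set V)).dualAnnihilator ↔ (α v = 0 ∧ α w = 0) := by
    intro α
    rw [Submodule.mem_dualAnnihilator]
    constructor
    · intro h
      exact ⟨h v (Submodule.subset_span (by simp)), h w (Submodule.subset_span (by simp))⟩
    · rintro ⟨h1, h2⟩ x hx
      have hle : Submodule.span (ZMod p) ({v, w} : Set V) ≤ LinearMap.ker α := by
        rw [Submodule.span_le]
        intro y hy
        simp only [Set.mem_insert_iff, Set.mem_singleton_iff] at hy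
        rcases hy with rfl | rfl
        · exact h1
        · exact h2
      exact hle hx
  have hcongr : Nat.card {α : Module.Dual (ZMod p) V | α v = 0 ∧ α w = 0} =
      Nat.card ↥(Submodule.span (ZMod p) ({v, w} : Set V)).dualAnnihilator :=
    Nat.card_congr (Equiv.subtypeEquivRight (fun α => (hmem α).symm))
  have hsum := Subspace.finrank_add_finrank_dualAnnihilator_eq
    (Submodule.span (ZMod p) ({v, w} : Set V))
  rw [hrank] at hsum
  rw [hcongr, Module.natCard_eq_pow_finrank (K := ZMod p) (V := V),
    Module.natCard_eq_pow_finrank (K := ZMod p)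
      (V := ↥(Submodule.span (ZMod p) ({v, w} : Set V)).dualAnnihilator),
    Nat.card_zmod, ← hsum, ← pow_add]

end Cfsg.Agent.Helper50.VL
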