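-- helper50: leaf (CARD) `card_commutator_eq_prod` of helper45's S3777 (Vaughan-Lee) farm (WANTED #13620).
import Mathlib
import Cfsg.Agent.Helper45.VL.Defs

set_option autoImplicit false

universe u

namespace Cfsg.Agent.Helper50.VL

open Cfsg.Agent.Helper1.HKK Cfsg.Agent.Helper93.HKKLG Cfsg.Agent.Helper45.VL

variable {G : Type u} [Group G]

/-- Lagrange for `γ_n ≥ γ_{n+1}` -/
theorem CARD_step (n : ℕ) :
    Nat.card ↥(Gam G n) = Nat.card (A G n) * Nat.card ↥(Gam G (n + 1)) := by
  have h1 := Subgroup.card_eq_card_quotient_mul_card_subgroup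
    ((Gam G (n + 1)).subgroupOf (Gam G n))
  have h2 : Nat.card ↥((Gam G (n + 1)).subgroupOf (Gam G n)) = Nat.card ↥(Gam G (n + 1)) :=
    Nat.card_congr (Subgroup.subgroupOfEquivOfLe (Gam_anti (Nat.le_succ n))).toEquiv
  rw [h2] at h1
  have h3 : Nat.card (A G n) = Nat.card (Qt G n) := Nat.card_congr Additive.toMul
  rw [h3]
  exact h1

theorem CARD_telescope (N : ℕ) :
    Nat.card ↥(Gam G 2) =
      (∏ k ∈ Finset.range N, Nat.card (A G (1 + (k + 1)))) * Nat.card ↥(Gam G (N + 2)) := by
  induction N with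
  | zero => rw [Finset.range_zero, Finset.prod_empty, one_mul]
  | succ N ih =>
    rw [Finset.prod_range_succ, ih, CARD_step (N + 2), mul_assoc]
    have e : 1 + (N + 1) = N + 2 := by omega
    rw [e]

/-- (CARD) the order of `G'` is the product of the orders of the graded pieces. -/
theorem card_commutator_eq_prod [Finite G] (N : ℕ) (hN : Gam G (N + 2) = ⊥) :
    Nat.card ↥(commutator G) = ∏ k ∈ Finset.range N, Nat.card (A G (1 + (k + 1))) := by
  have h1 : Gam G 2 = commutator G := Subgroup.top_lowerCentralSeries_one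
  rw [← h1, CARD_telescope N, hN, Subgroup.card_bot, mul_one]

end Cfsg.Agent.Helper50.VL
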