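-- helper50: leaf (FORM) `nonempty_formData` of helper45's S3777 (Vaughan-Lee) farm (WANTED #13620).
import Mathlib
import Cfsg.Agent.Helper45.VL.Defs

set_option autoImplicit false

universe u

namespace Cfsg.Agent.Helper50.VL

open Cfsg.Agent.Helper1.HKK Cfsg.Agent.Helper93.HKKLG Cfsg.Agent.Helper45.VL
open scoped commutatorElement

/-- `M / pM` -/
abbrev FORM_Q (M : Type u) [AddCommGroup M] (p : ℕ) : Type u :=
  M ⧸ (nsmulAddMonoidHom p : M →+ M).range

theorem FORM_Q_exp (M : Type u) [AddCommGroup M] (p : ℕ) (x : FORM_Q M p) : p • x = 0 := by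
  induction x using QuotientAddGroup.induction_on with
  | H a =>
    rw [← QuotientAddGroup.mk_nsmul, QuotientAddGroup.eq_zero_iff]
    exact ⟨a, rfl⟩

/-- the `ZMod p`-module structure of `M / pM` -/
@[reducible] noncomputable def FORM_mod (M : Type u) [AddCommGroup M] (p : ℕ) :
    Module (ZMod p) (FORM_Q M p) :=
  AddCommGroup.zmodModule (FORM_Q_exp M p)

attribute [local instance] FORM_mod

theorem FORM_mk_eq_zero_iff (M : Type u) [AddCommGroup M] (p : ℕ) (a : M) :
    (QuotientAddGroup.mk' (nsmulAddMonoidHom p : M →+ M).range a : FORM_Q M p) = 0 ↔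
      ∃ c : M, a = p • c := by
  rw [QuotientAddGroup.mk'_apply, QuotientAddGroup.eq_zero_iff]
  constructor
  · rintro ⟨c, hc⟩
    exact ⟨c, hc.symm⟩
  · rintro ⟨c, hc⟩
    exact ⟨c, hc.symm⟩

variable {G : Type u} [Group G]

/-- the bracket with a fixed left argument, as an additive map -/
noncomputable def FORM_brR (a : A G 1) : A G 1 →+ A G (1 + 1) :=
  AddMonoidHom.mk' (fun b => brkFun a b) (fun b b' => brkFun_add_right a b b')

/-- the bracket mod `p` in the second variable -/
noncomputable def FORM_lift₁ (p : ℕ) (a : A G 1) : FORM_Q (A G 1) p →+ FORM_Q (A G (1 + 1)) p :=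
  QuotientAddGroup.lift _
    ((QuotientAddGroup.mk' (nsmulAddMonoidHom p : A G (1 + 1) →+ A G (1 + 1)).range).comp
      (FORM_brR a))
    (by
      rintro x ⟨c, rfl⟩
      rw [AddMonoidHom.mem_ker, nsmulAddMonoidHom_apply, map_nsmul]
      exact FORM_Q_exp _ p _)

theorem FORM_lift₁_mk (p : ℕ) (a b : A G 1) :
    FORM_lift₁ p a (QuotientAddGroup.mk' _ b) =
      QuotientAddGroup.mk' (nsmulAddMonoidHom p : A G (1 + 1) →+ A G (1 + 1)).range (brkFun a b) :=
  rfl

/-- the bracket mod `p` in the second variable, additive in the first -/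
noncomputable def FORM_outer (p : ℕ) :
    A G 1 →+ (FORM_Q (A G 1) p →+ FORM_Q (A G (1 + 1)) p) :=
  AddMonoidHom.mk' (fun a => FORM_lift₁ p a) (fun a a' => by
    refine AddMonoidHom.ext fun x => ?_
    induction x using QuotientAddGroup.induction_on with
    | H b =>
      change FORM_lift₁ p (a + a') (QuotientAddGroup.mk' _ b) =
        FORM_lift₁ p a (QuotientAddGroup.mk' _ b) + FORM_lift₁ p a' (QuotientAddGroup.mk' _ b)
      rw [FORM_lift₁_mk, FORM_lift₁_mk, FORM_lift₁_mk, brkFun_add_left, map_add])

/-- the bracket mod `p` in both variables -/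
noncomputable def FORM_add (p : ℕ) :
    FORM_Q (A G 1) p →+ (FORM_Q (A G 1) p →+ FORM_Q (A G (1 + 1)) p) :=
  QuotientAddGroup.lift _ (FORM_outer p)
    (by
      rintro x ⟨c, rfl⟩
      rw [AddMonoidHom.mem_ker, nsmulAddMonoidHom_apply, map_nsmul]
      refine AddMonoidHom.ext fun x => ?_
      rw [AddMonoidHom.coe_smul, Pi.smul_apply, AddMonoidHom.zero_apply]
      exact FORM_Q_exp _ p _)

theorem FORM_add_mk (p : ℕ) (a b : A G 1) :
    FORM_add (G := G) p (QuotientAddGroup.mk' _ a) (QuotientAddGroup.mk' _ b) =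
      QuotientAddGroup.mk' (nsmulAddMonoidHom p : A G (1 + 1) →+ A G (1 + 1)).range (brkFun a b) :=
  rfl

/-- the form -/
noncomputable def FORM_omega (p : ℕ) :
    FORM_Q (A G 1) p →ₗ[ZMod p] FORM_Q (A G 1) p →ₗ[ZMod p] FORM_Q (A G (1 + 1)) p :=
  LinearMap.mk₂ (ZMod p) (fun x y => FORM_add p x y)
    (fun m₁ m₂ n => by rw [map_add]; rfl)
    (fun c m n => ZMod.map_smul ((AddMonoidHom.eval n).comp (FORM_add p)) c m)
    (fun m n₁ n₂ => map_add _ _ _)
    (fun c m n => ZMod.map_smul (FORM_add p m) c n)

theorem FORM_omega_mk (p : ℕ) (a b : A G 1) :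
    FORM_omega (G := G) p (QuotientAddGroup.mk' _ a) (QuotientAddGroup.mk' _ b) =
      QuotientAddGroup.mk' (nsmulAddMonoidHom p : A G (1 + 1) →+ A G (1 + 1)).range (brkFun a b) :=
  rfl

/-- (FORM) existence of the `F_p`-form. -/
theorem nonempty_formData [Finite G] (p : ℕ) [Fact p.Prime] : Nonempty (FormData G p) := by
  classical
  have hG1 : ∀ g : G, g ∈ Gam G 1 := fun g => Subgroup.mem_top g
  have hGam : Gam G (1 + 1) = Subgroup.closure
      {g | ∃ g₁ ∈ (⊤ : Subgroup G), ∃ g₂ ∈ (⊤ : Subgroup G), ⁅g₁, g₂⁆ = g} :=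
    Subgroup.commutator_def ⊤ ⊤
  refine ⟨{ V := FORM_Q (A G 1) p
            W := FORM_Q (A G (1 + 1)) p
            instV := inferInstance
            modV := FORM_mod _ p
            finV := inferInstance
            instW := inferInstance
            modW := FORM_mod _ p
            π₁ := QuotientAddGroup.mk' _
            π₂ := QuotientAddGroup.mk' _
            ω := FORM_omega p
            surj₁ := QuotientAddGroup.mk'_surjective _
            surj₂ := QuotientAddGroup.mk'_surjective _
            ker₁ := FORM_mk_eq_zero_iff _ p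
            ker₂ := FORM_mk_eq_zero_iff _ p
            comp := fun a b => FORM_omega_mk p a b
            alt := ?_
            span_top := ?_ }⟩
  · intro v
    induction v using QuotientAddGroup.induction_on with
    | H a =>
      obtain ⟨x, hx, rfl⟩ := cls_surj 1 a
      change FORM_omega (G := G) p (QuotientAddGroup.mk' _ (cls 1 x))
        (QuotientAddGroup.mk' _ (cls 1 x)) = 0
      rw [FORM_omega_mk, brkFun_cls hx hx, commutatorElement_self, cls_one, map_zero]
  · rw [eq_top_iff]
    intro w _
    induction w using QuotientAddGroup.induction_on with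
    | H a =>
      obtain ⟨g, hg, rfl⟩ := cls_surj (1 + 1) a
      have key : ∀ g ∈ Gam G (1 + 1),
          (QuotientAddGroup.mk' (nsmulAddMonoidHom p : A G (1 + 1) →+ A G (1 + 1)).range
            (cls (1 + 1) g) : FORM_Q (A G (1 + 1)) p) ∈
          Submodule.span (ZMod p) {w : FORM_Q (A G (1 + 1)) p |
            ∃ x y : FORM_Q (A G 1) p, w = FORM_omega (G := G) p x y} := by
        intro g hg
        rw [hGam] at hg
        induction hg using Subgroup.closure_induction with
        | mem g hg =>
          obtain ⟨g₁, -, g₂, -, rfl⟩ := hg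
          apply Submodule.subset_span
          refine ⟨QuotientAddGroup.mk' _ (cls 1 g₁), QuotientAddGroup.mk' _ (cls 1 g₂), ?_⟩
          rw [FORM_omega_mk, brkFun_cls (hG1 g₁) (hG1 g₂)]
        | one =>
          rw [cls_one, map_zero]
          exact Submodule.zero_mem _
        | mul a b ha hb iha ihb =>
          rw [← hGam] at ha hb
          rw [cls_mul ha hb, map_add]
          exact Submodule.add_mem _ iha ihb
        | inv a ha iha =>
          rw [← hGam] at ha
          rw [cls_inv ha, map_neg]
          exact Submodule.neg_mem _ iha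
      exact key g hg

end Cfsg.Agent.Helper50.VL
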