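-- helper50: leaf (HYP) `hyp_of_min` of helper45's S3777 (Vaughan-Lee) farm (WANTED #13620).
import Mathlib
import Cfsg.Agent.Helper45.VL.Defs

set_option autoImplicit false

universe u

namespace Cfsg.Agent.Helper50.VL

open Cfsg.Agent.Helper1.HKK Cfsg.Agent.Helper93.HKKLG Cfsg.Agent.Helper45.VL
open scoped commutatorElement

variable {G : Type u} [Group G]

/-- (HYP) minimality gives the hyperplane condition (stated for all proper subspaces).
`hnak` is (NAK) for `A G 2`, `hnil` is (HYPa); they are hypotheses so that this piece is independent. -/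
theorem hyp_of_min [Finite G] {p : ℕ} [Fact p.Prime] (F : FormData G p)
    (hnak : ∀ B : AddSubgroup (A G (1 + 1)),
      (∀ a : A G (1 + 1), ∃ b ∈ B, ∃ c : A G (1 + 1), a = b + p • c) → B = ⊤)
    (hnil : ∀ N : Subgroup G, N.Normal → N ≤ Gam G 2 → Gam G 2 ≤ N ⊔ Gam G 3 → N = Gam G 2)
    (hmin : ∀ M : Subgroup G, M ≠ ⊤ → (⁅M, M⁆ : Subgroup G) ≠ commutator G)
    (X : Submodule (ZMod p) F.V) (hX : X ≠ ⊤) :
    Submodule.span (ZMod p) {w : F.W | ∃ x ∈ X, ∃ y ∈ X, w = F.ω x y} ≠ ⊤ := by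
  intro hspan
  have hG1 : ∀ g : G, g ∈ Gam G 1 := fun g => Subgroup.mem_top g
  -- the subgroup `M`
  let M : Subgroup G :=
    { carrier := {g | F.π₁ (cls 1 g) ∈ X}
      one_mem' := by
        show F.π₁ (cls 1 1) ∈ X
        rw [cls_one, map_zero]; exact X.zero_mem
      mul_mem' := fun {a b} ha hb => by
        show F.π₁ (cls 1 (a * b)) ∈ X
        rw [cls_mul (hG1 a) (hG1 b), map_add]; exact X.add_mem ha hb
      inv_mem' := fun {a} ha => by
        show F.π₁ (cls 1 a⁻¹) ∈ X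
        rw [cls_inv (hG1 a), map_neg]; exact X.neg_mem ha }
  have hMmem : ∀ g, g ∈ M ↔ F.π₁ (cls 1 g) ∈ X := fun g => Iff.rfl
  have hMtop : M ≠ ⊤ := by
    intro hM
    apply hX
    rw [eq_top_iff]
    intro v _
    obtain ⟨a, rfl⟩ := F.surj₁ v
    obtain ⟨g, -, rfl⟩ := cls_surj 1 a
    have hg : g ∈ M := by rw [hM]; exact Subgroup.mem_top g
    exact (hMmem g).mp hg
  have hGM : Gam G (1 + 1) ≤ M := by
    intro g hg
    rw [hMmem, (cls_eq_zero_iff (hG1 g)).mpr hg, map_zero]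
    exact X.zero_mem
  have hMn : M.Normal := by
    constructor
    intro n hn g
    have e : g * n * g⁻¹ = ⁅g, n⁆ * n := by rw [commutatorElement_def]; group
    rw [e]
    exact M.mul_mem (hGM (comm_mem_Gam (hG1 g) (hG1 n))) hn
  -- the subgroup `B` of `A₂` generated by the classes of the commutators of `M`
  obtain ⟨B, hB⟩ : ∃ B : AddSubgroup (A G (1 + 1)), B = AddSubgroup.closure
      {a : A G (1 + 1) | ∃ m ∈ M, ∃ m' ∈ M, a = cls (1 + 1) ⁅m, m'⁆} := ⟨_, rfl⟩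
  have hBtop : B = ⊤ := by
    apply hnak
    have hle : Submodule.span (ZMod p) {w : F.W | ∃ x ∈ X, ∃ y ∈ X, w = F.ω x y} ≤
        AddSubgroup.toZModSubmodule p (B.map F.π₂) := by
      rw [Submodule.span_le]
      rintro w ⟨x, hx, y, hy, rfl⟩
      obtain ⟨a, rfl⟩ := F.surj₁ x
      obtain ⟨b, rfl⟩ := F.surj₁ y
      obtain ⟨g, -, rfl⟩ := cls_surj 1 a
      obtain ⟨g', -, rfl⟩ := cls_surj 1 b
      rw [SetLike.mem_coe, AddSubgroup.mem_toZModSubmodule, F.comp, brkFun_cls (hG1 g) (hG1 g')]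
      refine AddSubgroup.mem_map_of_mem _ ?_
      rw [hB]
      exact AddSubgroup.subset_closure ⟨g, (hMmem g).mpr hx, g', (hMmem g').mpr hy, rfl⟩
    rw [hspan] at hle
    intro a
    have h1 : F.π₂ a ∈ AddSubgroup.toZModSubmodule p (B.map F.π₂) := hle Submodule.mem_top
    rw [AddSubgroup.mem_toZModSubmodule] at h1
    obtain ⟨b, hb, hba⟩ := h1
    have h2 : F.π₂ (a - b) = 0 := by rw [map_sub, hba, sub_self]
    obtain ⟨c, hc⟩ := (F.ker₂ _).mp h2
    exact ⟨b, hb, c, by rw [← hc]; abel⟩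
  -- hence `γ₂ ≤ [M, M] γ₃`
  have hMM2 : (⁅M, M⁆ : Subgroup G) ≤ Gam G (1 + 1) := by
    have h1 : (⁅M, M⁆ : Subgroup G) ≤ ⁅(⊤ : Subgroup G), (⊤ : Subgroup G)⁆ :=
      Subgroup.commutator_mono le_top le_top
    exact h1
  have hT2 : (⁅M, M⁆ : Subgroup G) ⊔ Gam G 3 ≤ Gam G (1 + 1) :=
    sup_le hMM2 (Gam_anti (by norm_num))
  have hP : ∀ a ∈ B, ∃ t ∈ (⁅M, M⁆ : Subgroup G) ⊔ Gam G 3, cls (1 + 1) t = a := by
    intro a ha
    rw [hB] at ha
    induction ha using AddSubgroup.closure_induction with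
    | mem a ha =>
      obtain ⟨m, hm, m', hm', rfl⟩ := ha
      exact ⟨⁅m, m'⁆, Subgroup.mem_sup_left (Subgroup.commutator_mem_commutator hm hm'), rfl⟩
    | zero => exact ⟨1, one_mem _, cls_one _⟩
    | add a b _ _ iha ihb =>
      obtain ⟨t, ht, rfl⟩ := iha
      obtain ⟨t', ht', rfl⟩ := ihb
      exact ⟨t * t', mul_mem ht ht', cls_mul (hT2 ht) (hT2 ht')⟩
    | neg a _ iha =>
      obtain ⟨t, ht, rfl⟩ := iha
      exact ⟨t⁻¹, inv_mem ht, cls_inv (hT2 ht)⟩
  have hsup : Gam G 2 ≤ (⁅M, M⁆ : Subgroup G) ⊔ Gam G 3 := by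
    intro g hg
    have hg' : g ∈ Gam G (1 + 1) := hg
    have h1 : cls (1 + 1) g ∈ B := by rw [hBtop]; exact AddSubgroup.mem_top _
    obtain ⟨t, ht, hcls⟩ := hP _ h1
    have h2 := (cls_eq_iff (hT2 ht) hg').mp hcls
    have e : g = t * (t⁻¹ * g) := by group
    rw [e]
    exact mul_mem ht (Subgroup.mem_sup_right h2)
  have hMMn : (⁅M, M⁆ : Subgroup G).Normal := by
    have := hMn
    infer_instance
  have h3 := hnil _ hMMn hMM2 hsup
  apply hmin M hMtop
  rw [h3]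
  exact Subgroup.top_lowerCentralSeries_one

end Cfsg.Agent.Helper50.VL
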