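-- helper50: leaf (HYPA) `eq_Gam2_of_le_sup_Gam3` of helper45's S3777 (Vaughan-Lee) farm (WANTED #13620).
import Mathlib
import Cfsg.Agent.Helper45.VL.Defs

set_option autoImplicit false

universe u

namespace Cfsg.Agent.Helper50.VL

open Cfsg.Agent.Helper1.HKK Cfsg.Agent.Helper93.HKKLG Cfsg.Agent.Helper45.VL
open scoped commutatorElement

variable {G : Type u} [Group G]

/-- `[H ⊔ K, G] ≤ M` for a normal `M` containing `[H, G]` and `[K, G]` -/
theorem HYPA_comm_sup_le {H K M : Subgroup G} [hM : M.Normal]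
    (hH : ⁅H, (⊤ : Subgroup G)⁆ ≤ M) (hK : ⁅K, (⊤ : Subgroup G)⁆ ≤ M) :
    ⁅H ⊔ K, (⊤ : Subgroup G)⁆ ≤ M := by
  let Z : Subgroup G :=
    { carrier := {x | ∀ g : G, ⁅x, g⁆ ∈ M}
      one_mem' := fun g => by rw [commutatorElement_one_left]; exact one_mem M
      mul_mem' := fun {a b} ha hb g => by
        rw [commutatorElement_mul_left_eq_conj_mul]
        exact mul_mem (hM.conj_mem _ (hb g) a) (ha g)
      inv_mem' := fun {a} ha g => by
        rw [commutatorElement_inv_left, ← commutatorElement_inv]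
        have h1 := hM.conj_mem _ (inv_mem (ha g)) a⁻¹
        rwa [inv_inv] at h1 }
  have hHZ : H ≤ Z := fun x hx g => hH (Subgroup.commutator_mem_commutator hx (Subgroup.mem_top g))
  have hKZ : K ≤ Z := fun x hx g => hK (Subgroup.commutator_mem_commutator hx (Subgroup.mem_top g))
  rw [Subgroup.commutator_le]
  intro x hx g _
  exact (sup_le hHZ hKZ hx) g

/-- (HYPa) a normal subgroup `N ≤ γ₂` of a finite `p`-group with `γ₂ ≤ N γ₃` is `γ₂`. -/
theorem eq_Gam2_of_le_sup_Gam3 [Finite G] {p : ℕ} [Fact p.Prime] (hG : IsPGroup p G)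
    (N : Subgroup G) [N.Normal] (hN : N ≤ Gam G 2) (h : Gam G 2 ≤ N ⊔ Gam G 3) :
    N = Gam G 2 := by
  have key : ∀ k : ℕ, Gam G 2 ≤ N ⊔ Gam G (k + 3) := by
    intro k
    induction k with
    | zero => exact h
    | succ k ih =>
      have h1 : Gam G 3 ≤ N ⊔ Gam G (k + 1 + 3) := by
        have e3 : Gam G 3 = ⁅Gam G 2, (⊤ : Subgroup G)⁆ := rfl
        rw [e3]
        refine le_trans (Subgroup.commutator_mono ih le_rfl) ?_
        apply HYPA_comm_sup_le
        · exact le_trans (Subgroup.commutator_le_left N ⊤) le_sup_left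
        · have e4 : Gam G (k + 1 + 3) = ⁅Gam G (k + 3), (⊤ : Subgroup G)⁆ := rfl
          rw [e4]
          exact le_sup_right
      exact le_trans h (sup_le le_sup_left h1)
  have hnil : Group.IsNilpotent G := hG.isNilpotent
  obtain ⟨n, hn⟩ := Subgroup.nilpotent_iff_lowerCentralSeries.mp hnil
  have hbot : Gam G (n + 3) = ⊥ := by
    apply le_bot_iff.mp
    rw [← hn]
    exact Subgroup.lowerCentralSeries_antitone _ (by omega)
  have h2 := key n
  rw [hbot, sup_bot_eq] at h2
  exact le_antisymm hN h2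

end Cfsg.Agent.Helper50.VL
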