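-- helper50: leaf (L2) `lift_card_le` of helper45's S3777 (Vaughan-Lee) farm (WANTED #13620).
import Mathlib
import Cfsg.Agent.Helper45.VL.Defs

set_option autoImplicit false

universe u

namespace Cfsg.Agent.Helper50.VL

open Cfsg.Agent.Helper1.HKK Cfsg.Agent.Helper93.HKKLG Cfsg.Agent.Helper45.VL

variable {G : Type u} [Group G]

/-- (L2) for an isolated basis the bracket with `z i` is injective mod `p` on the earlier ones. -/
theorem lift_card_le [Finite G] {p : ℕ} [Fact p.Prime] (F : FormData G p)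
    {d : ℕ} (b : Module.Basis (Fin d) (ZMod p) F.V)
    (hiso : ∀ (i : Fin d) (y : F.V), F.ω (b i) y = 0 → y ∈ Submodule.span (ZMod p) {b i})
    (z : Fin d → G) (hz : ∀ i, F.π₁ (cls 1 (z i)) = b i) (i : Fin d) :
    p ^ (i : ℕ) ≤ Nat.card ↥((AddSubgroup.closure
      {a : A G 1 | ∃ l : Fin d, l < i ∧ a = cls 1 (z l)}).map (adz (z i) 1)) := by
  classical
  obtain ⟨g, hg⟩ : ∃ g : A G 1 →+ A G (1 + 1), g = adz (z i) 1 := ⟨_, rfl⟩
  obtain ⟨C, hC⟩ : ∃ C : AddSubgroup (A G 1), C = AddSubgroup.closure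
      {a : A G 1 | ∃ l : Fin d, l < i ∧ a = cls 1 (z l)} := ⟨_, rfl⟩
  rw [← hg, ← hC]
  have hkey : ∀ a : A G 1, F.π₂ (g a) = F.ω (b i) (F.π₁ a) := by
    intro a
    rw [hg, adz_apply, ← F.comp, hz i]
  -- the span of the earlier basis vectors
  have hfam : LinearIndependent (ZMod p) (fun l : {l : Fin d // l < i} => b l) :=
    b.linearIndependent.comp Subtype.val Subtype.val_injective
  obtain ⟨S, hS⟩ : ∃ S : Submodule (ZMod p) F.V,
      S = Submodule.span (ZMod p) (Set.range (fun l : {l : Fin d // l < i} => b l)) := ⟨_, rfl⟩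
  have hScard : Nat.card S = p ^ (i : ℕ) := by
    have hfin : Module.Finite (ZMod p) F.V := Module.Finite.of_finite
    rw [Module.natCard_eq_pow_finrank (K := ZMod p) (V := S), Nat.card_zmod, hS,
      finrank_span_eq_card hfam, Fintype.card_eq_nat_card]
    congr 1
    have e : Nat.card {l : Fin d // l < i} = Nat.card (Fin (i : ℕ)) :=
      (Nat.card_congr (Fin.castLEOrderIso i.is_lt.le).toEquiv).symm
    rw [e, Nat.card_fin]
  have hdisj : Disjoint (Submodule.span (ZMod p) {b i}) S := by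
    have h1 := b.linearIndependent.disjoint_span_image (s := {i}) (t := {l | l < i})
      (by simp [Set.disjoint_singleton_left])
    rw [Set.image_singleton, Set.image_eq_range] at h1
    rw [hS]
    exact h1
  have hinj : Set.InjOn (fun y => F.ω (b i) y) (S : Set F.V) := by
    intro y hy y' hy' heq
    have h0 : F.ω (b i) (y - y') = 0 := by
      rw [map_sub]
      exact sub_eq_zero.mpr heq
    have h1 := hiso i _ h0
    have h2 : y - y' ∈ S := S.sub_mem hy hy'
    exact sub_eq_zero.mp ((Submodule.disjoint_def.mp hdisj) _ h1 h2)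
  have hlift : ∀ y ∈ S, ∃ a ∈ C, F.π₁ a = y := by
    intro y hy
    rw [hS] at hy
    induction hy using Submodule.span_induction with
    | mem y hy =>
      obtain ⟨l, rfl⟩ := hy
      refine ⟨cls 1 (z l), ?_, hz l⟩
      rw [hC]
      exact AddSubgroup.subset_closure ⟨l, l.2, rfl⟩
    | zero => exact ⟨0, C.zero_mem, map_zero _⟩
    | add y y' _ _ ih ih' =>
      obtain ⟨a, ha, rfl⟩ := ih
      obtain ⟨a', ha', rfl⟩ := ih'
      exact ⟨a + a', C.add_mem ha ha', map_add _ _ _⟩
    | smul c y _ ih =>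
      obtain ⟨a, ha, rfl⟩ := ih
      refine ⟨c.val • a, C.nsmul_mem ha _, ?_⟩
      rw [map_nsmul, ← Nat.cast_smul_eq_nsmul (ZMod p), ZMod.natCast_zmod_val]
  have hsub : (fun y => F.ω (b i) y) '' (S : Set F.V) ⊆
      F.π₂ '' ((C.map g : AddSubgroup (A G (1 + 1))) : Set (A G (1 + 1))) := by
    rintro w ⟨y, hy, rfl⟩
    obtain ⟨a, ha, rfl⟩ := hlift y hy
    exact ⟨g a, AddSubgroup.mem_map_of_mem g ha, hkey a⟩
  have hfinIm : ((C.map g : AddSubgroup (A G (1 + 1))) : Set (A G (1 + 1))).Finite :=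
    Set.toFinite _
  calc p ^ (i : ℕ) = Nat.card S := hScard.symm
    _ = (S : Set F.V).ncard := Nat.card_coe_set_eq _
    _ = ((fun y => F.ω (b i) y) '' (S : Set F.V)).ncard := (Set.InjOn.ncard_image hinj).symm
    _ ≤ (F.π₂ '' ((C.map g : AddSubgroup (A G (1 + 1))) : Set (A G (1 + 1)))).ncard :=
      Set.ncard_le_ncard hsub (hfinIm.image _)
    _ ≤ ((C.map g : AddSubgroup (A G (1 + 1))) : Set (A G (1 + 1))).ncard :=
      Set.ncard_image_le hfinIm
    _ = Nat.card ↥(C.map g) := (Nat.card_coe_set_eq _).symm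

end Cfsg.Agent.Helper50.VL
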