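import Mathlib
import Cfsg.Agent.Helper62.FrobActCore

/-!
# (W1) of helper47's WANTED #5070 for S3793 (Shult–Gross): one Clifford step (helper50)
-/

set_option autoImplicit false

namespace Cfsg.Agent.Helper50.SGW

open Cfsg.Agent.Helper62.FrobAct

section Rep

variable {K : Type*} [Field K] {M : Type*} [AddCommGroup M] [Module K M]
variable {Γ : Type*} [Group Γ]

/-- a nontrivial character of the abelian group `Z` whose Fourier idempotent is nonzero -/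
theorem exists_char_proj_ne_zero [IsAlgClosed K] [Finite Γ] (ρ : Γ →* Module.End K M)
    (Z : Subgroup Γ) [Fintype Z]
    (hZab : ∀ z ∈ Z, ∀ z' ∈ Z, z * z' = z' * z) (hZK : (Nat.card Z : K) ≠ 0)
    (hZρ : ∃ z ∈ Z, ρ z ≠ 1) :
    ∃ ψ : Z →* Kˣ, ψ ≠ 1 ∧ proj (ρ.comp Z.subtype) ψ ≠ 0 := by
  classical
  let σz : Z →* Module.End K M := ρ.comp Z.subtype
  have habz : ∀ a b : Z, a * b * a⁻¹ * b⁻¹ ∈ (⊥ : Subgroup Z) := by
    intro a b
    rw [Subgroup.mem_bot]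
    apply Subtype.ext
    show (a : Γ) * b * (a : Γ)⁻¹ * (b : Γ)⁻¹ = 1
    rw [hZab (a : Γ) a.2 (b : Γ) b.2]
    group
  let Ψ := {ψ : Z →* Kˣ // (⊥ : Subgroup Z) ≤ ψ.ker}
  have instΨ : Fintype Ψ := Fintype.ofFinite Ψ
  have instBot : Fintype (⊥ : Subgroup Z) := Fintype.ofFinite _
  have hsum : ∑ ψ : Ψ, proj σz ψ.1 = 1 := by
    have h := sum_proj (K := K) hZK (⊥ : Subgroup Z) habz σz
    rw [h, Subgroup.card_bot, Nat.cast_one, inv_one, one_smul]
    rw [Finset.sum_eq_single (1 : (⊥ : Subgroup Z))]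
    · simp
    · intro b _ hb
      exact absurd (Subsingleton.elim b 1) hb
    · intro h; exact absurd (Finset.mem_univ _) h
  by_contra hcon
  push Not at hcon
  let ψ₁ : Ψ := ⟨1, by intro g _; rw [MonoidHom.mem_ker]; rfl⟩
  have h1 : proj σz (1 : Z →* Kˣ) = 1 := by
    rw [← hsum]
    symm
    apply Finset.sum_eq_single ψ₁
    · intro ψ _ hψ
      apply hcon ψ.1
      intro h
      exact hψ (Subtype.ext h)
    · intro h; exact absurd (Finset.mem_univ _) h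
  obtain ⟨z, hz, hzρ⟩ := hZρ
  have h2 := mul_proj σz (1 : Z →* Kˣ) ⟨z, hz⟩
  rw [h1, mul_one, MonoidHom.one_apply, Units.val_one, one_smul] at h2
  exact hzρ h2

/-- Bezout in a subgroup: if `x ^ i` and `x ^ n` lie in `S` so does `x ^ gcd i n` -/
theorem pow_gcd_mem (S : Subgroup Γ) (x : Γ) (i n : ℕ) (hi : x ^ i ∈ S) (hn : x ^ n ∈ S) :
    x ^ Nat.gcd i n ∈ S := by
  have h := Nat.gcd_eq_gcd_ab i n
  have h1 : x ^ ((Nat.gcd i n : ℕ) : ℤ) = (x ^ i) ^ (Nat.gcdA i n) * (x ^ n) ^ (Nat.gcdB i n) := by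
    rw [h, zpow_add, zpow_mul, zpow_mul, zpow_natCast, zpow_natCast]
  rw [zpow_natCast] at h1
  rw [h1]
  exact S.mul_mem (S.zpow_mem hi _) (S.zpow_mem hn _)

/-- W1: one Clifford step with respect to an abelian normal subgroup `Z`. -/
theorem clifford_step [IsAlgClosed K] [Finite Γ]
    (ρ : Γ →* Module.End K M) (Z : Subgroup Γ) [Z.Normal]
    (hZab : ∀ z ∈ Z, ∀ z' ∈ Z, z * z' = z' * z) (hZK : (Nat.card Z : K) ≠ 0)
    (x : Γ) {p N : ℕ} (hp : p.Prime) (hxord : orderOf x = p ^ N)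
    (hfix : ∀ m : M, ρ x m = m → m = 0) (hZρ : ∃ z ∈ Z, ρ z ≠ 1) :
    ∃ (χ : Γ → Kˣ) (j : ℕ) (M₁ : Submodule K M),
      (∀ z ∈ Z, ∀ z' ∈ Z, χ (z * z') = χ z * χ z') ∧ (∃ z ∈ Z, χ z ≠ 1) ∧
      (∀ z ∈ Z, χ (x ^ (p ^ j) * z * (x ^ (p ^ j))⁻¹) = χ z) ∧
      M₁ ≠ ⊥ ∧ (∀ z ∈ Z, ∀ m ∈ M₁, ρ z m = ((χ z : Kˣ) : K) • m) ∧
      (∀ g : Γ, (∀ z ∈ Z, χ (g * z * g⁻¹) = χ z) → ∀ m ∈ M₁, ρ g m ∈ M₁) ∧
      (∀ m ∈ M₁, ρ (x ^ (p ^ j)) m = m → m = 0) := by
  classical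
  have instZ : Fintype Z := Fintype.ofFinite Z
  obtain ⟨ψ₀, hψ₀1, hψ₀0⟩ := exists_char_proj_ne_zero ρ Z hZab hZK hZρ
  set σz : Z →* Module.End K M := ρ.comp Z.subtype with hσz
  set e₀ : Module.End K M := proj σz ψ₀ with he₀
  have hbotN : (⊥ : Subgroup Γ).Normal := inferInstance
  -- the character as a function on `Γ`
  let χ : Γ → Kˣ := fun g => if h : g ∈ Z then ψ₀ ⟨g, h⟩ else 1
  have hχZ : ∀ (z : Γ) (hz : z ∈ Z), χ z = ψ₀ ⟨z, hz⟩ := fun z hz => dif_pos hz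
  have hconjZ : ∀ (g z : Γ), z ∈ Z → g * z * g⁻¹ ∈ Z := fun g z hz =>
    (inferInstance : Z.Normal).conj_mem z hz g
  -- the stabilizer of `χ`
  let Stab : Subgroup Γ :=
    { carrier := {g | ∀ z ∈ Z, χ (g * z * g⁻¹) = χ z}
      one_mem' := by intro z _; simp
      mul_mem' := by
        intro a b ha hb z hz
        have h1 : a * b * z * (a * b)⁻¹ = a * (b * z * b⁻¹) * a⁻¹ := by group
        rw [h1, ha _ (hconjZ b z hz), hb z hz]
      inv_mem' := by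
        intro a ha z hz
        have h1 := ha (a⁻¹ * z * a⁻¹⁻¹) (hconjZ a⁻¹ z hz)
        have h2 : a * (a⁻¹ * z * a⁻¹⁻¹) * a⁻¹ = z := by group
        rw [h2] at h1
        exact h1.symm }
  have hStab : ∀ g, g ∈ Stab ↔ ∀ z ∈ Z, χ (g * z * g⁻¹) = χ z := fun g => Iff.rfl
  -- the packaged character
  let ψ' : {ψ : Z →* Kˣ // (⊥ : Subgroup Γ).subgroupOf Z ≤ ψ.ker} :=
    ⟨ψ₀, by rw [Subgroup.bot_subgroupOf]; exact bot_le⟩
  have hconj : ∀ g : Γ, ρ g * e₀ * ρ g⁻¹ = proj σz (charSmul Z ⊥ g ψ').1 :=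
    fun g => conj_proj ρ Z ⊥ g ψ'
  -- `charSmul g ψ' = ψ'` forces `g ∈ Stab`
  have hsm_stab : ∀ g : Γ, (charSmul Z ⊥ g ψ').1 = ψ₀ → g ∈ Stab := by
    intro g hg
    have hinv : g⁻¹ ∈ Stab := by
      intro z hz
      rw [hχZ _ (hconjZ g⁻¹ z hz), hχZ z hz]
      have h1 := DFunLike.congr_fun hg ⟨z, hz⟩
      rw [charSmul_apply] at h1
      rw [← h1]
      congr 1
    have := Stab.inv_mem hinv
    rwa [inv_inv] at this
  have hstab_sm : ∀ g : Γ, g ∈ Stab → (charSmul Z ⊥ g ψ').1 = ψ₀ := by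
    intro g hg
    have hinv : g⁻¹ ∈ Stab := Stab.inv_mem hg
    ext z
    rw [charSmul_apply]
    have h1 := hinv (z : Γ) z.2
    rw [hχZ _ (hconjZ g⁻¹ z z.2), hχZ _ z.2] at h1
    have h2 : (MulAut.conjNormal g⁻¹ : Z ≃* Z) z = ⟨g⁻¹ * z * g⁻¹⁻¹, hconjZ g⁻¹ z z.2⟩ := by
      apply Subtype.ext
      rw [MulAut.conjNormal_apply]
    rw [h2, h1]
  -- `e₀` is idempotent and commutes with `Stab`
  have hidem : e₀ * e₀ = e₀ := by
    have := proj_mul_proj (K := K) hZK σz ψ₀ ψ₀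
    rwa [if_pos rfl] at this
  have hcomm : ∀ g ∈ Stab, ρ g * e₀ = e₀ * ρ g := by
    intro g hg
    have h1 := hconj g
    rw [hstab_sm g hg] at h1
    have h2 : ρ g⁻¹ * ρ g = 1 := by rw [← map_mul, inv_mul_cancel, map_one]
    calc ρ g * e₀ = ρ g * e₀ * (ρ g⁻¹ * ρ g) := by rw [h2, mul_one]
      _ = (ρ g * e₀ * ρ g⁻¹) * ρ g := by simp only [mul_assoc]
      _ = e₀ * ρ g := by rw [h1]
  have horth : ∀ g : Γ, g ∉ Stab → e₀ * ρ g * e₀ = 0 := by
    intro g hg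
    have hg' : g⁻¹ ∉ Stab := fun h => hg (by simpa using Stab.inv_mem h)
    have h1 := hconj g⁻¹
    rw [inv_inv] at h1
    have hne : (charSmul Z ⊥ g⁻¹ ψ').1 ≠ ψ₀ := fun h => hg' (hsm_stab _ h)
    have h2 : ρ g * ρ g⁻¹ = 1 := by rw [← map_mul, mul_inv_cancel, map_one]
    have h3 : e₀ * ρ g = ρ g * proj σz (charSmul Z ⊥ g⁻¹ ψ').1 := by
      rw [← h1]
      calc e₀ * ρ g = (ρ g * ρ g⁻¹) * e₀ * ρ g := by rw [h2, one_mul]
        _ = ρ g * (ρ g⁻¹ * e₀ * ρ g) := by simp only [mul_assoc]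
    rw [h3, mul_assoc]
    have h4 := proj_mul_proj (K := K) hZK σz (charSmul Z ⊥ g⁻¹ ψ').1 ψ₀
    rw [if_neg hne] at h4
    rw [← he₀] at h4
    rw [h4, mul_zero]
  -- the exponent `j`
  have hex : ∃ j : ℕ, x ^ (p ^ j) ∈ Stab := ⟨N, by rw [← hxord, pow_orderOf_eq_one]; exact Stab.one_mem⟩
  let j := Nat.find hex
  have hj : x ^ (p ^ j) ∈ Stab := Nat.find_spec hex
  have hjmin : ∀ t < j, x ^ (p ^ t) ∉ Stab := fun t ht => Nat.find_min hex ht
  have hnot : ∀ i : ℕ, 0 < i → i < p ^ j → x ^ i ∉ Stab := by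
    intro i hi0 hij hmem
    have hN : x ^ (p ^ N) ∈ Stab := by rw [← hxord, pow_orderOf_eq_one]; exact Stab.one_mem
    have hg := pow_gcd_mem Stab x i (p ^ N) hmem hN
    obtain ⟨t, -, ht⟩ := (Nat.dvd_prime_pow hp).mp (Nat.gcd_dvd_right i (p ^ N))
    rw [ht] at hg
    have hdvd : p ^ t ∣ i := by rw [← ht]; exact Nat.gcd_dvd_left i (p ^ N)
    have hle : p ^ t ≤ i := Nat.le_of_dvd hi0 hdvd
    have htj : t < j := by
      by_contra hcon
      push Not at hcon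
      have : p ^ j ≤ p ^ t := Nat.pow_le_pow_right hp.pos hcon
      omega
    exact hjmin t htj hg
  refine ⟨χ, j, LinearMap.range e₀, ?_, ?_, ?_, ?_, ?_, ?_, ?_⟩
  · intro z hz z' hz'
    rw [hχZ _ (Z.mul_mem hz hz'), hχZ z hz, hχZ z' hz', ← map_mul]
    rfl
  · by_contra hcon
    push Not at hcon
    apply hψ₀1
    ext z
    have := hcon (z : Γ) z.2
    rw [hχZ _ z.2] at this
    rw [this]
    rfl
  · exact hj
  · intro h
    exact hψ₀0 (LinearMap.range_eq_bot.mp h)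
  · rintro z hz _ ⟨v, rfl⟩
    have h1 := LinearMap.congr_fun (mul_proj σz ψ₀ ⟨z, hz⟩) v
    rw [Module.End.mul_apply, LinearMap.smul_apply] at h1
    rw [hχZ z hz]
    exact h1
  · rintro g hg _ ⟨v, rfl⟩
    refine ⟨ρ g v, ?_⟩
    have := LinearMap.congr_fun (hcomm g hg) v
    rw [Module.End.mul_apply, Module.End.mul_apply] at this
    exact this.symm
  · rintro m ⟨v₀, rfl⟩ hm
    set m := e₀ v₀ with hmdef
    have hem : e₀ m = m := by
      rw [hmdef, ← Module.End.mul_apply, hidem]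
    -- the norm vector
    let f : ℕ → M := fun i => ρ (x ^ i) m
    have hf0 : f 0 = m := by simp [f]
    have hfn : f (p ^ j) = m := hm
    have hv : ρ x (∑ i ∈ Finset.range (p ^ j), f i) = ∑ i ∈ Finset.range (p ^ j), f i := by
      rw [map_sum]
      have h1 : ∀ i, ρ x (f i) = f (i + 1) := by
        intro i
        show ρ x (ρ (x ^ i) m) = ρ (x ^ (i + 1)) m
        rw [pow_succ', map_mul, Module.End.mul_apply]
      simp only [h1]
      have h2 := Finset.sum_range_succ' f (p ^ j)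
      have h3 := Finset.sum_range_succ f (p ^ j)
      rw [h3, hfn, hf0] at h2
      exact add_right_cancel h2.symm
    have hv0 := hfix _ hv
    have h4 : e₀ (∑ i ∈ Finset.range (p ^ j), f i) = m := by
      rw [map_sum]
      rw [Finset.sum_eq_single_of_mem 0 (Finset.mem_range.mpr (pow_pos hp.pos j))]
      · rw [hf0, hem]
      · intro i hi hi0
        have hi' : i < p ^ j := Finset.mem_range.mp hi
        have h5 := horth (x ^ i) (hnot i (Nat.pos_of_ne_zero hi0) hi')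
        show e₀ (ρ (x ^ i) m) = 0
        rw [← hem]
        have := LinearMap.congr_fun h5 m
        simpa [Module.End.mul_apply] using this
    rw [hv0, map_zero] at h4
    exact h4.symm

end Rep

end Cfsg.Agent.Helper50.SGW
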