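import Mathlib
import Cfsg.Agent.Helper47.SGDefs
import Cfsg.Agent.Helper50.HH3
import Cfsg.Agent.Helper50.SGW1
import Cfsg.Agent.Helper71.ShultSpecial

/-!
# (W7) of helper47's WANTED #5071 for S3793 (Shult–Gross): the special case, from the representation
form to the `MulAut W` form (helper50)

`KLSpecialStmt` of `Helper47/SGDefs.lean` is false as it stands (the trivial group is special), so the
statement proved here carries the extra hypothesis `Q ≠ ⊥` (`KLSpecialStmt'`).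
-/

set_option autoImplicit false
set_option linter.style.haveILetI false

namespace Cfsg.Agent.Helper50.SGW

open Cfsg.Agent.Helper47.SG Cfsg.Agent.Helper62.FrobAct Cfsg.Agent.Helper71.Shult
open scoped commutatorElement TensorProduct

/-- **Special case of the reduced configuration**, with the hypothesis `Q ≠ ⊥`. -/
def KLSpecialStmt'.{uΓ, uW} : Prop :=
  ∀ (Γ : Type uΓ) [Group Γ] [Finite Γ] (W : Type uW) [CommGroup W] [Finite W] (p q r n : ℕ)
    (φ : Γ →* MulAut W) (Q : Subgroup Γ) [Q.Normal] (x : Γ),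
    p.Prime → q.Prime → r.Prime → p ≠ 2 → p ≠ q → p ≠ r → q ≠ r → (∀ w : W, w ^ r = 1) →
    IsPGroup q Q → Cfsg.IsSpecial q ↥Q → Q ≠ ⊥ → x ^ (p ^ (n + 1)) = 1 →
    (∀ a ∈ Q, φ a = 1 → a = 1) → (∀ a ∈ Q, x * a = a * x → a = 1) →
    (∀ w : W, φ x w = w → w = 1) →
    ⁅Q, Subgroup.zpowers (x ^ (p ^ n))⁆ = Q →
    (∀ U : Subgroup Γ, (frattini ↥Q).map Q.subtype ≤ U → U ≤ Q →
      Subgroup.zpowers x ≤ Subgroup.normalizer (U : Set Γ) →
      U = (frattini ↥Q).map Q.subtype ∨ U = Q) → False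

section GroupSide

variable {Γ : Type*} [Group Γ]

/-- the elements of `Q` fixed by `g` modulo `Z` -/
def fixMod (Q Z : Subgroup Γ) [Z.Normal] (g : Γ) : Subgroup Γ where
  carrier := {a | a ∈ Q ∧ ⁅g, a⁆ ∈ Z}
  one_mem' := ⟨Q.one_mem, by rw [commutatorElement_one_right]; exact Z.one_mem⟩
  mul_mem' := by
    rintro a b ⟨ha, ha'⟩ ⟨hb, hb'⟩
    refine ⟨Q.mul_mem ha hb, ?_⟩
    have h1 : ⁅g, a * b⁆ = ⁅g, a⁆ * (a * ⁅g, b⁆ * a⁻¹) := by
      simp only [commutatorElement_def]; group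
    rw [h1]
    exact Z.mul_mem ha' ((inferInstance : Z.Normal).conj_mem _ hb' a)
  inv_mem' := by
    rintro a ⟨ha, ha'⟩
    refine ⟨Q.inv_mem ha, ?_⟩
    have h1 : ⁅g, a⁻¹⁆ = a⁻¹ * ⁅g, a⁆⁻¹ * a⁻¹⁻¹ := by
      simp only [commutatorElement_def]; group
    rw [h1]
    exact (inferInstance : Z.Normal).conj_mem _ (Z.inv_mem ha') a⁻¹

theorem mem_fixMod {Q Z : Subgroup Γ} [Z.Normal] {g a : Γ} :
    a ∈ fixMod Q Z g ↔ a ∈ Q ∧ ⁅g, a⁆ ∈ Z := Iff.rfl

theorem fixMod_le_pow (Q Z : Subgroup Γ) [Z.Normal] (g : Γ) (k : ℕ) :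
    fixMod Q Z g ≤ fixMod Q Z (g ^ k) := by
  rintro a ⟨ha, ha'⟩
  refine ⟨ha, ?_⟩
  induction k with
  | zero => rw [pow_zero, commutatorElement_one_left]; exact Z.one_mem
  | succ k ih =>
    have h1 : ⁅g ^ (k + 1), a⁆ = (g * ⁅g ^ k, a⁆ * g⁻¹) * ⁅g, a⁆ := by
      rw [pow_succ']
      simp only [commutatorElement_def]; group
    rw [h1]
    exact Z.mul_mem ((inferInstance : Z.Normal).conj_mem _ ih g) ha'

/-- in a cyclic `p`-group `⟨x⟩` with `x ^ (p ^ (n+1)) = 1`, every nontrivial power of `x` has `x ^ (p ^ n)`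
among its powers -/
theorem pow_mem_zpowers_of_ne_one {p n : ℕ} (hp : p.Prime) {x : Γ} (hx : x ^ (p ^ (n + 1)) = 1)
    (i : ℕ) (hi : x ^ i ≠ 1) : x ^ (p ^ n) ∈ Subgroup.zpowers (x ^ i) := by
  have h1 : x ^ Nat.gcd i (p ^ (n + 1)) ∈ Subgroup.zpowers (x ^ i) :=
    pow_gcd_mem _ x i (p ^ (n + 1)) (Subgroup.mem_zpowers _) (by rw [hx]; exact Subgroup.one_mem _)
  obtain ⟨t, ht, hgcd⟩ := (Nat.dvd_prime_pow hp).mp (Nat.gcd_dvd_right i (p ^ (n + 1)))
  rw [hgcd] at h1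
  have htn : t ≤ n := by
    by_contra hcon
    have ht' : t = n + 1 := by omega
    have hdvd : p ^ (n + 1) ∣ i := by
      rw [← ht', ← hgcd]; exact Nat.gcd_dvd_left _ _
    obtain ⟨c, rfl⟩ := hdvd
    exact hi (by rw [pow_mul, hx, one_pow])
  have h2 : x ^ (p ^ n) = (x ^ (p ^ t)) ^ (p ^ (n - t)) := by
    rw [← pow_mul, ← pow_add]
    congr 2
    omega
  rw [h2]
  exact Subgroup.pow_mem _ h1 _

end GroupSide

universe uΓ uW

/-- W7 (with `Q ≠ ⊥`) -/
theorem kl_special_of' (h : SpecialRepStmt.{0, uW, uΓ}) : KLSpecialStmt'.{uΓ, uW} := by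
  intro Γ _ _ W _ _ p q r n φ Q _ x hp hq hr hp2 hpq hpr hqr hexp hQq hsp hQne hxpow hφQ hQfix hWfix
    hcomm hirr
  classical
  haveI : Fact p.Prime := ⟨hp⟩
  haveI : Fact q.Prime := ⟨hq⟩
  haveI : Fact r.Prime := ⟨hr⟩
  haveI : Nontrivial ↥Q := (Subgroup.nontrivial_iff_ne_bot Q).mpr hQne
  -- the centre
  set Z : Subgroup Γ := zOf Q with hZdef
  have hZQ : Z ≤ Q := zOf_le Q
  haveI hZn : Z.Normal := by
    have h1 : Subgroup.normalizer (Q : Set Γ) = ⊤ := Subgroup.normalizer_eq_top_iff.mpr inferInstance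
    have h2 := normalizer_le_normalizer_zOf Q
    rw [h1, top_le_iff] at h2
    exact Subgroup.normalizer_eq_top_iff.mp h2
  have hfratZ : (frattini ↥Q).map Q.subtype = Z := by rw [hsp.2.1]
  have hZc : ∀ z ∈ Z, ∀ a ∈ Q, a * z = z * a := fun z hz a ha => (mem_zOf_iff.mp hz).2 a ha
  have hcommZ : ∀ a ∈ Q, ∀ b ∈ Q, ⁅a, b⁆ ∈ Z := by
    intro a ha b hb
    have h1 : ⁅(⟨a, ha⟩ : ↥Q), ⟨b, hb⟩⁆ ∈ commutator ↥Q := by
      rw [_root_.commutator_def]
      exact Subgroup.commutator_mem_commutator (Subgroup.mem_top _) (Subgroup.mem_top _)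
    rw [hsp.2.2] at h1
    exact ⟨_, h1, by simp [commutatorElement_def]⟩
  have hZclo : Z ≤ Subgroup.closure {g | ∃ a ∈ Q, ∃ b ∈ Q, ⁅a, b⁆ = g} := by
    rw [hZdef]
    show (Subgroup.center ↥Q).map Q.subtype ≤ _
    rw [← hsp.2.2, commutator_eq_closure, MonoidHom.map_closure]
    apply Subgroup.closure_mono
    rintro _ ⟨c, ⟨a, b, rfl⟩, rfl⟩
    exact ⟨a, a.2, b, b.2, by simp [commutatorElement_def]⟩
  have hZpow : ∀ z ∈ Z, z ^ q = 1 := by
    rintro _ ⟨c, hc, rfl⟩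
    have := Cfsg.Agent.Helper71.special_center_pow hsp c hc
    have h4 := congrArg Subtype.val this
    simpa using h4
  have hZne : Z ≠ ⊥ := by
    intro hbot
    have h3 : Subgroup.center ↥Q = ⊥ := by
      rw [← zOf_subgroupOf, ← hZdef, hbot]; exact Subgroup.bot_subgroupOf Q
    exact (hsp.1.bot_lt_center).ne' h3
  have hZneQ : Z ≠ Q := by
    intro hZeq
    have h2 : Subgroup.center ↥Q = ⊤ := by
      rw [← zOf_subgroupOf, ← hZdef, hZeq]; exact Subgroup.subgroupOf_self Q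
    have h3 : frattini ↥Q = ⊤ := by rw [hsp.2.1, h2]
    have h4 : (⊥ : Subgroup ↥Q) = ⊤ := frattini_nongenerating (by rw [h3]; simp)
    exact bot_ne_top h4
  -- `x1 ≠ 1` and the order of `x`
  set x1 : Γ := x ^ (p ^ n) with hx1
  have hx1ne : x1 ≠ 1 := by
    intro h1
    rw [h1, Subgroup.zpowers_one_eq_bot, Subgroup.commutator_bot_right] at hcomm
    exact hQne hcomm.symm
  have hxord : orderOf x = p ^ (n + 1) := orderOf_eq_prime_pow hx1ne hxpow
  -- the irreducibility clause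
  have hirr' : ∀ U : Subgroup Γ, Z ≤ U → U ≤ Q → (∀ a ∈ U, x * a * x⁻¹ ∈ U) → U = Z ∨ U = Q := by
    intro U hZU hUQ hxU
    rw [hfratZ] at hirr
    refine hirr U hZU hUQ ?_
    rw [Subgroup.zpowers_le]
    exact Subgroup.mem_normalizer_fintype hxU
  -- freeness on `Q / Z`
  have hU1 : fixMod Q Z x1 = Z := by
    have hle : fixMod Q Z x1 ≤ Q := fun a ha => ha.1
    have hZle : Z ≤ fixMod Q Z x1 := by
      intro z hz
      refine ⟨hZQ hz, ?_⟩
      rw [commutatorElement_def]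
      have := (inferInstance : Z.Normal).conj_mem z hz x1
      exact Z.mul_mem this (Z.inv_mem hz)
    have hinv : ∀ a ∈ fixMod Q Z x1, x * a * x⁻¹ ∈ fixMod Q Z x1 := by
      rintro a ⟨ha, ha'⟩
      refine ⟨(inferInstance : Q.Normal).conj_mem a ha x, ?_⟩
      have hcx : x * x1 = x1 * x := by rw [hx1, ← pow_succ', ← pow_succ]
      have h1 : ⁅x1, x * a * x⁻¹⁆ = x * ⁅x1, a⁆ * x⁻¹ := by
        simp only [commutatorElement_def]
        have hcx' : x1 * x = x * x1 := hcx.symm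
        have hcx'' : x⁻¹ * x1⁻¹ = x1⁻¹ * x⁻¹ := by
          rw [← mul_inv_rev, ← mul_inv_rev, hcx]
        calc x1 * (x * a * x⁻¹) * x1⁻¹ * (x * a * x⁻¹)⁻¹
            = (x1 * x) * a * (x⁻¹ * x1⁻¹) * (x * a⁻¹ * x⁻¹) := by group
          _ = (x * x1) * a * (x1⁻¹ * x⁻¹) * (x * a⁻¹ * x⁻¹) := by rw [hcx', hcx'']
          _ = x * (x1 * a * x1⁻¹ * a⁻¹) * x⁻¹ := by group
      rw [h1]
      exact (inferInstance : Z.Normal).conj_mem _ ha' x
    rcases hirr' _ hZle hle hinv with h1 | h1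
    · exact h1
    · exfalso
      -- then `⁅Q, zpowers x1⁆ ≤ Z`
      have h2 : ⁅Q, Subgroup.zpowers x1⁆ ≤ Z := by
        rw [Subgroup.commutator_le]
        intro a ha y hy
        obtain ⟨k, rfl⟩ := Cfsg.Agent.Helper50.mem_zpowers_exists_pow hy
        have h3 : a ∈ fixMod Q Z (x1 ^ k) := fixMod_le_pow Q Z x1 k (by rw [h1]; exact ha)
        have h4 : ⁅a, x1 ^ k⁆ = ⁅x1 ^ k, a⁆⁻¹ := (commutatorElement_inv _ _).symm
        rw [h4]
        exact Z.inv_mem h3.2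
      rw [hcomm] at h2
      exact hZneQ (le_antisymm hZQ h2)
  have hfree : ∀ i : ℕ, x ^ i ≠ 1 → ∀ a ∈ Q, ⁅x ^ i, a⁆ ∈ Z → a ∈ Z := by
    intro i hi a ha hia
    have h1 : x1 ∈ Subgroup.zpowers (x ^ i) := pow_mem_zpowers_of_ne_one hp hxpow i hi
    obtain ⟨k, hk⟩ := Cfsg.Agent.Helper50.mem_zpowers_exists_pow h1
    have h2 : a ∈ fixMod Q Z ((x ^ i) ^ k) := fixMod_le_pow Q Z (x ^ i) k ⟨ha, hia⟩
    rw [hk, hU1] at h2
    exact h2
  -- the linear side
  have hexp' : ∀ v : Additive W, r • v = 0 := by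
    intro v
    have : r • v = Additive.ofMul ((Additive.toMul v) ^ r) := rfl
    rw [this, hexp]
    rfl
  let _ : Module (ZMod r) (Additive W) := AddCommGroup.zmodModule (n := r) hexp'
  let ρ₀ : Γ →* Module.End (ZMod r) (Additive W) :=
    { toFun := fun a => AddMonoidHom.toZModLinearMap r (MonoidHom.toAdditive (φ a).toMonoidHom)
      map_one' := by
        apply LinearMap.ext
        intro v
        change Additive.ofMul (φ 1 (Additive.toMul v)) = v
        rw [map_one]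
        rfl
      map_mul' := by
        intro a b
        apply LinearMap.ext
        intro v
        change Additive.ofMul (φ (a * b) (Additive.toMul v)) =
          Additive.ofMul (φ a (φ b (Additive.toMul v)))
        rw [map_mul]
        rfl }
  have hρ₀ : ∀ (a : Γ) (v : Additive W), ρ₀ a v = Additive.ofMul (φ a (Additive.toMul v)) :=
    fun _ _ => rfl
  let K := AlgebraicClosure (ZMod r)
  have hcastF : ∀ m : ℕ, ¬ r ∣ m → (m : ZMod r) ≠ 0 := fun m hm h =>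
    hm ((ZMod.natCast_eq_zero_iff m r).mp h)
  have hcastK : ∀ m : ℕ, ¬ r ∣ m → (m : K) ≠ 0 := by
    intro m hm
    rw [← map_natCast (algebraMap (ZMod r) K)]
    exact (map_ne_zero (algebraMap (ZMod r) K)).mpr (hcastF m hm)
  have hrndq : ¬ r ∣ q := fun h => hqr ((Nat.prime_dvd_prime_iff_eq hr hq).mp h).symm
  have hrndp : ¬ r ∣ p := fun h => hpr ((Nat.prime_dvd_prime_iff_eq hr hp).mp h).symm
  have hcardX : Nat.card (Subgroup.zpowers x) = p ^ (n + 1) := by rw [Nat.card_zpowers, hxord]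
  have hrndX : ¬ r ∣ p ^ (n + 1) := fun h => hrndp (hr.dvd_of_dvd_pow h)
  have hXF : (Nat.card (Subgroup.zpowers x) : ZMod r) ≠ 0 := by rw [hcardX]; exact hcastF _ hrndX
  have hXK : (Nat.card (Subgroup.zpowers x) : K) ≠ 0 := by rw [hcardX]; exact hcastK _ hrndX
  have havg0 : avg (ZMod r) ρ₀ (Subgroup.zpowers x) = (0 : Module.End (ZMod r) (Additive W)) := by
    apply LinearMap.ext
    intro v
    rw [LinearMap.zero_apply]
    have hmem : avg (ZMod r) ρ₀ (Subgroup.zpowers x) v ∈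
        LinearMap.range (avg (ZMod r) ρ₀ (Subgroup.zpowers x)) := ⟨v, rfl⟩
    rw [mem_range_avg_iff ρ₀ (Subgroup.zpowers x) hXF] at hmem
    have h1 := hmem x (Subgroup.mem_zpowers x)
    rw [hρ₀] at h1
    have h3 := hWfix _ (Additive.ofMul.injective h1)
    exact Additive.toMul.injective h3
  have havgK0 : avg K (baseRep K ρ₀) (Subgroup.zpowers x) =
      (0 : Module.End K (K ⊗[ZMod r] (Additive W))) := by
    rw [avg_baseRep, havg0, map_zero]
  have hfixK := Cfsg.Agent.Helper50.fixed_eq_zero_of_avg_eq_zero (baseRep K ρ₀) x hXK havgK0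
  -- some element of `Z` acts nontrivially
  have hZρ : ∃ z ∈ Z, baseRep K ρ₀ z ≠ 1 := by
    obtain ⟨z', hz'⟩ := (Subgroup.ne_bot_iff_exists_ne_one).mp hZne
    obtain ⟨z, hz, hz1⟩ : ∃ z : Γ, z ∈ Z ∧ z ≠ 1 := ⟨(z' : Γ), z'.2, fun h => hz' (Subtype.ext h)⟩
    refine ⟨z, hz, ?_⟩
    intro h2
    have h3 : ρ₀ z = 1 := by
      apply baseChangeHom_injective (F := ZMod r) (V := Additive W) K
      rw [map_one]
      exact h2
    apply hz1
    apply hφQ z (hZQ hz)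
    ext w
    have h4 := LinearMap.congr_fun h3 (Additive.ofMul w)
    rw [hρ₀] at h4
    exact Additive.ofMul.injective h4
  exact h K (K ⊗[ZMod r] (Additive W)) Γ (baseRep K ρ₀) Q Z p q (n + 1) x hZQ hcommZ hZc hZclo hp hp2
    hq hpq hQq hZpow (hcastK q hrndq) (hcastK p hrndp) hxord hfree hirr'
    (fun z hz hxz => hQfix z (hZQ hz) hxz) hfixK hZρ

end Cfsg.Agent.Helper50.SGW
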