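import Cfsg.Agent.Helper71.Alp.Defs
import Cfsg.Agent.Lib.Nilpotent

/-!
# Alperin's theorem (helper71, S3782): (Cc) a `φ`-invariant normal subgroup centralising all
admissible sections is powerful

`⁅W, W⁆ ≤ pw (bp p) W` for a `φ`-invariant normal subgroup `W` of a finite `p`-group with
`[W, X] ≤ Y` for every admissible section `X / Y`.
-/

set_option autoImplicit false

namespace Cfsg.Agent.Helper50.Alp

open Cfsg.Agent.Helper71.Alp
open scoped commutatorElement

section Aux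

variable {G : Type*} [Group G]

theorem cc_pw_le_self (k : ℕ) (H : Subgroup G) : pw k H ≤ H := by
  unfold pw
  rw [Subgroup.closure_le]
  rintro y ⟨x, hx, rfl⟩
  exact H.pow_mem hx k

theorem cc_pw_normal (k : ℕ) (H : Subgroup G) [hH : H.Normal] : (pw k H).Normal := by
  constructor
  intro n hn g
  unfold pw at hn ⊢
  induction hn using Subgroup.closure_induction with
  | mem y hy =>
    obtain ⟨x, hx, rfl⟩ := hy
    apply Subgroup.subset_closure
    exact ⟨g * x * g⁻¹, hH.conj_mem x hx g, by rw [conj_pow]⟩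
  | one => simp
  | mul a b _ _ ha hb =>
    rw [← conj_mul]
    exact mul_mem ha hb
  | inv a _ ha =>
    rw [← conj_inv]
    exact inv_mem ha

theorem cc_map_mem_pw (φ : MulAut G) (k : ℕ) (H : Subgroup G) (hH : ∀ x ∈ H, φ x ∈ H) :
    ∀ x ∈ pw k H, φ x ∈ pw k H := by
  intro x hx
  unfold pw at hx ⊢
  induction hx using Subgroup.closure_induction with
  | mem y hy =>
    obtain ⟨x, hx, rfl⟩ := hy
    exact Subgroup.subset_closure ⟨φ x, hH x hx, map_pow φ x k⟩
  | one =>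
    rw [map_one]
    exact one_mem _
  | mul a b _ _ ha hb =>
    rw [map_mul]
    exact mul_mem ha hb
  | inv a _ ha =>
    rw [map_inv]
    exact inv_mem ha

/-- in a finite group a subgroup mapped into itself by `φ` is `φ`-invariant -/
theorem cc_inv_of_forall [Finite G] (φ : MulAut G) (H : Subgroup G) (h : ∀ x ∈ H, φ x ∈ H) :
    Inv φ H := by
  intro x
  refine ⟨h x, fun hx => ?_⟩
  let f : H → H := fun y => ⟨φ y, h y y.2⟩
  have hinj : Function.Injective f := fun a b hab =>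
    Subtype.ext (φ.injective (congrArg Subtype.val hab))
  obtain ⟨y, hy⟩ := (Finite.injective_iff_surjective.1 hinj) ⟨φ x, hx⟩
  have h1 : φ y = φ x := congrArg Subtype.val hy
  rw [← φ.injective h1]
  exact y.2

/-- an automorphism of `p`-power order of a finite group fixes a non-identity element of every
non-trivial invariant `p`-subgroup -/
theorem cc_exists_fixed {Q : Type*} [Group Q] [Finite Q] {p : ℕ} [Fact p.Prime] (ψ : MulAut Q)
    (hψ : ψ ^ p = 1) (C : Subgroup Q) (hC : IsPGroup p C) (hne : C ≠ ⊥)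
    (hinv : ∀ c ∈ C, ψ c ∈ C) : ∃ c ∈ C, c ≠ 1 ∧ ψ c = c := by
  classical
  have hInv := cc_inv_of_forall ψ C hinv
  let _ : Fintype C := Fintype.ofFinite _
  have hσh : ∀ x : Q, (MulAut.toPerm Q ψ) x ∈ C ↔ x ∈ C := fun x => (hInv x).symm
  let σ : Equiv.Perm C := (MulAut.toPerm Q ψ).subtypePerm hσh
  have hσ : σ ^ p ^ 1 = 1 := by
    rw [pow_one]
    apply Equiv.ext
    intro c
    apply Subtype.ext
    rw [Equiv.Perm.subtypePerm_pow, Equiv.Perm.subtypePerm_apply]
    show ((MulAut.toPerm Q ψ) ^ p) (c : Q) = c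
    rw [← map_pow, hψ, map_one]
    rfl
  have hcard : p ∣ Fintype.card C := by
    obtain ⟨n, hn⟩ := IsPGroup.iff_card.1 hC
    rw [← Nat.card_eq_fintype_card, hn]
    rcases Nat.eq_zero_or_pos n with rfl | hpos
    · exfalso
      rw [pow_zero] at hn
      exact hne (Subgroup.card_eq_one.1 hn)
    · exact dvd_pow_self p hpos.ne'
  have h1 : σ 1 = 1 := by
    apply Subtype.ext
    rw [Equiv.Perm.subtypePerm_apply]
    exact map_one ψ
  obtain ⟨b, hb, hb1⟩ := Equiv.Perm.exists_fixed_point_of_prime' hcard hσ h1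
  refine ⟨b, b.2, fun h => hb1 (Subtype.ext h), ?_⟩
  have := congrArg Subtype.val hb
  rw [Equiv.Perm.subtypePerm_apply] at this
  exact this

end Aux

/-- **(Cc)** a `φ`-invariant normal subgroup `W` of a `p`-group that centralises all admissible
sections is powerful. -/
theorem commutator_le_pw_of_cent {G : Type*} [Group G] [Finite G] {p : ℕ} (hp : p.Prime)
    (hG : IsPGroup p G) (φ : MulAut G) (hφ : φ ^ p = 1) (W : Subgroup G) [W.Normal]
    (hW : Inv φ W)
    (hcen : ∀ X Y : Subgroup G, Sec p φ X Y → ∀ w ∈ W, ∀ x ∈ X, x * w * x⁻¹ * w⁻¹ ∈ Y) :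
    ⁅W, W⁆ ≤ pw (bp p) W := by
  classical
  have : Fact p.Prime := ⟨hp⟩
  have hWn : W.Normal := inferInstance
  have hWφ : ∀ x ∈ W, φ x ∈ W := fun x hx => (hW x).1 hx
  set U : Subgroup G := pw (bp p) W with hUdef
  have hUW : U ≤ W := cc_pw_le_self _ W
  have hUn : U.Normal := cc_pw_normal _ W
  have hUφ : ∀ x ∈ U, φ x ∈ U := cc_map_mem_pw φ _ W hWφ
  have hUpow : ∀ w ∈ W, w ^ bp p ∈ U := fun w hw => Subgroup.subset_closure ⟨w, hw, rfl⟩
  -- `commutator in U` as `Commute` in the quotient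
  have hcomm_iff : ∀ a b : G, ⁅a, b⁆ ∈ U ↔
      Commute (QuotientGroup.mk a : G ⧸ U) (QuotientGroup.mk b) := by
    intro a b
    rw [← QuotientGroup.eq_one_iff (N := U), ← QuotientGroup.mk'_apply, map_commutatorElement,
      commutatorElement_eq_one_iff_commute]
    rfl
  -- the preimage `Z` of the centre of `W / U`
  have hWρn : (W.map (QuotientGroup.mk' U)).Normal := hWn.map _ (QuotientGroup.mk'_surjective U)
  have hcn : (Subgroup.centralizer
      ((W.map (QuotientGroup.mk' U) : Subgroup (G ⧸ U)) : Set (G ⧸ U))).Normal :=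
    Subgroup.normal_centralizer
  set Z : Subgroup G := W ⊓ (Subgroup.centralizer
    ((W.map (QuotientGroup.mk' U) : Subgroup (G ⧸ U)) : Set (G ⧸ U))).comap (QuotientGroup.mk' U)
    with hZdef
  have hZmem : ∀ w : G, w ∈ Z ↔ w ∈ W ∧ ∀ w' ∈ W, ⁅w, w'⁆ ∈ U := by
    intro w
    rw [hZdef, Subgroup.mem_inf, Subgroup.mem_comap, Subgroup.mem_centralizer_iff]
    refine and_congr_right fun _ => ⟨fun h w' hw' => ?_, fun h q hq => ?_⟩
    · have h1 := h _ (SetLike.mem_coe.2 (Subgroup.mem_map_of_mem (QuotientGroup.mk' U) hw'))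
      rw [hcomm_iff]
      exact h1.symm
    · obtain ⟨w', hw', rfl⟩ := Subgroup.mem_map.1 (SetLike.mem_coe.1 hq)
      have h1 := (hcomm_iff w w').1 (h w' hw')
      exact h1.symm
  have hZn : Z.Normal := by
    have h1 : ((Subgroup.centralizer
      ((W.map (QuotientGroup.mk' U) : Subgroup (G ⧸ U)) : Set (G ⧸ U))).comap
        (QuotientGroup.mk' U)).Normal := hcn.comap _
    rw [hZdef]
    infer_instance
  have hZW : Z ≤ W := inf_le_left
  have hUZ : U ≤ Z := by
    intro u hu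
    rw [hZmem]
    refine ⟨hUW hu, fun w' hw' => ?_⟩
    rw [commutatorElement_def, mul_assoc, mul_assoc, ← mul_assoc w']
    exact U.mul_mem hu (hUn.conj_mem u⁻¹ (inv_mem hu) w')
  have hZφ : ∀ x ∈ Z, φ x ∈ Z := by
    intro x hx
    rw [hZmem] at hx ⊢
    refine ⟨hWφ x hx.1, fun w' hw' => ?_⟩
    have hw'' : φ.symm w' ∈ W := (hW _).2 (by rw [MulEquiv.apply_symm_apply]; exact hw')
    have h1 := hUφ _ (hx.2 _ hw'')
    rw [map_commutatorElement, MulEquiv.apply_symm_apply] at h1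
    exact h1
  -- suppose `Z < W`
  by_contra hcon
  have hWZ : ¬ W ≤ Z := fun h => hcon (by
    rw [Subgroup.commutator_le]
    intro a ha b hb
    exact ((hZmem a).1 (h ha)).2 b hb)
  -- the automorphism induced on `G ⧸ Z`
  have hInvZ := cc_inv_of_forall φ Z hZφ
  have hmap : Z.map (φ : G →* G) = Z := by
    apply le_antisymm
    · rintro _ ⟨z, hz, rfl⟩
      exact hZφ z hz
    · intro z hz
      exact ⟨φ.symm z, (hInvZ _).2 (by rw [MulEquiv.apply_symm_apply]; exact hz),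
        MulEquiv.apply_symm_apply φ z⟩
  let ψ : MulAut (G ⧸ Z) := QuotientGroup.congr Z Z φ hmap
  have hψmk : ∀ x : G, ψ (QuotientGroup.mk x) = QuotientGroup.mk (φ x) := fun x =>
    QuotientGroup.congr_mk Z Z φ hmap x
  have hψpow : ∀ (k : ℕ) (x : G), (ψ ^ k) (QuotientGroup.mk x) = QuotientGroup.mk ((φ ^ k) x) := by
    intro k
    induction k with
    | zero =>
      intro x
      simp
    | succ k ih =>
      intro x
      rw [pow_succ', pow_succ', MulAut.mul_apply, MulAut.mul_apply, ih, hψmk]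
  have hψp : ψ ^ p = 1 := by
    apply MulEquiv.ext
    intro q
    obtain ⟨x, rfl⟩ := QuotientGroup.mk_surjective q
    rw [hψpow, hφ]
    rfl
  -- a fixed point in `W / Z ∩ Z(G / Z)`
  have hQp : IsPGroup p (G ⧸ Z) := hG.to_quotient Z
  have hQnil : Group.IsNilpotent (G ⧸ Z) := hQp.isNilpotent
  have hWπn : (W.map (QuotientGroup.mk' Z)).Normal := hWn.map _ (QuotientGroup.mk'_surjective Z)
  have hWπne : W.map (QuotientGroup.mk' Z) ≠ ⊥ := by
    intro h
    apply hWZ
    intro w hw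
    have h1 : QuotientGroup.mk' Z w ∈ W.map (QuotientGroup.mk' Z) := Subgroup.mem_map_of_mem _ hw
    rw [h, Subgroup.mem_bot, QuotientGroup.mk'_apply, QuotientGroup.eq_one_iff] at h1
    exact h1
  set C : Subgroup (G ⧸ Z) := W.map (QuotientGroup.mk' Z) ⊓ Subgroup.center (G ⧸ Z) with hCdef
  have hCne : C ≠ ⊥ := Cfsg.Agent.Lib.normal_inf_center_ne_bot _ hWπne
  have hCψ : ∀ c ∈ C, ψ c ∈ C := by
    intro c hc
    have hc1 : c ∈ W.map (QuotientGroup.mk' Z) := (Subgroup.mem_inf.1 hc).1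
    have hc2 : c ∈ Subgroup.center (G ⧸ Z) := (Subgroup.mem_inf.1 hc).2
    refine Subgroup.mem_inf.2 ⟨?_, ?_⟩
    · obtain ⟨w, hw, rfl⟩ := Subgroup.mem_map.1 hc1
      rw [QuotientGroup.mk'_apply, hψmk]
      exact Subgroup.mem_map_of_mem (QuotientGroup.mk' Z) (hWφ w hw)
    · rw [Subgroup.mem_center_iff] at hc2 ⊢
      intro g
      obtain ⟨g', rfl⟩ := ψ.surjective g
      rw [← map_mul, ← map_mul, hc2 g']
  obtain ⟨c, hcC, hc1, hcfix⟩ := cc_exists_fixed ψ hψp C (hQp.to_subgroup C) hCne hCψ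
  obtain ⟨x, hxW, rfl⟩ := Subgroup.mem_map.1 (Subgroup.mem_inf.1 hcC).1
  have hccen : (QuotientGroup.mk x : G ⧸ Z) ∈ Subgroup.center (G ⧸ Z) := (Subgroup.mem_inf.1 hcC).2
  rw [QuotientGroup.mk'_apply] at hc1 hcfix
  have hxZ : x ∉ Z := fun h => hc1 ((QuotientGroup.eq_one_iff x).2 h)
  -- the section `X / U`
  have hzn : (Subgroup.zpowers (QuotientGroup.mk x : G ⧸ Z)).Normal := by
    constructor
    intro n hn g
    obtain ⟨k, rfl⟩ := Subgroup.mem_zpowers_iff.1 hn
    have h1 : (QuotientGroup.mk x : G ⧸ Z) ^ k ∈ Subgroup.center (G ⧸ Z) :=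
      Subgroup.zpow_mem _ hccen k
    rw [Subgroup.mem_center_iff] at h1
    rw [h1 g, mul_inv_cancel_right]
    exact Subgroup.zpow_mem_zpowers _ k
  set X : Subgroup G := (Subgroup.zpowers (QuotientGroup.mk x : G ⧸ Z)).comap
    (QuotientGroup.mk' Z) with hXdef
  have hXn : X.Normal := hzn.comap _
  have hxX : x ∈ X := by
    rw [hXdef, Subgroup.mem_comap, QuotientGroup.mk'_apply]
    exact Subgroup.mem_zpowers _
  have hZX : Z ≤ X := by
    intro z hz
    rw [hXdef, Subgroup.mem_comap, QuotientGroup.mk'_apply, (QuotientGroup.eq_one_iff z).2 hz]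
    exact one_mem _
  have hXform : ∀ y ∈ X, ∃ k : ℤ, ∃ z ∈ Z, y = x ^ k * z := by
    intro y hy
    rw [hXdef, Subgroup.mem_comap, Subgroup.mem_zpowers_iff] at hy
    obtain ⟨k, hk⟩ := hy
    refine ⟨k, (x ^ k)⁻¹ * y, ?_, by group⟩
    rw [QuotientGroup.mk'_apply, ← QuotientGroup.mk_zpow, QuotientGroup.eq] at hk
    exact hk
  have hxk : ∀ k : ℤ, x ^ k ∈ W := fun k => Subgroup.zpow_mem _ hxW k
  have hXW : X ≤ W := by
    intro y hy
    obtain ⟨k, z, hz, rfl⟩ := hXform y hy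
    exact mul_mem (hxk k) (hZW hz)
  have hXφ : ∀ y ∈ X, φ y ∈ X := by
    intro y hy
    rw [hXdef, Subgroup.mem_comap, QuotientGroup.mk'_apply] at hy ⊢
    rw [← hψmk]
    obtain ⟨k, hk⟩ := Subgroup.mem_zpowers_iff.1 hy
    rw [← hk, map_zpow, hcfix]
    exact Subgroup.zpow_mem_zpowers _ k
  have hZcomm : ∀ z ∈ Z, ∀ w ∈ W,
      Commute (QuotientGroup.mk z : G ⧸ U) (QuotientGroup.mk w) := fun z hz w hw =>
    (hcomm_iff z w).1 (((hZmem z).1 hz).2 w hw)
  have hXX : ⁅X, X⁆ ≤ U := by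
    rw [Subgroup.commutator_le]
    intro a ha b hb
    obtain ⟨k, z₁, hz₁, rfl⟩ := hXform a ha
    obtain ⟨l, z₂, hz₂, rfl⟩ := hXform b hb
    rw [hcomm_iff, QuotientGroup.mk_mul, QuotientGroup.mk_mul]
    have h1 : Commute (QuotientGroup.mk (x ^ k) : G ⧸ U) (QuotientGroup.mk (x ^ l)) := by
      rw [QuotientGroup.mk_zpow, QuotientGroup.mk_zpow]
      exact Commute.zpow_zpow_self _ k l
    have h2 : Commute (QuotientGroup.mk (x ^ k) : G ⧸ U) (QuotientGroup.mk z₂) :=
      (hZcomm z₂ hz₂ _ (hxk k)).symm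
    have h3 : Commute (QuotientGroup.mk z₁ : G ⧸ U) (QuotientGroup.mk (x ^ l)) :=
      hZcomm z₁ hz₁ _ (hxk l)
    have h4 : Commute (QuotientGroup.mk z₁ : G ⧸ U) (QuotientGroup.mk z₂) :=
      hZcomm z₁ hz₁ z₂ (hZW hz₂)
    exact (h1.mul_right h2).mul_left (h3.mul_right h4)
  have hsec : Sec p φ X U :=
    ⟨hXn, hUn, hUZ.trans hZX, cc_inv_of_forall φ X hXφ, cc_inv_of_forall φ U hUφ, hXX,
      fun y hy => hUpow y (hXW hy)⟩
  apply hxZ
  rw [hZmem]
  refine ⟨hxW, fun w hw => ?_⟩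
  rw [commutatorElement_def]
  exact hcen X U hsec w hw x hxX

end Cfsg.Agent.Helper50.Alp
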