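import Cfsg.Agent.Helper50.BG16A
import Cfsg.Agent.Helper29.BG10D

/-!
# Bender--Glauberman section 16 (type characterisations), part B (helper50)

Sylow arguments (normalizers of subgroups containing a `σ(M)`-Sylow subgroup), Hall conjugacy of
complements, the Frobenius-type structure of `M'`, invariant complements, and `κ(M) ≠ ∅` for a
subgroup of type P.
-/

set_option autoImplicit false
set_option linter.unusedVariables false
set_option linter.style.haveILetI false
set_option linter.unusedSectionVars false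

namespace Cfsg.Agent.Helper50.BG16

open Cfsg Subgroup Cfsg.Agent.Helper60.BGAsm Cfsg.Agent.Helper29.BG10
open scoped Pointwise

variable {G : Type*} [Group G] [Finite G]

/-- for `s ∈ σ(M)`, every Sylow `s`-subgroup of `M` has its normalizer in `M` -/
theorem normalizer_le_of_isSylowIn_sigma {M : Subgroup G} {s : ℕ} [Fact s.Prime]
    (hs : s ∈ Cfsg.sigma M) {S : Subgroup G} (hS : IsSylowIn s S M) :
    normalizer (S : Set G) ≤ M := by
  obtain ⟨-, hsM, P, hNP⟩ := hs
  have hP' := isSylowIn_map_sylow P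
  obtain ⟨n, hnM, hn⟩ := hS.exists_cj_eq hP'
  rw [← hn, normalizer_cj]
  have := cj_mono (g := n) hNP
  rwa [cj_eq_self_of_mem hnM] at this

/-- Frattini argument: a subgroup `V ≤ M` containing a Sylow `s`-subgroup of `M`, `s ∈ σ(M)`, has its
normalizer in `M` -/
theorem normalizer_le_of_isSylowIn_le {M : Subgroup G} {s : ℕ} [Fact s.Prime]
    (hs : s ∈ Cfsg.sigma M) {S V : Subgroup G} (hS : IsSylowIn s S M) (hSV : S ≤ V) (hVM : V ≤ M) :
    normalizer (V : Set G) ≤ M := by
  intro g hg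
  have hSV' : IsSylowIn s S V := by
    refine ⟨hSV, hS.2.1, fun h => hS.2.2 ?_⟩
    rw [← Subgroup.relIndex_mul_relIndex S V M hSV hVM]
    exact Dvd.dvd.mul_right h _
  have h2 : IsSylowIn s (cj g S) V := by
    have := hSV'.cj g
    rwa [cj_eq_of_mem_normalizer hg] at this
  obtain ⟨n, hnV, hn⟩ := hSV'.exists_cj_eq h2
  rw [← cj_mul] at hn
  have h3 : n * g ∈ M := normalizer_le_of_isSylowIn_sigma hs hS (mem_normalizer_of_cj_eq hn)
  have h4 : g = n⁻¹ * (n * g) := by group
  rw [h4]
  exact M.mul_mem (M.inv_mem (hVM hnV)) h3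

/-- the order of the second factor of a complement pair is the relative index of the first -/
theorem card_right_eq_relIndex_of_isComplIn {A B M : Subgroup G} (h : Cfsg.IsComplIn A B M) :
    Nat.card B = A.relIndex M := by
  have h1 := card_mul_card_isComplIn h
  have h2 := card_mul_relIndex_of_le h.1
  have h3 : Nat.card A * Nat.card B = Nat.card A * A.relIndex M := by rw [h1, h2]
  exact Nat.eq_of_mul_eq_mul_left Nat.card_pos h3

/-- a nontrivial complement `U'` of `M_F` in `M_σ` has its normalizer in `M` -/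
theorem normalizer_le_of_isComplIn_sigmaCore {M U' : Subgroup G}
    (hall : Cfsg.IsPiHallOf (Cfsg.sigma M) (Cfsg.sigmaCore M) M)
    (hHN : Cfsg.fittingHallOf M ≤ Cfsg.sigmaCore M)
    (hc : Cfsg.IsComplIn (Cfsg.fittingHallOf M) U' (Cfsg.sigmaCore M)) (hU1 : U' ≠ ⊥) :
    normalizer (U' : Set G) ≤ M := by
  have hcard : Nat.card U' ≠ 1 := fun h => hU1 (Subgroup.card_eq_one.mp h)
  obtain ⟨s, hs, hsU⟩ := Nat.exists_prime_and_dvd hcard
  haveI : Fact s.Prime := ⟨hs⟩
  have hU'N : U' ≤ Cfsg.sigmaCore M := hc.2.1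
  have hNM : Cfsg.sigmaCore M ≤ M := hall.1
  have hsσ : s ∈ Cfsg.sigma M := hall.2.1 s hs (hsU.trans (Subgroup.card_dvd_of_le hU'N))
  obtain ⟨S, -, hS⟩ := exists_isSylowIn_ge (p := s) (N := U') (Y := ⊥) bot_le IsPGroup.of_bot
  have hSM : IsSylowIn s S M := by
    refine ⟨hS.1.trans (hU'N.trans hNM), hS.2.1, ?_⟩
    rw [← Subgroup.relIndex_mul_relIndex S U' M hS.1 (hU'N.trans hNM),
      ← Subgroup.relIndex_mul_relIndex U' _ M hU'N hNM]
    intro hd
    rcases (Nat.Prime.dvd_mul hs).mp hd with h | h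
    · exact hS.2.2 h
    · rcases (Nat.Prime.dvd_mul hs).mp h with h | h
      · -- `s ∣ |M_F|` contradicts the Hall property of `M_F`
        rw [← card_eq_relIndex_of_isComplIn hc] at h
        have h1 : s ∣ (Cfsg.fittingHallOf M).relIndex M := by
          rw [← Subgroup.relIndex_mul_relIndex _ _ M hHN hNM, ← card_right_eq_relIndex_of_isComplIn hc]
          exact Dvd.dvd.mul_right hsU _
        exact hs.one_lt.ne' (Nat.eq_one_of_dvd_coprimes (coprime_card_fittingHallOf M) h h1)
      · exact hall.2.2 s hs hsσ h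
  exact normalizer_le_of_isSylowIn_le hsσ hSM hS.1 (hU'N.trans hNM)

/-- Hall conjugacy of complements of a normal Hall subgroup in a solvable group -/
theorem exists_cj_eq_of_isComplIn {D N U U' : Subgroup G} (hsolv : Group.IsSolvable ↥D)
    (h : Cfsg.IsComplIn N U D) (h' : Cfsg.IsComplIn N U' D)
    (hcop : (Nat.card U).Coprime (Nat.card N)) : ∃ g ∈ D, cj g U = U' := by
  haveI := hsolv
  have hU : Nat.card (U.subgroupOf D) = Nat.card U :=
    Nat.card_congr (Subgroup.subgroupOfEquivOfLe h.2.1).toEquiv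
  have hU' : Nat.card (U'.subgroupOf D) = Nat.card U := by
    rw [Nat.card_congr (Subgroup.subgroupOfEquivOfLe h'.2.1).toEquiv,
      card_right_eq_relIndex_of_isComplIn h', card_right_eq_relIndex_of_isComplIn h]
  have hcard : Nat.card ↥D = Nat.card U * Nat.card N := by
    rw [← card_mul_card_isComplIn h, mul_comm]
  obtain ⟨g, hg⟩ := Cfsg.Agent.Lib.hall_conj (Nat.card U) (Nat.card N) hcard hcop
    (U.subgroupOf D) (U'.subgroupOf D) hU hU'
  refine ⟨(g : G), g.2, ?_⟩
  symm
  apply Subgroup.eq_of_le_of_card_ge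
  · intro x hx
    have h1 : (⟨x, h'.2.1 hx⟩ : ↥D) ∈ MulAut.conj g • U.subgroupOf D := by
      rw [hg]; exact Subgroup.mem_subgroupOf.mpr hx
    obtain ⟨a, ha, hax⟩ := h1
    have h2 := congrArg Subtype.val hax
    simp only [MulDistribMulAction.toMonoidEnd_apply, MulDistribMulAction.toMonoidHom_apply,
      MulAut.smul_def, MulAut.conj_apply, Subgroup.coe_mul, InvMemClass.coe_inv] at h2
    rw [← h2]
    exact conj_mem_cj (Subgroup.mem_subgroupOf.mp ha)
  · rw [card_cj, card_right_eq_relIndex_of_isComplIn h', card_right_eq_relIndex_of_isComplIn h]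

/-! ### the Frobenius-type structure of `D = M'` -/

/-- `D = N ⋊ U` with `N = D_F`, `U` abelian, and a subgroup `U₀` of the same exponent acting
fixed-point-freely: `D` is of Frobenius type -/
theorem isOfTypeF_of_isComplIn {D N U U₀ : Subgroup G} (hsolv : Group.IsSolvable ↥D)
    (hodd : Odd (Nat.card D)) (hF : Cfsg.fittingHallOf D = N) (hN1 : N ≠ ⊥) (hU1 : U ≠ ⊥)
    (hc : Cfsg.IsComplIn N U D) (hUab : IsMulCommutative U)
    (hU₀ : U₀ ≤ U) (hexp : Monoid.exponent U₀ = Monoid.exponent U)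
    (hfpf : ∀ u ∈ U₀, u ≠ 1 → ∀ x ∈ N, u * x = x * u → x = 1) : Cfsg.IsOfTypeF ↥D := by
  have hFH : Cfsg.fittingHall ↥D = N.subgroupOf D := by
    unfold Cfsg.fittingHallOf at hF
    rw [← hF]
    unfold Subgroup.subgroupOf
    rw [Subgroup.comap_map_eq_self_of_injective D.subtype_injective]
  have hND : N ≤ D := hc.1
  have hUD : U ≤ D := hc.2.1
  refine ⟨hsolv, hodd, ?_, ?_, U.subgroupOf D, ?_, ?_, ?_, ?_⟩
  · rw [hFH]
    intro h
    rw [Subgroup.subgroupOf_eq_bot] at h
    exact hN1 (h.eq_bot_of_le hND)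
  · rw [hFH]
    intro h
    rw [Subgroup.subgroupOf_eq_top] at h
    apply hU1
    rw [eq_bot_iff, ← hc.2.2.1]
    exact le_inf (hUD.trans h) le_rfl
  · intro h
    rw [Subgroup.subgroupOf_eq_bot] at h
    exact hU1 (h.eq_bot_of_le hUD)
  · rw [hFH]
    exact isComplement'_subgroupOf_of_isComplIn hc
  · refine ⟨U.subgroupOf D, le_rfl, Subgroup.le_normalizer, inferInstance, ?_⟩
    intro x _ _
    exact inf_le_left
  · refine ⟨U₀.subgroupOf D, ?_, ?_, ?_⟩
    · intro x hx
      exact Subgroup.mem_subgroupOf.mpr (hU₀ (Subgroup.mem_subgroupOf.mp hx))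
    · rw [Monoid.exponent_eq_of_mulEquiv (Subgroup.subgroupOfEquivOfLe (hU₀.trans hUD)),
        Monoid.exponent_eq_of_mulEquiv (Subgroup.subgroupOfEquivOfLe hUD), hexp]
    · intro u hu hu1 x hx hux
      rw [hFH] at hx
      have h1 := hfpf (u : G) (Subgroup.mem_subgroupOf.mp hu) (fun h => hu1 (Subtype.ext h))
        (x : G) (Subgroup.mem_subgroupOf.mp hx) (by
          have := congrArg Subtype.val hux
          simpa using this)
      exact Subtype.ext h1

/-! ### invariant complements of `M_F` -/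

/-- a `K`-invariant complement of `M_F` in a normal subgroup `N ≥ M_F` of the solvable group `M`,
for `K ≤ M` of order prime to `|M_F|` -/
theorem exists_invariant_isComplIn {M K N : Subgroup G} (hsolv : Group.IsSolvable ↥M)
    (hKM : K ≤ M) (hNM : N ≤ M) (hMN : M ≤ normalizer (N : Set G))
    (hHN : Cfsg.fittingHallOf M ≤ N)
    (hcop : (Nat.card K).Coprime (Nat.card (Cfsg.fittingHallOf M))) :
    ∃ U' : Subgroup G, K ≤ normalizer (U' : Set G) ∧ Cfsg.IsComplIn (Cfsg.fittingHallOf M) U' N := by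
  haveI := hsolv
  have hFc := Cfsg.Agent.Helper23.fittingHall_coprime ↥M
  obtain ⟨E, hE⟩ := Subgroup.exists_right_complement'_of_coprime hFc
  have hEcard : Nat.card E = (Cfsg.fittingHall ↥M).index := hE.symm.index_eq_card.symm
  have hcard : Nat.card ↥M = (Cfsg.fittingHall ↥M).index * Nat.card (Cfsg.fittingHall ↥M) := by
    rw [mul_comm]; exact (Subgroup.card_mul_index _).symm
  have hK' : (Nat.card (K.subgroupOf M)).Coprime (Nat.card (Cfsg.fittingHall ↥M)) := by
    rw [Nat.card_congr (Subgroup.subgroupOfEquivOfLe hKM).toEquiv, ← card_fittingHallOf']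
    exact hcop
  obtain ⟨g, hg⟩ := (Cfsg.Agent.Lib.hall_main _ ↥M rfl _ _ hcard hFc.symm).2 E (K.subgroupOf M)
    hEcard hK'
  have hE' : Subgroup.IsComplement' (Cfsg.fittingHall ↥M) (MulAut.conj g • E) := by
    apply Subgroup.isComplement'_of_coprime
    · rw [Cfsg.Agent.Lib.card_conj_smul, hEcard]
      exact Subgroup.card_mul_index _
    · rw [Cfsg.Agent.Lib.card_conj_smul, hEcard]
      exact hFc
  have hc := isComplIn_of_isComplement' _ _ hE'
  set EG : Subgroup G := (MulAut.conj g • E).map M.subtype with hEG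
  have hKE : K ≤ EG := by
    intro x hx
    exact ⟨⟨x, hKM hx⟩, hg (Subgroup.mem_subgroupOf.mpr hx), rfl⟩
  refine ⟨EG ⊓ N, ?_, hHN, inf_le_right, ?_, ?_⟩
  · intro k hk
    exact mem_normalizer_inf (Subgroup.le_normalizer (hKE hk)) (hMN (hKM hk))
  · rw [eq_bot_iff, ← hc.2.2.1]
    exact le_inf inf_le_left (inf_le_right.trans inf_le_left)
  · intro m hm
    obtain ⟨a, ha, b, hb, hab⟩ := hc.2.2.2 m (hNM hm)
    refine ⟨a, ha, b, ⟨hb, ?_⟩, hab⟩
    have h1 : b = a⁻¹ * m := by rw [hab]; group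
    rw [h1]
    exact N.mul_mem (N.inv_mem (hHN ha)) hm

end Cfsg.Agent.Helper50.BG16
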