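import Cfsg.Agent.Helper50.BG16B

/-!
# Bender--Glauberman section 16 (type characterisations), part C (helper50)

`κ(M) ≠ ∅` for a maximal subgroup of type P, and the construction of the type-P data
`(K, U', K*)` from the standard factorisation.  All inputs from the frozen statements of
Theorems A-E enter as hypotheses.
-/

set_option autoImplicit false
set_option linter.unusedVariables false
set_option linter.style.haveILetI false
set_option linter.unusedSectionVars false

namespace Cfsg.Agent.Helper50.BG16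

open Cfsg Subgroup Cfsg.Agent.Helper60.BGAsm Cfsg.Agent.Helper29.BG10
open scoped Pointwise

variable {G : Type*} [Group G] [Finite G]

/-- a prime divisor of `|W₁|`, for type-P data `(W₁, U', W₂)` of `M`, lies in `κ(M)` -/
theorem mem_kappa_of_typeP (hG : Cfsg.IsMinSimpleOddOrder G) {M : Subgroup G} (hM : IsCoatom M)
    {W₁ U' W₂ : Subgroup G} (hP : Cfsg.IsTypePWith M W₁ U' W₂)
    (hall : Cfsg.IsPiHallOf (Cfsg.sigma M) (Cfsg.sigmaCore M) M)
    (hHN : Cfsg.fittingHallOf M ≤ Cfsg.sigmaCore M) (hNM' : Cfsg.sigmaCore M ≤ ⁅M, M⁆)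
    {r : ℕ} (hr : r.Prime) (hrW : r ∣ Nat.card W₁) : r ∈ Cfsg.kappa M := by
  haveI : Fact r.Prime := ⟨hr⟩
  haveI : Group.IsSolvable ↥M := hG.2.2.2 M hM.1
  have hW₁M : W₁ ≤ M := hP.W₁_compl.2.1
  have hrel : Nat.card ↥⁅M, M⁆ = W₁.relIndex M := card_eq_relIndex_of_isComplIn hP.W₁_compl
  have hnd : ¬ r ∣ W₁.relIndex M := fun h =>
    hr.one_lt.ne' (Nat.eq_one_of_dvd_coprimes hP.W₁_hall hrW h)
  have hNM : Cfsg.sigmaCore M ≤ M := hall.1
  refine ⟨hr, hrW.trans (Subgroup.card_dvd_of_le hW₁M), ?_, ?_⟩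
  · intro hσ
    have h1 : r ∣ Nat.card (Cfsg.sigmaCore M) := by
      have h2 : r ∣ Nat.card (Cfsg.sigmaCore M) * (Cfsg.sigmaCore M).relIndex M := by
        rw [card_mul_relIndex_of_le hNM]
        exact hrW.trans (Subgroup.card_dvd_of_le hW₁M)
      rcases (Nat.Prime.dvd_mul hr).mp h2 with h | h
      · exact h
      · exact absurd h (hall.2.2 r hr hσ)
    apply hnd
    rw [← hrel]
    exact h1.trans (Subgroup.card_dvd_of_le hNM')
  · intro P
    have hcard : Nat.card ↥M = Nat.card W₁ * W₁.relIndex M := (card_mul_relIndex_of_le hW₁M).symm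
    have hW' : Nat.card (W₁.subgroupOf M) = Nat.card W₁ :=
      Nat.card_congr (Subgroup.subgroupOfEquivOfLe hW₁M).toEquiv
    have hPc : (Nat.card (P : Subgroup ↥M)).Coprime (W₁.relIndex M) := by
      obtain ⟨n, hn⟩ := IsPGroup.iff_card.mp P.2
      rw [hn]
      exact Nat.Coprime.pow_left n ((Nat.Prime.coprime_iff_not_dvd hr).mpr hnd)
    obtain ⟨g, hg⟩ := (Cfsg.Agent.Lib.hall_main _ ↥M rfl (Nat.card W₁) (W₁.relIndex M) hcard
      hP.W₁_hall).2 (W₁.subgroupOf M) (P : Subgroup ↥M) hW' hPc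
    constructor
    · haveI : IsCyclic W₁ := hP.W₁_cyclic
      haveI : IsCyclic (W₁.subgroupOf M) :=
        isCyclic_of_surjective (Subgroup.subgroupOfEquivOfLe hW₁M).symm.toMonoidHom
          (Subgroup.subgroupOfEquivOfLe hW₁M).symm.surjective
      haveI : IsCyclic ↥(MulAut.conj g • W₁.subgroupOf M) :=
        isCyclic_of_surjective (Subgroup.equivSMul (MulAut.conj g) (W₁.subgroupOf M)).toMonoidHom
          (Subgroup.equivSMul (MulAut.conj g) (W₁.subgroupOf M)).surjective
      exact Subgroup.isCyclic_of_le hg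
    · have hP1 : (P : Subgroup ↥M) ≠ ⊥ := by
        intro h
        have h1 := P.dvd_card_of_dvd_card (hrW.trans (Subgroup.card_dvd_of_le hW₁M))
        rw [h, Subgroup.card_bot] at h1
        exact hr.one_lt.ne' (Nat.dvd_one.mp h1)
      obtain ⟨x, hxP, hx1⟩ := (P : Subgroup ↥M).bot_or_exists_ne_one.resolve_left hP1
      obtain ⟨w, hw, hwx⟩ := hg hxP
      have hwx' : (x : G) = (g : G) * (w : G) * (g : G)⁻¹ := by
        have h2 := congrArg Subtype.val hwx
        simp only [MulDistribMulAction.toMonoidEnd_apply, MulDistribMulAction.toMonoidHom_apply,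
          MulAut.smul_def, MulAut.conj_apply, Subgroup.coe_mul, InvMemClass.coe_inv] at h2
        exact h2.symm
      have hwW : (w : G) ∈ W₁ := Subgroup.mem_subgroupOf.mp hw
      have hw1 : (w : G) ≠ 1 := by
        intro h
        apply hx1
        apply Subtype.ext
        rw [hwx', h]; simp
      obtain ⟨z, hz, hz1⟩ := W₂.bot_or_exists_ne_one.resolve_left hP.selfNormalizing.2.1
      have hzc : z ∈ ⁅M, M⁆ ⊓ Subgroup.centralizer ({(w : G)} : Set G) := by
        rw [hP.W₂_centralizer (w : G) hwW hw1]; exact hz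
      have hzw : (w : G) * z = z * (w : G) :=
        (Subgroup.mem_centralizer_iff.mp hzc.2) (w : G) (Set.mem_singleton _)
      have hzN : z ∈ Cfsg.sigmaCore M := hHN (hP.W₂_le hz).1
      refine ⟨x, hxP, hx1, (g : G) * z * (g : G)⁻¹, ?_, ?_, ?_⟩
      · exact (Subgroup.mem_normalizer_iff.mp (le_normalizer_sigmaCore M g.2) z).mp hzN
      · intro h
        apply hz1
        have : z = (g : G)⁻¹ * ((g : G) * z * (g : G)⁻¹) * (g : G) := by group
        rw [this, h]; group
      · rw [hwx']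
        calc (g : G) * (w : G) * (g : G)⁻¹ * ((g : G) * z * (g : G)⁻¹)
            = (g : G) * ((w : G) * z) * (g : G)⁻¹ := by group
          _ = (g : G) * (z * (w : G)) * (g : G)⁻¹ := by rw [hzw]
          _ = (g : G) * z * (g : G)⁻¹ * ((g : G) * (w : G) * (g : G)⁻¹) := by group

/-- a maximal subgroup of type P has `K ≠ 1` -/
theorem ne_bot_of_typeP (hG : Cfsg.IsMinSimpleOddOrder G) {M : Subgroup G} (hM : IsCoatom M)
    {W₁ U' W₂ : Subgroup G} (hP : Cfsg.IsTypePWith M W₁ U' W₂)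
    (hall : Cfsg.IsPiHallOf (Cfsg.sigma M) (Cfsg.sigmaCore M) M)
    (hHN : Cfsg.fittingHallOf M ≤ Cfsg.sigmaCore M) (hNM' : Cfsg.sigmaCore M ≤ ⁅M, M⁆)
    {K : Subgroup G} (hK : Cfsg.IsPiHallOf (Cfsg.kappa M) K M) : K ≠ ⊥ := by
  have hcard : Nat.card W₁ ≠ 1 := fun h => hP.W₁_ne (Subgroup.card_eq_one.mp h)
  obtain ⟨r, hr, hrW⟩ := Nat.exists_prime_and_dvd hcard
  have hκ := mem_kappa_of_typeP hG hM hP hall hHN hNM' hr hrW
  intro hKb
  have h1 : r ∣ Nat.card K * K.relIndex M := by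
    rw [card_mul_relIndex_of_le hK.1]; exact hκ.2.1
  rw [hKb, Subgroup.card_bot, one_mul] at h1
  rw [hKb] at hK
  exact hK.2.2 r hr hκ h1

end Cfsg.Agent.Helper50.BG16
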