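import Cfsg.Agent.Helper50.BG16E

/-!
# Bender--Glauberman section 16 (type characterisations), part F: Type V (helper50)

Statement S1383.  The non-TI case of `⇐` uses the trichotomy of B-G Theorem 15.7/15.8 (the last
conjunct of statement S1440), entering as the hypothesis `h1440`.
-/

set_option autoImplicit false
set_option linter.unusedVariables false
set_option linter.style.haveILetI false
set_option linter.unusedSectionVars false

namespace Cfsg.Agent.Helper50.BG16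

open Cfsg Subgroup Cfsg.Agent.Helper60.BGAsm Cfsg.Agent.Helper29.BG10
open scoped Pointwise commutatorElement

variable {G : Type*} [Group G] [Finite G] {M K U : Subgroup G}

/-- Type V implies `K ≠ 1`, `U = 1`, `M_F = M_σ` (statement S1383, `⇒`) -/
theorem of_isOfTypeV (hG : Cfsg.IsMinSimpleOddOrder G) (hM : IsCoatom M)
    (hKU : Cfsg.IsSigmaDecomposition M K U)
    (hall : Cfsg.IsPiHallOf (Cfsg.sigma M) (Cfsg.sigmaCore M) M)
    (hHN : Cfsg.fittingHallOf M ≤ Cfsg.sigmaCore M) (hNM' : Cfsg.sigmaCore M ≤ ⁅M, M⁆)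
    (hder : K ≠ ⊥ → ⁅M, M⁆ = U ⊔ Cfsg.sigmaCore M) (h : Cfsg.IsOfTypeV M) :
    K ≠ ⊥ ∧ U = ⊥ ∧ Cfsg.fittingHallOf M = Cfsg.sigmaCore M := by
  obtain ⟨W₁, U', W₂, hP, hU'b, -⟩ := h
  have hK1 := ne_bot_of_typeP hG hM hP hall hHN hNM' hKU.hall
  have hM'H : ⁅M, M⁆ ≤ Cfsg.fittingHallOf M := by
    intro m hm
    obtain ⟨a, ha, b, hb, rfl⟩ := hP.U_compl.2.2.2 m hm
    rw [hU'b, Subgroup.mem_bot] at hb
    rw [hb, mul_one]; exact ha
  refine ⟨hK1, ?_, le_antisymm hHN (hNM'.trans hM'H)⟩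
  rw [eq_bot_iff, ← hKU.compl.2.2.1]
  refine le_inf le_rfl ?_
  have h1 : U ≤ ⁅M, M⁆ := by rw [hder hK1]; exact le_sup_left
  exact (h1.trans (hM'H.trans hHN)).trans le_sup_right

/-- a prime of `σ(M)` divides `|M_σ|` -/
theorem dvd_card_sigmaCore_of_mem_sigma
    (hall : Cfsg.IsPiHallOf (Cfsg.sigma M) (Cfsg.sigmaCore M) M) {p : ℕ} (hp : p ∈ Cfsg.sigma M) :
    p ∣ Nat.card (Cfsg.sigmaCore M) := by
  have h2 : p ∣ Nat.card (Cfsg.sigmaCore M) * (Cfsg.sigmaCore M).relIndex M := by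
    rw [card_mul_relIndex_of_le hall.1]; exact hp.2.1
  rcases (Nat.Prime.dvd_mul hp.1).mp h2 with h | h
  · exact h
  · exact absurd h (hall.2.2 p hp.1 hp)

/-- `K ≠ 1`, `U = 1`, `M_F = M_σ` imply Type V (statement S1383, `⇐`) -/
theorem isOfTypeV_of (hG : Cfsg.IsMinSimpleOddOrder G) (hM : IsCoatom M)
    (hKU : Cfsg.IsSigmaDecomposition M K U) (hK1 : K ≠ ⊥) (hUb : U = ⊥) (f : KStarFacts M K U)
    (hHN : Cfsg.fittingHallOf M = Cfsg.sigmaCore M)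
    (h1440 : ∀ g : G, g ∉ M →
      Cfsg.fittingOf M ⊓ (Cfsg.fittingOf M).map (MulAut.conj g).toMonoidHom ≠ ⊥ →
      ((K = ⊥ ∧ IsMulCommutative (Cfsg.fittingHallOf M) ∧ Cfsg.RankLE 2 (Cfsg.fittingHallOf M) ∧ ¬ Cfsg.RankLE 1 (Cfsg.fittingHallOf M)) ∨
       (∃ p : ℕ, p.Prime ∧ Nat.card ↥(Cfsg.fittingOf M ⊓ (Cfsg.fittingOf M).map (MulAut.conj g).toMonoidHom) = p ∧ p ∈ Cfsg.sigma M ∧ p ∉ Cfsg.beta M ∧
          ¬ IsMulCommutative (Cfsg.pCore p ↥(Cfsg.fittingHallOf M)) ∧ IsCyclic (Cfsg.pPrimeCore p ↥(Cfsg.fittingHallOf M)) ∧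
          ∀ q : ℕ, q.Prime → q ∣ Nat.card (Cfsg.fittingHallOf M) → Monoid.exponent (↥M ⧸ Cfsg.fittingHall ↥M) ∣ q - 1) ∨
       (∃ p : ℕ, p.Prime ∧ Nat.card ↥(Cfsg.fittingOf M ⊓ (Cfsg.fittingOf M).map (MulAut.conj g).toMonoidHom) = p ∧ p ∈ Cfsg.sigma M ∧ p ∉ Cfsg.beta M ∧
          IsCyclic (Cfsg.pPrimeCore p ↥(Cfsg.fittingHallOf M)) ∧ Nat.card (Cfsg.pCore p ↥(Cfsg.fittingHallOf M)) = p ^ 3 ∧
          ¬ IsMulCommutative (Cfsg.pCore p ↥(Cfsg.fittingHallOf M)) ∧ K ≠ ⊥ ∧ U = ⊥ ∧ (Cfsg.fittingHallOf M).relIndex M ∣ p + 1))) :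
    Cfsg.IsOfTypeV M := by
  have hKM : K ≤ M := hKU.hall.1
  have hM'N : ⁅M, M⁆ = Cfsg.sigmaCore M := by rw [f.der_eq, hUb, bot_sup_eq]
  have hM'H : ⁅M, M⁆ = Cfsg.fittingHallOf M := hM'N.trans hHN.symm
  have hcompl1 : Cfsg.IsComplIn (Cfsg.fittingHallOf M) K M := by
    have := isComplIn_sup_K hKU f.hall
    rwa [hUb, bot_sup_eq, ← hHN] at this
  have hP : Cfsg.IsTypePWith M K ⊥ (Cfsg.sigmaCore M ⊓ Subgroup.centralizer (K : Set G)) := by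
    apply isTypePWith_of hKU hK1 f inferInstance
    · apply le_normalizer_of_forall_conj_mem
      intro g _ y hy
      rw [Subgroup.mem_bot] at hy
      rw [hy, mul_one, mul_inv_cancel]; exact Subgroup.one_mem _
    · rw [hM'H]
      exact ⟨le_rfl, bot_le, inf_bot_eq _, fun m hm => ⟨m, hm, 1, Subgroup.one_mem _, (mul_one m).symm⟩⟩
  refine ⟨K, ⊥, _, hP, rfl, ?_⟩
  by_cases hTI : Cfsg.IsTISubset (Cfsg.fittingHallOf M : Set G)
  · exact Or.inl hTI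
  right
  unfold Cfsg.IsTISubset at hTI
  push Not at hTI
  obtain ⟨g, hgn, x, hx, hgx, hx1⟩ := hTI
  have hgM : g ∉ M := fun h => hgn (le_normalizer_fittingHallOf' M h)
  have hHF : Cfsg.fittingHallOf M ≤ Cfsg.fittingOf M := by
    rw [f.fit_eq]; exact le_sup_right
  have hX : Cfsg.fittingOf M ⊓ (Cfsg.fittingOf M).map (MulAut.conj g).toMonoidHom ≠ ⊥ := by
    intro hb
    have h1 : g * x * g⁻¹ ∈ Cfsg.fittingOf M ⊓ (Cfsg.fittingOf M).map (MulAut.conj g).toMonoidHom :=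
      ⟨hHF hgx, ⟨x, hHF hx, rfl⟩⟩
    rw [hb, Subgroup.mem_bot] at h1
    apply hx1
    have h2 : x = g⁻¹ * (g * x * g⁻¹) * g := by group
    rw [h2, h1]; group
  have hpH : ∀ p : ℕ, p ∈ Cfsg.sigma M → p ∣ Nat.card (Cfsg.fittingHallOf M) := by
    intro p hp
    rw [hHN]; exact dvd_card_sigmaCore_of_mem_sigma f.hall hp
  rcases h1440 g hgM hX with h | ⟨p, hp, -, hpσ, -, -, hcyc, hexp⟩ |
    ⟨p, hp, -, hpσ, -, hcyc, hcard3, -, -, -, hrel⟩
  · exact absurd h.1 hK1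
  · left
    refine ⟨p, hp, hpH p hpσ, ?_, hcyc⟩
    refine dvd_trans ?_ (hexp p hp (hpH p hpσ))
    -- `K` embeds in `M / M_F`
    haveI : IsCyclic K := hKU.cyclic
    rw [← IsCyclic.exponent_eq_card (α := ↥K)]
    let φ : ↥K →* ↥M ⧸ Cfsg.fittingHall ↥M :=
      (QuotientGroup.mk' (Cfsg.fittingHall ↥M)).comp (Subgroup.inclusion hKM)
    apply Monoid.exponent_dvd_of_monoidHom φ
    rw [injective_iff_map_eq_one]
    intro k hk
    have h1 : Subgroup.inclusion hKM k ∈ Cfsg.fittingHall ↥M := by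
      have : (QuotientGroup.mk' (Cfsg.fittingHall ↥M)) (Subgroup.inclusion hKM k) = 1 := hk
      rwa [QuotientGroup.mk'_apply, QuotientGroup.eq_one_iff] at this
    have h2 : (k : G) ∈ Cfsg.fittingHallOf M ⊓ K :=
      ⟨⟨Subgroup.inclusion hKM k, h1, rfl⟩, k.2⟩
    rw [hcompl1.2.2.1, Subgroup.mem_bot] at h2
    exact Subtype.ext h2
  · right
    refine ⟨p, hp, hpH p hpσ, hcard3, ?_, hcyc⟩
    rw [card_right_eq_relIndex_of_isComplIn hcompl1]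
    exact hrel

end Cfsg.Agent.Helper50.BG16
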