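import Mathlib
import Cfsg.Prelude.Def_OddOrderLocal
import Cfsg.Agent.Helper50.BG16F
import Cfsg.Agent.Helper50.BG134
import Cfsg.Agent.S1403
import Cfsg.Agent.S1412
import Cfsg.Agent.S1420
import Cfsg.Agent.S1426
import Cfsg.Agent.S1454
import Cfsg.Agent.Helper55.BG108
import Cfsg.Agent.Helper25.PF8Lite3
import Cfsg.Agent.Helper60.BGAsmE
import Cfsg.Agent.Helper67.CyclicSub
import Cfsg.Agent.Helper35.BG153I
import Cfsg.Agent.Helper46.BG16X3
import Cfsg.Agent.Helper52.BG16CA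
import Cfsg.Agent.Helper10.BG16ND
import Cfsg.Agent.Helper10.BG16FC

/-!
# B-G section 16: the Type V trichotomy without Theorem 15.? (helper50)

Formalization of helper75's argument: for a maximal subgroup `M = M_σ K` of type P1 with
`M_F = M_σ`, either `M_F` is a TI-subset, or for a prime `p` the group `O_{p'}(M_F)` is cyclic and
`|K|` divides `p - 1`, or moreover `|O_p(M_F)| = p ^ 3` and `|K|` divides `p + 1`.
The inputs which are not yet available unconditionally are hypotheses (`h75`, `hdec`, `hks`).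
-/

set_option autoImplicit false
set_option linter.unusedVariables false
set_option linter.style.haveILetI false
set_option linter.unusedSectionVars false

namespace Cfsg.Agent.Helper50.BG16

open Cfsg Subgroup Cfsg.Agent.Helper29.BG10 Cfsg.Agent.Helper60.BGAsm
open scoped commutatorElement

variable {G : Type*} [Group G] [Finite G]

/-- `C_G(⟨x⟩) ≤ C_G(x)` -/
theorem centralizer_zpowers_le (x : G) :
    Subgroup.centralizer ((Subgroup.zpowers x : Subgroup G) : Set G) ≤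
      Subgroup.centralizer ({x} : Set G) :=
  Subgroup.centralizer_le (by
    intro y hy
    rw [Set.mem_singleton_iff] at hy
    rw [hy]
    exact Subgroup.mem_zpowers x)

/-- the first step: a non-TI `M_F = M_σ` contains an element `x` of prime order lying in another
conjugate of `M`, and then `C_G(x) ≰ M`. -/
theorem exists_bad_of_not_TI (hG : Cfsg.IsMinSimpleOddOrder G) {M : Subgroup G} (hM : IsCoatom M)
    (hHN : Cfsg.fittingHallOf M = Cfsg.sigmaCore M)
    (hTI : ¬ Cfsg.IsTISubset (Cfsg.fittingHallOf M : Set G)) :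
    ∃ (p : ℕ) (x g : G), p.Prime ∧ x ∈ Cfsg.sigmaCore M ∧ orderOf x = p ∧ g ∉ M ∧
      x ∈ M.map (MulAut.conj g).toMonoidHom ∧ ¬ Subgroup.centralizer ({x} : Set G) ≤ M := by
  have hU : UniquenessThm G := fun K hK hK2 hK3 => Cfsg.Agent.S1403.result hG K hK hK2 hK3
  unfold Cfsg.IsTISubset at hTI
  push Not at hTI
  obtain ⟨g, hgn, y, hy, hgy, hy1⟩ := hTI
  have hgM : g ∉ M := fun h => hgn (le_normalizer_fittingHallOf' M h)
  have hyo : orderOf y ≠ 1 := fun h => hy1 (orderOf_eq_one_iff.mp h)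
  obtain ⟨p, hp, hpd⟩ := Nat.exists_prime_and_dvd hyo
  have hy₀ : orderOf (y ^ (orderOf y / p)) = p :=
    orderOf_pow_orderOf_div (orderOf_pos y).ne' hpd
  have hxH : g * y ^ (orderOf y / p) * g⁻¹ ∈ Cfsg.fittingHallOf M := by
    have : g * y ^ (orderOf y / p) * g⁻¹ = (g * y * g⁻¹) ^ (orderOf y / p) := by
      rw [conj_pow]
    rw [this]
    exact Subgroup.pow_mem _ hgy _
  have hxo : orderOf (g * y ^ (orderOf y / p) * g⁻¹) = p := by
    exact (MulEquiv.orderOf_eq (MulAut.conj g) (y ^ (orderOf y / p))).trans hy₀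
  have hxσ : g * y ^ (orderOf y / p) * g⁻¹ ∈ Cfsg.sigmaCore M := hHN ▸ hxH
  have hxg : g * y ^ (orderOf y / p) * g⁻¹ ∈ M.map (MulAut.conj g).toMonoidHom :=
    ⟨y ^ (orderOf y / p), fittingHallOf_le_self M (Subgroup.pow_mem _ hy _), rfl⟩
  refine ⟨p, _, g, hp, hxσ, hxo, hgM, hxg, ?_⟩
  haveI : Fact p.Prime := ⟨hp⟩
  have hx1 : g * y ^ (orderOf y / p) * g⁻¹ ≠ 1 := by
    intro h
    rw [h, orderOf_one] at hxo
    exact hp.one_lt.ne hxo
  have hkey := Cfsg.Agent.Helper50.BG13.centralizer_not_le_of_le_conj hG hU M hM hgM p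
    (Subgroup.zpowers (g * y ^ (orderOf y / p) * g⁻¹))
    (by
      apply IsPGroup.of_card (n := 1)
      rw [Nat.card_zpowers, hxo, pow_one])
    (by
      intro h
      apply hx1
      have := Subgroup.mem_zpowers (g * y ^ (orderOf y / p) * g⁻¹)
      rw [h, Subgroup.mem_bot] at this
      exact this)
    (Subgroup.zpowers_le.mpr hxσ) (Subgroup.zpowers_le.mpr hxg)
  intro h
  apply hkey
  intro c hc
  apply h
  rw [Subgroup.mem_centralizer_iff] at hc ⊢
  intro z hz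
  rw [Set.mem_singleton_iff] at hz
  rw [hz]
  exact hc _ (Subgroup.mem_zpowers _)

/-- `[QC, QC] ≤ [Q, Q]` when `C` is abelian and centralizes `Q` -/
theorem commutator_sup_le {Q C : Subgroup G} (hcomm : ∀ a ∈ Q, ∀ b ∈ C, a * b = b * a)
    (hC : IsMulCommutative C) : ⁅Q ⊔ C, Q ⊔ C⁆ ≤ ⁅Q, Q⁆ := by
  have hCc : ∀ b ∈ C, ∀ b' ∈ C, b * b' = b' * b := fun b hb b' hb' => by
    have := hC.is_comm.comm (⟨b, hb⟩ : C) ⟨b', hb'⟩
    exact congrArg Subtype.val this
  -- elements of `C` are central in `Q ⊔ C`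
  have hcent : ∀ b ∈ C, ∀ z ∈ Q ⊔ C, b * z = z * b := by
    intro b hb z hz
    obtain ⟨a, ha, b', hb', rfl⟩ := (mem_sup_of_commute hcomm).mp hz
    calc b * (a * b') = (b * a) * b' := by group
      _ = (a * b) * b' := by rw [hcomm a ha b hb]
      _ = a * (b * b') := by group
      _ = a * (b' * b) := by rw [hCc b hb b' hb']
      _ = a * b' * b := by group
  rw [Subgroup.commutator_le]
  intro g₁ hg₁ g₂ hg₂
  obtain ⟨a₁, ha₁, b₁, hb₁, rfl⟩ := (mem_sup_of_commute hcomm).mp hg₁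
  obtain ⟨a₂, ha₂, b₂, hb₂, rfl⟩ := (mem_sup_of_commute hcomm).mp hg₂
  have h1 : ⁅a₁ * b₁, a₂ * b₂⁆ = ⁅a₁, a₂⁆ := by
    have e1 : b₁ * (a₂ * b₂) = (a₂ * b₂) * b₁ := hcent b₁ hb₁ _ hg₂
    have e2 : b₂ * a₁⁻¹ = a₁⁻¹ * b₂ :=
      hcent b₂ hb₂ _ (Subgroup.mem_sup_left (Q.inv_mem ha₁))
    rw [commutatorElement_def, commutatorElement_def]
    calc a₁ * b₁ * (a₂ * b₂) * (a₁ * b₁)⁻¹ * (a₂ * b₂)⁻¹
        = a₁ * (b₁ * (a₂ * b₂)) * b₁⁻¹ * a₁⁻¹ * (a₂ * b₂)⁻¹ := by group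
      _ = a₁ * ((a₂ * b₂) * b₁) * b₁⁻¹ * a₁⁻¹ * (a₂ * b₂)⁻¹ := by rw [e1]
      _ = a₁ * a₂ * (b₂ * a₁⁻¹) * b₂⁻¹ * a₂⁻¹ := by group
      _ = a₁ * a₂ * (a₁⁻¹ * b₂) * b₂⁻¹ * a₂⁻¹ := by rw [e2]
      _ = a₁ * a₂ * a₁⁻¹ * a₂⁻¹ := by group
  rw [h1]
  exact Subgroup.commutator_mem_commutator ha₁ ha₂

/-- the statement-shaped conclusion of S1375 for an element `x` -/
def Concl1375 (M : Subgroup G) (x : G) : Prop :=
  ∃ N : Subgroup G, (IsCoatom N ∧ Subgroup.centralizer ({x} : Set G) ≤ N) ∧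
    (∀ L : Subgroup G, IsCoatom L → Subgroup.centralizer ({x} : Set G) ≤ L → L = N) ∧
    Cfsg.sigmaCore N = Cfsg.fittingHallOf N ∧
    Subgroup.centralizer ({x} : Set G) ≤ Subgroup.normalizer
      ((Cfsg.sigmaCore N ⊓ Subgroup.centralizer ({x} : Set G) : Subgroup G) : Set G) ∧
    Cfsg.IsComplIn (M ⊓ Subgroup.centralizer ({x} : Set G))
      (Cfsg.sigmaCore N ⊓ Subgroup.centralizer ({x} : Set G)) (Subgroup.centralizer ({x} : Set G)) ∧
    Cfsg.IsComplIn (M ⊓ N) (Cfsg.sigmaCore N) N ∧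
    ∀ K' U' : Subgroup G, Cfsg.IsSigmaDecomposition N K' U' →
      U' ≠ ⊥ ∧ x ∈ Cfsg.sigmaA N U' ∧ x ∉ Cfsg.sigmaCore N

/-- the statement-shaped conclusion of S1432 for a maximal subgroup `N` -/
def Concl1432 (N : Subgroup G) : Prop :=
  ∀ x ∈ Cfsg.sigmaCore N, x ≠ 1 → ∀ x' ∈ N ⊓ Subgroup.centralizer ({x} : Set G), x' ≠ 1 →
    (∀ p : ℕ, p.Prime → p ∣ orderOf x' → p ∉ Cfsg.sigma N) →
    ((∀ p : ℕ, p.Prime → p ∣ orderOf x' → p ∈ Cfsg.kappa N) ∧
        Subgroup.centralizer ({x} : Set G) ≤ N) ∨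
      ((∀ p : ℕ, p.Prime → p ∣ orderOf x' → p ∈ Cfsg.tau2 N) ∧
        (∃ L : Subgroup G, IsCoatom L ∧ ∀ p : ℕ, p.Prime → p ∣ orderOf x' → p ∈ Cfsg.sigma L) ∧
        (Subgroup.centralizer ({x'} : Set G) ≤ N ∧ ∀ L : Subgroup G, IsCoatom L →
          Subgroup.centralizer ({x'} : Set G) ≤ L → L = N))

/-- the core of helper75's argument: structure of `M_F = Q × C` in the non-TI case -/
theorem nonTI_core (hG : Cfsg.IsMinSimpleOddOrder G) {M K U : Subgroup G} (hM : IsCoatom M)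
    (hKU : Cfsg.IsSigmaDecomposition M K U) (hK1 : K ≠ ⊥) (hUb : U = ⊥) (f : KStarFacts M K U)
    (hHN : Cfsg.fittingHallOf M = Cfsg.sigmaCore M)
    (h75 : ∀ x ∈ Cfsg.sigmaCore M, x ≠ 1 → ¬ Subgroup.centralizer ({x} : Set G) ≤ M → Concl1375 M x)
    (hdec : ∀ N : Subgroup G, IsCoatom N → ∃ K' U' : Subgroup G, Cfsg.IsSigmaDecomposition N K' U')
    (hks : ∀ N K' U' : Subgroup G, IsCoatom N → Cfsg.IsSigmaDecomposition N K' U' → K' ≠ ⊥ →
      KStarFacts N K' U')
    (h32 : ∀ N : Subgroup G, IsCoatom N → Concl1432 N)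
    (hTI : ¬ Cfsg.IsTISubset (Cfsg.fittingHallOf M : Set G)) :
    ∃ p : ℕ, p.Prime ∧ p ∣ Nat.card (Cfsg.fittingHallOf M) ∧ p ∉ Cfsg.beta M ∧
      IsCyclic ↥((Cfsg.pPrimeCore p ↥(Cfsg.fittingHallOf M)).map (Cfsg.fittingHallOf M).subtype) ∧
      ¬ IsMulCommutative ↥((Cfsg.pCore p ↥(Cfsg.fittingHallOf M)).map (Cfsg.fittingHallOf M).subtype) ∧
      Cfsg.sigmaCore M ⊓ Subgroup.centralizer (K : Set G) ≤
        ⁅(Cfsg.pCore p ↥(Cfsg.fittingHallOf M)).map (Cfsg.fittingHallOf M).subtype,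
          (Cfsg.pCore p ↥(Cfsg.fittingHallOf M)).map (Cfsg.fittingHallOf M).subtype⁆ := by
  classical
  have hU : UniquenessThm G := fun K hK hK2 hK3 => Cfsg.Agent.S1403.result hG K hK hK2 hK3
  have hHnil : Group.IsNilpotent ↥(Cfsg.fittingHallOf M) := fittingHallOf_isNilpotent M
  have hHM : Cfsg.fittingHallOf M ≤ M := fittingHallOf_le_self M
  obtain ⟨p, x, g, hp, hxσ, hxo, hgM, hxg, hCx⟩ := exists_bad_of_not_TI hG hM hHN hTI
  haveI : Fact p.Prime := ⟨hp⟩
  have hxH : x ∈ Cfsg.fittingHallOf M := by rw [hHN]; exact hxσ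
  have hx1 : x ≠ 1 := by
    intro h
    rw [h, orderOf_one] at hxo
    exact hp.one_lt.ne hxo
  have hpH : p ∣ Nat.card (Cfsg.fittingHallOf M) := by
    have := orderOf_dvd_natCard (⟨x, hxH⟩ : Cfsg.fittingHallOf M)
    rwa [Subgroup.orderOf_mk, hxo] at this
  obtain ⟨hQC, hdisj, hcomm, hQp, hCp, hQel, hNQ, hNC⟩ :=
    Cfsg.Agent.Helper10.BG16ND.nilpotent_pCore_decomp p (Cfsg.fittingHallOf M) hHnil
  set Q := (Cfsg.pCore p ↥(Cfsg.fittingHallOf M)).map (Cfsg.fittingHallOf M).subtype with hQdef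
  set C := (Cfsg.pPrimeCore p ↥(Cfsg.fittingHallOf M)).map (Cfsg.fittingHallOf M).subtype
    with hCdef
  have hQH : Q ≤ Cfsg.fittingHallOf M := by rw [← hQC]; exact le_sup_left
  have hCH : C ≤ Cfsg.fittingHallOf M := by rw [← hQC]; exact le_sup_right
  have hxQ : x ∈ Q := hQel x hxH ⟨1, by rw [pow_one, ← hxo, pow_orderOf_eq_one]⟩
  -- the maximal subgroup `N`
  obtain ⟨N, ⟨hN, hCN⟩, hNuniq, -, hRn, hRc, hEN, hdecN⟩ := h75 x hxσ hx1 hCx
  obtain ⟨K', U', hKU'⟩ := hdec N hN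
  obtain ⟨-, -, hxN⟩ := hdecN K' U' hKU'
  have hallN : Cfsg.IsPiHallOf (Cfsg.sigma N) (Cfsg.sigmaCore N) N := (thm_10_2_sigma hG hU N hN).1
  have hxcent : x ∈ Subgroup.centralizer ({x} : Set G) := by
    rw [Subgroup.mem_centralizer_iff]
    intro y hy
    rw [Set.mem_singleton_iff] at hy
    rw [hy]
  have hxN' : x ∈ N := hCN hxcent
  have hpσN : p ∉ Cfsg.sigma N := by
    intro h
    apply hxN
    apply Cfsg.Agent.Helper25.PF8.mem_sigmaCore_of_primes hallN hxN'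
    intro r hr hrd
    rw [hxo] at hrd
    rw [(Nat.prime_dvd_prime_iff_eq hr hp).mp hrd]
    exact h
  have hENσ : ∀ q : ℕ, q.Prime → q ∣ Nat.card ↥(M ⊓ N) → q ∉ Cfsg.sigma N := by
    intro q hq hqd hqσ
    rw [card_eq_relIndex_of_isComplIn hEN] at hqd
    exact hallN.2.2 q hq hqσ hqd
  have h20 := (Cfsg.Agent.S1420.result hG N hN (M ⊓ N) hEN).1
  have hMCN : M ⊓ Subgroup.centralizer ({x} : Set G) ≤ M ⊓ N := inf_le_inf_left M hCN
  have hCcent : C ≤ Subgroup.centralizer ({x} : Set G) := by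
    intro c hc
    rw [Subgroup.mem_centralizer_iff]
    intro y hy
    rw [Set.mem_singleton_iff] at hy
    rw [hy]
    exact hcomm x hxQ c hc
  have hCMN : C ≤ M ⊓ N := (le_inf (hCH.trans hHM) hCcent).trans hMCN
  have hCab : IsMulCommutative C := by
    apply h20 C (hCMN.trans inf_le_right)
      (Cfsg.Agent.Helper35.BG153.isNilpotent_of_le' hCH hHnil)
    intro q hq hqd
    exact hENσ q hq (hqd.trans (Subgroup.card_dvd_of_le hCMN))
  -- `K* ≤ [Q, Q]`
  have hder : ⁅M, M⁆ = Cfsg.fittingHallOf M := by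
    rw [f.der_eq, hUb, bot_sup_eq, hHN]
  have hKst : Cfsg.sigmaCore M ⊓ Subgroup.centralizer (K : Set G) ≤ ⁅Q, Q⁆ := by
    have h1 := f.ks_le_der2
    rw [hder, ← hQC] at h1
    exact h1.trans (commutator_sup_le hcomm hCab)
  have hQna : ¬ IsMulCommutative Q := by
    intro h
    apply f.ks_ne
    rw [eq_bot_iff]
    refine hKst.trans ?_
    rw [Subgroup.commutator_eq_bot_iff_le_centralizer.mpr]
    intro a ha
    rw [Subgroup.mem_centralizer_iff]
    intro b hb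
    have := h.is_comm.comm (⟨b, hb⟩ : Q) ⟨a, ha⟩
    exact congrArg Subtype.val this
  have hQN_abs : ¬ Q ≤ N := by
    intro hQN
    apply hQna
    apply h20 Q hQN hQp.isNilpotent
    intro q hq hqd
    obtain ⟨k, hk⟩ := IsPGroup.iff_card.mp hQp
    rw [hk] at hqd
    rw [(Nat.prime_dvd_prime_iff_eq hq hp).mp (hq.dvd_of_dvd_pow hqd)]
    exact hpσN
  have hxnc : ¬ ∀ a ∈ Q, a * x = x * a := by
    intro h
    apply hQN_abs
    refine (le_inf (hQH.trans hHM) ?_ : Q ≤ M ⊓ Subgroup.centralizer ({x} : Set G)).trans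
      (hMCN.trans inf_le_right)
    intro a ha
    rw [Subgroup.mem_centralizer_iff]
    intro y hy
    rw [Set.mem_singleton_iff] at hy
    rw [hy]
    exact (h a ha).symm
  -- a central element `z` of order `p` of `Q`
  haveI : Nontrivial ↥Q := ⟨⟨⟨x, hxQ⟩, 1, fun h => hx1 (congrArg Subtype.val h)⟩⟩
  haveI : Nontrivial ↥(Subgroup.center ↥Q) := hQp.center_nontrivial
  have hpc : p ∣ Nat.card ↥(Subgroup.center ↥Q) := by
    obtain ⟨k, hk⟩ := IsPGroup.iff_card.mp (hQp.to_subgroup (Subgroup.center ↥Q))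
    have hk0 : k ≠ 0 := by
      rintro rfl
      have h1 : 1 < Nat.card ↥(Subgroup.center ↥Q) := Finite.one_lt_card
      rw [hk, pow_zero] at h1
      exact lt_irrefl _ h1
    rw [hk]
    exact dvd_pow_self p hk0
  obtain ⟨z', hz'⟩ := exists_prime_orderOf_dvd_card' (G := ↥(Subgroup.center ↥Q)) p hpc
  have hzo : orderOf (((z' : ↥Q) : G)) = p := by
    rw [Subgroup.orderOf_coe, Subgroup.orderOf_coe]; exact hz'
  have hzQ : ((z' : ↥Q) : G) ∈ Q := (z' : ↥Q).2
  have hzc : ∀ a ∈ Q, a * ((z' : ↥Q) : G) = ((z' : ↥Q) : G) * a := by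
    intro a ha
    have := Subgroup.mem_center_iff.mp z'.2 ⟨a, ha⟩
    exact congrArg Subtype.val this
  have hxz : x ∉ Subgroup.zpowers (((z' : ↥Q) : G)) := by
    intro h
    apply hxnc
    intro a ha
    obtain ⟨n, hn⟩ := Subgroup.mem_zpowers_iff.mp h
    rw [← hn]
    have hc : Commute a (((z' : ↥Q) : G)) := hzc a ha
    exact (hc.zpow_right n).eq
  -- `C` is cyclic
  have hR1 : Cfsg.sigmaCore N ⊓ Subgroup.centralizer ({x} : Set G) ≠ ⊥ := by
    intro hb
    apply hCx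
    intro c hc
    obtain ⟨a, ha, b, hb', rfl⟩ := hRc.2.2.2 c hc
    rw [hb, Subgroup.mem_bot] at hb'
    rw [hb', mul_one]
    exact ha.1
  have hCcyc : IsCyclic ↥C := by
    apply Cfsg.Agent.Helper10.BG16FC.isCyclic_of_fpf_of_comm_subgroup
      (Cfsg.sigmaCore N ⊓ Subgroup.centralizer ({x} : Set G)) C (hCcent.trans hRn) hR1
      (hG.1.of_dvd_nat (Subgroup.card_subgroup_dvd_card C)) hCab
    intro c hc hc1 y hy hy1 hcy
    have hco : orderOf c ≠ 1 := fun h => hc1 (orderOf_eq_one_iff.mp h)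
    obtain ⟨s, hs, hsd⟩ := Nat.exists_prime_and_dvd hco
    have hc₀o : orderOf (c ^ (orderOf c / s)) = s :=
      orderOf_pow_orderOf_div (orderOf_pos c).ne' hsd
    have hc₀C : c ^ (orderOf c / s) ∈ C := Subgroup.pow_mem _ hc _
    have hc₀1 : c ^ (orderOf c / s) ≠ 1 := by
      intro h
      rw [h, orderOf_one] at hc₀o
      exact hs.one_lt.ne hc₀o
    have hc₀y : c ^ (orderOf c / s) * y = y * c ^ (orderOf c / s) :=
      ((show Commute c y from hcy).pow_left _).eq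
    have hc₀N : c ^ (orderOf c / s) ∈ N ⊓ Subgroup.centralizer ({y} : Set G) := by
      refine ⟨(hCMN hc₀C).2, ?_⟩
      show c ^ (orderOf c / s) ∈ Subgroup.centralizer ({y} : Set G)
      rw [Subgroup.mem_centralizer_iff]
      intro w hw
      rw [Set.mem_singleton_iff] at hw
      rw [hw]
      exact hc₀y.symm
    have hsC : s ∣ Nat.card ↥C := by
      have := orderOf_dvd_natCard (⟨c ^ (orderOf c / s), hc₀C⟩ : C)
      rwa [Subgroup.orderOf_mk, hc₀o] at this
    have hsσ : s ∉ Cfsg.sigma N := hENσ s hs (hsC.trans (Subgroup.card_dvd_of_le hCMN))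
    have hprimes : ∀ q : ℕ, q.Prime → q ∣ orderOf (c ^ (orderOf c / s)) → q ∉ Cfsg.sigma N := by
      intro q hq hqd
      rw [hc₀o] at hqd
      rw [(Nat.prime_dvd_prime_iff_eq hq hs).mp hqd]
      exact hsσ
    have hxc₀ : x * c ^ (orderOf c / s) = c ^ (orderOf c / s) * x := hcomm x hxQ _ hc₀C
    rcases h32 N hN y hy.1 hy1 _ hc₀N hc₀1 hprimes with ⟨hκ, -⟩ | ⟨-, -, hCc₀, -⟩
    · -- `s ∈ κ(N)`
      have hsκ : s ∈ Cfsg.kappa N := hκ s hs (by rw [hc₀o])
      have hsK' : s ∣ Nat.card K' := by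
        have h1 : s ∣ Nat.card N := hsκ.2.1
        rw [← card_mul_relIndex_of_le hKU'.hall.1] at h1
        rcases (Nat.Prime.dvd_mul hs).mp h1 with h | h
        · exact h
        · exact absurd h (hKU'.hall.2.2 s hs hsκ)
      have hK'1 : K' ≠ ⊥ := by
        rintro rfl
        rw [Subgroup.card_bot] at hsK'
        exact hs.one_lt.ne' (Nat.dvd_one.mp hsK')
      have hpow : (c ^ (orderOf c / s)) ^ Nat.card K' = 1 := by
        apply orderOf_dvd_iff_pow_eq_one.mp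
        rw [hc₀o]; exact hsK'
      obtain ⟨n, hn, c', hc', hcc'⟩ := exists_conj_mem_K hG hN hKU'.hall hc₀N.1 hpow
      have hc'1 : c' ≠ 1 := by
        rintro rfl
        apply hc₀1
        rw [hcc']; group
      have fN := hks N K' U' hN hKU' hK'1
      have hcent := fN.cent c' hc' hc'1
      have hcyc : IsCyclic ↥(K' ⊔ (Cfsg.sigmaCore N ⊓ Subgroup.centralizer (K' : Set G))) :=
        isCyclic_sup_of_commute hKU'.cyclic fN.ks_cyclic
          (fun a ha b hb => (Subgroup.mem_centralizer_iff.mp hb.2) a ha)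
          (by
            apply Nat.coprime_of_dvd
            intro q hq hq1 hq2
            have h1 : q ∈ Cfsg.kappa N := hKU'.hall.2.1 q hq hq1
            exact h1.2.2.1 (hallN.2.1 q hq (hq2.trans (Subgroup.card_dvd_of_le inf_le_left))))
      -- conjugates of `x` and `z` lie in the cyclic group `C_N(c')`
      have hmem : ∀ w : G, w ∈ N → w * c ^ (orderOf c / s) = c ^ (orderOf c / s) * w →
          n⁻¹ * w * n ∈ K' ⊔ (Cfsg.sigmaCore N ⊓ Subgroup.centralizer (K' : Set G)) := by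
        intro w hwN hwc
        rw [← hcent]
        refine ⟨N.mul_mem (N.mul_mem (N.inv_mem hn) hwN) hn, ?_⟩
        show n⁻¹ * w * n ∈ Subgroup.centralizer ({c'} : Set G)
        rw [Subgroup.mem_centralizer_iff]
        intro v hv
        rw [Set.mem_singleton_iff] at hv
        rw [hv]
        have hc'eq : c' = n⁻¹ * c ^ (orderOf c / s) * n := by rw [hcc']; group
        rw [hc'eq]
        calc n⁻¹ * c ^ (orderOf c / s) * n * (n⁻¹ * w * n)
            = n⁻¹ * (c ^ (orderOf c / s) * w) * n := by group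
          _ = n⁻¹ * (w * c ^ (orderOf c / s)) * n := by rw [hwc]
          _ = n⁻¹ * w * n * (n⁻¹ * c ^ (orderOf c / s) * n) := by group
      have hzN : ((z' : ↥Q) : G) ∈ N := by
        apply hCN
        rw [Subgroup.mem_centralizer_iff]
        intro w hw
        rw [Set.mem_singleton_iff] at hw
        rw [hw]
        exact (hzc x hxQ)
      have hx' := hmem x hxN' hxc₀
      have hz'' := hmem _ hzN (hcomm _ hzQ _ hc₀C)
      have hox : orderOf (n⁻¹ * x * n) = p := by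
        have := MulEquiv.orderOf_eq (MulAut.conj n⁻¹) x
        rw [MulAut.conj_apply, inv_inv] at this
        rw [this, hxo]
      have hoz : orderOf (n⁻¹ * ((z' : ↥Q) : G) * n) = p := by
        have := MulEquiv.orderOf_eq (MulAut.conj n⁻¹) ((z' : ↥Q) : G)
        rw [MulAut.conj_apply, inv_inv] at this
        rw [this, hzo]
      haveI := hcyc
      have heq : Subgroup.zpowers (n⁻¹ * x * n) = Subgroup.zpowers (n⁻¹ * ((z' : ↥Q) : G) * n) := by
        apply Cfsg.Agent.Helper67.eq_of_card_eq_of_le_cyclic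
          (K' ⊔ (Cfsg.sigmaCore N ⊓ Subgroup.centralizer (K' : Set G)))
        · exact Subgroup.zpowers_le.mpr hx'
        · exact Subgroup.zpowers_le.mpr hz''
        · rw [Nat.card_zpowers, Nat.card_zpowers, hox, hoz]
      have h1 : n⁻¹ * x * n ∈ Subgroup.zpowers (n⁻¹ * ((z' : ↥Q) : G) * n) := by
        rw [← heq]; exact Subgroup.mem_zpowers _
      obtain ⟨j, hj⟩ := Subgroup.mem_zpowers_iff.mp h1
      apply hxz
      rw [Subgroup.mem_zpowers_iff]
      refine ⟨j, ?_⟩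
      have e1 : (n⁻¹ * ((z' : ↥Q) : G) * n) ^ j = n⁻¹ * ((z' : ↥Q) : G) ^ j * n := by
        have := (MulAut.conj n⁻¹).toMonoidHom.map_zpow ((z' : ↥Q) : G) j
        simp only [MulEquiv.coe_toMonoidHom, MulAut.conj_apply, inv_inv] at this
        exact this.symm
      rw [e1] at hj
      have : ((z' : ↥Q) : G) ^ j = n * (n⁻¹ * ((z' : ↥Q) : G) ^ j * n) * n⁻¹ := by group
      rw [this, hj]; group
    · -- `C_G(c₀) ≤ N`, so `Q ≤ N`
      apply hQN_abs
      intro a ha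
      apply hCc₀
      rw [Subgroup.mem_centralizer_iff]
      intro w hw
      rw [Set.mem_singleton_iff] at hw
      rw [hw]
      exact (hcomm a ha _ hc₀C).symm
  -- `p ∉ β(M)`
  have hcomplK : Cfsg.IsComplIn K (Cfsg.sigmaCore M) M := by
    have h1 := isComplIn_sup_K hKU f.hall
    rw [hUb, bot_sup_eq] at h1
    exact IsComplIn_symm_of_normal h1 (hKU.hall.1.trans
      (Cfsg.Agent.Helper60.BGAsm.le_normalizer_sigmaCore M))
  have hpβ : p ∉ Cfsg.beta M := by
    apply ((Cfsg.Agent.S1426.result hG M hM K hcomplK).2.2 g hgM).2.1 p hp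
    have hmem : x ∈ Cfsg.sigmaCore M ⊓ M.map (MulAut.conj g).toMonoidHom := ⟨hxσ, hxg⟩
    have h2 : orderOf (⟨x, hmem⟩ : ↥(Cfsg.sigmaCore M ⊓ M.map (MulAut.conj g).toMonoidHom)) = p :=
      (Subgroup.orderOf_coe
        (⟨x, hmem⟩ : ↥(Cfsg.sigmaCore M ⊓ M.map (MulAut.conj g).toMonoidHom))).symm.trans hxo
    rw [← h2]
    exact orderOf_dvd_natCard _
  exact ⟨p, hp, hpH, hpβ, hCcyc, hQna, hKst⟩

/-- **The Type V trichotomy** for `M = M_σ K` with `M_F = M_σ` not a TI-subset (helper75's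
argument): either `|K|` divides `p - 1`, or `|O_p(M_F)| = p ^ 3` and `|K|` divides `p + 1`; in both
cases `O_{p'}(M_F)` is cyclic. -/
theorem typeV_nonTI (hG : Cfsg.IsMinSimpleOddOrder G) {M K U : Subgroup G} (hM : IsCoatom M)
    (hKU : Cfsg.IsSigmaDecomposition M K U) (hK1 : K ≠ ⊥) (hUb : U = ⊥) (f : KStarFacts M K U)
    (hHN : Cfsg.fittingHallOf M = Cfsg.sigmaCore M)
    (h75 : ∀ x ∈ Cfsg.sigmaCore M, x ≠ 1 → ¬ Subgroup.centralizer ({x} : Set G) ≤ M → Concl1375 M x)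
    (hdec : ∀ N : Subgroup G, IsCoatom N → ∃ K' U' : Subgroup G, Cfsg.IsSigmaDecomposition N K' U')
    (hks : ∀ N K' U' : Subgroup G, IsCoatom N → Cfsg.IsSigmaDecomposition N K' U' → K' ≠ ⊥ →
      KStarFacts N K' U')
    (h32 : ∀ N : Subgroup G, IsCoatom N → Concl1432 N)
    (hTI : ¬ Cfsg.IsTISubset (Cfsg.fittingHallOf M : Set G)) :
    (∃ p : ℕ, p.Prime ∧ p ∣ Nat.card (Cfsg.fittingHallOf M) ∧ Nat.card K ∣ p - 1 ∧
        IsCyclic (Cfsg.pPrimeCore p (Cfsg.fittingHallOf M))) ∨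
      (∃ p : ℕ, p.Prime ∧ p ∣ Nat.card (Cfsg.fittingHallOf M) ∧
        Nat.card (Cfsg.pCore p (Cfsg.fittingHallOf M)) = p ^ 3 ∧
        Nat.card K ∣ p + 1 ∧ IsCyclic (Cfsg.pPrimeCore p (Cfsg.fittingHallOf M))) := by
  classical
  have hU : UniquenessThm G := fun K hK hK2 hK3 => Cfsg.Agent.S1403.result hG K hK hK2 hK3
  obtain ⟨p, hp, hpH, hpβ, hCcyc, hQna, hKst⟩ :=
    nonTI_core hG hM hKU hK1 hUb f hHN h75 hdec hks h32 hTI
  haveI : Fact p.Prime := ⟨hp⟩
  have hHnil : Group.IsNilpotent ↥(Cfsg.fittingHallOf M) := fittingHallOf_isNilpotent M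
  have hHM : Cfsg.fittingHallOf M ≤ M := fittingHallOf_le_self M
  obtain ⟨hQC, hdisj, hcomm, hQp, hCp, hQel, hNQ, hNC⟩ :=
    Cfsg.Agent.Helper10.BG16ND.nilpotent_pCore_decomp p (Cfsg.fittingHallOf M) hHnil
  set Q := (Cfsg.pCore p ↥(Cfsg.fittingHallOf M)).map (Cfsg.fittingHallOf M).subtype with hQdef
  set C := (Cfsg.pPrimeCore p ↥(Cfsg.fittingHallOf M)).map (Cfsg.fittingHallOf M).subtype
    with hCdef
  have hQH : Q ≤ Cfsg.fittingHallOf M := by rw [← hQC]; exact le_sup_left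
  have hKM : K ≤ M := hKU.hall.1
  -- `O_{p'}(M_F)` is cyclic
  have hcyc' : IsCyclic ↥(Cfsg.pPrimeCore p ↥(Cfsg.fittingHallOf M)) := by
    haveI := hCcyc
    let e := Subgroup.equivMapOfInjective (Cfsg.pPrimeCore p ↥(Cfsg.fittingHallOf M))
      (Cfsg.fittingHallOf M).subtype (Subgroup.subtype_injective _)
    exact isCyclic_of_surjective e.symm e.symm.surjective
  have hcardQ : Nat.card ↥(Cfsg.pCore p ↥(Cfsg.fittingHallOf M)) = Nat.card ↥Q :=
    (Subgroup.card_map_of_injective (Subgroup.subtype_injective _)).symm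
  have hKQ : K ≤ Subgroup.normalizer (Q : Set G) :=
    hKM.trans ((le_normalizer_fittingHallOf' M).trans hNQ)
  have hp2 : p ≠ 2 := by
    rintro rfl
    have h2 : 2 ∣ Nat.card G := hpH.trans (Subgroup.card_subgroup_dvd_card _)
    exact (Nat.not_even_iff_odd.mpr hG.1) (even_iff_two_dvd.mpr h2)
  have hpσ : p ∣ Nat.card ↥(Cfsg.sigmaCore M) := by rw [← hHN]; exact hpH
  have hcop : (Nat.card K).Coprime p := by
    have h1 := coprime_card_sup_K hKU f.hall
    have h2 : p ∣ Nat.card ↥(U ⊔ Cfsg.sigmaCore M) :=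
      hpσ.trans (Subgroup.card_dvd_of_le le_sup_right)
    exact (Nat.Coprime.coprime_dvd_left h2 h1).symm
  have hKodd : Odd (Nat.card K) := hG.1.of_dvd_nat (Subgroup.card_subgroup_dvd_card K)
  -- `K ∩ M_σ = 1`
  have hKσ : K ⊓ Cfsg.sigmaCore M = ⊥ := by
    have h1 := isComplIn_sup_K hKU f.hall
    rw [hUb, bot_sup_eq] at h1
    rw [inf_comm]; exact h1.2.2.1
  have hQσ : Q ≤ Cfsg.sigmaCore M := by rw [← hHN]; exact hQH
  have hQQ : ⁅Q, Q⁆ ≤ Q := by
    rw [Subgroup.commutator_le]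
    intro a ha b hb
    exact Q.mul_mem (Q.mul_mem (Q.mul_mem ha hb) (Q.inv_mem ha)) (Q.inv_mem hb)
  -- `C_Q(k) = K*`
  have hcentQ : ∀ k ∈ K, k ≠ 1 → Q ⊓ Subgroup.centralizer ({k} : Set G) =
      Cfsg.sigmaCore M ⊓ Subgroup.centralizer (K : Set G) := by
    intro k hk hk1
    apply le_antisymm
    · rintro a ⟨haQ, hac⟩
      have h1 : a ∈ M ⊓ Subgroup.centralizer ({k} : Set G) := ⟨hHM (hQH haQ), hac⟩
      rw [f.cent k hk hk1] at h1
      obtain ⟨k', hk', s, hs, rfl⟩ := (mem_sup_of_commute (A := K)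
        (B := Cfsg.sigmaCore M ⊓ Subgroup.centralizer (K : Set G))
        (fun a ha b hb => (Subgroup.mem_centralizer_iff.mp hb.2) a ha)).mp h1
      have hk'1 : k' ∈ K ⊓ Cfsg.sigmaCore M := by
        refine ⟨hk', ?_⟩
        have : k' = (k' * s) * s⁻¹ := by group
        rw [this]
        exact (Cfsg.sigmaCore M).mul_mem (hQσ haQ) ((Cfsg.sigmaCore M).inv_mem hs.1)
      rw [hKσ, Subgroup.mem_bot] at hk'1
      rw [hk'1, one_mul]; exact hs
    · intro a ha
      refine ⟨hQQ (hKst ha), ?_⟩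
      show a ∈ Subgroup.centralizer ({k} : Set G)
      rw [Subgroup.mem_centralizer_iff]
      intro y hy
      rw [Set.mem_singleton_iff] at hy
      rw [hy]
      exact (Subgroup.mem_centralizer_iff.mp ha.2) k hk
  -- `K` acts faithfully on `Q`
  have hfaith : K ⊓ Subgroup.centralizer (Q : Set G) = ⊥ := by
    rw [eq_bot_iff]
    rintro k ⟨hk, hkc⟩
    rw [Subgroup.mem_bot]
    by_contra hk1
    apply hQna
    have hle : Q ≤ Cfsg.sigmaCore M ⊓ Subgroup.centralizer (K : Set G) := by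
      rw [← hcentQ k hk hk1]
      intro a ha
      refine ⟨ha, ?_⟩
      show a ∈ Subgroup.centralizer ({k} : Set G)
      rw [Subgroup.mem_centralizer_iff]
      intro y hy
      rw [Set.mem_singleton_iff] at hy
      rw [hy]
      exact ((Subgroup.mem_centralizer_iff.mp hkc) a ha).symm
    haveI := f.ks_cyclic
    refine ⟨⟨fun a b => ?_⟩⟩
    have := (IsCyclic.commGroup
      (α := ↥(Cfsg.sigmaCore M ⊓ Subgroup.centralizer (K : Set G)))).mul_comm
      ⟨a, hle a.2⟩ ⟨b, hle b.2⟩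
    apply Subtype.ext
    show (a : G) * (b : G) = (b : G) * (a : G)
    exact congrArg Subtype.val this
  -- `Q` is a Sylow `p`-subgroup of `G`
  have hQidx : ¬ p ∣ Q.index := by
    rw [← Subgroup.relIndex_mul_index hQH]
    intro hd
    rcases (Nat.Prime.dvd_mul hp).mp hd with h | h
    · have h1 : Q.relIndex (Cfsg.fittingHallOf M) =
          (Cfsg.pCore p ↥(Cfsg.fittingHallOf M)).index := by
        rw [Subgroup.relIndex, Subgroup.subgroupOf, hQdef,
          Subgroup.comap_map_eq_self_of_injective (Subgroup.subtype_injective _)]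
      have h2 := Cfsg.Agent.Lib.relIndex_pCore_coprime_of_nilpotent (G := ↥(Cfsg.fittingHallOf M))
        p (N := ⊤) inferInstance
        (Group.nilpotent_of_mulEquiv (Subgroup.topEquiv (G := ↥(Cfsg.fittingHallOf M))).symm)
      rw [Subgroup.relIndex_top_right] at h2
      rw [h1] at h
      exact (Nat.Prime.coprime_iff_not_dvd hp).mp h2.symm h
    · have hσp : p ∈ Cfsg.sigma M := f.hall.2.1 p hp hpσ
      have h1 := (thm_10_2_sigma hG hU M hM).2.1.2 p hp hσp
      rw [hHN] at h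
      exact h1 h
  by_cases hrk : Cfsg.PRankLE p 2 ↥Q
  · -- rank at most two
    let P : Sylow p G := hQp.toSylow hQidx
    have hPQ : (P : Subgroup G) = Q := IsPGroup.toSylow_coe hQp hQidx
    have hrk' : Cfsg.PRankLE p 2 ↥(P : Subgroup G) := by rw [hPQ]; exact hrk
    rcases Cfsg.Agent.S1412.result hG p P hrk' with hab | ⟨P₁, P₂, hsup, hcomm12, hna, hc3, -, hP₂, hΩ⟩
    · rw [hPQ] at hab
      exact absurd hab hQna
    · rw [hPQ] at hsup
      obtain ⟨hQ3, hKstZ⟩ := Cfsg.Agent.Helper52.BG16CA.card_eq_cube_of_central_product Q K P₁ P₂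
        (Cfsg.sigmaCore M ⊓ Subgroup.centralizer (K : Set G)) hQp hsup hcomm12 hna hc3 hP₂ hΩ hKQ
        hK1 hcop hcentQ f.ks_ne hKst
      have hfix : ∀ k ∈ K, k ≠ 1 → Q ⊓ Subgroup.centralizer ({k} : Set G) =
          Q ⊓ Subgroup.centralizer (Q : Set G) := by
        intro k hk hk1
        rw [hcentQ k hk hk1, hKstZ]
      rcases Cfsg.Agent.Helper46.BG16X3.lemma_X3 hp2 Q K hQ3 hQna hKQ hKU.cyclic hKodd hcop hfix
        with h | h
      · exact Or.inl ⟨p, hp, hpH, h, hcyc'⟩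
      · exact Or.inr ⟨p, hp, hpH, by rw [hcardQ, hQ3], h, hcyc'⟩
  · -- rank at least three: `Q` is narrow
    left
    have hQM : Q ≤ M := hQH.trans hHM
    have hidxM : ¬ p ∣ (Q.subgroupOf M).index := by
      intro hd
      apply hQidx
      rw [← Subgroup.relIndex_mul_index hQM]
      exact Dvd.dvd.mul_right hd _
    let S : Sylow p ↥M := (hQp.comap_subtype (H := Q) (K := M)).toSylow hidxM
    have hSQ : (S : Subgroup ↥M) = Q.subgroupOf M := IsPGroup.toSylow_coe _ hidxM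
    have hnarS := Cfsg.Agent.Helper55.BG108.isNarrow_sylow hG hU hM hpβ S
    have hnarQ : Cfsg.IsNarrow p ↥Q := by
      rw [hSQ] at hnarS
      exact Cfsg.Agent.Helper55.BG108.isNarrow_of_mulEquiv (Subgroup.subgroupOfEquivOfLe hQM) hnarS
    have hKne : K ≠ ⊤ := fun h => hM.1 (top_le_iff.mp (h ▸ hKM))
    have hKsolv : Group.IsSolvable ↥K := hG.2.2.2 K hKne
    have h54 := (Cfsg.Agent.S1454.result p hp2 Q K hQp hnarQ hKQ hKsolv hKodd hfaith).2.1 hrk
    haveI := hKU.cyclic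
    obtain ⟨k₀, hk₀⟩ := IsCyclic.exists_generator (α := ↥K)
    have hk₀o : orderOf (k₀ : G) = Nat.card K := by
      rw [Subgroup.orderOf_coe]; exact orderOf_eq_card_of_forall_mem_zpowers hk₀
    have := h54 (k₀ : G) k₀.2 (by rw [hk₀o]; exact hcop)
    rw [hk₀o] at this
    exact ⟨p, hp, hpH, this, hcyc'⟩

/-- Type V from the standard factorisation, with the non-TI alternative supplied as a hypothesis
(variant of `isOfTypeV_of` which does not go through the statement S1440) -/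
theorem isOfTypeV_of_nonTI (hG : Cfsg.IsMinSimpleOddOrder G) {M K U : Subgroup G} (hM : IsCoatom M)
    (hKU : Cfsg.IsSigmaDecomposition M K U) (hK1 : K ≠ ⊥) (hUb : U = ⊥) (f : KStarFacts M K U)
    (hHN : Cfsg.fittingHallOf M = Cfsg.sigmaCore M)
    (hnonTI : ¬ Cfsg.IsTISubset (Cfsg.fittingHallOf M : Set G) →
      (∃ p : ℕ, p.Prime ∧ p ∣ Nat.card (Cfsg.fittingHallOf M) ∧ Nat.card K ∣ p - 1 ∧
          IsCyclic (Cfsg.pPrimeCore p (Cfsg.fittingHallOf M))) ∨
        (∃ p : ℕ, p.Prime ∧ p ∣ Nat.card (Cfsg.fittingHallOf M) ∧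
          Nat.card (Cfsg.pCore p (Cfsg.fittingHallOf M)) = p ^ 3 ∧
          Nat.card K ∣ p + 1 ∧ IsCyclic (Cfsg.pPrimeCore p (Cfsg.fittingHallOf M)))) :
    Cfsg.IsOfTypeV M := by
  have hKM : K ≤ M := hKU.hall.1
  have hM'N : ⁅M, M⁆ = Cfsg.sigmaCore M := by rw [f.der_eq, hUb, bot_sup_eq]
  have hM'H : ⁅M, M⁆ = Cfsg.fittingHallOf M := hM'N.trans hHN.symm
  have hP : Cfsg.IsTypePWith M K ⊥ (Cfsg.sigmaCore M ⊓ Subgroup.centralizer (K : Set G)) := by
    apply isTypePWith_of hKU hK1 f inferInstance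
    · apply le_normalizer_of_forall_conj_mem
      intro g _ y hy
      rw [Subgroup.mem_bot] at hy
      rw [hy, mul_one, mul_inv_cancel]; exact Subgroup.one_mem _
    · rw [hM'H]
      exact ⟨le_rfl, bot_le, inf_bot_eq _, fun m hm => ⟨m, hm, 1, Subgroup.one_mem _, (mul_one m).symm⟩⟩
  refine ⟨K, ⊥, _, hP, rfl, ?_⟩
  by_cases hTI : Cfsg.IsTISubset (Cfsg.fittingHallOf M : Set G)
  · exact Or.inl hTI
  · exact Or.inr (hnonTI hTI)

end Cfsg.Agent.Helper50.BG16
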