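import Cfsg.Agent.Helper25.BRDefs

/-!
# Brauer–Reynolds group theory (helper25, #7006): base lemmas on a `Config`

* `card_sylow_eq`, `card_normalizer_eq`: every Sylow `p`-subgroup `Q` has `|Q| = p`,
  `|N_G(Q)| = p e`;
* `pow_e_eq_one`: a `p`-regular element normalizing a Sylow `p`-subgroup has `g ^ e = 1`;
* arithmetic of `p, e, t, k`.
-/

set_option autoImplicit false
set_option linter.unusedSectionVars false

namespace Cfsg.Agent.Helper50.BR

open Cfsg Cfsg.Agent.Helper25.BR

universe u

variable {G : Type u} [Group G] [Finite G] {p e t k : ℕ} [Fact p.Prime] {P : Sylow p G}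

theorem config_p_eq (h : Config p e t k P) : p = e * t + 1 := by
  have hp : p.Prime := Fact.out
  have := h.het
  have := hp.two_le
  omega

theorem config_e_pos (h : Config p e t k P) : 2 ≤ e := by
  have := h.hek
  omega

theorem card_sylow_eq (h : Config p e t k P) (Q : Sylow p G) : Nat.card Q = p := by
  rw [Sylow.card_eq_multiplicity, ← Sylow.card_eq_multiplicity P, h.cardP]

theorem card_normalizer_eq (h : Config p e t k P) (Q : Sylow p G) :
    Nat.card (Subgroup.normalizer ((Q : Subgroup G) : Set G)) = p * e := by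
  have h1 : (Subgroup.normalizer ((Q : Subgroup G) : Set G)).index =
      (Subgroup.normalizer ((P : Subgroup G) : Set G)).index := by
    exact (Sylow.card_eq_index_normalizer Q).symm.trans (Sylow.card_eq_index_normalizer P)
  have h2 := Subgroup.card_mul_index (Subgroup.normalizer ((Q : Subgroup G) : Set G))
  have h3 := Subgroup.card_mul_index (Subgroup.normalizer ((P : Subgroup G) : Set G))
  rw [h1] at h2
  have hpos : 0 < (Subgroup.normalizer ((P : Subgroup G) : Set G)).index :=
    Nat.pos_of_ne_zero Subgroup.index_ne_zero_of_finite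
  have h4 : Nat.card (Subgroup.normalizer ((Q : Subgroup G) : Set G)) =
      Nat.card (Subgroup.normalizer ((P : Subgroup G) : Set G)) :=
    Nat.eq_of_mul_eq_mul_right hpos (h2.trans h3.symm)
  rw [h4, h.cardN]

/-- a `p`-regular element normalizing a Sylow `p`-subgroup has `g ^ e = 1` -/
theorem pow_e_eq_one (h : Config p e t k P) (Q : Sylow p G) (g : G) (hg : g • Q = Q)
    (hreg : ¬ p ∣ orderOf g) : g ^ e = 1 := by
  have hp : p.Prime := Fact.out
  set N : Subgroup G := Subgroup.normalizer ((Q : Subgroup G) : Set G) with hN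
  have hgN : g ∈ N := Sylow.smul_eq_iff_mem_normalizer.1 hg
  have hQN : (Q : Subgroup G) ≤ N := Subgroup.le_normalizer
  have hnorm : ((Q : Subgroup G).subgroupOf N).Normal := Subgroup.normal_in_normalizer
  -- the index of `Q` in `N` is `e`
  have hidx : ((Q : Subgroup G).subgroupOf N).index = e := by
    have h1 : Nat.card ((Q : Subgroup G).subgroupOf N) * ((Q : Subgroup G).subgroupOf N).index =
        Nat.card N := Subgroup.card_mul_index _
    rw [Nat.card_congr (Subgroup.subgroupOfEquivOfLe hQN).toEquiv, card_sylow_eq h Q,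
      card_normalizer_eq h Q] at h1
    exact Nat.eq_of_mul_eq_mul_left hp.pos h1
  have h1 : (⟨g, hgN⟩ : N) ^ ((Q : Subgroup G).subgroupOf N).index ∈
      (Q : Subgroup G).subgroupOf N := Subgroup.pow_index_mem _ _
  rw [hidx, Subgroup.mem_subgroupOf] at h1
  have h2 : g ^ e ∈ (Q : Subgroup G) := by simpa using h1
  -- the order of `g ^ e` is a power of `p` and prime to `p`
  obtain ⟨j, hj⟩ := (IsPGroup.iff_orderOf.1 Q.2) ⟨g ^ e, h2⟩
  rw [Subgroup.orderOf_mk] at hj
  have h3 : orderOf (g ^ e) ∣ orderOf g := orderOf_pow_dvd e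
  rcases Nat.eq_zero_or_pos j with rfl | hjpos
  · rw [pow_zero] at hj
    exact orderOf_eq_one_iff.1 hj
  · exfalso
    apply hreg
    refine dvd_trans ?_ h3
    rw [hj]
    exact dvd_pow_self p hjpos.ne'

theorem config_e_lt_p (h : Config p e t k P) : e < p := by
  have h1 := config_p_eq h
  have h2 := h.ht
  have h3 := config_e_pos h
  nlinarith

theorem config_not_p_dvd_pred (_h : Config p e t k P) : ¬ p ∣ p - 1 := by
  have hp : p.Prime := Fact.out
  intro hd
  have h1 : 0 < p - 1 := by
    have := hp.two_le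
    omega
  have := Nat.le_of_dvd h1 hd
  omega

/-- every element of a subgroup of order dividing `p - 1` has `g ^ e = 1` -/
theorem pow_e_eq_one_of_mem (h : Config p e t k P) (H : Subgroup G) (hH : Nat.card H ∣ p - 1)
    (g : G) (hg : g ∈ H) : g ^ e = 1 := by
  obtain ⟨Q, hQ⟩ := h.exp H hH g hg
  refine pow_e_eq_one h Q g hQ ?_
  intro hd
  exact config_not_p_dvd_pred h (hd.trans ((Subgroup.orderOf_dvd_natCard H hg).trans hH))

end Cfsg.Agent.Helper50.BR
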