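-- helper50: piece (C1) `class_normal_form` of helper77's S3888 farm (WANTED #13307).
import Mathlib
import Cfsg.Agent.Helper77.Blk.Defs

set_option autoImplicit false

universe u

namespace Cfsg.Agent.Helper50.Blk

open Subgroup Cfsg.Agent.Helper77.Blk

section beta
variable {G : Type u} [Group G] [Finite G] {p : ℕ} [hp : Fact p.Prime]

omit [Finite G] in
theorem c1_conj_mul (x a b : G) : x⁻¹ * (a * b) * x = (x⁻¹ * a * x) * (x⁻¹ * b * x) := by group

omit [Finite G] in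
theorem c1_conj_pow (x a : G) (n : ℕ) : x⁻¹ * a ^ n * x = (x⁻¹ * a * x) ^ n := by
  induction n with
  | zero => rw [pow_zero, pow_zero, mul_one, inv_mul_cancel]
  | succ n ih => rw [pow_succ, c1_conj_mul, ih, pow_succ]

omit [Finite G] in
/-- conjugation by a power -/
theorem c1_conj_pow_succ (x a : G) (n : ℕ) :
    (x ^ (n + 1))⁻¹ * a * x ^ (n + 1) = x⁻¹ * ((x ^ n)⁻¹ * a * x ^ n) * x := by
  rw [pow_succ]; group

omit [Finite G] in
/-- the elements of `⟨z, y⟩` -/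
theorem c1_mem_pair {z y : G} (hzy : z * y = y * z) {N M : ℕ} (hN : 0 < N) (hM : 0 < M)
    (hzN : z ^ N = 1) (hyM : y ^ M = 1) :
    ∀ a ∈ closure ({z, y} : Set G), ∃ i j : ℕ, a = z ^ i * y ^ j := by
  have hc : Commute z y := hzy
  intro a ha
  induction ha using Subgroup.closure_induction with
  | mem a ha =>
    rcases ha with rfl | ha
    · exact ⟨1, 0, by rw [pow_one, pow_zero, mul_one]⟩
    · rw [Set.mem_singleton_iff] at ha
      subst ha
      exact ⟨0, 1, by rw [pow_one, pow_zero, one_mul]⟩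
  | one => exact ⟨0, 0, by rw [pow_zero, pow_zero, mul_one]⟩
  | mul a b _ _ iha ihb =>
    obtain ⟨i, j, rfl⟩ := iha
    obtain ⟨i', j', rfl⟩ := ihb
    refine ⟨i + i', j + j', ?_⟩
    rw [(hc.pow_pow i' j).symm.mul_mul_mul_comm, ← pow_add, ← pow_add]
  | inv a _ iha =>
    obtain ⟨i, j, rfl⟩ := iha
    refine ⟨i * (N - 1), j * (M - 1), ?_⟩
    apply inv_eq_of_mul_eq_one_right
    rw [(hc.pow_pow (i * (N - 1)) j).symm.mul_mul_mul_comm, ← pow_add, ← pow_add]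
    have e1 : i + i * (N - 1) = N * i := by
      obtain ⟨N', rfl⟩ : ∃ N', N = N' + 1 := ⟨N - 1, by omega⟩
      simp only [Nat.add_sub_cancel]; ring
    have e2 : j + j * (M - 1) = M * j := by
      obtain ⟨M', rfl⟩ : ∃ M', M = M' + 1 := ⟨M - 1, by omega⟩
      simp only [Nat.add_sub_cancel]; ring
    rw [e1, pow_mul, hzN, one_pow, one_mul, e2, pow_mul, hyM, one_pow]

omit [Finite G] in
/-- a power of `y` (of order dividing `p`) inside `⟨z⟩ ∌ y` has exponent divisible by `p` -/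
theorem c1_dvd_of_zpow_mem {z y : G} (hy : y ^ p = 1) (hyz : y ∉ zpowers z) (b : ℤ)
    (hb : y ^ b ∈ zpowers z) : (p : ℤ) ∣ b := by
  by_contra hnd
  have hcop : IsCoprime b (p : ℤ) := by
    rw [Int.isCoprime_iff_gcd_eq_one, Int.gcd_comm]
    have h1 : ¬ p ∣ b.natAbs := fun h => hnd (Int.natCast_dvd.mpr h)
    have h2 := (Nat.Prime.coprime_iff_not_dvd hp.out).mpr h1
    exact h2
  obtain ⟨u, v, huv⟩ := hcop
  apply hyz
  have e : y = (y ^ b) ^ u := by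
    have e1 : y ^ (1 : ℤ) = y ^ (b * u + (p : ℤ) * v) := by
      congr 1
      rw [← huv]; ring
    rw [zpow_one, zpow_add, zpow_mul, zpow_mul, zpow_natCast, hy, one_zpow, mul_one] at e1
    exact e1
  rw [e]
  exact zpow_mem hb u

/-- a natural number whose `p^k`-th power is `1` mod `p` is `1` mod `p` -/
theorem c1_mod_of_pow (a k : ℕ) (h : a ^ p ^ k ≡ 1 [MOD p]) : a % p = 1 := by
  have h1 : ((a ^ p ^ k : ℕ) : ZMod p) = ((1 : ℕ) : ZMod p) := (ZMod.natCast_eq_natCast_iff _ _ _).mpr h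
  rw [Nat.cast_pow, ZMod.pow_card_pow, Nat.cast_one] at h1
  have h2 : ((a : ℕ) : ZMod p) = ((1 : ℕ) : ZMod p) := by rw [h1, Nat.cast_one]
  have h3 := (ZMod.natCast_eq_natCast_iff _ _ _).mp h2
  have h4 : 1 % p = 1 := Nat.mod_eq_of_lt hp.out.one_lt
  unfold Nat.ModEq at h3
  rw [h3, h4]

/-- (C1) normal form of the action for `m ≥ 2`. -/
theorem class_normal_form (hp2 : p ≠ 2) (hG : IsPGroup p G) (x z y : G) (m : ℕ) (hm : 2 ≤ m)
    (hzy : z * y = y * z) (hz : orderOf z = p ^ m) (hy : y ^ p = 1) (hyz : y ∉ zpowers z)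
    (hnz : x⁻¹ * z * x ∈ closure ({z, y} : Set G)) (hny : x⁻¹ * y * x ∈ closure ({z, y} : Set G))
    (hact : ∃ e ∈ closure ({z, y} : Set G), e ^ p = 1 ∧ x⁻¹ * e * x ≠ e) :
    ∃ α β γ : ℕ, x⁻¹ * z * x = z ^ α * y ^ β ∧ x⁻¹ * y * x = y * (z ^ p ^ (m - 1)) ^ γ ∧
      α % p = 1 ∧ ¬ p ∣ γ ∧ x⁻¹ * z ^ p ^ (m - 1) * x = z ^ p ^ (m - 1) := by
  have hp0 : 0 < p := hp.out.pos
  have hc : Commute z y := hzy
  have hzN : z ^ p ^ m = 1 := by rw [← hz]; exact pow_orderOf_eq_one z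
  have hpair := c1_mem_pair hzy (pow_pos hp0 m) hp0 hzN hy
  obtain ⟨z0, hz0⟩ : ∃ z0, z0 = z ^ p ^ (m - 1) := ⟨_, rfl⟩
  have hmm : p ^ m = p ^ (m - 1) * p := by rw [← pow_succ]; congr 1; omega
  have hz0p : z0 ^ p = 1 := by rw [hz0, ← pow_mul, ← hmm, hzN]
  have hz0ne : z0 ≠ 1 := by
    intro h1
    rw [hz0] at h1
    have h2 := orderOf_dvd_of_pow_eq_one h1
    rw [hz] at h2
    have h3 := (Nat.pow_dvd_pow_iff_le_right hp.out.one_lt).mp h2
    omega
  have hz0ord : orderOf z0 = p := orderOf_eq_prime hz0p hz0ne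
  have hz0y : Commute z0 y := by rw [hz0]; exact hc.pow_left _
  -- the image of `z`
  obtain ⟨α, β, hzx⟩ := hpair _ hnz
  have hz0x : x⁻¹ * z0 * x = z0 ^ α := by
    rw [hz0, c1_conj_pow, hzx, (hc.pow_pow α β).mul_pow, ← pow_mul, ← pow_mul, ← pow_mul]
    have hy1 : y ^ (β * p ^ (m - 1)) = 1 := by
      have e : p ^ (m - 1) = p * p ^ (m - 2) := by rw [← pow_succ']; congr 1; omega
      rw [e, ← mul_assoc, mul_comm β p, mul_assoc, pow_mul, hy, one_pow]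
    rw [hy1, mul_one, mul_comm]
  have hiter : ∀ n : ℕ, (x ^ n)⁻¹ * z0 * x ^ n = z0 ^ (α ^ n) := by
    intro n
    induction n with
    | zero => simp
    | succ n ih => rw [c1_conj_pow_succ, ih, c1_conj_pow, hz0x, ← pow_mul, ← pow_succ']
  obtain ⟨k, hk⟩ := hG x
  have hα1 : α % p = 1 := by
    apply c1_mod_of_pow α k
    have h1 := hiter (p ^ k)
    rw [hk, inv_one, one_mul, mul_one] at h1
    have h2 : z0 ^ (α ^ p ^ k) = z0 ^ 1 := by rw [pow_one]; exact h1.symm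
    have h3 := pow_eq_pow_iff_modEq.mp h2
    rwa [hz0ord] at h3
  have hz0fix : x⁻¹ * z0 * x = z0 := by
    rw [hz0x]
    have e : z0 ^ α = z0 ^ (α % orderOf z0) := (pow_mod_orderOf z0 α).symm
    rw [e, hz0ord, hα1, pow_one]
  -- the image of `y`
  obtain ⟨i, j, hyx⟩ := hpair _ hny
  have hpw : (x⁻¹ * y * x) ^ p = 1 := by rw [← c1_conj_pow, hy, mul_one, inv_mul_cancel]
  rw [hyx, (hc.pow_pow i j).mul_pow, ← pow_mul, ← pow_mul] at hpw
  have hyj : y ^ (j * p) = 1 := by rw [mul_comm, pow_mul, hy, one_pow]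
  rw [hyj, mul_one] at hpw
  have hdvd : p ^ m ∣ i * p := by rw [← hz]; exact orderOf_dvd_of_pow_eq_one hpw
  rw [hmm] at hdvd
  obtain ⟨c, rfl⟩ := Nat.dvd_of_mul_dvd_mul_right hp0 hdvd
  have hzi : z ^ (p ^ (m - 1) * c) = z0 ^ c := by rw [pow_mul, ← hz0]
  rw [hzi] at hyx
  have hiter2 : ∀ n : ℕ, ∃ cn : ℕ, (x ^ n)⁻¹ * y * x ^ n = z0 ^ cn * y ^ (j ^ n) := by
    intro n
    induction n with
    | zero => exact ⟨0, by simp⟩
    | succ n ih =>
      obtain ⟨cn, hcn⟩ := ih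
      refine ⟨cn + c * j ^ n, ?_⟩
      rw [c1_conj_pow_succ, hcn, c1_conj_mul, c1_conj_pow, c1_conj_pow, hz0fix, hyx,
        (hz0y.pow_pow c j).mul_pow, ← pow_mul, ← pow_mul, ← mul_assoc, ← pow_add, ← pow_succ']
  obtain ⟨cn, hcn⟩ := hiter2 (p ^ k)
  rw [hk, inv_one, one_mul, mul_one] at hcn
  have hj1 : j % p = 1 := by
    apply c1_mod_of_pow j k
    have hmem : y ^ ((1 : ℤ) - ((j ^ p ^ k : ℕ) : ℤ)) ∈ zpowers z := by
      rw [zpow_sub, zpow_one, zpow_natCast, mul_inv_eq_of_eq_mul hcn, hz0, ← pow_mul]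
      exact Subgroup.npow_mem_zpowers z _
    have hd := c1_dvd_of_zpow_mem hy hyz _ hmem
    exact Nat.modEq_iff_dvd.mpr (by simpa using hd)
  have hyj1 : y ^ j = y := by
    have e : y ^ j = y ^ (j % p) := by
      conv_lhs => rw [← Nat.div_add_mod j p, pow_add, pow_mul, hy, one_pow, one_mul]
    rw [e, hj1, pow_one]
  rw [hyj1] at hyx
  have hcnd : ¬ p ∣ c := by
    rintro ⟨c', rfl⟩
    rw [pow_mul, hz0p, one_pow, one_mul] at hyx
    obtain ⟨e, he, hep, hne⟩ := hact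
    obtain ⟨a, b, rfl⟩ := hpair e he
    apply hne
    rw [(hc.pow_pow a b).mul_pow, ← pow_mul, ← pow_mul] at hep
    have hyb : y ^ (b * p) = 1 := by rw [mul_comm, pow_mul, hy, one_pow]
    rw [hyb, mul_one] at hep
    have hd : p ^ m ∣ a * p := by rw [← hz]; exact orderOf_dvd_of_pow_eq_one hep
    rw [hmm] at hd
    obtain ⟨a', rfl⟩ := Nat.dvd_of_mul_dvd_mul_right hp0 hd
    rw [pow_mul, ← hz0, c1_conj_mul, c1_conj_pow, c1_conj_pow, hz0fix, hyx]
  refine ⟨α, β, c, hzx, ?_, hα1, hcnd, ?_⟩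
  · rw [← hz0, hyx]
    exact (hz0y.pow_left c).eq
  · rw [← hz0]
    exact hz0fix

end beta

end Cfsg.Agent.Helper50.Blk
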