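import Mathlib
import Cfsg.Agent.Helper86.CEDefs
import Cfsg.Agent.Helper88.FusionCentric

/-!
# (W2) for helper86 / S5293: a `TrivExt` over a centralizing `Q` fixes `⁅Q, Q⁆` (helper50)
-/

set_option autoImplicit false

namespace Cfsg.Agent.Helper50

open Cfsg Cfsg.FusionSystem Cfsg.Agent.Helper87 Cfsg.Agent.Helper86.CE
open scoped commutatorElement

variable {Ω : Type*} [Group Ω] {S : Subgroup Ω}

/-- pure group identity: if `u`, `w` commute with `c`, `d` and with each other then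
`⁅c u, d w⁆ = ⁅c, d⁆`. -/
private theorem cew2_comm_aux {G : Type*} [Group G] (c d u w : G)
    (huc : Commute u c) (hud : Commute u d) (hwc : Commute w c) (hwd : Commute w d)
    (huw : Commute u w) : ⁅c * u, d * w⁆ = ⁅c, d⁆ := by
  rw [commutatorElement_def, commutatorElement_def]
  have e1 : (c * u) * (d * w) = (c * d) * (u * w) := by
    rw [mul_assoc, ← mul_assoc u d w, hud.eq, mul_assoc d u w, ← mul_assoc c d]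
  have e2 : (c * u)⁻¹ * (d * w)⁻¹ = (u * w)⁻¹ * (c⁻¹ * d⁻¹) := by
    rw [mul_inv_rev, mul_inv_rev, mul_inv_rev]
    have h1 : Commute u⁻¹ c⁻¹ := huc.inv_inv
    have h2 : Commute w⁻¹ d⁻¹ := hwd.inv_inv
    have h3 : Commute w⁻¹ c⁻¹ := hwc.inv_inv
    have h4 : Commute u⁻¹ w⁻¹ := huw.inv_inv
    have h5 : Commute u⁻¹ d⁻¹ := hud.inv_inv
    calc u⁻¹ * c⁻¹ * (w⁻¹ * d⁻¹) = u⁻¹ * (c⁻¹ * w⁻¹) * d⁻¹ := by group
      _ = u⁻¹ * (w⁻¹ * c⁻¹) * d⁻¹ := by rw [h3.eq]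
      _ = (u⁻¹ * w⁻¹) * (c⁻¹ * d⁻¹) := by group
      _ = (w⁻¹ * u⁻¹) * (c⁻¹ * d⁻¹) := by rw [h4.eq]
  calc c * u * (d * w) * (c * u)⁻¹ * (d * w)⁻¹
      = (c * u * (d * w)) * ((c * u)⁻¹ * (d * w)⁻¹) := by group
    _ = (c * d) * (u * w) * ((u * w)⁻¹ * (c⁻¹ * d⁻¹)) := by rw [e1, e2]
    _ = c * d * c⁻¹ * d⁻¹ := by group

theorem TrivExt.extFix_commutator {F : FusionSystem S} {P Q : Subgroup Ω} {φ : MulAut P}
    (h : TrivExt F P Q φ) (hQ : Q ≤ Subgroup.centralizer (P : Set Ω)) :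
    ExtFix F ⁅Q, Q⁆ P (P.subtype.comp φ.toMonoidHom) := by
  obtain ⟨e, he, heP, heQ⟩ := h
  -- elements of `Q` commute with elements of `P`
  have hcomm : ∀ c ∈ Q, ∀ x ∈ P, x * c = c * x := fun c hc x hx =>
    (Subgroup.mem_centralizer_iff.mp (hQ hc)) x hx
  -- `e c` commutes with every element of `P`
  have hec : ∀ (c : ↥(P ⊔ Q)), (c : Ω) ∈ Q → ∀ x ∈ P, x * ((e c : ↥(P ⊔ Q)) : Ω) = (e c : Ω) * x := by
    intro c hc x hx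
    have h1 := heP (φ⁻¹ ⟨x, hx⟩)
    rw [MulAut.apply_inv_self] at h1
    have h2 : Subgroup.inclusion le_sup_left (φ⁻¹ ⟨x, hx⟩) * c
        = c * Subgroup.inclusion (le_sup_left : P ≤ P ⊔ Q) (φ⁻¹ ⟨x, hx⟩) := by
      apply Subtype.ext
      exact hcomm c hc _ (φ⁻¹ ⟨x, hx⟩).2
    have h3 := congrArg (fun t => ((e t : ↥(P ⊔ Q)) : Ω)) h2
    simp only [map_mul, Subgroup.coe_mul] at h3
    rw [h1] at h3
    exact h3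
  -- `u c := c⁻¹ e(c)` commutes with `P` and with `Q`
  have huP : ∀ (c : ↥(P ⊔ Q)), (c : Ω) ∈ Q → ∀ x ∈ P,
      Commute ((c : Ω)⁻¹ * ((e c : ↥(P ⊔ Q)) : Ω)) x := by
    intro c hc x hx
    show (c : Ω)⁻¹ * (e c : Ω) * x = x * ((c : Ω)⁻¹ * (e c : Ω))
    have h1 := hec c hc x hx
    have h2 := hcomm c hc x hx
    calc (c : Ω)⁻¹ * (e c : Ω) * x = (c : Ω)⁻¹ * (x * (e c : Ω)) := by rw [h1, mul_assoc]
      _ = (c : Ω)⁻¹ * (x * (c : Ω)) * (c : Ω)⁻¹ * (e c : Ω) := by group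
      _ = (c : Ω)⁻¹ * ((c : Ω) * x) * (c : Ω)⁻¹ * (e c : Ω) := by rw [h2]
      _ = x * ((c : Ω)⁻¹ * (e c : Ω)) := by group
  have huQ : ∀ (c : ↥(P ⊔ Q)), (c : Ω) ∈ Q → ∀ d ∈ Q,
      Commute ((c : Ω)⁻¹ * ((e c : ↥(P ⊔ Q)) : Ω)) d := by
    intro c hc d hd
    exact hcomm d hd _ (heQ c hc)
  -- the subgroup of elements fixed by `e`
  let f : ↥(P ⊔ Q) →* Ω := (P ⊔ Q).subtype.comp e.toMonoidHom
  let K : Subgroup Ω := (MonoidHom.eqLocus f (P ⊔ Q).subtype).map (P ⊔ Q).subtype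
  have hKmem : ∀ y : Ω, y ∈ K ↔ ∃ hy : y ∈ P ⊔ Q, ((e ⟨y, hy⟩ : ↥(P ⊔ Q)) : Ω) = y := by
    intro y
    constructor
    · rintro ⟨t, ht, rfl⟩
      exact ⟨t.2, ht⟩
    · rintro ⟨hy, h1⟩
      exact ⟨⟨y, hy⟩, h1, rfl⟩
  have hQle : Q ≤ P ⊔ Q := le_sup_right
  have hQQ : ⁅Q, Q⁆ ≤ Q := by
    rw [Subgroup.commutator_le]
    intro c hc d hd
    rw [commutatorElement_def]
    exact Q.mul_mem (Q.mul_mem (Q.mul_mem hc hd) (Q.inv_mem hc)) (Q.inv_mem hd)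
  have hcK : ⁅Q, Q⁆ ≤ K := by
    rw [Subgroup.commutator_le]
    intro c hc d hd
    rw [hKmem]
    have hcd : ⁅c, d⁆ ∈ P ⊔ Q := hQle (hQQ (Subgroup.commutator_mem_commutator hc hd))
    refine ⟨hcd, ?_⟩
    have h1 : (⟨⁅c, d⁆, hcd⟩ : ↥(P ⊔ Q)) = ⁅(⟨c, hQle hc⟩ : ↥(P ⊔ Q)), ⟨d, hQle hd⟩⁆ := by
      apply Subtype.ext
      simp [commutatorElement_def]
    rw [h1, map_commutatorElement]
    have h2 : ((⁅e ⟨c, hQle hc⟩, e ⟨d, hQle hd⟩⁆ : ↥(P ⊔ Q)) : Ω)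
        = ⁅((e ⟨c, hQle hc⟩ : ↥(P ⊔ Q)) : Ω), ((e ⟨d, hQle hd⟩ : ↥(P ⊔ Q)) : Ω)⁆ := by
      simp [commutatorElement_def]
    rw [h2]
    set u : Ω := c⁻¹ * ((e ⟨c, hQle hc⟩ : ↥(P ⊔ Q)) : Ω) with hu
    set w : Ω := d⁻¹ * ((e ⟨d, hQle hd⟩ : ↥(P ⊔ Q)) : Ω) with hw
    have ec : ((e ⟨c, hQle hc⟩ : ↥(P ⊔ Q)) : Ω) = c * u := by rw [hu]; group
    have ed : ((e ⟨d, hQle hd⟩ : ↥(P ⊔ Q)) : Ω) = d * w := by rw [hw]; group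
    rw [ec, ed]
    have hwP : w ∈ P := heQ ⟨d, hQle hd⟩ hd
    exact cew2_comm_aux c d u w (huQ ⟨c, hQle hc⟩ hc c hc) (huQ ⟨c, hQle hc⟩ hc d hd)
      (huQ ⟨d, hQle hd⟩ hd c hc) (huQ ⟨d, hQle hd⟩ hd d hd) (huP ⟨c, hQle hc⟩ hc w hwP)
  -- the extension
  have hle : P ⊔ ⁅Q, Q⁆ ≤ P ⊔ Q := sup_le_sup_left hQQ P
  refine ⟨f.comp (Subgroup.inclusion hle), restrict_mem F he hle, ?_, ?_⟩
  · intro x
    exact heP x
  · intro x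
    obtain ⟨hy, h1⟩ := (hKmem _).mp (hcK x.2)
    exact h1
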