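import Mathlib
import Cfsg.Agent.Helper86.CEDefs
import Cfsg.Agent.Helper88.FusionCentric
import Cfsg.Agent.Helper67.CEW6
import Cfsg.Agent.S5153

/-!
# (W7) for helper86 / S5293 (helper50)

`TrivExt F P Q` is closed under products, inverses, and conjugation by automorphisms of `P ⊔ Q`
of the system that preserve `Q`; for a normal subsystem `E` over `T` and a fully normalized
`R ≤ T` with `C_T(R) ≤ R`, every `p`-element of `Aut_E(R)` is a `TrivExt` over `C_S(R)`.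
-/

set_option autoImplicit false

namespace Cfsg.Agent.Helper50

open Cfsg Cfsg.FusionSystem Cfsg.Agent.Helper87 Cfsg.Agent.Helper86.CE

variable {Ω : Type*} [Group Ω] {S : Subgroup Ω}


theorem TrivExt.one' (F : FusionSystem S) {P Q : Subgroup Ω} (hPQ : P ⊔ Q ≤ S) :
    TrivExt F P Q 1 := by
  refine ⟨MulEquiv.refl _, isIso_refl F hPQ, fun x => rfl, fun c _ => ?_⟩
  show (c : Ω)⁻¹ * (c : Ω) ∈ P
  rw [inv_mul_cancel]
  exact P.one_mem

/-- an extension `e` sends the copy of `x : P` to the copy of `φ x` -/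
private theorem ext_apply_incl {P Q : Subgroup Ω} {φ : MulAut P} (e : ↥(P ⊔ Q) ≃* ↥(P ⊔ Q))
    (heP : ∀ x : P, ((e (Subgroup.inclusion le_sup_left x) : ↥(P ⊔ Q)) : Ω) = ((φ x : P) : Ω))
    (x : P) : e (Subgroup.inclusion le_sup_left x) = Subgroup.inclusion le_sup_left (φ x) :=
  Subtype.ext (heP x)

private theorem ext_symm_apply_incl {P Q : Subgroup Ω} {φ : MulAut P} (e : ↥(P ⊔ Q) ≃* ↥(P ⊔ Q))
    (heP : ∀ x : P, ((e (Subgroup.inclusion le_sup_left x) : ↥(P ⊔ Q)) : Ω) = ((φ x : P) : Ω))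
    (x : P) : e.symm (Subgroup.inclusion le_sup_left x) = Subgroup.inclusion le_sup_left (φ⁻¹ x) := by
  rw [MulEquiv.symm_apply_eq, ext_apply_incl e heP, MulAut.apply_inv_self]

/-- for `c ∈ Q`, `e c = c * u` with `u` (the copy of) an element of `P` -/
private theorem ext_apply_eq_mul {P Q : Subgroup Ω} (e : ↥(P ⊔ Q) ≃* ↥(P ⊔ Q))
    (heQ : ∀ c : ↥(P ⊔ Q), (c : Ω) ∈ Q → (c : Ω)⁻¹ * ((e c : ↥(P ⊔ Q)) : Ω) ∈ P)
    (c : ↥(P ⊔ Q)) (hc : (c : Ω) ∈ Q) :
    ∃ u : P, e c = c * Subgroup.inclusion le_sup_left u :=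
  ⟨⟨_, heQ c hc⟩, Subtype.ext (by simp)⟩

theorem TrivExt.mul' {F : FusionSystem S} {P Q : Subgroup Ω} {φ₁ φ₂ : MulAut P}
    (h₁ : TrivExt F P Q φ₁) (h₂ : TrivExt F P Q φ₂) : TrivExt F P Q (φ₁ * φ₂) := by
  obtain ⟨e₁, he₁, he₁P, he₁Q⟩ := h₁
  obtain ⟨e₂, he₂, he₂P, he₂Q⟩ := h₂
  refine ⟨e₂.trans e₁, IsIso.trans he₂ he₁, fun x => ?_, fun c hc => ?_⟩
  · show ((e₁ (e₂ (Subgroup.inclusion le_sup_left x)) : ↥(P ⊔ Q)) : Ω) = _
    rw [ext_apply_incl e₂ he₂P, he₁P]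
    rfl
  · show (c : Ω)⁻¹ * ((e₁ (e₂ c) : ↥(P ⊔ Q)) : Ω) ∈ P
    obtain ⟨u, hu⟩ := ext_apply_eq_mul e₂ he₂Q c hc
    rw [hu, map_mul, ext_apply_incl e₁ he₁P, Subgroup.coe_mul, ← mul_assoc]
    exact P.mul_mem (he₁Q c hc) (φ₁ u).2

theorem TrivExt.inv' {F : FusionSystem S} {P Q : Subgroup Ω} {φ : MulAut P}
    (h : TrivExt F P Q φ) : TrivExt F P Q φ⁻¹ := by
  obtain ⟨e, he, heP, heQ⟩ := h
  refine ⟨e.symm, IsIso.symm he, fun x => ?_, fun c hc => ?_⟩
  · rw [ext_symm_apply_incl e heP]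
    rfl
  · obtain ⟨u, hu⟩ := ext_apply_eq_mul e heQ c hc
    have h1 : e.symm c = c * (Subgroup.inclusion le_sup_left (φ⁻¹ u))⁻¹ := by
      rw [MulEquiv.symm_apply_eq, map_mul, map_inv, ext_apply_incl e heP, MulAut.apply_inv_self, hu]
      group
    rw [h1, Subgroup.coe_mul, ← mul_assoc, inv_mul_cancel, one_mul]
    show (((Subgroup.inclusion (le_sup_left : P ≤ P ⊔ Q) (φ⁻¹ u))⁻¹ : ↥(P ⊔ Q)) : Ω) ∈ P
    rw [Subgroup.coe_inv]
    exact P.inv_mem (φ⁻¹ u).2

/-- conjugating a `TrivExt` by an automorphism `g` of `P ⊔ Q` in the system that restricts to `γ` on `P`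
and maps `Q` into `Q`. -/
theorem TrivExt.conj' {F : FusionSystem S} {P Q : Subgroup Ω} {φ γ : MulAut P}
    (h : TrivExt F P Q φ) (g : ↥(P ⊔ Q) ≃* ↥(P ⊔ Q)) (hg : IsIso F g)
    (hgP : ∀ x : P, ((g (Subgroup.inclusion le_sup_left x) : ↥(P ⊔ Q)) : Ω) = ((γ x : P) : Ω))
    (hgQ : ∀ c : ↥(P ⊔ Q), (c : Ω) ∈ Q → ((g c : ↥(P ⊔ Q)) : Ω) ∈ Q) :
    TrivExt F P Q (γ⁻¹ * φ * γ) := by
  obtain ⟨e, he, heP, heQ⟩ := h
  refine ⟨g.trans (e.trans g.symm), IsIso.trans hg (IsIso.trans he (IsIso.symm hg)),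
    fun x => ?_, fun c hc => ?_⟩
  · show ((g.symm (e (g (Subgroup.inclusion le_sup_left x))) : ↥(P ⊔ Q)) : Ω) = _
    rw [ext_apply_incl g hgP, ext_apply_incl e heP, ext_symm_apply_incl g hgP]
    rfl
  · show (c : Ω)⁻¹ * ((g.symm (e (g c)) : ↥(P ⊔ Q)) : Ω) ∈ P
    obtain ⟨u, hu⟩ := ext_apply_eq_mul e heQ (g c) (hgQ c hc)
    rw [hu, map_mul, MulEquiv.symm_apply_apply, ext_symm_apply_incl g hgP, Subgroup.coe_mul,
      ← mul_assoc, inv_mul_cancel, one_mul]
    exact (γ⁻¹ u).2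

/-- conjugation by an element `t ∈ S` normalizing `P` and `P ⊔ Q` with `[Q, t] ≤ P`. -/
theorem TrivExt.conjAut' (F : FusionSystem S) {P Q : Subgroup Ω} (hPQ : P ⊔ Q ≤ S) {t : Ω}
    (htS : t ∈ S) (htP : t ∈ Subgroup.normalizer (P : Set Ω))
    (htPQ : t ∈ Subgroup.normalizer ((P ⊔ Q : Subgroup Ω) : Set Ω))
    (hQ : ∀ c ∈ Q, c⁻¹ * (t * c * t⁻¹) ∈ P) : TrivExt F P Q (conjAut P t htP) :=
  ⟨conjAut (P ⊔ Q) t htPQ, isIso_conjAut F hPQ htS htPQ, fun _ => rfl, fun c hc => hQ c hc⟩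

/-- the subgroup of `Aut(P)` of all `TrivExt`s over `Q` -/
def trivExtSubgroup (F : FusionSystem S) (P Q : Subgroup Ω) (hPQ : P ⊔ Q ≤ S) : Subgroup (MulAut P) where
  carrier := {φ | TrivExt F P Q φ}
  one_mem' := TrivExt.one' F hPQ
  mul_mem' := fun h₁ h₂ => TrivExt.mul' h₁ h₂
  inv_mem' := fun h => TrivExt.inv' h

theorem mem_trivExtSubgroup (F : FusionSystem S) (P Q : Subgroup Ω) (hPQ : P ⊔ Q ≤ S) (φ : MulAut P) :
    φ ∈ trivExtSubgroup F P Q hPQ ↔ TrivExt F P Q φ := Iff.rfl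

/-- an automorphism of `R ⊔ C_S(R)` in the system extending a given `γ ∈ Aut_F(R)` and preserving `C_S(R)`
(from (W6)). -/
theorem exists_aut_sup_centralizer [Finite S] {p : ℕ} [Fact p.Prime] (hS : IsPGroup p S)
    (F : FusionSystem S) (hF : F.IsSaturated p) {R : Subgroup Ω} (hRn : F.IsFullyNormalized R)
    (γ : MulAut R) (hγ : IsIso F (γ : R ≃* R)) :
    ∃ g : ↥(R ⊔ centralizerIn S R) ≃* ↥(R ⊔ centralizerIn S R), IsIso F g ∧
      (∀ x : R, ((g (Subgroup.inclusion le_sup_left x) : ↥(R ⊔ centralizerIn S R)) : Ω) = ((γ x : R) : Ω)) ∧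
      ∀ c : ↥(R ⊔ centralizerIn S R), (c : Ω) ∈ centralizerIn S R →
        ((g c : ↥(R ⊔ centralizerIn S R)) : Ω) ∈ centralizerIn S R := by
  obtain ⟨γ', hγ', hγ'R, hγ'C⟩ :=
    Cfsg.Agent.Helper67.CE.exists_extension_sup_centralizer hS F hF hRn γ hγ
  have hUS : (R ⊔ centralizerIn S R) ≤ S := (F.le_of_mem hγ').1
  have hmapsU : ∀ u : ↥(R ⊔ centralizerIn S R), γ' u ∈ (R ⊔ centralizerIn S R) := by
    intro u
    have hle : (R ⊔ centralizerIn S R) ≤ (Subgroup.comap γ' (R ⊔ centralizerIn S R)).map (R ⊔ centralizerIn S R).subtype := by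
      refine sup_le ?_ ?_
      · intro x hx
        refine ⟨Subgroup.inclusion le_sup_left ⟨x, hx⟩, ?_, rfl⟩
        show γ' _ ∈ (R ⊔ centralizerIn S R)
        rw [hγ'R]
        exact (le_sup_left : R ≤ (R ⊔ centralizerIn S R)) (γ ⟨x, hx⟩).2
      · intro c hc
        refine ⟨⟨c, (le_sup_right : centralizerIn S R ≤ (R ⊔ centralizerIn S R)) hc⟩, ?_, rfl⟩
        show γ' _ ∈ (R ⊔ centralizerIn S R)
        exact (le_sup_right : centralizerIn S R ≤ (R ⊔ centralizerIn S R)) (hγ'C _ hc)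
    obtain ⟨v, hv, hvu⟩ := hle u.2
    have : v = u := Subtype.ext hvu
    subst this
    exact hv
  have : Finite ↥(R ⊔ centralizerIn S R) := Finite.of_injective _ (Subgroup.inclusion_injective hUS)
  have hinj : Function.Injective (γ'.codRestrict (R ⊔ centralizerIn S R) hmapsU) := by
    intro a b hab
    exact F.injective_of_mem hγ' (congrArg Subtype.val hab)
  have hbij : Function.Bijective (γ'.codRestrict (R ⊔ centralizerIn S R) hmapsU) :=
    ⟨hinj, Finite.injective_iff_surjective.mp hinj⟩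
  refine ⟨MulEquiv.ofBijective (γ'.codRestrict (R ⊔ centralizerIn S R) hmapsU) hbij, ?_, ?_, ?_⟩
  · exact mem_of_eq F hγ' (fun x => rfl)
  · intro x
    exact hγ'R x
  · intro c hc
    exact hγ'C c hc

/-- a strongly closed subgroup is normalized by `S` -/
private theorem cew7_conj_mem_of_stronglyClosed {F : FusionSystem S} {T : Subgroup Ω} (hT : F.StronglyClosed T)
    {s t : Ω} (hs : s ∈ S) (ht : t ∈ T) : s * t * s⁻¹ ∈ T :=
  hT.2 T le_rfl (conjHom T s) (F.conj_mem hT.1 hs) ⟨t, ht⟩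

theorem trivExt_of_fullyNormalized [Finite S] {p : ℕ} [Fact p.Prime] (hS : IsPGroup p S)
    (F : FusionSystem S) (hF : F.IsSaturated p) {T : Subgroup Ω} (E : FusionSystem T)
    (hE : E.IsNormalIn F p) {R : Subgroup Ω} (hRT : R ≤ T) (hRn : F.IsFullyNormalized R)
    (hRc : centralizerIn T R ≤ R) (α : MulAut R) (hα : α ∈ E.autGroup R) (k : ℕ)
    (hk : orderOf α = p ^ k) : TrivExt F R (centralizerIn S R) α := by
  have hTcl : F.StronglyClosed T := hE.1.2.2.2.1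
  have hTS : T ≤ S := hTcl.1
  have hsub : E.IsSubsystemOf F := hE.1.2.2.1
  have hRS : R ≤ S := hRT.trans hTS
  have hCS : centralizerIn S R ≤ S := inf_le_left
  have hUS : R ⊔ centralizerIn S R ≤ S := sup_le hRS hCS
  set N : Subgroup (MulAut R) := trivExtSubgroup F R (centralizerIn S R) hUS with hN
  -- `N` is normalized by `Aut_F(R)`
  have hNnorm : ∀ γ ∈ F.autGroup R, ∀ φ ∈ N, γ⁻¹ * φ * γ ∈ N := by
    intro γ hγ φ hφ
    rw [mem_autGroup_iff F hRS] at hγ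
    obtain ⟨g, hg, hgR, hgC⟩ := exists_aut_sup_centralizer hS F hF hRn γ hγ
    exact TrivExt.conj' hφ g hg hgR hgC
  -- `N` contains the automorphisms induced by `N_T(R)`
  have hNT : autInducedBy T R ≤ N := by
    intro β hβ
    obtain ⟨t, htT, htx⟩ := (mem_autInducedBy_iff T R β).mp hβ
    have htR : t ∈ Subgroup.normalizer (R : Set Ω) := mem_normalizer_of_conj_eq β t htx
    have htS : t ∈ S := hTS htT
    rw [eq_conjAut_of_conj_eq β t htx]
    have hconjR : ∀ x ∈ R, t * x * t⁻¹ ∈ R := fun x hx =>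
      (Subgroup.mem_normalizer_iff.mp htR x).mp hx
    have hconjR' : ∀ x ∈ R, t⁻¹ * x * t ∈ R := by
      intro x hx
      have := (Subgroup.mem_normalizer_iff.mp htR (t⁻¹ * x * t)).mpr (by
        have : t * (t⁻¹ * x * t) * t⁻¹ = x := by group
        rw [this]; exact hx)
      exact this
    -- `t` normalizes `C_S(R)`
    have hconjC : ∀ c ∈ centralizerIn S R, t * c * t⁻¹ ∈ centralizerIn S R := by
      intro c hc
      refine ⟨S.mul_mem (S.mul_mem htS hc.1) (S.inv_mem htS), ?_⟩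
      show t * c * t⁻¹ ∈ Subgroup.centralizer (R : Set Ω)
      rw [Subgroup.mem_centralizer_iff]
      intro x hx
      have h1 := Subgroup.mem_centralizer_iff.mp hc.2 _ (hconjR' x hx)
      calc x * (t * c * t⁻¹) = t * ((t⁻¹ * x * t) * c) * t⁻¹ := by group
        _ = t * (c * (t⁻¹ * x * t)) * t⁻¹ := by rw [h1]
        _ = t * c * t⁻¹ * x := by group
    have hconjC' : ∀ c ∈ centralizerIn S R, t⁻¹ * c * t ∈ centralizerIn S R := by
      intro c hc
      refine ⟨S.mul_mem (S.mul_mem (S.inv_mem htS) hc.1) htS, ?_⟩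
      show t⁻¹ * c * t ∈ Subgroup.centralizer (R : Set Ω)
      rw [Subgroup.mem_centralizer_iff]
      intro x hx
      have h1 := Subgroup.mem_centralizer_iff.mp hc.2 _ (hconjR x hx)
      calc x * (t⁻¹ * c * t) = t⁻¹ * ((t * x * t⁻¹) * c) * t := by group
        _ = t⁻¹ * (c * (t * x * t⁻¹)) * t := by rw [h1]
        _ = t⁻¹ * c * t * x := by group
    have htU : t ∈ Subgroup.normalizer ((R ⊔ centralizerIn S R : Subgroup Ω) : Set Ω) := by
      have hle1 : R ⊔ centralizerIn S R ≤ (R ⊔ centralizerIn S R).comap (MulAut.conj t).toMonoidHom := by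
        refine sup_le ?_ ?_
        · intro x hx
          exact (le_sup_left : R ≤ R ⊔ centralizerIn S R) (hconjR x hx)
        · intro c hc
          exact (le_sup_right : centralizerIn S R ≤ R ⊔ centralizerIn S R) (hconjC c hc)
      have hle2 : R ⊔ centralizerIn S R ≤ (R ⊔ centralizerIn S R).comap (MulAut.conj t⁻¹).toMonoidHom := by
        refine sup_le ?_ ?_
        · intro x hx
          show t⁻¹ * x * t⁻¹⁻¹ ∈ R ⊔ centralizerIn S R
          rw [inv_inv]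
          exact (le_sup_left : R ≤ R ⊔ centralizerIn S R) (hconjR' x hx)
        · intro c hc
          show t⁻¹ * c * t⁻¹⁻¹ ∈ R ⊔ centralizerIn S R
          rw [inv_inv]
          exact (le_sup_right : centralizerIn S R ≤ R ⊔ centralizerIn S R) (hconjC' c hc)
      rw [Subgroup.mem_normalizer_iff]
      intro y
      constructor
      · intro hy
        exact hle1 hy
      · intro hy
        have h2 := hle2 hy
        have h3 : (MulAut.conj t⁻¹).toMonoidHom (t * y * t⁻¹) = y := by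
          show t⁻¹ * (t * y * t⁻¹) * t⁻¹⁻¹ = y
          group
        have h4 : (MulAut.conj t⁻¹).toMonoidHom (t * y * t⁻¹) ∈ R ⊔ centralizerIn S R := h2
        rwa [h3] at h4
    refine TrivExt.conjAut' F hUS htS htR htU ?_
    intro c hc
    apply hRc
    refine ⟨?_, ?_⟩
    · -- in `T`: `c⁻¹ t c t⁻¹ = (c⁻¹ t c) t⁻¹`
      have h1 : c⁻¹ * t * c⁻¹⁻¹ ∈ T := cew7_conj_mem_of_stronglyClosed hTcl (S.inv_mem hc.1) htT
      rw [inv_inv] at h1
      have : c⁻¹ * (t * c * t⁻¹) = (c⁻¹ * t * c) * t⁻¹ := by group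
      rw [this]
      exact T.mul_mem h1 (T.inv_mem htT)
    · exact (Subgroup.centralizer (R : Set Ω)).mul_mem
        ((Subgroup.centralizer (R : Set Ω)).inv_mem hc.2) (hconjC c hc).2
  -- `R` is fully automized in `E`
  have : Finite ↥T := Finite.of_injective _ (Subgroup.inclusion_injective hTS)
  have hT : IsPGroup p ↥T := hS.of_injective (Subgroup.inclusion hTS) (Subgroup.inclusion_injective hTS)
  have hREn : E.IsFullyNormalized R :=
    Cfsg.Agent.S5153.result p hS F hF E (IsSubnormalIn.step (IsSubnormalIn.refl E p) hE) R hRT hRn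
  obtain ⟨-, Syl, hSyl⟩ := (fullyAutomized_fullyCentralized_of_fullyNormalized hT E hE.1.1 hREn).2
  -- conjugate `α` into the Sylow subgroup
  have : Finite ↥R := Finite.of_injective _ (Subgroup.inclusion_injective hRS)
  have : Finite (MulAut R) := MulEquiv.finite_left
  have hzp : IsPGroup p (Subgroup.zpowers (⟨α, hα⟩ : E.autGroup R)) := by
    apply IsPGroup.of_card (n := k)
    rw [Nat.card_zpowers, ← hk]
    exact Subgroup.orderOf_mk α hα
  obtain ⟨Q, hQ⟩ := hzp.exists_le_sylow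
  obtain ⟨g, hg⟩ := MulAction.exists_smul_eq (E.autGroup R) Q Syl
  have hαQ : (⟨α, hα⟩ : E.autGroup R) ∈ Q := hQ (Subgroup.mem_zpowers _)
  have h1 : g * ⟨α, hα⟩ * g⁻¹ ∈ (Syl : Subgroup (E.autGroup R)) := by
    rw [← hg, Sylow.coe_subgroup_smul]
    exact Subgroup.smul_mem_pointwise_smul _ (MulAut.conj g) _ hαQ
  rw [hSyl, Subgroup.mem_subgroupOf] at h1
  have h2 : (g : MulAut R) * α * (g : MulAut R)⁻¹ ∈ N := hNT h1
  have hgF : (g : MulAut R) ∈ F.autGroup R := by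
    have hle : E.autGroup R ≤ F.autGroup R := by
      apply Subgroup.closure_mono
      intro β hβ
      exact hsub R hβ
    exact hle g.2
  have h3 := hNnorm (g : MulAut R) hgF _ h2
  have h4 : (g : MulAut R)⁻¹ * ((g : MulAut R) * α * (g : MulAut R)⁻¹) * (g : MulAut R) = α := by
    group
  rw [h4] at h3
  exact h3

end Cfsg.Agent.Helper50
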