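import Mathlib
import Cfsg.Prelude.Def_BaumannBlocks
import Cfsg.Agent.Helper50.CL2

/-!
Minimal centrally large subgroups (helper50).
-/

set_option autoImplicit false

namespace Cfsg.Agent.Helper50

open Subgroup
open scoped Pointwise
open scoped commutatorElement

variable {G : Type*} [Group G]

theorem le_normalizer_centralizer' (Q : Subgroup G) :
    Q ≤ normalizer ((centralizer (Q : Set G) : Subgroup G) : Set G) := by
  intro d hd
  rw [mem_normalizer_iff]
  intro z
  have key : ∀ (d : G), d ∈ Q → ∀ z, z ∈ centralizer (Q : Set G) → d * z * d⁻¹ ∈ centralizer (Q : Set G) := by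
    intro d hd z hz
    rw [mem_centralizer_iff]
    intro y hy
    have h1 : d⁻¹ * y * d ∈ Q := Q.mul_mem (Q.mul_mem (Q.inv_mem hd) hy) hd
    have h2 := commute_of_mem_centralizer hz h1
    calc y * (d * z * d⁻¹) = d * ((d⁻¹ * y * d) * z) * d⁻¹ := by group
      _ = d * (z * (d⁻¹ * y * d)) * d⁻¹ := by rw [h2]
      _ = d * z * d⁻¹ * y := by group
  constructor
  · exact key d hd z
  · intro h
    have := key d⁻¹ (Q.inv_mem hd) _ h
    simpa [mul_assoc] using this

/-- A minimal centrally large `Q` is generated by its centre and its intersection with any centrally large `R`. -/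
theorem mcl_decomp [Finite G] (Q R : Subgroup G) (hQ : Cfsg.IsMinimalCentrallyLarge Q)
    (hR : Cfsg.IsCentrallyLarge R) : (Q ⊓ R) ⊔ centralizer (Q : Set G) = Q := by
  have hQcl := hQ.1
  have hQcd := (cl_imp Q hQcl).1
  have hRcd := (cl_imp R hR).1
  have hZQ : centralizer (Q : Set G) ≤ Q := cl_centralizer_le Q hQcl
  have hZR : centralizer (R : Set G) ≤ R := cl_centralizer_le R hR
  obtain ⟨_, hD, _, hCD⟩ := cd_main Q R hQcd hRcd
  obtain ⟨hCQ, hQQ⟩ := cd_centralizer Q hQcd
  obtain ⟨hCR, _⟩ := cd_centralizer R hRcd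
  obtain ⟨hQ1, _, _, _⟩ := cd_main (Q ⊓ R) (centralizer (Q : Set G)) hD hCQ
  obtain ⟨_, _, hCC, _⟩ := cd_main _ _ hCQ hCR
  have hle : (Q ⊓ R) ⊔ centralizer (Q : Set G) ≤ Q := sup_le inf_le_left hZQ
  have hcl : Cfsg.IsCentrallyLarge ((Q ⊓ R) ⊔ centralizer (Q : Set G)) := by
    rw [cl_iff _ hQ1, centralizer_sup', hCD, ← hQQ]
    rintro x ⟨hx1, hx2⟩
    have hx1' : x ∈ ((centralizer (Q : Set G) ⊔ centralizer (R : Set G) : Subgroup G) : Set G) := hx1
    rw [hCC] at hx1'
    obtain ⟨a, ha, b, hb, rfl⟩ := hx1'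
    have hbQ : b ∈ Q := by
      have := Q.mul_mem (Q.inv_mem (hZQ ha)) hx2
      simpa using this
    exact ((Q ⊓ R) ⊔ centralizer (Q : Set G)).mul_mem
      ((le_sup_right : _ ≤ (Q ⊓ R) ⊔ centralizer (Q : Set G)) ha)
      ((le_sup_left : _ ≤ (Q ⊓ R) ⊔ centralizer (Q : Set G)) ⟨hbQ, hZR hb⟩)
  exact hQ.2 _ hle hcl

theorem commutatorElement_mul_left_of_commute (a b z : G) (hza : Commute z a) (hzb : Commute z b) :
    ⁅a * z, b⁆ = ⁅a, b⁆ := by
  rw [commutatorElement_def, commutatorElement_def]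
  have h1 : z * b * z⁻¹ = b := by rw [hzb.eq]; group
  calc a * z * b * (a * z)⁻¹ * b⁻¹ = a * (z * b * z⁻¹) * a⁻¹ * b⁻¹ := by group
    _ = a * b * a⁻¹ * b⁻¹ := by rw [h1]

theorem commutatorElement_mul_right_of_commute (a b z : G) (hza : Commute z a) (hzb : Commute z b) :
    ⁅a, b * z⁆ = ⁅a, b⁆ := by
  rw [commutatorElement_def, commutatorElement_def]
  have h1 : z * a⁻¹ * z⁻¹ = a⁻¹ := by rw [hza.inv_right.eq]; group
  calc a * (b * z) * a⁻¹ * (b * z)⁻¹ = a * b * (z * a⁻¹ * z⁻¹) * b⁻¹ := by group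
    _ = a * b * a⁻¹ * b⁻¹ := by rw [h1]

theorem mcl_commutator [Finite G] (Q R : Subgroup G) (hQ : Cfsg.IsMinimalCentrallyLarge Q)
    (hR : Cfsg.IsCentrallyLarge R) : ⁅Q, Q⁆ = ⁅Q ⊓ R, Q ⊓ R⁆ := by
  apply le_antisymm _ (Subgroup.commutator_mono inf_le_left inf_le_left)
  have hdec := mcl_decomp Q R hQ hR
  have hset := Subgroup.coe_mul_of_left_le_normalizer_right (Q ⊓ R) (centralizer (Q : Set G))
    (le_trans inf_le_left (le_normalizer_centralizer' Q))
  rw [hdec] at hset
  have hZQ : centralizer (Q : Set G) ≤ Q := cl_centralizer_le Q hQ.1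
  rw [Subgroup.commutator_le]
  intro g₁ hg₁ g₂ hg₂
  have hg₁' : g₁ ∈ (Q : Set G) := hg₁
  have hg₂' : g₂ ∈ (Q : Set G) := hg₂
  rw [hset] at hg₁' hg₂'
  obtain ⟨d₁, hd₁, z₁, hz₁, rfl⟩ := Set.mem_mul.mp hg₁'
  obtain ⟨d₂, hd₂, z₂, hz₂, rfl⟩ := Set.mem_mul.mp hg₂'
  have c1 : Commute z₁ d₁ := (commute_of_mem_centralizer hz₁ hd₁.1).symm
  have c2 : Commute z₁ (d₂ * z₂) :=
    (commute_of_mem_centralizer hz₁ (Q.mul_mem hd₂.1 (hZQ hz₂))).symm
  have c3 : Commute z₂ d₁ := (commute_of_mem_centralizer hz₂ hd₁.1).symm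
  have c4 : Commute z₂ d₂ := (commute_of_mem_centralizer hz₂ hd₂.1).symm
  rw [commutatorElement_mul_left_of_commute _ _ _ c1 c2,
    commutatorElement_mul_right_of_commute _ _ _ c3 c4]
  exact Subgroup.commutator_mem_commutator hd₁ hd₂

theorem mcl_inf_centralizer [Finite G] (Q R : Subgroup G) (hQ : Cfsg.IsMinimalCentrallyLarge Q)
    (hR : Cfsg.IsCentrallyLarge R) :
    (Q ⊓ R) ⊓ centralizer (Q : Set G) = (Q ⊓ R) ⊓ centralizer ((Q ⊓ R : Subgroup G) : Set G) := by
  have hdec := mcl_decomp Q R hQ hR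
  apply le_antisymm
  · exact inf_le_inf_left _ (centralizer_le (by exact_mod_cast (inf_le_left : Q ⊓ R ≤ Q)))
  · rintro x ⟨hx1, hx2⟩
    refine ⟨hx1, ?_⟩
    have : centralizer (Q : Set G) = centralizer (((Q ⊓ R) ⊔ centralizer (Q : Set G) : Subgroup G) : Set G) := by
      rw [hdec]
    rw [this, centralizer_sup']
    exact ⟨hx2, le_centralizer_centralizer' Q hx1.1⟩

theorem mcl_card_formula [Finite G] (Q R : Subgroup G) (hQ : Cfsg.IsMinimalCentrallyLarge Q)
    (hR : Cfsg.IsCentrallyLarge R) :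
    Nat.card Q * Nat.card ↥((Q ⊓ R) ⊓ centralizer ((Q ⊓ R : Subgroup G) : Set G)) =
      Nat.card ↥(Q ⊓ R) * Nat.card ↥(centralizer (Q : Set G)) := by
  have hdec := mcl_decomp Q R hQ hR
  have := card_sup_mul_card_inf_of_le_normalizer (Q ⊓ R) (centralizer (Q : Set G))
    (le_trans inf_le_left (le_normalizer_centralizer' Q))
  rw [hdec, mcl_inf_centralizer Q R hQ hR] at this
  exact this

theorem mcl_card [Finite G] (Q R : Subgroup G) (hQ : Cfsg.IsMinimalCentrallyLarge Q)
    (hR : Cfsg.IsMinimalCentrallyLarge R) :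
    Nat.card Q = Nat.card R ∧ Nat.card ↥(centralizer (Q : Set G)) = Nat.card ↥(centralizer (R : Set G)) := by
  have F1 := mcl_card_formula Q R hQ hR.1
  have F2 := mcl_card_formula R Q hR hQ.1
  rw [inf_comm R Q] at F2
  have hZQ := (cl_imp Q hQ.1).2
  have hZR := (cl_imp R hR.1).2
  have C1 := (isCentrallyLarge_iff Q).mp hQ.1
  have C2 := (isCentrallyLarge_iff R).mp hR.1
  unfold clm at C1 C2
  rw [← hZQ] at C1
  rw [← hZR] at C2
  set q := Nat.card Q
  set r := Nat.card R
  set d := Nat.card ↥(Q ⊓ R)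
  set w := Nat.card ↥((Q ⊓ R) ⊓ centralizer ((Q ⊓ R : Subgroup G) : Set G))
  set zq := Nat.card ↥(centralizer (Q : Set G))
  set zr := Nat.card ↥(centralizer (R : Set G))
  have qpos : 0 < q := Nat.card_pos
  have rpos : 0 < r := Nat.card_pos
  have wpos : 0 < w := Nat.card_pos
  have hqr : q * zq = r * zr := by rw [C1, C2]
  have hsq : q * q = r * r := by
    have : (q * q) * w = (r * r) * w := by
      calc (q * q) * w = q * (q * w) := by ring
        _ = q * (d * zq) := by rw [F1]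
        _ = d * (q * zq) := by ring
        _ = d * (r * zr) := by rw [hqr]
        _ = r * (d * zr) := by ring
        _ = r * (r * w) := by rw [F2]
        _ = (r * r) * w := by ring
    exact Nat.eq_of_mul_eq_mul_right wpos this
  have hq : q = r := Nat.mul_self_inj.mp hsq
  refine ⟨hq, ?_⟩
  rw [hq] at hqr
  exact Nat.eq_of_mul_eq_mul_left rpos hqr

theorem clm_of_abelian (B : Subgroup G) (hB : IsMulCommutative B) : clm B = Nat.card B * Nat.card B := by
  unfold clm
  rw [inf_eq_left.mpr (le_centralizer_of_isMulCommutative B hB)]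

theorem isMulCommutative_of_commutator_eq_bot (X : Subgroup G) (h : ⁅X, X⁆ = ⊥) : IsMulCommutative X :=
  le_centralizer_iff_isMulCommutative.mp (Subgroup.commutator_eq_bot_iff_le_centralizer.mp h)

theorem commutator_eq_bot_of_isMulCommutative (X : Subgroup G) (h : IsMulCommutative X) : ⁅X, X⁆ = ⊥ :=
  Subgroup.commutator_eq_bot_iff_le_centralizer.mpr (le_centralizer_of_isMulCommutative X h)

/-- If one minimal centrally large subgroup is abelian, they are exactly the abelian subgroups of largest order. -/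
theorem mcl_abelian [Finite G] (Q : Subgroup G) (hQ : Cfsg.IsMinimalCentrallyLarge Q)
    (hQab : IsMulCommutative Q) (X : Subgroup G) :
    Cfsg.IsMinimalCentrallyLarge X ↔ X ∈ Cfsg.maxAbelianSubgroups G := by
  have hQclm := (isCentrallyLarge_iff Q).mp hQ.1
  rw [clm_of_abelian Q hQab] at hQclm
  have hQQ : ⁅Q, Q⁆ = ⊥ := commutator_eq_bot_of_isMulCommutative Q hQab
  -- abelian subgroups are no larger than Q
  have hle : ∀ B : Subgroup G, IsMulCommutative B → Nat.card B ≤ Nat.card Q := by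
    intro B hB
    have := clm_le_max B
    rw [clm_of_abelian B hB, ← hQclm] at this
    exact Nat.mul_self_le_mul_self_iff.mp this
  have hmclab : ∀ Y : Subgroup G, Cfsg.IsMinimalCentrallyLarge Y → IsMulCommutative Y := by
    intro Y hY
    apply isMulCommutative_of_commutator_eq_bot
    rw [mcl_commutator Y Q hY hQ.1]
    apply le_bot_iff.mp
    rw [← hQQ]
    exact Subgroup.commutator_mono inf_le_right inf_le_right
  constructor
  · intro hX
    refine ⟨hmclab X hX, fun B hB => ?_⟩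
    rw [(mcl_card X Q hX hQ).1]
    exact hle B hB
  · rintro ⟨hXab, hXmax⟩
    have hXQ : Nat.card X = Nat.card Q := le_antisymm (hle X hXab) (hXmax Q hQab)
    have hXcl : Cfsg.IsCentrallyLarge X := by
      rw [isCentrallyLarge_iff, clm_of_abelian X hXab, hXQ, hQclm]
    refine ⟨hXcl, fun X' hX'le hX' => ?_⟩
    obtain ⟨Y, hY, hYle⟩ := exists_isMinimalCentrallyLarge_le X' hX'
    have hYQ := (mcl_card Y Q hY hQ).1
    have : Y = X := eq_of_le_of_card_le' (le_trans hYle hX'le) (by rw [hYQ, hXQ])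
    exact le_antisymm hX'le (this ▸ hYle)

end Cfsg.Agent.Helper50
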