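import Mathlib
import Cfsg.Agent.Helper2.CS2Defs
import Cfsg.Agent.Helper2.CS2Defs2
import Cfsg.Agent.Helper2.CS2Basic
import Cfsg.Agent.Helper51.CS2P0b
import Cfsg.Agent.Helper80.CS2P0a

/-!
# S4284, piece (B7a) (helper50 for helper2): existence of the Case-B configuration

`caseB_config_of` is the construction with the two skeleton lemmas `CaseB.exists_good` (P0a) and
`caseB_b_good` (B6) taken as explicit hypotheses.
-/

set_option autoImplicit false

namespace Cfsg.Agent.Helper50.CS2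
open Cfsg.Agent.Helper2.CS2 Subgroup

variable {G : Type*} [Group G] [Finite G] {m n : ℕ}

omit [Finite G] in
/-- an element of a Sylow `t`-subgroup is a `t`-element -/
theorem isPElt_of_mem_sylow {t : ℕ} [Fact t.Prime] (T : Sylow t G) {g : G}
    (hg : g ∈ (T : Subgroup G)) : IsPElt t g := by
  obtain ⟨k, hk⟩ := T.2 ⟨g, hg⟩
  have h1 : g ^ t ^ k = 1 := by
    have := congrArg Subtype.val hk
    simpa using this
  have h2 : orderOf g ∣ t ^ k := orderOf_dvd_of_pow_eq_one h1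
  obtain ⟨j, _, hj⟩ := (Nat.dvd_prime_pow (Fact.out : t.Prime)).mp h2
  exact ⟨j, hj⟩

/-- in Case B a noncentral `t`-element, `t ∣ m`, has class size `m * n` -/
theorem idx_eq_of_caseB (h : Hyp G m n) (hB : CaseB G m) {t : ℕ} (ht : t.Prime) (htm : t ∣ m)
    {y : G} (hy : IsPElt t y) (hyc : y ∉ center G) : idx y = m * n := by
  rcases h.idx_of_not_mem_center hyc with h1 | h1
  · exact absurd h1 (hB t y ht htm hy)
  · exact h1

omit [Finite G] in
/-- the Sylow `r`-subgroup of the centre lies in every Sylow `r`-subgroup of a subgroup `K ≥ Z(G)`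
whose image lies in `R` -/
theorem inf_center_le_map_sylow {r : ℕ} [Fact r.Prime] (K : Subgroup G) (hK : center G ≤ K)
    (Q : Sylow r K) (R : Sylow r G) (hQR : (Q : Subgroup K).map K.subtype ≤ (R : Subgroup G)) :
    (R : Subgroup G) ⊓ center G ≤ (Q : Subgroup K).map K.subtype := by
  set J : Subgroup G := (Q : Subgroup K).map K.subtype ⊔ ((R : Subgroup G) ⊓ center G) with hJ
  have hJR : J ≤ (R : Subgroup G) := sup_le hQR inf_le_left
  have hJK : J ≤ K := sup_le (Subgroup.map_subtype_le _) (inf_le_right.trans hK)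
  have hJp : IsPGroup r J := R.2.to_le hJR
  have hJp' : IsPGroup r (J.subgroupOf K) := hJp.comap_subtype
  have hQJ : (Q : Subgroup K) ≤ J.subgroupOf K := by
    intro q hq
    rw [Subgroup.mem_subgroupOf]
    exact le_sup_left (a := (Q : Subgroup K).map K.subtype) ⟨q, hq, rfl⟩
  have heq : J.subgroupOf K = (Q : Subgroup K) := Q.is_maximal' hJp' hQJ
  intro z hz
  have hzJ : z ∈ J := le_sup_right (a := (Q : Subgroup K).map K.subtype) hz
  have hzK : z ∈ K := hJK hzJ
  have : (⟨z, hzK⟩ : K) ∈ J.subgroupOf K := by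
    rw [Subgroup.mem_subgroupOf]
    exact hzJ
  rw [heq] at this
  exact ⟨⟨z, hzK⟩, this, rfl⟩

/-- (B7a), with `CaseB.exists_good` and (B6) as hypotheses -/
theorem caseB_config_of (h : Hyp G m n) (hB : CaseB G m)
    (hsq : ∀ t : ℕ, t.Prime → t ∣ m → m.factorization t = 1) (hS : StructB G m)
    (hgood : ∃ (r : ℕ) (x : G), Good m r x)
    (hB6 : ∀ {r : ℕ} {x : G}, Good m r x → ∀ {t : ℕ}, t.Prime → t ∣ m → ∀ {g : G}, IsPElt t g →
      (∃ γ : G, ¬ Commute g (γ * x * γ⁻¹)) → ∀ {b : G}, IsPElt r b → b ∉ center G → Commute g b →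
      Good m r b ∧ ∀ γ δ : G, Commute (γ * x * γ⁻¹) (δ * b * δ⁻¹)) :
    ∃ (r t : ℕ) (_ : Fact t.Prime) (x b a₀ g : G) (T : Sylow t G), ConfigB G m r t x b a₀ g T := by
  obtain ⟨r, x, hx⟩ := hgood
  have hxg := hx
  obtain ⟨hr, hrm, hxr, hxm⟩ := hx
  obtain ⟨t, ht, htm⟩ := Nat.exists_prime_and_dvd (Nat.ne_of_gt h.one_lt_m)
  have hFt : Fact t.Prime := ⟨ht⟩
  have hFr : Fact r.Prime := ⟨hr⟩
  have hvt : (idx x).factorization t = 1 := by rw [hxm]; exact hsq t ht htm
  have ht2 : 2 ≤ t := ht.two_le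
  -- a noncentral `t`-element `a₀` of `C(x)`
  obtain ⟨a₀, ha₀x, ha₀t, ha₀Z⟩ : ∃ a₀ ∈ Cn x, IsPElt t a₀ ∧ a₀ ∉ center G := by
    have Q₀ : Sylow t (Cn x) := default
    have T₀ : Sylow t G := default
    have h1 := Cfsg.Agent.Helper51.CS2.card_sylow_Cn x Q₀ T₀
    rw [hvt, pow_one] at h1
    have h2 := hS.d htm T₀
    have h3 : 0 < Nat.card ((T₀ : Subgroup G) ⊓ center G : Subgroup G) := Nat.card_pos
    refine Cfsg.Agent.Helper51.CS2.exists_pElt_of_card_lt (Cn x) Q₀ T₀ ?_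
    have h4 : Nat.card Q₀ * t = t * (t * Nat.card ((T₀ : Subgroup G) ⊓ center G : Subgroup G)) := by
      rw [h1, h2]; ring
    have h5 : Nat.card Q₀ = t * Nat.card ((T₀ : Subgroup G) ⊓ center G : Subgroup G) := by
      have := Nat.eq_of_mul_eq_mul_right (show 0 < t by omega) (by rw [h4]; ring :
        Nat.card Q₀ * t = (t * Nat.card ((T₀ : Subgroup G) ⊓ center G : Subgroup G)) * t)
      exact this
    rw [h5]
    nlinarith
  -- a Sylow `t`-subgroup `T` containing `a₀`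
  obtain ⟨Q, T, ha₀Q, hQT⟩ := Cfsg.Agent.Helper51.CS2.exists_sylow_ge (Cn x) ha₀x ha₀t
  have ha₀T : a₀ ∈ (T : Subgroup G) := hQT ha₀Q
  -- `g ∈ T`, not commuting with `x`
  obtain ⟨g, hgT, hgx⟩ : ∃ g ∈ (T : Subgroup G), g ∉ Cn x := by
    by_contra hcon
    push Not at hcon
    have hle : (T : Subgroup G) ≤ Cn x := fun g hg => hcon g hg
    have := Cfsg.Agent.Helper51.CS2.not_dvd_index_of_sylow_le T (Cn x) hle
    have hdvd : t ∣ (Cn x).index := by
      have : idx x = (Cn x).index := rfl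
      rw [← this, hxm]
      exact htm
    exact this hdvd
  have hgx' : ¬ Commute g x := fun hc => hgx (mem_Cn_iff'.2 hc)
  have hgt : IsPElt t g := isPElt_of_mem_sylow T hgT
  have hgZ : g ∉ center G := fun hz => hgx' ((Subgroup.mem_center_iff.1 hz x).symm)
  have hidg : idx g = m * n := idx_eq_of_caseB h hB ht htm hgt hgZ
  have hida : idx a₀ = m * n := idx_eq_of_caseB h hB ht htm ha₀t ha₀Z
  have hca : Commute a₀ x := mem_Cn_iff'.1 ha₀x
  -- `x` is a noncentral `r`-element of `C(a₀)`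
  have hxZ : x ∉ center G := by
    intro hz
    have := (idx_eq_one_iff x).2 hz
    have := h.one_lt_m
    omega
  have hxa : x ∈ Cn a₀ := mem_Cn_iff'.2 hca.symm
  obtain ⟨Qr, R, hxQ, hQR⟩ := Cfsg.Agent.Helper51.CS2.exists_sylow_ge (Cn a₀) hxa hxr
  have hZQ : (R : Subgroup G) ⊓ center G ≤ (Qr : Subgroup (Cn a₀)).map (Cn a₀).subtype :=
    inf_center_le_map_sylow (Cn a₀) (center_le_Cn a₀) Qr R hQR
  have hlt : Nat.card ((R : Subgroup G) ⊓ center G : Subgroup G) < Nat.card Qr := by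
    have h2 : Nat.card ((Qr : Subgroup (Cn a₀)).map (Cn a₀).subtype) = Nat.card Qr :=
      Subgroup.card_map_of_injective (Cn a₀).subtype_injective
    by_contra hge
    push Not at hge
    rw [← h2] at hge
    have := Subgroup.eq_of_le_of_card_ge hZQ hge
    rw [← this] at hxQ
    exact hxZ hxQ.2
  -- a noncentral `r`-element `b` of `C(g)`
  obtain ⟨b, hbg, hbr, hbZ⟩ : ∃ b ∈ Cn g, IsPElt r b ∧ b ∉ center G := by
    have Q' : Sylow r (Cn g) := default
    refine Cfsg.Agent.Helper51.CS2.exists_pElt_of_card_lt (Cn g) Q' R ?_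
    have h1 := Cfsg.Agent.Helper51.CS2.card_sylow_Cn g Q' R
    have h2 := Cfsg.Agent.Helper51.CS2.card_sylow_Cn a₀ Qr R
    rw [hidg] at h1
    rw [hida] at h2
    have h3 : 0 < r ^ (m * n).factorization r := pow_pos hr.pos _
    have h4 : Nat.card Q' = Nat.card Qr :=
      Nat.eq_of_mul_eq_mul_right h3 (h1.trans h2.symm)
    rw [h4]
    exact hlt
  have hgb : Commute g b := (mem_Cn_iff'.1 hbg).symm
  obtain ⟨hbgood, hxb⟩ := hB6 hxg ht htm hgt ⟨1, by simpa using hgx'⟩ hbr hbZ hgb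
  refine ⟨r, t, hFt, x, b, a₀, g, T, ?_⟩
  exact
    { htm := htm
      hx := hxg
      hb := hbgood
      ha₀T := ha₀T
      hgT := hgT
      ha₀Z := ha₀Z
      ha₀x := fun γ => hS.c hxg ht htm ha₀t hca γ
      hgb := fun γ => hS.c hbgood ht htm hgt hgb γ
      hgx := hgx'
      hxb := hxb }

/-- (B7a), with only (B6) `caseB_b_good` as a hypothesis (`CaseB.exists_good` from helper80's P0a) -/
theorem caseB_config_of_B6 (h : Hyp G m n) (hB : CaseB G m)
    (hsq : ∀ t : ℕ, t.Prime → t ∣ m → m.factorization t = 1) (hS : StructB G m)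
    (hB6 : ∀ {r : ℕ} {x : G}, Good m r x → ∀ {t : ℕ}, t.Prime → t ∣ m → ∀ {g : G}, IsPElt t g →
      (∃ γ : G, ¬ Commute g (γ * x * γ⁻¹)) → ∀ {b : G}, IsPElt r b → b ∉ center G → Commute g b →
      Good m r b ∧ ∀ γ δ : G, Commute (γ * x * γ⁻¹) (δ * b * δ⁻¹)) :
    ∃ (r t : ℕ) (_ : Fact t.Prime) (x b a₀ g : G) (T : Sylow t G), ConfigB G m r t x b a₀ g T :=
  caseB_config_of h hB hsq hS (Cfsg.Agent.Helper80.CS2.CaseB.exists_good h hB) hB6

end Cfsg.Agent.Helper50.CS2
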