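import Cfsg.Agent.Helper50.CS2B7a
import Cfsg.Agent.Helper51.CS2B6

/-!
# S4284, piece (B7a) (helper50 for helper2): `caseB_config` with the exact skeleton signature
-/

set_option autoImplicit false

namespace Cfsg.Agent.Helper50.CS2
open Cfsg.Agent.Helper2.CS2 Subgroup

variable {G : Type*} [Group G] [Finite G] {m n : ℕ}

/-- (B7a) -/
theorem caseB_config (h : Hyp G m n) (hB : CaseB G m)
    (hsq : ∀ t : ℕ, t.Prime → t ∣ m → m.factorization t = 1) (hS : StructB G m) :
    ∃ (r t : ℕ) (_ : Fact t.Prime) (x b a₀ g : G) (T : Sylow t G), ConfigB G m r t x b a₀ g T :=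
  caseB_config_of_B6 h hB hsq hS
    (fun hx _ ht htm _ hg hgK _ hb hbc hgb =>
      Cfsg.Agent.Helper51.CS2.caseB_b_good h hB hS hx ht htm hg hgK hb hbc hgb)

end Cfsg.Agent.Helper50.CS2
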