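import Mathlib

/-!
# Chief factors against a normal subgroup; small `p`-group actions (helper50)

* `IsChief H K`: `H/K` is a chief factor of `G`.
* `IsChief.inf`: if `H ⊓ N ≰ K` then `(H ⊓ N)/(K ⊓ N)` is a chief factor of the same order.
* `IsChief.map_mk`: if `H ⊓ N ≤ K` then the image in `G ⧸ N` is a chief factor of the same order.
* `relIndex_dvd_relIndex_of_inf_le`: if `H ⊓ N ≤ K` then `|H : K|` divides `|H : H ⊓ N|`.
* `card_le_mul_card_ker_of_card_sq`: a `p`-group acting on a group of order `p ^ 2` induces a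
  group of automorphisms of order at most `p`.
* `ppow_dvd_relIndex_sylow`: the `p`-part of the index of a normal subgroup is seen in a Sylow
  `p`-subgroup.
-/

set_option autoImplicit false

namespace Cfsg.Agent.Helper50

variable {G : Type*} [Group G]

/-- `H/K` is a chief factor of `G` -/
def IsChief (H K : Subgroup G) : Prop :=
  H.Normal ∧ K.Normal ∧ K < H ∧
    ∀ L : Subgroup G, L.Normal → K ≤ L → L ≤ H → L = K ∨ L = H

theorem IsChief.inf_sup_eq {H K : Subgroup G} (h : IsChief H K) (N : Subgroup G) [hN : N.Normal]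
    (hNK : ¬ H ⊓ N ≤ K) : (H ⊓ N) ⊔ K = H := by
  obtain ⟨hH, hK, hlt, hmax⟩ := h
  have hn : ((H ⊓ N) ⊔ K).Normal := inferInstance
  rcases hmax _ hn le_sup_right (sup_le inf_le_left hlt.le) with h1 | h1
  · exact absurd (h1 ▸ le_sup_left) hNK
  · exact h1

theorem IsChief.inf {H K : Subgroup G} (h : IsChief H K) (N : Subgroup G) [hN : N.Normal]
    (hNK : ¬ H ⊓ N ≤ K) :
    IsChief (H ⊓ N) (K ⊓ N) ∧ (K ⊓ N).relIndex (H ⊓ N) = K.relIndex H := by
  have hsup := h.inf_sup_eq N hNK
  obtain ⟨hH, hK, hlt, hmax⟩ := h
  have hle : K ⊓ N ≤ H ⊓ N := inf_le_inf_right N hlt.le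
  refine ⟨⟨inferInstance, inferInstance, lt_of_le_of_ne hle ?_, ?_⟩, ?_⟩
  · intro heq
    apply hNK
    rw [← heq]
    exact inf_le_left
  · intro L hL hKL hLH
    have hn : (L ⊔ K).Normal := inferInstance
    rcases hmax _ hn le_sup_right (sup_le (hLH.trans inf_le_left) hlt.le) with h1 | h1
    · left
      apply le_antisymm _ hKL
      have : L ≤ K := h1 ▸ le_sup_left
      exact le_inf this (hLH.trans inf_le_right)
    · right
      apply le_antisymm hLH
      intro x hx
      have hxH : x ∈ L ⊔ K := h1 ▸ hx.1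
      rw [Subgroup.mem_sup_of_normal_right] at hxH
      obtain ⟨l, hl, k, hk, rfl⟩ := hxH
      have hkN : k ∈ N := by
        have : k = l⁻¹ * (l * k) := by group
        rw [this]
        exact N.mul_mem (N.inv_mem (hLH hl).2) hx.2
      exact L.mul_mem hl (hKL ⟨hk, hkN⟩)
  · have h1 : K ⊓ N = K ⊓ (H ⊓ N) := by
      rw [← inf_assoc, inf_of_le_left hlt.le]
    rw [h1, Subgroup.inf_relIndex_right, ← Subgroup.relIndex_sup_right (H ⊓ N) K, hsup]

theorem relIndex_dvd_relIndex_of_inf_le {H K N : Subgroup G} (hNK : H ⊓ N ≤ K) :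
    K.relIndex H ∣ N.relIndex H := by
  rw [← Subgroup.inf_relIndex_left H N]
  exact Subgroup.relIndex_dvd_of_le_left H hNK

theorem IsChief.map_mk {H K : Subgroup G} (h : IsChief H K) (N : Subgroup G) [hN : N.Normal]
    (hNK : H ⊓ N ≤ K) :
    IsChief (H.map (QuotientGroup.mk' N)) (K.map (QuotientGroup.mk' N)) ∧
      (K.map (QuotientGroup.mk' N)).relIndex (H.map (QuotientGroup.mk' N)) = K.relIndex H := by
  obtain ⟨hH, hK, hlt, hmax⟩ := h
  set π := QuotientGroup.mk' N with hπ
  have hπs : Function.Surjective π := QuotientGroup.mk'_surjective N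
  have hker : π.ker = N := QuotientGroup.ker_mk' N
  have hinf : (K ⊔ N) ⊓ H = K := by
    apply le_antisymm _ (le_inf le_sup_left hlt.le)
    intro x hx
    have hx1 : x ∈ K ⊔ N := hx.1
    rw [Subgroup.mem_sup_of_normal_right] at hx1
    obtain ⟨k, hk, n, hn, rfl⟩ := hx1
    have hnH : n ∈ H := by
      have : n = k⁻¹ * (k * n) := by group
      rw [this]
      exact H.mul_mem (H.inv_mem (hlt.le hk)) hx.2
    exact K.mul_mem hk (hNK ⟨hnH, hn⟩)
  have hrel : (K.map π).relIndex (H.map π) = K.relIndex H := by
    rw [Subgroup.relIndex_map_map, hker]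
    have h1 : H ⊔ N = H ⊔ (K ⊔ N) := by
      rw [← sup_assoc, sup_of_le_left hlt.le]
    rw [h1, Subgroup.relIndex_sup_right, ← Subgroup.inf_relIndex_right, hinf]
  refine ⟨⟨Subgroup.Normal.map hH π hπs, Subgroup.Normal.map hK π hπs, ?_, ?_⟩, hrel⟩
  · refine lt_of_le_of_ne (Subgroup.map_mono hlt.le) ?_
    intro heq
    have h1 : (K.map π).relIndex (H.map π) = 1 := by
      rw [heq]; exact Subgroup.relIndex_self _
    rw [hrel, Subgroup.relIndex_eq_one] at h1
    exact not_le_of_gt hlt h1
  · intro L hL hKL hLH
    have hLn : (L.comap π).Normal := Subgroup.Normal.comap hL π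
    have hn : (L.comap π ⊓ H).Normal := inferInstance
    have hK1 : K ≤ L.comap π ⊓ H := by
      refine le_inf ?_ hlt.le
      intro k hk
      exact hKL (Subgroup.mem_map_of_mem π hk)
    rcases hmax _ hn hK1 inf_le_right with h1 | h1
    · left
      apply le_antisymm _ hKL
      intro y hy
      obtain ⟨x, hx, rfl⟩ := Subgroup.mem_map.mp (hLH hy)
      have : x ∈ L.comap π ⊓ H := ⟨hy, hx⟩
      rw [h1] at this
      exact Subgroup.mem_map_of_mem π this
    · right
      apply le_antisymm hLH
      have h2 : H ≤ L.comap π := h1 ▸ inf_le_left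
      calc H.map π ≤ (L.comap π).map π := Subgroup.map_mono h2
        _ ≤ L := Subgroup.map_comap_le π L

/-- A `p`-group acting on a group of order `p ^ 2` induces at most `p` automorphisms. -/
theorem card_le_mul_card_ker_of_card_sq {T E : Type*} [Group T] [Finite T] [Group E] [Finite E]
    {p : ℕ} [hp : Fact p.Prime] (hT : IsPGroup p T) (hE : Nat.card E = p ^ 2)
    (φ : T →* MulAut E) : Nat.card T ≤ p * Nat.card φ.ker := by
  classical
  letI : MulAction T E := MulAction.compHom E φ
  have hsmul : ∀ (t : T) (e : E), t • e = φ t e := fun _ _ => rfl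
  -- the subgroup of fixed points
  let F : Subgroup E :=
    { carrier := {x | ∀ t : T, φ t x = x}
      one_mem' := fun t => map_one _
      mul_mem' := by
        intro a b ha hb t
        rw [map_mul, ha t, hb t]
      inv_mem' := by
        intro a ha t
        rw [map_inv, ha t] }
  have hFfix : (F : Set E) = MulAction.fixedPoints T E := by
    ext x
    simp only [MulAction.mem_fixedPoints, hsmul]
    rfl
  have hmod := hT.card_modEq_card_fixedPoints E
  have hFcard : Nat.card F = Nat.card (MulAction.fixedPoints T E) := by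
    have : (F : Set E) = MulAction.fixedPoints T E := hFfix
    exact Nat.card_congr (Equiv.setCongr this)
  have hpF : p ∣ Nat.card F := by
    rw [hFcard]
    have h0 : Nat.card E ≡ 0 [MOD p] := by
      rw [hE]
      exact (Nat.modEq_zero_iff_dvd).mpr (dvd_pow_self p (by norm_num))
    exact (Nat.modEq_zero_iff_dvd).mp (hmod.symm.trans h0)
  -- the fixed subgroup of one automorphism
  have hfixsub : ∀ t : T, (∃ e : E, e ∉ F ∧ φ t e = e) → Nat.card F = p → φ t = 1 := by
    intro t ⟨e, heF, hte⟩ hFp
    let Fx : Subgroup E :=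
      { carrier := {x | φ t x = x}
        one_mem' := map_one _
        mul_mem' := by
          intro a b ha hb
          show φ t (a * b) = a * b
          rw [map_mul, show φ t a = a from ha, show φ t b = b from hb]
        inv_mem' := by
          intro a ha
          show φ t a⁻¹ = a⁻¹
          rw [map_inv, show φ t a = a from ha] }
    have hFFx : F ≤ Fx := fun x hx => hx t
    have hlt : F < Fx := by
      refine lt_of_le_of_ne hFFx ?_
      intro heq
      apply heF
      rw [heq]
      exact hte
    have hne : Nat.card Fx ≠ p := by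
      intro h
      have := Subgroup.eq_of_le_of_card_ge hFFx (by rw [h, hFp])
      exact hlt.ne this
    have hdvd1 : p ∣ Nat.card Fx := hFp ▸ Subgroup.card_dvd_of_le hFFx
    have hdvd2 : Nat.card Fx ∣ p ^ 2 := hE ▸ Subgroup.card_subgroup_dvd_card Fx
    obtain ⟨j, hj, hjc⟩ := (Nat.dvd_prime_pow hp.out).mp hdvd2
    have hj2 : j = 2 := by
      interval_cases j
      · rw [hjc, pow_zero] at hdvd1
        exact absurd (Nat.le_of_dvd one_pos hdvd1) (not_le.mpr hp.out.one_lt)
      · rw [pow_one] at hjc
        exact absurd hjc hne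
      · rfl
    have htop : Fx = ⊤ := by
      apply Subgroup.eq_top_of_card_eq
      rw [hjc, hj2, hE]
    ext x
    have : x ∈ Fx := by rw [htop]; trivial
    exact this
  -- cases on the order of `F`
  have hdvdF : Nat.card F ∣ p ^ 2 := hE ▸ Subgroup.card_subgroup_dvd_card F
  obtain ⟨j, hj, hjc⟩ := (Nat.dvd_prime_pow hp.out).mp hdvdF
  have hkpos : 0 < Nat.card φ.ker := Nat.card_pos
  interval_cases j
  · rw [hjc, pow_zero] at hpF
    exact absurd (Nat.le_of_dvd one_pos hpF) (not_le.mpr hp.out.one_lt)
  · rw [pow_one] at hjc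
    -- pick `e ∉ F`
    have hFtop : F ≠ ⊤ := by
      intro h
      have : Nat.card F = p ^ 2 := by rw [h, Subgroup.card_top, hE]
      rw [hjc] at this
      have h1 : p ^ 1 = p ^ 2 := by rw [pow_one]; exact this
      exact absurd (Nat.pow_right_injective hp.out.two_le h1) (by norm_num)
    obtain ⟨e, heF⟩ : ∃ e : E, e ∉ F := by
      by_contra hcon
      push Not at hcon
      exact hFtop (Subgroup.eq_top_iff' F |>.mpr hcon)
    have hstab : MulAction.stabilizer T e ≤ φ.ker := by
      intro t ht
      rw [MonoidHom.mem_ker]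
      apply hfixsub t ⟨e, heF, ?_⟩ hjc
      have := MulAction.mem_stabilizer_iff.mp ht
      rwa [hsmul] at this
    have horb : Nat.card (MulAction.orbit T e) * Nat.card (MulAction.stabilizer T e) =
        Nat.card T := by
      rw [← Nat.card_prod]
      exact Nat.card_congr (MulAction.orbitProdStabilizerEquivGroup T e)
    obtain ⟨n, hn⟩ := hT.card_orbit e
    have horblt : Nat.card (MulAction.orbit T e) < p ^ 2 := by
      rw [← hE, Nat.card_coe_set_eq]
      apply Set.ncard_lt_card
      intro huniv
      have h1 : (1 : E) ∈ MulAction.orbit T e := by rw [huniv]; trivial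
      obtain ⟨t, ht⟩ := h1
      have ht' : φ t e = 1 := by simpa [hsmul] using ht
      have he1 : e = 1 := by
        have := (φ t).injective (ht'.trans (map_one (φ t)).symm)
        exact this
      apply heF
      rw [he1]
      exact F.one_mem
    have hn1 : n ≤ 1 := by
      rw [hn] at horblt
      have := (Nat.pow_lt_pow_iff_right hp.out.one_lt).mp horblt
      omega
    have horbp : Nat.card (MulAction.orbit T e) ≤ p := by
      rw [hn]
      calc p ^ n ≤ p ^ 1 := Nat.pow_le_pow_right hp.out.pos hn1
        _ = p := pow_one p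
    calc Nat.card T = Nat.card (MulAction.orbit T e) * Nat.card (MulAction.stabilizer T e) :=
          horb.symm
      _ ≤ p * Nat.card φ.ker :=
          Nat.mul_le_mul horbp (Subgroup.card_le_of_le hstab)
  · -- everything is fixed
    have hFtop : F = ⊤ := by
      apply Subgroup.eq_top_of_card_eq
      rw [hjc, hE]
    have hker : φ.ker = ⊤ := by
      rw [Subgroup.eq_top_iff']
      intro t
      rw [MonoidHom.mem_ker]
      ext x
      have : x ∈ F := by rw [hFtop]; trivial
      exact this t
    rw [hker, Subgroup.card_top]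
    exact Nat.le_mul_of_pos_left _ hp.out.pos

/-- The `p`-part of the index of a normal subgroup is visible in a Sylow `p`-subgroup. -/
theorem ppow_dvd_relIndex_sylow [Finite G] {p : ℕ} [hp : Fact p.Prime] (S : Sylow p G)
    (N : Subgroup G) [N.Normal] {m : ℕ} (h : p ^ m ∣ N.index) :
    p ^ m ∣ N.relIndex (S : Subgroup G) := by
  have h1 : N.relIndex ((S : Subgroup G) ⊔ N) * ((S : Subgroup G) ⊔ N).index = N.index :=
    Subgroup.relIndex_mul_index le_sup_right
  rw [Subgroup.relIndex_sup_right] at h1
  have h2 : ((S : Subgroup G) ⊔ N).index ∣ (S : Subgroup G).index :=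
    Subgroup.index_dvd_of_le le_sup_left
  have h3 : (p ^ m).Coprime ((S : Subgroup G) ⊔ N).index := by
    apply Nat.Coprime.pow_left
    apply Nat.Coprime.coprime_dvd_right h2
    exact (Nat.Prime.coprime_iff_not_dvd hp.out).mpr S.not_dvd_index
  rw [← h1] at h
  exact h3.dvd_of_dvd_mul_right h

end Cfsg.Agent.Helper50
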