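import Mathlib
import Cfsg.Agent.Helper52.ClassTwo

/-!
# `p`-central `p`-groups (helper50)

A group is `p`-central when every element `x` with `x ^ p = 1` is central.  For a finite
`p`-central `p`-group `P` with `p` odd we show:

* `PCentral.comm_pow`: if `x ^ (p ^ 2) = 1` then every commutator of `x` has `p`-th power `1`;
* `PCentral.pow_inv_mul`: `x ^ p = y ^ p → (x⁻¹ * y) ^ p = 1`;
* `PCentral.card_le`: if a subgroup `K` contains all `p`-th powers then
  `|P| ≤ |K| * |Ω₁(P)|`.
-/

set_option autoImplicit false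

universe u

namespace Cfsg.Agent.Helper50

/-- every element of order dividing `p` is central -/
def PCentral (p : ℕ) (P : Type*) [Group P] : Prop :=
  ∀ x : P, x ^ p = 1 → ∀ y : P, x * y = y * x

theorem PCentral.subgroup {p : ℕ} {P : Type*} [Group P] (h : PCentral p P) (H : Subgroup P) :
    PCentral p H := by
  intro x hx y
  apply Subtype.ext
  have hx' : (x : P) ^ p = 1 := by simpa using congrArg Subtype.val hx
  simpa using h x hx' y

/-- the subgroup of elements of order dividing `p` in a `p`-central group -/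
def PCentral.omega {p : ℕ} {P : Type*} [Group P] (h : PCentral p P) : Subgroup P where
  carrier := {x | x ^ p = 1}
  one_mem' := one_pow p
  mul_mem' := by
    intro a b ha hb
    have hc : Commute a b := h a ha b
    show (a * b) ^ p = 1
    rw [hc.mul_pow, show a ^ p = 1 from ha, show b ^ p = 1 from hb, one_mul]
  inv_mem' := by
    intro a ha
    show a⁻¹ ^ p = 1
    rw [inv_pow, show a ^ p = 1 from ha, inv_one]

theorem PCentral.mem_omega {p : ℕ} {P : Type*} [Group P] (h : PCentral p P) {x : P} :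
    x ∈ h.omega ↔ x ^ p = 1 := Iff.rfl

instance PCentral.omega_normal {p : ℕ} {P : Type*} [Group P] (h : PCentral p P) :
    h.omega.Normal := by
  constructor
  intro n hn g
  rw [h.mem_omega] at hn ⊢
  rw [← h n hn g, mul_inv_cancel_right]
  exact hn

theorem comm_pow_aux (p : ℕ) [hp : Fact p.Prime] (hp2 : p ≠ 2) :
    ∀ (n : ℕ) (P : Type u) [Group P] [Finite P], Nat.card P = n → IsPGroup p P → PCentral p P →
      ∀ x y : P, x ^ (p ^ 2) = 1 → (y * x * y⁻¹ * x⁻¹) ^ p = 1 := by
  intro n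
  induction n using Nat.strong_induction_on with
  | _ n ih =>
  intro P _ _ hn hP hc x y hx
  by_cases htop : Subgroup.zpowers x = ⊤
  · have hy : y ∈ Subgroup.zpowers x := by rw [htop]; trivial
    obtain ⟨k, rfl⟩ := Subgroup.mem_zpowers_iff.mp hy
    have : x ^ k * x * (x ^ k)⁻¹ * x⁻¹ = 1 := by group
    rw [this, one_pow]
  · obtain ⟨M, hM, hxM⟩ := (eq_top_or_exists_le_coatom (Subgroup.zpowers x)).resolve_left htop
    have hnil : Group.IsNilpotent P := hP.isNilpotent
    have hMn : M.Normal :=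
      Subgroup.NormalizerCondition.normal_of_coatom M Group.normalizerCondition_of_isNilpotent hM
    have hxm : x ∈ M := hxM (Subgroup.mem_zpowers x)
    set x' : P := y * x * y⁻¹ with hx'
    have hx'm : x' ∈ M := hMn.conj_mem x hxm y
    have hlt : Nat.card M < n := by
      rw [← hn]
      have hne : M ≠ ⊤ := hM.1
      have hle := Subgroup.card_le_card_group M
      rcases Nat.lt_or_ge (Nat.card M) (Nat.card P) with h | h
      · exact h
      · exact absurd (Subgroup.card_eq_iff_eq_top M |>.mp (le_antisymm hle h)) hne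
    have hx'pow : x' ^ (p ^ 2) = 1 := by
      rw [hx', conj_pow, hx]; group
    have key := ih (Nat.card M) hlt M rfl (hP.to_subgroup M) (hc.subgroup M)
      ⟨x', hx'm⟩ ⟨x⁻¹, M.inv_mem hxm⟩ (Subtype.ext (by simpa using hx'pow))
    have hcp : (x⁻¹ * x' * x⁻¹⁻¹ * x'⁻¹) ^ p = 1 := by
      simpa using congrArg Subtype.val key
    have hcc := hc _ hcp
    have hmul := Cfsg.Agent.Helper52.mul_pow_prime_of_commutator_central hp.out hp2 x' x⁻¹
      (hcc x') (hcc x⁻¹) hcp
    have hxp : (x ^ p) ^ p = 1 := by rw [← pow_mul, ← sq]; exact hx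
    have hxpc := hc _ hxp
    have h1 : x' ^ p = x ^ p := by
      rw [hx', conj_pow, ← hxpc y, mul_inv_cancel_right]
    have h2 : y * x * y⁻¹ * x⁻¹ = x' * x⁻¹ := by rw [hx']
    rw [h2, hmul, h1, inv_pow, mul_inv_cancel]

/-- In a finite `p`-central `p`-group with `p` odd, the commutators of an element of order dividing
`p ^ 2` have order dividing `p`. -/
theorem PCentral.comm_pow {p : ℕ} [Fact p.Prime] (hp2 : p ≠ 2) {P : Type u} [Group P] [Finite P]
    (hP : IsPGroup p P) (hc : PCentral p P) (x y : P) (hx : x ^ (p ^ 2) = 1) :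
    (y * x * y⁻¹ * x⁻¹) ^ p = 1 :=
  comm_pow_aux p hp2 _ P rfl hP hc x y hx

/-- The quotient of a finite `p`-central `p`-group (`p` odd) by `Ω₁` is again `p`-central. -/
theorem PCentral.quotient {p : ℕ} [Fact p.Prime] (hp2 : p ≠ 2) {P : Type u} [Group P] [Finite P]
    (hP : IsPGroup p P) (hc : PCentral p P) : PCentral p (P ⧸ hc.omega) := by
  intro a ha b
  induction a using QuotientGroup.induction_on with
  | H x =>
  induction b using QuotientGroup.induction_on with
  | H y =>
  have h1 : x ^ p ∈ hc.omega := by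
    rw [← QuotientGroup.mk_pow] at ha
    exact (QuotientGroup.eq_one_iff _).mp ha
  have hx : x⁻¹ ^ (p ^ 2) = 1 := by
    rw [inv_pow, sq, pow_mul, hc.mem_omega.mp h1, inv_one]
  have h2 := hc.comm_pow hp2 hP x⁻¹ y⁻¹ hx
  rw [inv_inv, inv_inv] at h2
  rw [← QuotientGroup.mk_mul, ← QuotientGroup.mk_mul, QuotientGroup.eq, hc.mem_omega]
  have : (x * y)⁻¹ * (y * x) = y⁻¹ * x⁻¹ * y * x := by group
  rw [this]
  exact h2

theorem pow_inv_mul_aux (p : ℕ) [hp : Fact p.Prime] (hp2 : p ≠ 2) :
    ∀ (n : ℕ) (P : Type u) [Group P] [Finite P], Nat.card P = n → IsPGroup p P → PCentral p P →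
      ∀ x y : P, x ^ p = y ^ p → (x⁻¹ * y) ^ p = 1 := by
  intro n
  induction n using Nat.strong_induction_on with
  | _ n ih =>
  intro P _ _ hn hP hc x y hxy
  by_cases h1 : Nat.card P = 1
  · have : Subsingleton P := (Nat.card_eq_one_iff_unique.mp h1).1
    exact Subsingleton.elim _ _
  · -- `Ω₁` is nontrivial
    obtain ⟨k, hk⟩ := IsPGroup.iff_card.mp hP
    have hk0 : k ≠ 0 := by
      rintro rfl
      exact h1 (by simpa using hk)
    have hdvd : p ∣ Nat.card P := by rw [hk]; exact dvd_pow_self p hk0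
    obtain ⟨z, hz⟩ := exists_prime_orderOf_dvd_card' p hdvd
    have hzΩ : z ∈ hc.omega := by
      rw [hc.mem_omega, ← hz]; exact pow_orderOf_eq_one z
    have hz1 : z ≠ 1 := by
      intro h
      rw [h, orderOf_one] at hz
      exact hp.out.one_lt.ne hz
    have hΩ : 1 < Nat.card hc.omega := by
      rw [Finite.one_lt_card_iff_nontrivial]
      exact ⟨⟨⟨z, hzΩ⟩, 1, fun h => hz1 (by simpa using congrArg Subtype.val h)⟩⟩
    have hlt : Nat.card (P ⧸ hc.omega) < n := by
      rw [← hn, Subgroup.card_eq_card_quotient_mul_card_subgroup hc.omega]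
      have hpos : 0 < Nat.card (P ⧸ hc.omega) := Nat.card_pos
      nlinarith
    have hq : ((x : P ⧸ hc.omega)) ^ p = (y : P ⧸ hc.omega) ^ p := by
      rw [← QuotientGroup.mk_pow, ← QuotientGroup.mk_pow, hxy]
    have key := ih _ hlt (P ⧸ hc.omega) rfl (hP.to_quotient hc.omega) (hc.quotient hp2 hP)
      (x : P ⧸ hc.omega) (y : P ⧸ hc.omega) hq
    set w : P := x⁻¹ * y with hw
    have hw1 : w ^ p ∈ hc.omega := by
      rw [← QuotientGroup.mk_inv, ← QuotientGroup.mk_mul, ← QuotientGroup.mk_pow] at key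
      exact (QuotientGroup.eq_one_iff _).mp key
    have hw2 : w ^ (p ^ 2) = 1 := by
      rw [sq, pow_mul]; exact hc.mem_omega.mp hw1
    have hcp := hc.comm_pow hp2 hP w x hw2
    have hcp' : (w * x * w⁻¹ * x⁻¹) ^ p = 1 := by
      have : w * x * w⁻¹ * x⁻¹ = (x * w * x⁻¹ * w⁻¹)⁻¹ := by group
      rw [this, inv_pow, hcp, inv_one]
    have hcc := hc _ hcp'
    have hmul := Cfsg.Agent.Helper52.mul_pow_prime_of_commutator_central hp.out hp2 x w
      (hcc x) (hcc w) hcp'
    have hy : x * w = y := by rw [hw]; group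
    rw [hy, ← hxy] at hmul
    exact (left_eq_mul.mp hmul)

/-- In a finite `p`-central `p`-group with `p` odd, `x ^ p = y ^ p` forces `(x⁻¹ * y) ^ p = 1`. -/
theorem PCentral.pow_inv_mul {p : ℕ} [Fact p.Prime] (hp2 : p ≠ 2) {P : Type u} [Group P] [Finite P]
    (hP : IsPGroup p P) (hc : PCentral p P) (x y : P) (hxy : x ^ p = y ^ p) :
    (x⁻¹ * y) ^ p = 1 :=
  pow_inv_mul_aux p hp2 _ P rfl hP hc x y hxy

/-- In a finite `p`-central `p`-group `P` with `p` odd, a subgroup `K` containing all `p`-th powers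
satisfies `|P| ≤ |K| * |Ω₁(P)|`. -/
theorem PCentral.card_le {p : ℕ} [Fact p.Prime] (hp2 : p ≠ 2) {P : Type u} [Group P] [Finite P]
    (hP : IsPGroup p P) (hc : PCentral p P) (K : Subgroup P) (hK : ∀ x : P, x ^ p ∈ K) :
    Nat.card P ≤ Nat.card K * Nat.card hc.omega := by
  classical
  let s : K → P := fun k => if h : ∃ z : P, z ^ p = (k : P) then h.choose else 1
  have hs : ∀ x : P, (s ⟨x ^ p, hK x⟩) ^ p = x ^ p := by
    intro x
    have h : ∃ z : P, z ^ p = ((⟨x ^ p, hK x⟩ : K) : P) := ⟨x, rfl⟩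
    show (if h : ∃ z : P, z ^ p = ((⟨x ^ p, hK x⟩ : K) : P) then h.choose else 1) ^ p = x ^ p
    rw [dif_pos h]
    exact h.choose_spec
  let f : P → K × hc.omega := fun x =>
    (⟨x ^ p, hK x⟩, ⟨(s ⟨x ^ p, hK x⟩)⁻¹ * x, hc.pow_inv_mul hp2 hP _ _ (hs x)⟩)
  have hf : Function.Injective f := by
    intro a b hab
    have h1 : (⟨a ^ p, hK a⟩ : K) = ⟨b ^ p, hK b⟩ := congrArg Prod.fst hab
    have h2 : (s ⟨a ^ p, hK a⟩)⁻¹ * a = (s ⟨b ^ p, hK b⟩)⁻¹ * b := by
      have := congrArg (fun t => ((Prod.snd t : hc.omega) : P)) hab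
      exact this
    rw [h1] at h2
    exact mul_left_cancel h2
  calc Nat.card P ≤ Nat.card (K × hc.omega) := Nat.card_le_card_of_injective f hf
    _ = Nat.card K * Nat.card hc.omega := Nat.card_prod _ _

end Cfsg.Agent.Helper50
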