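import Mathlib
import Cfsg.Prelude.Def_CaseTheorems
import Cfsg.Agent.Helper50.PCentral
import Cfsg.Agent.Helper50.ChiefTools
import Cfsg.Agent.Helper63.ChiefCent
import Cfsg.Agent.Helper9.EigenScalar
import Cfsg.Agent.Helper11.PSolvable

/-!
# `p`-chief factors in groups of `p`-rank at most two (helper50)

* `IsChief.comm_mem`, `IsChief.pow_mem`: a chief factor `H/K` with `H` a `p`-group is elementary
  abelian.
* `IsChief.relIndex_le_of_pcentral`: a chief factor inside a `p`-central `p`-subgroup of a group of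
  `p`-rank at most two has order at most `p ^ 2` (`p` odd).
* `IsChief.relIndex_eq_prime`: if `G/M` is abelian of exponent dividing `p - 1` for a nilpotent
  normal subgroup `M`, the chief factors `H/K` with `H` a `p`-group have order `p`.
* `chief_relIndex_le_of_action`: the three-step analysis along `R₁ ≤ ker ψ ≤ G`.
-/

set_option autoImplicit false

namespace Cfsg.Agent.Helper50

open Cfsg

variable {G : Type*} [Group G]

theorem IsChief.comm_mem [Finite G] {p : ℕ} [Fact p.Prime] {H K : Subgroup G} (h : IsChief H K)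
    (hHp : IsPGroup p H) : ∀ x ∈ H, ∀ y ∈ H, x * y * x⁻¹ * y⁻¹ ∈ K := by
  intro x hx y hy
  haveI : H.Normal := h.1
  have hnil : Group.IsNilpotent H := hHp.isNilpotent
  exact Cfsg.Agent.Helper63.centralizes_chief_of_nilpotent (M := H) hnil h y hy x hx

theorem IsChief.pow_mem [Finite G] {p : ℕ} [hp : Fact p.Prime] {H K : Subgroup G}
    (h : IsChief H K) (hHp : IsPGroup p H) : ∀ x ∈ H, x ^ p ∈ K := by
  have hcomm := h.comm_mem hHp
  obtain ⟨hH, hK, hlt, hmax⟩ := h
  have hcq : ∀ x ∈ H, ∀ y ∈ H, Commute (QuotientGroup.mk x : G ⧸ K) (QuotientGroup.mk y) := by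
    intro x hx y hy
    show (QuotientGroup.mk x : G ⧸ K) * QuotientGroup.mk y = QuotientGroup.mk y * QuotientGroup.mk x
    rw [← QuotientGroup.mk_mul, ← QuotientGroup.mk_mul, QuotientGroup.eq]
    have : (x * y)⁻¹ * (y * x) = y⁻¹ * x⁻¹ * y⁻¹⁻¹ * x⁻¹⁻¹ := by group
    rw [this]
    exact hcomm _ (H.inv_mem hy) _ (H.inv_mem hx)
  let L : Subgroup G :=
    { carrier := {x | x ∈ H ∧ x ^ p ∈ K}
      one_mem' := ⟨H.one_mem, by rw [one_pow]; exact K.one_mem⟩
      mul_mem' := by
        rintro a b ⟨ha, hap⟩ ⟨hb, hbp⟩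
        refine ⟨H.mul_mem ha hb, ?_⟩
        rw [← QuotientGroup.eq_one_iff, QuotientGroup.mk_pow, QuotientGroup.mk_mul,
          (hcq a ha b hb).mul_pow, ← QuotientGroup.mk_pow, ← QuotientGroup.mk_pow,
          (QuotientGroup.eq_one_iff _).mpr hap, (QuotientGroup.eq_one_iff _).mpr hbp, one_mul]
      inv_mem' := by
        rintro a ⟨ha, hap⟩
        refine ⟨H.inv_mem ha, ?_⟩
        rw [inv_pow]
        exact K.inv_mem hap }
  have hLn : L.Normal := by
    constructor
    rintro n ⟨hn, hnp⟩ g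
    refine ⟨hH.conj_mem n hn g, ?_⟩
    rw [conj_pow]
    exact hK.conj_mem _ hnp g
  have hKL : K ≤ L := fun k hk => ⟨hlt.le hk, K.pow_mem hk p⟩
  have hLH : L ≤ H := fun x hx => hx.1
  rcases hmax L hLn hKL hLH with h1 | h1
  · exfalso
    obtain ⟨x, hxH, hxK⟩ := SetLike.exists_of_lt hlt
    obtain ⟨j, hj⟩ := hHp ⟨x, hxH⟩
    have hj' : x ^ p ^ j = 1 := by simpa using congrArg Subtype.val hj
    have hex : ∃ i : ℕ, x ^ p ^ i ∈ K := ⟨j, hj' ▸ K.one_mem⟩
    classical
    set i := Nat.find hex with hi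
    have hiK : x ^ p ^ i ∈ K := Nat.find_spec hex
    have hi0 : i ≠ 0 := by
      intro h0
      rw [h0, pow_zero, pow_one] at hiK
      exact hxK hiK
    obtain ⟨i', hi'⟩ := Nat.exists_eq_succ_of_ne_zero hi0
    have hnot : x ^ p ^ i' ∉ K := Nat.find_min hex (by rw [← hi, hi']; exact Nat.lt_succ_self i')
    apply hnot
    have : x ^ p ^ i' ∈ L := by
      refine ⟨H.pow_mem hxH _, ?_⟩
      rw [← pow_mul, ← pow_succ, ← Nat.succ_eq_add_one, ← hi']
      exact hiK
    rw [h1] at this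
    exact this
  · intro x hx
    have : x ∈ L := by rw [h1]; exact hx
    exact this.2

/-- A chief factor inside a `p`-central `p`-subgroup of a group of `p`-rank at most two has order at
most `p ^ 2` (`p` odd). -/
theorem IsChief.relIndex_le_of_pcentral [Finite G] {p : ℕ} [hp : Fact p.Prime] (hp2 : p ≠ 2)
    (hr : PRankLE p 2 G) {H K : Subgroup G} (h : IsChief H K) (hHp : IsPGroup p H)
    (hc : ∀ x ∈ H, x ^ p = 1 → ∀ y ∈ H, x * y = y * x) : K.relIndex H ≤ p ^ 2 := by
  have hpc : PCentral p ↥H := by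
    intro x hx y
    apply Subtype.ext
    have hx' : (x : G) ^ p = 1 := by simpa using congrArg Subtype.val hx
    simpa using hc x x.2 hx' y y.2
  have hpow := h.pow_mem hHp
  have hK' : ∀ x : ↥H, x ^ p ∈ K.subgroupOf H := by
    intro x
    rw [Subgroup.mem_subgroupOf]
    simpa using hpow x x.2
  have hcard := hpc.card_le hp2 hHp (K.subgroupOf H) hK'
  -- `Ω₁(H)` has order at most `p ^ 2`
  have hΩ : Nat.card hpc.omega ≤ p ^ 2 := by
    have hinj : Function.Injective H.subtype := H.subtype_injective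
    rw [← Subgroup.card_map_of_injective hinj]
    apply hr
    · refine ⟨⟨?_⟩⟩
      rintro ⟨a, ha⟩ ⟨b, hb⟩
      obtain ⟨a', ha', rfl⟩ := Subgroup.mem_map.mp ha
      obtain ⟨b', hb', rfl⟩ := Subgroup.mem_map.mp hb
      apply Subtype.ext
      show H.subtype a' * H.subtype b' = H.subtype b' * H.subtype a'
      rw [← map_mul, ← map_mul, hpc a' (hpc.mem_omega.mp ha') b']
    · intro a ha
      obtain ⟨a', ha', rfl⟩ := Subgroup.mem_map.mp ha
      rw [← map_pow, hpc.mem_omega.mp ha', map_one]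
  have hmul : Nat.card (K.subgroupOf H) * K.relIndex H = Nat.card H :=
    Subgroup.card_mul_index (K.subgroupOf H)
  have hpos : 0 < Nat.card (K.subgroupOf H) := Nat.card_pos
  rw [← hmul] at hcard
  have h3 : K.relIndex H ≤ Nat.card hpc.omega := Nat.le_of_mul_le_mul_left hcard hpos
  exact h3.trans hΩ

/-- A minimal normal elementary abelian `p`-subgroup `N` of `Q`, centralized by a subgroup `M` such
that `Q` is abelian of exponent dividing `p - 1` modulo `M`, has order `p`. -/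
theorem card_eq_prime_of_minimal_normal {Q : Type*} [Group Q] [Finite Q] {p : ℕ} [hp : Fact p.Prime]
    (N M : Subgroup Q) [hN : N.Normal] (hN1 : N ≠ ⊥)
    (hmin : ∀ L : Subgroup Q, L.Normal → L ≤ N → L = ⊥ ∨ L = N)
    (hNcomm : ∀ a ∈ N, ∀ b ∈ N, a * b = b * a) (hNexp : ∀ a ∈ N, a ^ p = 1)
    (hMN : ∀ m ∈ M, ∀ n ∈ N, m * n = n * m)
    (hab : ∀ a b : Q, a * b * a⁻¹ * b⁻¹ ∈ M) (hexp : ∀ a : Q, a ^ (p - 1) ∈ M) :
    Nat.card N = p := by
  haveI : Nontrivial ↥N := (Subgroup.nontrivial_iff_ne_bot N).mpr hN1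
  have htriv : ∀ m ∈ M, (MulAut.conjNormal m : MulAut N) = 1 := by
    intro m hm
    ext n
    show m * (n : Q) * m⁻¹ = n
    rw [hMN m hm n n.2, mul_inv_cancel_right]
  refine Cfsg.Agent.Helper9.card_eq_prime_of_irreducible_of_exponent (V := ↥N) (p := p)
    (fun x y => Subtype.ext (hNcomm x x.2 y y.2))
    (fun v => Subtype.ext (by simpa using hNexp v v.2))
    (Set.range (fun q : Q => (MulAut.conjNormal q : MulAut N))) ?_ ?_ ?_
  · rintro _ ⟨a, rfl⟩ _ ⟨b, rfl⟩
    show (MulAut.conjNormal a : MulAut N) * MulAut.conjNormal b =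
      MulAut.conjNormal b * MulAut.conjNormal a
    rw [← map_mul, ← map_mul]
    have h1 : a * b = (a * b * a⁻¹ * b⁻¹) * (b * a) := by group
    rw [h1, map_mul, htriv _ (hab a b), one_mul]
  · rintro _ ⟨a, rfl⟩
    show (MulAut.conjNormal a : MulAut N) ^ (p - 1) = 1
    rw [← map_pow]
    exact htriv _ (hexp a)
  · intro W hW
    have hLn : (W.map N.subtype).Normal := by
      constructor
      rintro _ ⟨w, hw, rfl⟩ g
      refine ⟨MulAut.conjNormal g w, hW _ ⟨g, rfl⟩ w hw, ?_⟩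
      rfl
    rcases hmin _ hLn (Subgroup.map_subtype_le W) with h1 | h1
    · left
      exact (Subgroup.map_eq_bot_iff_of_injective W N.subtype_injective).mp h1
    · right
      rw [Subgroup.eq_top_iff']
      intro n
      have : (n : Q) ∈ W.map N.subtype := by rw [h1]; exact n.2
      obtain ⟨w, hw, hwn⟩ := this
      have : w = n := Subtype.ext hwn
      rwa [← this]

/-- If `G/M` is abelian of exponent dividing `p - 1` for a nilpotent normal subgroup `M`, the chief
factors `H/K` with `H` a `p`-group have order `p`. -/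
theorem IsChief.relIndex_eq_prime [Finite G] {p : ℕ} [hp : Fact p.Prime] {H K : Subgroup G}
    (h : IsChief H K) (hHp : IsPGroup p H) (M : Subgroup G) [hM : M.Normal]
    (hMnil : Group.IsNilpotent M) (hab : ∀ a b : G, a * b * a⁻¹ * b⁻¹ ∈ M)
    (hexp : ∀ a : G, a ^ (p - 1) ∈ M) : K.relIndex H = p := by
  have hcomm := h.comm_mem hHp
  have hpow := h.pow_mem hHp
  have hcent := Cfsg.Agent.Helper63.centralizes_chief_of_nilpotent (M := M) hMnil h
  haveI hKn : K.Normal := h.2.1
  haveI hHn : H.Normal := h.1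
  obtain ⟨hch, hrel⟩ := h.map_mk K inf_le_right
  set π := QuotientGroup.mk' K with hπ
  have hKbot : K.map π = ⊥ := QuotientGroup.map_mk'_self K
  rw [hKbot] at hch hrel
  rw [← hrel, Subgroup.relIndex_bot_left]
  obtain ⟨hN, -, hlt, hmax⟩ := hch
  haveI := hN
  refine card_eq_prime_of_minimal_normal (H.map π) (M.map π) hlt.ne'
    (fun L hL hLN => hmax L hL bot_le hLN) ?_ ?_ ?_ ?_ ?_
  · rintro _ ⟨x, hx, rfl⟩ _ ⟨y, hy, rfl⟩
    show (QuotientGroup.mk x : G ⧸ K) * QuotientGroup.mk y = QuotientGroup.mk y * QuotientGroup.mk x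
    rw [← QuotientGroup.mk_mul, ← QuotientGroup.mk_mul, QuotientGroup.eq]
    have : (x * y)⁻¹ * (y * x) = y⁻¹ * x⁻¹ * y⁻¹⁻¹ * x⁻¹⁻¹ := by group
    rw [this]
    exact hcomm _ (H.inv_mem hy) _ (H.inv_mem hx)
  · rintro _ ⟨x, hx, rfl⟩
    show (QuotientGroup.mk x : G ⧸ K) ^ p = 1
    rw [← QuotientGroup.mk_pow]
    exact (QuotientGroup.eq_one_iff _).mpr (hpow x hx)
  · rintro _ ⟨m, hm, rfl⟩ _ ⟨x, hx, rfl⟩
    show (QuotientGroup.mk m : G ⧸ K) * QuotientGroup.mk x = QuotientGroup.mk x * QuotientGroup.mk m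
    rw [← QuotientGroup.mk_mul, ← QuotientGroup.mk_mul, QuotientGroup.eq]
    have : (m * x)⁻¹ * (x * m) = x⁻¹ * m⁻¹ * x⁻¹⁻¹ * m⁻¹⁻¹ := by group
    rw [this]
    exact hcent _ (M.inv_mem hm) _ (H.inv_mem hx)
  · intro a b
    induction a using QuotientGroup.induction_on with
    | H a =>
    induction b using QuotientGroup.induction_on with
    | H b =>
    exact ⟨a * b * a⁻¹ * b⁻¹, hab a b, rfl⟩
  · intro a
    induction a using QuotientGroup.induction_on with
    | H a =>
    exact ⟨a ^ (p - 1), hexp a, rfl⟩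

/-- The three-step analysis: `G` of `p`-rank at most two (`p` odd) acting on a group `E` of order
`p ^ 2` through `ψ`, with a normal `p`-central `p`-subgroup `R₁` of index at most `p ^ 2` in
`ker ψ`.  Then every chief factor of `p`-power order has order at most `p ^ 2`. -/
theorem chief_relIndex_le_of_action [Finite G] {p : ℕ} [hp : Fact p.Prime] (hp2 : p ≠ 2)
    (hr : PRankLE p 2 G) {E : Type*} [Group E] [Finite E] (hE : Nat.card E = p ^ 2)
    (ψ : G →* MulAut E) (R₁ : Subgroup G) [hR₁n : R₁.Normal] (hR₁p : IsPGroup p R₁)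
    (hR₁c : ∀ x ∈ R₁, x ^ p = 1 → ∀ y ∈ R₁, x * y = y * x)
    (hrel : R₁.relIndex ψ.ker ≤ p ^ 2)
    {H K : Subgroup G} (h : IsChief H K) {n : ℕ} (hn : K.relIndex H = p ^ n) :
    K.relIndex H ≤ p ^ 2 := by
  have hple : p ≤ p ^ 2 := by
    calc p = p ^ 1 := (pow_one p).symm
      _ ≤ p ^ 2 := Nat.pow_le_pow_right hp.out.pos (by norm_num)
  by_cases h2 : H ⊓ ψ.ker ≤ K
  · obtain ⟨S⟩ : Nonempty (Sylow p G) := inferInstance
    have hX := card_le_mul_card_ker_of_card_sq (T := ↥(S : Subgroup G)) S.isPGroup' hE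
      (ψ.comp (S : Subgroup G).subtype)
    have hker : (ψ.comp (S : Subgroup G).subtype).ker = ψ.ker.subgroupOf (S : Subgroup G) := by
      ext x
      simp [MonoidHom.mem_ker, Subgroup.mem_subgroupOf]
    rw [hker] at hX
    have hmul : Nat.card (ψ.ker.subgroupOf (S : Subgroup G)) * ψ.ker.relIndex (S : Subgroup G) =
        Nat.card (S : Subgroup G) := Subgroup.card_mul_index _
    have hpos : 0 < Nat.card (ψ.ker.subgroupOf (S : Subgroup G)) := Nat.card_pos
    have hSle : ψ.ker.relIndex (S : Subgroup G) ≤ p := by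
      rw [← hmul, mul_comm p] at hX
      exact Nat.le_of_mul_le_mul_left hX hpos
    have hd1 : K.relIndex H ∣ ψ.ker.index :=
      (relIndex_dvd_relIndex_of_inf_le h2).trans (Subgroup.relIndex_dvd_index_of_normal _ _)
    rw [hn] at hd1 ⊢
    have hd2 := ppow_dvd_relIndex_sylow S ψ.ker hd1
    have hpos2 : 0 < ψ.ker.relIndex (S : Subgroup G) := by
      rcases Nat.eq_zero_or_pos (ψ.ker.relIndex (S : Subgroup G)) with h0 | h0
      · rw [h0, mul_zero] at hmul
        exact absurd hmul.symm Nat.card_pos.ne'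
      · exact h0
    exact ((Nat.le_of_dvd hpos2 hd2).trans hSle).trans hple
  · obtain ⟨h', hrel'⟩ := h.inf ψ.ker h2
    rw [← hrel']
    by_cases h3 : (H ⊓ ψ.ker) ⊓ R₁ ≤ K ⊓ ψ.ker
    · have hd1 : (K ⊓ ψ.ker).relIndex (H ⊓ ψ.ker) ∣ R₁.relIndex ψ.ker :=
        (relIndex_dvd_relIndex_of_inf_le h3).trans
          (Cfsg.Agent.Helper11.relIndex_dvd_relIndex_of_le_right inf_le_right)
      have hpos : 0 < R₁.relIndex ψ.ker := by
        rcases Nat.eq_zero_or_pos (R₁.relIndex ψ.ker) with h0 | h0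
        · have hmul : Nat.card (R₁.subgroupOf ψ.ker) * R₁.relIndex ψ.ker = Nat.card ψ.ker :=
            Subgroup.card_mul_index _
          rw [h0, mul_zero] at hmul
          exact absurd hmul.symm Nat.card_pos.ne'
        · exact h0
      exact (Nat.le_of_dvd hpos hd1).trans hrel
    · obtain ⟨h'', hrel''⟩ := h'.inf R₁ h3
      rw [← hrel'']
      have hle : H ⊓ ψ.ker ⊓ R₁ ≤ R₁ := inf_le_right
      exact h''.relIndex_le_of_pcentral hp2 hr (hR₁p.to_le hle)
        (fun x hx hxp y hy => hR₁c x (hle hx) hxp y (hle hy))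

end Cfsg.Agent.Helper50
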