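import Mathlib
import Cfsg.Prelude.Def_CaseTheorems
import Cfsg.Prelude.Def_Local
import Cfsg.Agent.Helper50.ChiefRankTwo
import Cfsg.Agent.Helper24.CritSub
import Cfsg.Agent.Helper4.RankTwoAut
import Cfsg.Agent.Helper4.RankTwoSolv
import Cfsg.Agent.Helper32.Narrow
import Cfsg.Agent.Helper52.RankTwoBasic
import Cfsg.Agent.S3771
import Cfsg.Agent.Helper11.PSolvable
import Cfsg.Agent.Lib.Cores

/-!
# `p`-chief factors of `p`-solvable groups of `p`-rank at most two (helper50)

`chief_relIndex_le_sq`: for `p` odd, `G` finite `p`-solvable of `p`-rank at most two, every chief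
factor of `p`-power order has order at most `p ^ 2`.
-/

set_option autoImplicit false

universe u

namespace Cfsg.Agent.Helper50

open Cfsg
open scoped commutatorElement

/-- the kernel of the conjugation action on a normal subgroup is its centralizer -/
theorem mem_centralizer_of_conjNormal_eq_one {G : Type*} [Group G] {D : Subgroup G} [D.Normal]
    {g : G} (hg : (MulAut.conjNormal g : MulAut D) = 1) : g ∈ Subgroup.centralizer (D : Set G) := by
  rw [Subgroup.mem_centralizer_iff]
  intro d hd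
  have h1 := congrArg (fun α : MulAut D => ((α ⟨d, hd⟩ : D) : G)) hg
  simp only [MulAut.conjNormal_apply, MulAut.one_apply] at h1
  calc d * g = (g * d * g⁻¹) * g := by rw [h1]
    _ = g * d := by group

theorem conjNormal_eq_one_of_mem_centralizer {G : Type*} [Group G] {D : Subgroup G} [D.Normal]
    {g : G} (hg : g ∈ Subgroup.centralizer (D : Set G)) : (MulAut.conjNormal g : MulAut D) = 1 := by
  ext d
  show g * (d : G) * g⁻¹ = d
  rw [← Subgroup.mem_centralizer_iff.mp hg d d.2, mul_inv_cancel_right]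

/-- a `p`-group of order at most `p ^ 2` is commutative -/
theorem comm_of_card_dvd_sq {P : Type*} [Group P] [Finite P] {p : ℕ} [hp : Fact p.Prime]
    (h : Nat.card P ∣ p ^ 2) : ∀ a b : P, a * b = b * a := by
  obtain ⟨j, hj, hjc⟩ := (Nat.dvd_prime_pow hp.out).mp h
  interval_cases j
  · intro a b
    have : Subsingleton P := (Nat.card_eq_one_iff_unique.mp (by simpa using hjc)).1
    exact Subsingleton.elim _ _
  · have hc : IsCyclic P := isCyclic_of_prime_card (by simpa using hjc)
    intro a b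
    exact (IsCyclic.commGroup.mul_comm a b)
  · intro a b
    haveI := IsPGroup.isMulCommutative_of_card_eq_prime_sq hjc
    exact mul_comm' a b

/-- Small critical subgroup: if `D ⊴ G` has order dividing `p` and `C_G(D)` is a `p`-group, every
chief factor of `p`-power order has order `p`. -/
theorem chief_eq_of_crit_small {G : Type*} [Group G] [Finite G] {p : ℕ} [hp : Fact p.Prime]
    (D : Subgroup G) [hDn : D.Normal] (hDcard : Nat.card D ∣ p)
    (hR₁p : IsPGroup p (Subgroup.centralizer (D : Set G)))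
    {H K : Subgroup G} (h : IsChief H K) {n : ℕ} (hn : K.relIndex H = p ^ n) :
    K.relIndex H = p := by
  set R₁ : Subgroup G := Subgroup.centralizer (D : Set G) with hR₁
  have hcardD : Nat.card D = 1 ∨ Nat.card D = p := (Nat.dvd_prime hp.out).mp hDcard
  have hcyc : IsCyclic ↥D := by
    rcases hcardD with h1 | h1
    · have : Subsingleton ↥D := (Nat.card_eq_one_iff_unique.mp h1).1
      exact isCyclic_of_subsingleton
    · exact isCyclic_of_prime_card h1
  have hAutcomm : ∀ α β : MulAut ↥D, α * β = β * α :=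
    Cfsg.Agent.Helper52.RankTwo.mulAut_comm_of_isCyclic
  have hAutcard : Nat.card (MulAut ↥D) ∣ p - 1 := by
    rw [IsCyclic.card_mulAut]
    rcases hcardD with h1 | h1
    · rw [h1, Nat.totient_one]; exact one_dvd _
    · rw [h1, Nat.totient_prime hp.out]
  have hAutexp : ∀ α : MulAut ↥D, α ^ (p - 1) = 1 := by
    intro α
    obtain ⟨k, hk⟩ := hAutcard
    rw [hk, pow_mul, pow_card_eq_one', one_pow]
  have hab : ∀ a b : G, a * b * a⁻¹ * b⁻¹ ∈ R₁ := by
    intro a b
    apply mem_centralizer_of_conjNormal_eq_one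
    rw [map_mul, map_mul, map_mul, map_inv, map_inv, hAutcomm (MulAut.conjNormal a),
      mul_inv_cancel_right, mul_inv_cancel]
  have hexp : ∀ a : G, a ^ (p - 1) ∈ R₁ := by
    intro a
    apply mem_centralizer_of_conjNormal_eq_one
    rw [map_pow]
    exact hAutexp _
  have hnotdvd : ¬ p ∣ R₁.index := by
    intro hdvd
    rw [Subgroup.index_eq_card] at hdvd
    obtain ⟨x, hx⟩ := exists_prime_orderOf_dvd_card' p hdvd
    induction x using QuotientGroup.induction_on with
    | H g =>
    have h1 : (QuotientGroup.mk g : G ⧸ R₁) ^ (p - 1) = 1 := by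
      rw [← QuotientGroup.mk_pow]
      exact (QuotientGroup.eq_one_iff _).mpr (hexp g)
    have h2 := orderOf_dvd_of_pow_eq_one h1
    rw [hx] at h2
    have h3 := Nat.le_of_dvd (Nat.sub_pos_of_lt hp.out.one_lt) h2
    have := hp.out.one_lt
    omega
  have hn0 : n ≠ 0 := by
    rintro rfl
    rw [pow_zero, Subgroup.relIndex_eq_one] at hn
    exact not_le_of_gt h.2.2.1 hn
  by_cases h2 : H ⊓ R₁ ≤ K
  · exfalso
    apply hnotdvd
    have hd1 : K.relIndex H ∣ R₁.index :=
      (relIndex_dvd_relIndex_of_inf_le h2).trans (Subgroup.relIndex_dvd_index_of_normal _ _)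
    rw [hn] at hd1
    exact (dvd_pow_self p hn0).trans hd1
  · obtain ⟨h', hrel'⟩ := h.inf R₁ h2
    rw [← hrel']
    exact h'.relIndex_eq_prime (hR₁p.to_le inf_le_right) R₁ hR₁p.isNilpotent hab hexp

/-- Big critical subgroup: if `D ⊴ G` has exponent `p`, class at most two and order at least
`p ^ 2`, and `C_G(D)` is a `p`-group, then (in rank at most two, `p` odd) every chief factor of
`p`-power order has order at most `p ^ 2`. -/
theorem chief_le_of_crit_big {G : Type*} [Group G] [Finite G] {p : ℕ} [hp : Fact p.Prime]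
    (hp2 : p ≠ 2) (hr : PRankLE p 2 G) (D : Subgroup G) [hDn : D.Normal] (hDp : IsPGroup p D)
    (hDexp : ∀ x ∈ D, x ^ p = 1)
    (hDcen : ∀ x ∈ D, ∀ y ∈ D, ∀ z ∈ D, ⁅x, y⁆ * z = z * ⁅x, y⁆)
    (hDcard : p ^ 2 ∣ Nat.card D)
    (hR₁p : IsPGroup p (Subgroup.centralizer (D : Set G)))
    {H K : Subgroup G} (h : IsChief H K) {n : ℕ} (hn : K.relIndex H = p ^ n) :
    K.relIndex H ≤ p ^ 2 := by
  set R₁ : Subgroup G := Subgroup.centralizer (D : Set G) with hR₁
  -- an elementary abelian subgroup of order `p ^ 2` in `D`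
  obtain ⟨A₀, hA₀⟩ := Sylow.exists_subgroup_card_pow_prime p hDcard
  set A : Subgroup G := A₀.map D.subtype with hA
  have hAcard : Nat.card A = p ^ 2 := by
    rw [hA, Subgroup.card_map_of_injective D.subtype_injective]; exact hA₀
  have hAD : A ≤ D := Subgroup.map_subtype_le A₀
  have hAc : ∀ a ∈ A, ∀ b ∈ A, a * b = b * a := by
    have hcomm := comm_of_card_dvd_sq (P := ↥A) (p := p) (by rw [hAcard])
    intro a ha b hb
    exact congrArg Subtype.val (hcomm ⟨a, ha⟩ ⟨b, hb⟩)
  have hAe : ∀ a ∈ A, a ^ p = 1 := fun a ha => hDexp a (hAD ha)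
  -- `R₁` is `p`-central
  have hR₁c : ∀ x ∈ R₁, x ^ p = 1 → ∀ y ∈ R₁, x * y = y * x := by
    intro x hx hxp y hy
    have hxA : x ∈ A := Cfsg.Agent.Helper52.RankTwo.mem_of_prankLE hr A hAc hAe hAcard x hxp
      (fun z hz => (Subgroup.mem_centralizer_iff.mp hx z (hAD hz)).symm)
    exact Subgroup.mem_centralizer_iff.mp hy x (hAD hxA)
  have hone : 1 ≤ p ^ 2 := Nat.one_le_pow _ _ hp.out.pos
  by_cases hDab : ∀ a ∈ D, ∀ b ∈ D, a * b = b * a
  · -- abelian critical subgroup
    have hDcard2 : Nat.card D = p ^ 2 := by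
      apply le_antisymm
      · exact hr D (Cfsg.Agent.Helper52.isMulCommutative_of_comm hDab) hDexp
      · exact Nat.le_of_dvd Nat.card_pos hDcard
    have hker : (MulAut.conjNormal (H := D)).ker = R₁ := by
      ext g
      rw [MonoidHom.mem_ker]
      exact ⟨mem_centralizer_of_conjNormal_eq_one, conjNormal_eq_one_of_mem_centralizer⟩
    refine chief_relIndex_le_of_action hp2 hr hDcard2 (MulAut.conjNormal (H := D)) R₁ hR₁p hR₁c
      ?_ h hn
    rw [hker, Subgroup.relIndex_self]
    exact hone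
  · -- nonabelian critical subgroup
    push Not at hDab
    obtain ⟨a, ha, b, hb, hab⟩ := hDab
    have hexpD : ∀ x : ↥D, x ^ p = 1 := fun x => Subtype.ext (by simpa using hDexp x x.2)
    have hcenD : ∀ x y : ↥D, ⁅x, y⁆ ∈ Subgroup.center ↥D := by
      intro x y
      rw [Subgroup.mem_center_iff]
      intro z
      apply Subtype.ext
      have := hDcen x x.2 y y.2 z z.2
      simpa [commutatorElement_def] using this.symm
    have hrkD : PRankLE p 2 ↥D := Cfsg.Agent.Lib.pRankLE_subgroup hr D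
    have hne : (⟨a, ha⟩ : ↥D) * ⟨b, hb⟩ ≠ ⟨b, hb⟩ * ⟨a, ha⟩ :=
      fun h => hab (congrArg Subtype.val h)
    obtain ⟨hEcard, -, -, -⟩ :=
      Cfsg.Agent.Helper4.exp_p_class_two_structure hexpD hcenD hrkD ⟨a, ha⟩ ⟨b, hb⟩ hne
    set ψ : G →* MulAut (↥D ⧸ Subgroup.center ↥D) :=
      (Cfsg.Agent.Helper4.quotAutHom ↥D).comp (MulAut.conjNormal (H := D)) with hψ
    refine chief_relIndex_le_of_action hp2 hr hEcard ψ R₁ hR₁p hR₁c ?_ h hn
    -- `|ker ψ : R₁| ≤ p ^ 2`
    set Z : Subgroup G := D ⊓ R₁ with hZ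
    have hZn : Z.Normal := inferInstance
    have haZ : a ∉ Z := fun h => hab ((Subgroup.mem_centralizer_iff.mp h.2 b hb).symm)
    have hZcard : Nat.card Z ≤ p := by
      have hS := Cfsg.Agent.Helper52.RankTwo.closure_comm_exp ((Z : Set G) ∪ {a}) p
        (by
          rintro x (hx | hx) y (hy | hy)
          · exact Subgroup.mem_centralizer_iff.mp hy.2 x hx.1
          · rw [Set.mem_singleton_iff] at hy; rw [hy]
            exact (Subgroup.mem_centralizer_iff.mp hx.2 a ha).symm
          · rw [Set.mem_singleton_iff] at hx; rw [hx]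
            exact Subgroup.mem_centralizer_iff.mp hy.2 a ha
          · rw [Set.mem_singleton_iff] at hx hy; rw [hx, hy])
        (by
          rintro x (hx | hx)
          · exact hDexp x hx.1
          · rw [Set.mem_singleton_iff] at hx; rw [hx]; exact hDexp a ha)
      set B : Subgroup G := Subgroup.closure ((Z : Set G) ∪ {a}) with hB
      have hBcard : Nat.card B ≤ p ^ 2 :=
        hr B (Cfsg.Agent.Helper52.isMulCommutative_of_comm hS.1) hS.2
      have hZB : Z ≤ B := fun z hz => Subgroup.subset_closure (Or.inl hz)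
      have haB : a ∈ B := Subgroup.subset_closure (Or.inr rfl)
      have hlt : Nat.card Z < Nat.card B := by
        rcases lt_or_ge (Nat.card Z) (Nat.card B) with h1 | h1
        · exact h1
        · exact absurd (Subgroup.eq_of_le_of_card_ge hZB h1 ▸ haB) haZ
      obtain ⟨j, hj⟩ := IsPGroup.iff_card.mp (hDp.to_le (inf_le_left : Z ≤ D))
      rw [hj] at hlt ⊢
      have h1 : p ^ j < p ^ 2 := hlt.trans_le hBcard
      have hj1 : j ≤ 1 := by
        have := (Nat.pow_lt_pow_iff_right hp.out.one_lt).mp h1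
        omega
      calc p ^ j ≤ p ^ 1 := Nat.pow_le_pow_right hp.out.pos hj1
        _ = p := pow_one p
    have hkermem : ∀ g ∈ ψ.ker, ∀ d ∈ D, g * d * g⁻¹ * d⁻¹ ∈ Z := by
      intro g hg d hd
      rw [MonoidHom.mem_ker] at hg
      have h1 : ψ g (QuotientGroup.mk ⟨d, hd⟩) = QuotientGroup.mk ⟨d, hd⟩ := by rw [hg]; rfl
      have h2 : ψ g (QuotientGroup.mk ⟨d, hd⟩) =
          QuotientGroup.mk (MulAut.conjNormal g ⟨d, hd⟩) := rfl
      rw [h2, QuotientGroup.eq] at h1
      have h3 : ((g * d * g⁻¹)⁻¹ * d) ∈ Z := by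
        refine ⟨D.mul_mem (D.inv_mem (hDn.conj_mem d hd g)) hd, ?_⟩
        show (g * d * g⁻¹)⁻¹ * d ∈ Subgroup.centralizer (D : Set G)
        rw [Subgroup.mem_centralizer_iff]
        intro z hz
        have := Subgroup.mem_center_iff.mp h1 ⟨z, hz⟩
        simpa using congrArg Subtype.val this
      have h4 : g * d * g⁻¹ * d⁻¹ = d * ((g * d * g⁻¹)⁻¹ * d)⁻¹ * d⁻¹ := by group
      rw [h4]
      exact hZn.conj_mem _ (Z.inv_mem h3) d
    have hc1 := Cfsg.Agent.Helper32.Narrow.card_le_card_mul_card_inf_centralizer ψ.ker Z a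
      (fun x hx => hkermem x hx a ha)
    have hc2 := Cfsg.Agent.Helper32.Narrow.card_le_card_mul_card_inf_centralizer
      (ψ.ker ⊓ Subgroup.centralizer ({a} : Set G)) Z b (fun x hx => hkermem x hx.1 b hb)
    have hD0 : Subgroup.closure ({a, b} : Set G) = D := by
      have hle : Subgroup.closure ({a, b} : Set G) ≤ D := by
        rw [Subgroup.closure_le]
        rintro x (rfl | rfl)
        · exact ha
        · exact hb
      apply Subgroup.eq_of_le_of_card_ge hle
      have hD3 : Nat.card D ≤ p ^ 3 := Cfsg.Agent.S3771.result hDp hrkD hexpD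
      have hC3 : p ^ 3 ≤ Nat.card (Subgroup.closure ({a, b} : Set G)) := by
        obtain ⟨j, hj⟩ := IsPGroup.iff_card.mp (hDp.to_le hle)
        rw [hj]
        by_contra hlt
        push Not at hlt
        have hj2 : j ≤ 2 := by
          have := (Nat.pow_lt_pow_iff_right hp.out.one_lt).mp hlt
          omega
        have hdvd : Nat.card (Subgroup.closure ({a, b} : Set G)) ∣ p ^ 2 := by
          rw [hj]; exact pow_dvd_pow p hj2
        have := comm_of_card_dvd_sq hdvd ⟨a, Subgroup.subset_closure (by simp)⟩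
          ⟨b, Subgroup.subset_closure (by simp)⟩
        exact hab (congrArg Subtype.val this)
      exact hD3.trans hC3
    have hle : ψ.ker ⊓ Subgroup.centralizer ({a} : Set G) ⊓ Subgroup.centralizer ({b} : Set G) ≤
        R₁ ⊓ ψ.ker := by
      intro g hg
      refine ⟨?_, hg.1.1⟩
      have hga : g * a = a * g := Subgroup.mem_centralizer_singleton_iff.mp hg.1.2
      have hgb : g * b = b * g := Subgroup.mem_centralizer_singleton_iff.mp hg.2
      have hcl : Subgroup.closure ({a, b} : Set G) ≤ Subgroup.centralizer ({g} : Set G) := by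
        rw [Subgroup.closure_le]
        rintro x (rfl | rfl)
        · exact Subgroup.mem_centralizer_singleton_iff.mpr hga.symm
        · exact Subgroup.mem_centralizer_singleton_iff.mpr hgb.symm
      rw [hD0] at hcl
      show g ∈ Subgroup.centralizer (D : Set G)
      rw [Subgroup.mem_centralizer_iff]
      intro d hd
      exact Subgroup.mem_centralizer_singleton_iff.mp (hcl hd)
    have hfin : Nat.card ψ.ker ≤ p ^ 2 * Nat.card (R₁ ⊓ ψ.ker : Subgroup G) := by
      calc Nat.card ψ.ker
          ≤ Nat.card Z * Nat.card (ψ.ker ⊓ Subgroup.centralizer ({a} : Set G) : Subgroup G) := hc1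
        _ ≤ Nat.card Z * (Nat.card Z * Nat.card (ψ.ker ⊓ Subgroup.centralizer ({a} : Set G) ⊓
              Subgroup.centralizer ({b} : Set G) : Subgroup G)) := Nat.mul_le_mul_left _ hc2
        _ ≤ p * (p * Nat.card (R₁ ⊓ ψ.ker : Subgroup G)) :=
            Nat.mul_le_mul hZcard (Nat.mul_le_mul hZcard (Subgroup.card_le_of_le hle))
        _ = p ^ 2 * Nat.card (R₁ ⊓ ψ.ker : Subgroup G) := by ring
    rw [← Subgroup.inf_relIndex_right]
    have hmul := Cfsg.Agent.Helper11.card_mul_relIndex (inf_le_right : R₁ ⊓ ψ.ker ≤ ψ.ker)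
    rw [← hmul, mul_comm (p ^ 2)] at hfin
    exact Nat.le_of_mul_le_mul_left hfin Nat.card_pos

/-- The case `O_{p'}(G) = 1`. -/
theorem chief_le_of_pPrimeCore_eq_bot {G : Type*} [Group G] [Finite G] {p : ℕ} [hp : Fact p.Prime]
    (hp2 : p ≠ 2) (hG : IsPSolvable p G) (hr : PRankLE p 2 G) (hO : pPrimeCore p G = ⊥)
    {H K : Subgroup G} (h : IsChief H K) {n : ℕ} (hn : K.relIndex H = p ^ n) :
    K.relIndex H ≤ p ^ 2 := by
  set R : Subgroup G := pCore p G with hR
  have hRp : IsPGroup p R := Cfsg.Agent.Lib.isPGroup_pCore p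
  have hcR : Subgroup.centralizer (R : Set G) ≤ R :=
    Cfsg.Agent.Helper11.centralizer_pCore_le_of_isPSolvable hG hO
  have hnorm : Subgroup.normalizer (R : Set G) = ⊤ := Subgroup.normalizer_eq_top_iff.mpr inferInstance
  obtain ⟨D, hDR, hDinv, hDexp0, hDcomm, hDp'⟩ :=
    Cfsg.Agent.Helper24.exists_small_exponent_crit R hRp
  haveI hDn : D.Normal := ⟨fun x hx g => hDinv g (by rw [hnorm]; trivial) x hx⟩
  have hDexp : ∀ x ∈ D, x ^ p = 1 := fun x hx => (hDexp0 x hx).resolve_right (fun h => hp2 h.1)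
  have hDp : IsPGroup p D := hRp.to_le hDR
  have hDcen : ∀ x ∈ D, ∀ y ∈ D, ∀ z ∈ D, ⁅x, y⁆ * z = z * ⁅x, y⁆ :=
    fun x hx y hy z hz => (hDcomm x hx y (hDR hy)).2 z hz
  have hR₁p : IsPGroup p (Subgroup.centralizer (D : Set G)) := by
    apply Cfsg.Agent.Helper4.isPGroup_of_p'_mem (Subgroup.centralizer (D : Set G)) ⊥ IsPGroup.of_bot
    intro g hg hcop
    have h1 : ∀ x ∈ R, g * x = x * g :=
      hDp' g (by rw [hnorm]; trivial) hcop
        (fun x hx => (Subgroup.mem_centralizer_iff.mp hg x hx).symm)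
    have h2 : g ∈ R := hcR (Subgroup.mem_centralizer_iff.mpr (fun x hx => (h1 x hx).symm))
    obtain ⟨j, hj⟩ := hRp ⟨g, h2⟩
    have hj' : g ^ p ^ j = 1 := by simpa using congrArg Subtype.val hj
    have h3 : orderOf g = 1 :=
      Nat.Coprime.eq_one_of_dvd (hcop.pow_right j) (orderOf_dvd_of_pow_eq_one hj')
    rw [Subgroup.mem_bot]
    exact orderOf_eq_one_iff.mp h3
  obtain ⟨k, hk⟩ := IsPGroup.iff_card.mp hDp
  by_cases hk1 : k ≤ 1
  · have hdvd : Nat.card D ∣ p := by
      rw [hk]
      calc p ^ k ∣ p ^ 1 := pow_dvd_pow p hk1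
        _ = p := pow_one p
    rw [chief_eq_of_crit_small D hdvd hR₁p h hn]
    calc p = p ^ 1 := (pow_one p).symm
      _ ≤ p ^ 2 := Nat.pow_le_pow_right hp.out.pos (by norm_num)
  · have hdvd : p ^ 2 ∣ Nat.card D := by
      rw [hk]
      exact pow_dvd_pow p (by omega)
    exact chief_le_of_crit_big hp2 hr D hDp hDexp hDcen hdvd hR₁p h hn

theorem chief_relIndex_le_sq_aux (p : ℕ) [hp : Fact p.Prime] (hp2 : p ≠ 2) :
    ∀ (N : ℕ) (G : Type u) [Group G] [Finite G], Nat.card G = N → IsPSolvable p G →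
      PRankLE p 2 G → ∀ {H K : Subgroup G}, IsChief H K → ∀ {n : ℕ}, K.relIndex H = p ^ n →
      K.relIndex H ≤ p ^ 2 := by
  intro N
  induction N using Nat.strong_induction_on with
  | _ N ih =>
  intro G _ _ hN hG hr H K h n hn
  by_cases hO : pPrimeCore p G = ⊥
  · exact chief_le_of_pPrimeCore_eq_bot hp2 hG hr hO h hn
  · set M : Subgroup G := pPrimeCore p G with hM
    have hMcop : (Nat.card M).Coprime p := Cfsg.Agent.Lib.card_pPrimeCore_coprime p
    have hn0 : n ≠ 0 := by
      rintro rfl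
      rw [pow_zero, Subgroup.relIndex_eq_one] at hn
      exact not_le_of_gt h.2.2.1 hn
    have hHM : H ⊓ M ≤ K := by
      by_contra hcon
      obtain ⟨-, hrel'⟩ := h.inf M hcon
      have h1 : (K ⊓ M).relIndex (H ⊓ M) ∣ Nat.card M :=
        (Subgroup.relIndex_dvd_card _ _).trans (Subgroup.card_dvd_of_le inf_le_right)
      rw [hrel', hn] at h1
      have h2 : p ∣ Nat.card M := (dvd_pow_self p hn0).trans h1
      have h3 := Nat.Coprime.eq_one_of_dvd hMcop.symm h2
      exact hp.out.one_lt.ne' h3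
    obtain ⟨hch, hrel⟩ := h.map_mk M hHM
    have hlt : Nat.card (G ⧸ M) < N := by
      rw [← hN, Subgroup.card_eq_card_quotient_mul_card_subgroup M]
      have hpos : 0 < Nat.card (G ⧸ M) := Nat.card_pos
      have hM1 : 1 < Nat.card M := by
        rw [Finite.one_lt_card_iff_nontrivial]
        exact (Subgroup.nontrivial_iff_ne_bot M).mpr hO
      nlinarith
    have key := ih _ hlt (G ⧸ M) rfl (Cfsg.Agent.Helper11.isPSolvable_quotient M hG)
      (Cfsg.Agent.Helper4.pRankLE_quotient_of_coprime p 2 M hMcop hr) hch (hrel.trans hn)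
    rw [← hrel]
    exact key

/-- For `p` odd, every chief factor of `p`-power order of a finite `p`-solvable group of `p`-rank at
most two has order at most `p ^ 2`. -/
theorem chief_relIndex_le_sq {G : Type u} [Group G] [Finite G] {p : ℕ} [Fact p.Prime] (hp2 : p ≠ 2)
    (hG : IsPSolvable p G) (hr : PRankLE p 2 G) {H K : Subgroup G} (h : IsChief H K) {n : ℕ}
    (hn : K.relIndex H = p ^ n) : K.relIndex H ≤ p ^ 2 :=
  chief_relIndex_le_sq_aux p hp2 _ G rfl hG hr h hn

end Cfsg.Agent.Helper50
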