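import Mathlib
import Cfsg.Agent.Helper44.CliffDefs
import Cfsg.Agent.Helper12.QSpQA1

/-!
# S3084 (helper44), piece (A) `exists_coords` : hyperbolic coordinates

A nondegenerate quadratic space of dimension `2n` over `ZMod 2` with a totally singular
`n`-subspace is isometric to `(U0 n, q0)`.
-/

set_option autoImplicit false

namespace Cfsg.Agent.Helper50.Cliff

open Matrix Cfsg.Agent.Helper44.Cliff

/-- the coordinate splitting `(Fin n ⊕ Fin n → ZMod 2) ≃ₗ U0 n` carries `quadFormPlus` to `q0` -/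
theorem q0_split (n : ℕ) (v : Fin n ⊕ Fin n → ZMod 2) :
    q0 (LinearEquiv.sumArrowLequivProdArrow (Fin n) (Fin n) (ZMod 2) (ZMod 2) v) =
      Cfsg.quadFormPlus n (ZMod 2) v := by
  unfold q0 Cfsg.quadFormPlus
  rfl

/-- (A) hyperbolic coordinates. -/
theorem exists_coords {U : Type*} [AddCommGroup U] [Module (ZMod 2) U] [Module.Finite (ZMod 2) U]
    (n : ℕ) (hn : Module.finrank (ZMod 2) U = 2 * n) (q : QuadraticForm (ZMod 2) U)
    (hnd : (QuadraticMap.polarBilin q).Nondegenerate)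
    (hplus : ∃ W : Submodule (ZMod 2) U, Module.finrank (ZMod 2) ↥W = n ∧ ∀ w ∈ W, q w = 0) :
    ∃ φ : U ≃ₗ[ZMod 2] U0 n, ∀ u, q0 (φ u) = q u := by
  obtain ⟨W, hWdim, hW⟩ := hplus
  have hnd' : ∀ x : U, (∀ y, QuadraticMap.polar q x y = 0) → x = 0 :=
    (Cfsg.Agent.Helper44.QType.nondeg_iff q).mp hnd
  have h1 : Cfsg.Agent.Helper44.QType.HasType (⇑q) n 1 :=
    Cfsg.Agent.Helper12.QSp.hasType_of_ts q hnd' hn W hW hWdim
  have hfr : Module.finrank (ZMod 2) (Fin n ⊕ Fin n → ZMod 2) = 2 * n := by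
    rw [Module.finrank_fintype_fun_eq_card, Fintype.card_sum, Fintype.card_fin]
    ring
  obtain ⟨g, hg⟩ := Cfsg.Agent.Helper44.QType.exists_isometry_of_hasType q
    (Cfsg.Agent.Helper44.plusForm n (ZMod 2)) hn hfr hnd'
    ((Cfsg.Agent.Helper44.QType.nondeg_iff _).mp (Cfsg.Agent.Helper44.nondegenerate_plusForm n)) h1
    (by rw [Cfsg.Agent.Helper44.plusForm_coe]; exact Cfsg.Agent.Helper44.QType.hasType_plus n)
  refine ⟨g.trans (LinearEquiv.sumArrowLequivProdArrow (Fin n) (Fin n) (ZMod 2) (ZMod 2)), ?_⟩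
  intro u
  rw [LinearEquiv.trans_apply, q0_split, ← hg u]
  rfl

end Cfsg.Agent.Helper50.Cliff
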