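import Cfsg.Agent.Helper48.CoprimeGen
import Cfsg.Agent.Helper50.CL2

set_option autoImplicit false

namespace Cfsg.Agent.Helper50

open Subgroup

variable {G : Type*} [Group G]

/-- a subgroup of prime order is contained in `K` or meets it trivially -/
theorem le_or_inf_eq_bot_of_card_prime {p : ℕ} [Fact p.Prime] (H K : Subgroup G)
    (hH : Nat.card H = p) : H ≤ K ∨ H ⊓ K = ⊥ := by
  have hp : p.Prime := Fact.out
  have : Finite H := Nat.finite_of_card_ne_zero (by rw [hH]; exact hp.ne_zero)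
  have hdvd : Nat.card ↥(H ⊓ K) ∣ p := hH ▸ Subgroup.card_dvd_of_le inf_le_left
  rcases (Nat.dvd_prime hp).mp hdvd with h1 | h2
  · right; exact Subgroup.card_eq_one.mp h1
  · left
    have : H ⊓ K = H := Subgroup.eq_of_le_of_card_ge inf_le_left (by rw [h2, hH])
    exact inf_eq_left.mp this

theorem mem_closure_pair_of_commute {a b x : G} (hab : Commute a b)
    (hx : x ∈ closure ({a, b} : Set G)) : ∃ m n : ℤ, x = a ^ m * b ^ n := by
  induction hx using Subgroup.closure_induction with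
  | mem x hx =>
    rcases hx with rfl | rfl
    · exact ⟨1, 0, by simp⟩
    · exact ⟨0, 1, by simp⟩
  | one => exact ⟨0, 0, by simp⟩
  | mul x y _ _ hx hy =>
    obtain ⟨m, n, rfl⟩ := hx
    obtain ⟨m', n', rfl⟩ := hy
    refine ⟨m + m', n + n', ?_⟩
    have h1 : Commute (b ^ n) (a ^ m') := (hab.zpow_zpow m' n).symm
    rw [zpow_add, zpow_add]
    calc a ^ m * b ^ n * (a ^ m' * b ^ n') = a ^ m * (b ^ n * a ^ m') * b ^ n' := by group
      _ = a ^ m * (a ^ m' * b ^ n) * b ^ n' := by rw [h1.eq]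
      _ = a ^ m * a ^ m' * (b ^ n * b ^ n') := by group
  | inv x _ hx =>
    obtain ⟨m, n, rfl⟩ := hx
    refine ⟨-m, -n, ?_⟩
    have h1 : Commute (b ^ n) (a ^ m) := (hab.zpow_zpow m n).symm
    rw [mul_inv_rev, zpow_neg, zpow_neg]
    exact (h1.inv_inv).eq

/-- **Hyperplane form of coprime generation**, in the shape needed for killing invariant `p'`-subgroups:
if the elementary abelian `p`-group `U` of order at least `p ^ 2` normalizes the `p'`-group `R`, and
`C_R(U₀) = 1` for every maximal subgroup `U₀` of `U`, then `R = 1`. -/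
theorem eq_bot_of_coatom_centralizer {p : ℕ} [Fact p.Prime] [Finite G] (R U : Subgroup G)
    (hR : ¬ p ∣ Nat.card R) (hUR : U ≤ normalizer (R : Set G))
    (hcomm : ∀ x ∈ U, ∀ y ∈ U, x * y = y * x) (hexp : ∀ a ∈ U, a ^ p = 1)
    (hcard : p ^ 2 ≤ Nat.card U)
    (h : ∀ U₀ : Subgroup G, U₀ ≤ U → IsCoatom (U₀.subgroupOf U) →
      R ⊓ centralizer (U₀ : Set G) = ⊥) :
    R = ⊥ := by
  have hp : p.Prime := Fact.out
  by_contra hne
  let 𝒯 := {T : Subgroup G // T ≤ U ∧ R ⊓ centralizer (T : Set G) ≠ ⊥}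
  have hbot : R ⊓ centralizer ((⊥ : Subgroup G) : Set G) ≠ ⊥ := by
    have : centralizer ((⊥ : Subgroup G) : Set G) = ⊤ := by
      rw [eq_top_iff]
      intro x _
      rw [mem_centralizer_iff]
      intro y hy
      have : y = 1 := by simpa using hy
      subst this
      simp
    rw [this, inf_top_eq]
    exact hne
  have : Nonempty 𝒯 := ⟨⟨⊥, bot_le, hbot⟩⟩
  obtain ⟨⟨U₁, hU₁U, hU₁⟩, hmax⟩ := Finite.exists_max (fun T : 𝒯 => Nat.card (T : Subgroup G))
  -- maximality
  have hmax' : ∀ T : Subgroup G, U₁ ≤ T → T ≤ U → R ⊓ centralizer (T : Set G) ≠ ⊥ → T = U₁ := by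
    intro T h1 h2 h3
    have := hmax ⟨T, h2, h3⟩
    exact (Subgroup.eq_of_le_of_card_ge h1 this).symm
  -- `U` is nontrivial
  have hUnt : Nontrivial ↥U := by
    rw [← Finite.one_lt_card_iff_nontrivial]
    calc 1 < p ^ 2 := Nat.one_lt_pow (by norm_num) hp.one_lt
      _ ≤ Nat.card U := hcard
  have hmapsub : ∀ M : Subgroup ↥U, (M.map U.subtype).subgroupOf U = M := fun M =>
    Subgroup.comap_map_eq_self_of_injective U.subtype_injective M
  have hmaple : ∀ M : Subgroup ↥U, M.map U.subtype ≤ U := by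
    intro M x hx
    obtain ⟨y, -, rfl⟩ := hx
    exact y.2
  -- `U₁` is not the whole of `U`
  have hne_top : U₁.subgroupOf U ≠ ⊤ := by
    intro htop
    have hUU₁ : U ≤ U₁ := Subgroup.subgroupOf_eq_top.mp htop
    obtain ⟨M, hM⟩ := IsCoatomic.exists_coatom (Subgroup ↥U)
    have h1 := h (M.map U.subtype) (hmaple M) (by rw [hmapsub]; exact hM)
    apply hU₁
    rw [eq_bot_iff, ← h1]
    refine inf_le_inf_left R (centralizer_le ?_)
    exact_mod_cast (hmaple M).trans hUU₁
  have hnot_coatom : ¬ IsCoatom (U₁.subgroupOf U) := fun hco => hU₁ (h U₁ hU₁U hco)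
  obtain ⟨M, hM, hU₁M⟩ := (IsCoatomic.eq_top_or_exists_le_coatom (U₁.subgroupOf U)).resolve_left hne_top
  set U₀ : Subgroup G := M.map U.subtype with hU₀
  have hU₀U : U₀ ≤ U := hmaple M
  have hU₀sub : U₀.subgroupOf U = M := hmapsub M
  have hU₁U₀ : U₁ ≤ U₀ := by
    have : (U₁.subgroupOf U).map U.subtype ≤ M.map U.subtype := Subgroup.map_mono hU₁M
    rwa [Subgroup.map_subgroupOf_eq_of_le hU₁U] at this
  have hU₁neU₀ : U₁ ≠ U₀ := by
    intro he
    apply hnot_coatom
    rw [he, hU₀sub]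
    exact hM
  have hU₀neU : U₀ ≠ U := by
    intro he
    apply hM.1
    rw [← hU₀sub, he]
    exact Subgroup.subgroupOf_self U
  obtain ⟨a, haU₀, haU₁⟩ := SetLike.exists_of_lt (lt_of_le_of_ne hU₁U₀ hU₁neU₀)
  obtain ⟨b, hbU, hbU₀⟩ := SetLike.exists_of_lt (lt_of_le_of_ne hU₀U hU₀neU)
  have haU : a ∈ U := hU₀U haU₀
  have ha1 : a ≠ 1 := fun h1 => haU₁ (h1 ▸ U₁.one_mem)
  have hb1 : b ≠ 1 := fun h1 => hbU₀ (h1 ▸ U₀.one_mem)
  have hab : Commute a b := hcomm a haU b hbU
  have hza : Nat.card (zpowers a) = p := by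
    rw [Nat.card_zpowers]
    exact orderOf_eq_prime (hexp a haU) ha1
  have hzb : Nat.card (zpowers b) = p := by
    rw [Nat.card_zpowers]
    exact orderOf_eq_prime (hexp b hbU) hb1
  have hzaU₁ : zpowers a ⊓ U₁ = ⊥ :=
    (le_or_inf_eq_bot_of_card_prime (zpowers a) U₁ hza).resolve_left
      (fun hle => haU₁ (hle (mem_zpowers a)))
  have hzbU₀ : zpowers b ⊓ U₀ = ⊥ :=
    (le_or_inf_eq_bot_of_card_prime (zpowers b) U₀ hzb).resolve_left
      (fun hle => hbU₀ (hle (mem_zpowers b)))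
  -- the centralizer `R₁`
  set R₁ : Subgroup G := R ⊓ centralizer (U₁ : Set G) with hR₁
  have hUcent : U ≤ centralizer (U₁ : Set G) := by
    intro u hu
    rw [mem_centralizer_iff]
    intro w hw
    exact hcomm w (hU₁U hw) u hu
  have hUR₁ : U ≤ normalizer (R₁ : Set G) := by
    refine le_trans (le_inf hUR (hUcent.trans le_normalizer)) ?_
    exact inf_normalizer_le_normalizer_inf
  have hpR₁ : ¬ p ∣ Nat.card R₁ := fun hd => hR (hd.trans (Subgroup.card_dvd_of_le inf_le_left))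
  have hkill : ∀ c ∈ U, c ∉ U₁ → R₁ ⊓ centralizer ({c} : Set G) = ⊥ := by
    intro c hcU hcU₁
    by_contra hcon
    have hT : U₁ ⊔ zpowers c = U₁ := by
      apply hmax' _ le_sup_left (sup_le hU₁U (zpowers_le.mpr hcU))
      intro hbotT
      apply hcon
      rw [eq_bot_iff, ← hbotT, hR₁, inf_assoc]
      refine inf_le_inf_left R ?_
      rw [centralizer_sup']
      refine inf_le_inf_left _ ?_
      intro x hx
      rw [mem_centralizer_iff]
      intro y hy
      obtain ⟨k, rfl⟩ := mem_zpowers_iff.mp hy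
      have : Commute c x := (mem_centralizer_singleton_iff.mp hx).symm
      exact (this.zpow_left k).eq
    apply hcU₁
    rw [← hT]
    exact (le_sup_right : zpowers c ≤ U₁ ⊔ zpowers c) (mem_zpowers c)
  -- the rank two group `A`
  set A : Subgroup G := closure ({a, b} : Set G) with hA
  have hAU : A ≤ U := by
    rw [hA, closure_le]
    intro x hx
    rcases hx with rfl | rfl
    · exact haU
    · exact hbU
  have hAcard : p ^ 2 ≤ Nat.card A := by
    have hle : zpowers a ⊔ zpowers b ≤ A := by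
      apply sup_le
      · exact zpowers_le.mpr (subset_closure (by simp))
      · exact zpowers_le.mpr (subset_closure (by simp))
    have hnorm : zpowers a ≤ normalizer ((zpowers b : Subgroup G) : Set G) := by
      refine le_trans ?_ (centralizer_le_normalizer _)
      rw [zpowers_le, mem_centralizer_iff]
      intro y hy
      obtain ⟨k, rfl⟩ := mem_zpowers_iff.mp hy
      exact ((hab.zpow_right k).eq).symm
    have hcardeq := card_sup_mul_card_inf_of_le_normalizer (zpowers a) (zpowers b) hnorm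
    have hinf : zpowers a ⊓ zpowers b = ⊥ := by
      rw [eq_bot_iff, ← hzbU₀]
      exact le_inf inf_le_right (inf_le_left.trans (zpowers_le.mpr haU₀))
    rw [hinf, Subgroup.card_bot, mul_one, hza, hzb] at hcardeq
    calc p ^ 2 = p * p := sq p
      _ = Nat.card ↥(zpowers a ⊔ zpowers b) := hcardeq.symm
      _ ≤ Nat.card A := Subgroup.card_le_of_le hle
  have hAU₁ : ∀ c ∈ A, c ≠ 1 → c ∉ U₁ := by
    intro c hcA hc1 hcU₁
    obtain ⟨m, n, rfl⟩ := mem_closure_pair_of_commute hab hcA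
    have h1 : b ^ n ∈ U₀ := by
      have : b ^ n = (a ^ m)⁻¹ * (a ^ m * b ^ n) := by group
      rw [this]
      exact U₀.mul_mem (U₀.inv_mem (U₀.zpow_mem haU₀ m)) (hU₁U₀ hcU₁)
    have h2 : b ^ n = 1 := by
      have : b ^ n ∈ zpowers b ⊓ U₀ := ⟨zpow_mem (mem_zpowers b) n, h1⟩
      rw [hzbU₀] at this
      exact mem_bot.mp this
    rw [h2, mul_one] at hcU₁ hc1
    have : a ^ m ∈ zpowers a ⊓ U₁ := ⟨zpow_mem (mem_zpowers a) m, hcU₁⟩
    rw [hzaU₁] at this
    exact hc1 (mem_bot.mp this)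
  have hgen := Cfsg.Agent.Helper48.le_cgen_of_le_card (p := p) R₁ A hpR₁ (hAU.trans hUR₁)
    (fun x hx y hy => hcomm x (hAU hx) y (hAU hy)) (fun x hx => hexp x (hAU hx)) hAcard
  apply hU₁
  rw [eq_bot_iff]
  refine hgen.trans ?_
  unfold Cfsg.Agent.Helper48.cgen
  apply iSup_le
  rintro ⟨c, hcA, hc1⟩
  rw [hkill c (hAU hcA) (hAU₁ c hcA hc1)]

end Cfsg.Agent.Helper50
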