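import Cfsg.Agent.Helper50.OmegaTwo
import Mathlib.GroupTheory.Subgroup.Centralizer
import Mathlib.GroupTheory.SpecificGroups.Cyclic
import Mathlib.GroupTheory.Index

/-!
# Elements normalizing a cyclic subgroup with order coprime to the number of its automorphisms (helper50)
-/

set_option autoImplicit false

namespace Cfsg.Agent.Helper50

open Cfsg.Agent.Helper24

/-- An element normalizing a finite cyclic subgroup `X`, of order coprime to `φ(#X)`, centralizes `X`. -/
theorem mem_centralizer_of_mem_normalizer_cyclic {Y : Type*} [Group Y] (X : Subgroup Y) [Finite X]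
    (hX : IsCyclic X) {b : Y} (hb : b ∈ Subgroup.normalizer (X : Set Y))
    (hcop : (orderOf b).Coprime (Nat.totient (Nat.card X))) :
    b ∈ Subgroup.centralizer (X : Set Y) := by
  set b' : Subgroup.normalizer (X : Set Y) := ⟨b, hb⟩ with hb'
  have h1 : orderOf (X.normalizerMonoidHom b') ∣ orderOf b := by
    have := orderOf_map_dvd X.normalizerMonoidHom b'
    rwa [hb', Subgroup.orderOf_mk] at this
  have h2 : orderOf (X.normalizerMonoidHom b') ∣ Nat.totient (Nat.card X) := by
    rw [← hX.card_mulAut]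
    exact orderOf_dvd_natCard _
  have h3 : orderOf (X.normalizerMonoidHom b') = 1 := Nat.eq_one_of_dvd_coprimes hcop h1 h2
  have h4 : b' ∈ X.normalizerMonoidHom.ker := by
    rw [MonoidHom.mem_ker]; exact orderOf_eq_one_iff.mp h3
  rw [Subgroup.normalizerMonoidHom_ker, Subgroup.mem_subgroupOf] at h4
  exact h4

variable {G : Type*} [Group G]

/-- An element normalizing a cyclic `p`-subgroup, of order coprime to `p (p - 1)`, centralizes it. -/
theorem commute_of_normalizes_cyclic [Finite G] {p : ℕ} [hp : Fact p.Prime] {V : Subgroup G}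
    (hV : IsPGroup p V) (hcyc : IsCyclic V) {a : G} (ha : a ∈ Subgroup.normalizer (V : Set G))
    (hcop : (orderOf a).Coprime p) (hcop' : (orderOf a).Coprime (p - 1)) :
    ∀ v ∈ V, a * v = v * a := by
  obtain ⟨k, hk⟩ := (IsPGroup.iff_card).mp hV
  have htot : (orderOf a).Coprime (Nat.totient (Nat.card V)) := by
    rw [hk]
    rcases Nat.eq_zero_or_pos k with h0 | h0
    · rw [h0, pow_zero, Nat.totient_one]; exact Nat.coprime_one_right _
    · rw [Nat.totient_prime_pow hp.out h0]
      exact (Nat.Coprime.pow_right _ hcop).mul_right hcop'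
  have := mem_centralizer_of_mem_normalizer_cyclic V hcyc ha htot
  intro v hv
  rw [Subgroup.mem_centralizer_iff] at this
  exact (this v hv).symm

/-- A subgroup of index `p` of a `p`-subgroup is normalized by it. -/
theorem le_normalizer_of_index_prime [Finite G] {p : ℕ} [hp : Fact p.Prime] {Q M : Subgroup G}
    (hQ : IsPGroup p Q) (hMQ : M ≤ Q) (hidx : p * Nat.card M = Nat.card Q) :
    Q ≤ Subgroup.normalizer (M : Set G) := by
  rw [← Subgroup.normal_subgroupOf_iff_le_normalizer hMQ]
  obtain ⟨k, hk⟩ := (IsPGroup.iff_card).mp hQ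
  have hk0 : k ≠ 0 := by
    intro h
    rw [h, pow_zero] at hk
    rw [hk] at hidx
    have : p ∣ 1 := ⟨Nat.card M, hidx.symm⟩
    exact hp.out.one_lt.ne' (Nat.dvd_one.mp this)
  have hrel : M.relIndex Q = p := by
    have h1 : Nat.card M * M.relIndex Q = Nat.card Q := by
      rw [← Subgroup.relIndex_bot_left, Subgroup.relIndex_mul_relIndex _ _ _ bot_le hMQ,
        Subgroup.relIndex_bot_left]
    have h2 : Nat.card M * M.relIndex Q = Nat.card M * p := by rw [h1, ← hidx, mul_comm]
    exact Nat.eq_of_mul_eq_mul_left Nat.card_pos h2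
  apply Subgroup.normal_of_index_eq_minFac_card
  have : (M.subgroupOf Q).index = M.relIndex Q := rfl
  rw [this, hrel, hk, Nat.pow_minFac hk0, Nat.Prime.minFac_eq hp.out]

/-- `Q` a `p`-subgroup, `M ≤ Q` of index `p`, `a` normalizing both, of order coprime to `p - 1`.
Then `a` acts trivially on `Q / M`. -/
theorem commutator_mem_of_index_prime [Finite G] {p : ℕ} [hp : Fact p.Prime] {Q M : Subgroup G}
    (hQ : IsPGroup p Q) (hMQ : M ≤ Q) (hidx : p * Nat.card M = Nat.card Q) {a : G}
    (haQ : a ∈ Subgroup.normalizer (Q : Set G)) (haM : a ∈ Subgroup.normalizer (M : Set G))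
    (hcop' : (orderOf a).Coprime (p - 1)) : ∀ v ∈ Q, a * v * a⁻¹ * v⁻¹ ∈ M := by
  have hQN : Q ≤ Subgroup.normalizer (M : Set G) := le_normalizer_of_index_prime hQ hMQ hidx
  set Y : Subgroup G := Subgroup.normalizer (M : Set G) with hY
  have hMY : M ≤ Y := Subgroup.le_normalizer
  set MY : Subgroup Y := M.subgroupOf Y with hMYdef
  set QY : Subgroup Y := Q.subgroupOf Y with hQYdef
  have hMQY : MY ≤ QY := by
    intro y hy
    rw [hQYdef, Subgroup.mem_subgroupOf]
    rw [hMYdef, Subgroup.mem_subgroupOf] at hy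
    exact hMQ hy
  have hnorm : MY.Normal := Subgroup.normal_in_normalizer
  set π : Y →* Y ⧸ MY := QuotientGroup.mk' MY with hπ
  set X : Subgroup (Y ⧸ MY) := QY.map π with hX
  -- the order of `X`
  have hrel : MY.relIndex QY = p := by
    rw [hMYdef, hQYdef, Subgroup.relIndex_subgroupOf hQN]
    have h1 : Nat.card M * M.relIndex Q = Nat.card Q := by
      rw [← Subgroup.relIndex_bot_left, Subgroup.relIndex_mul_relIndex _ _ _ bot_le hMQ,
        Subgroup.relIndex_bot_left]
    have h2 : Nat.card M * M.relIndex Q = Nat.card M * p := by rw [h1, ← hidx, mul_comm]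
    exact Nat.eq_of_mul_eq_mul_left Nat.card_pos h2
  have hXidx : X.index = QY.index := by
    rw [hX, Subgroup.index_map, hπ, QuotientGroup.ker_mk', QuotientGroup.range_mk',
      Subgroup.index_top, mul_one, sup_of_le_left hMQY]
  have hXcard : Nat.card X = p := by
    have h1 : Nat.card X * X.index = Nat.card (Y ⧸ MY) := Subgroup.card_mul_index X
    have h2 : Nat.card (Y ⧸ MY) = MY.index := (Subgroup.index_eq_card MY).symm
    have h3 : MY.relIndex QY * QY.index = MY.index := Subgroup.relIndex_mul_index hMQY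
    rw [h2, ← h3, hrel, hXidx] at h1
    exact Nat.eq_of_mul_eq_mul_right (Nat.pos_of_ne_zero Subgroup.index_ne_zero_of_finite) h1
  have hXcyc : IsCyclic X := by
    have : Fact (Nat.card X).Prime := ⟨hXcard ▸ hp.out⟩
    exact isCyclic_of_prime_card rfl
  set a' : Y := ⟨a, haM⟩ with ha'
  have hconj : ∀ b : G, ∀ hb : b ∈ Y, b ∈ Subgroup.normalizer (Q : Set G) →
      ∀ z ∈ X, π ⟨b, hb⟩ * z * (π ⟨b, hb⟩)⁻¹ ∈ X := by
    rintro b hb hbQ z ⟨w, hw, rfl⟩
    have hw' : (w : G) ∈ Q := Subgroup.mem_subgroupOf.mp hw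
    refine ⟨⟨b, hb⟩ * w * ⟨b, hb⟩⁻¹, ?_, by simp⟩
    exact Subgroup.mem_subgroupOf.mpr (conj_mem_of_mem_normalizer hbQ hw')
  have haX : π a' ∈ Subgroup.normalizer (X : Set (Y ⧸ MY)) := by
    apply mem_normalizer_of_forall_conj_mem
    · exact hconj a haM haQ
    · intro z hz
      have := hconj a⁻¹ (Y.inv_mem haM) (Subgroup.inv_mem _ haQ) z hz
      have e : π ⟨a⁻¹, Y.inv_mem haM⟩ = (π a')⁻¹ := by rw [← map_inv]; rfl
      rw [e, inv_inv] at this
      exact this
  have hord : (orderOf (π a')).Coprime (Nat.totient (Nat.card X)) := by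
    rw [hXcard, Nat.totient_prime hp.out]
    have h1 : orderOf (π a') ∣ orderOf a := by
      have := orderOf_map_dvd π a'
      rwa [ha', Subgroup.orderOf_mk] at this
    exact Nat.Coprime.coprime_dvd_left h1 hcop'
  have hcent := mem_centralizer_of_mem_normalizer_cyclic X hXcyc haX hord
  intro v hv
  have hvX : π ⟨v, hQN hv⟩ ∈ X := ⟨⟨v, hQN hv⟩, Subgroup.mem_subgroupOf.mpr hv, rfl⟩
  rw [Subgroup.mem_centralizer_iff] at hcent
  have h1 := hcent _ hvX
  have h2 : π (a' * ⟨v, hQN hv⟩ * a'⁻¹ * ⟨v, hQN hv⟩⁻¹) = 1 := by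
    rw [map_mul, map_mul, map_mul, map_inv, map_inv, ← h1]
    group
  rw [hπ, QuotientGroup.mk'_apply, QuotientGroup.eq_one_iff, hMYdef, Subgroup.mem_subgroupOf] at h2
  exact h2

end Cfsg.Agent.Helper50
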