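import Cfsg.Agent.Helper61.DihDefs

/-!
# S3616 (helper61), piece (P1), with the pieces (CH1) (CH2) (SG1) (SG2) (CYC) as hypotheses
-/

set_option autoImplicit false
set_option linter.unusedSectionVars false
set_option linter.style.haveILetI false

namespace Cfsg.Agent.Helper50.Dih

open DihedralGroup Finset Cfsg.Agent.Helper61.Dih

variable {e : ℕ} [NeZero e]

/-- (P1 aux) the character of `ZMod e` inflated from the standard character of `ZMod q` -/
noncomputable def P1_psi (q : ℕ) [NeZero q] (hqe : q ∣ e) : AddChar (ZMod e) ℂ :=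
  (ZMod.stdAddChar (N := q)).compAddMonoidHom (ZMod.castHom hqe (ZMod q)).toAddMonoidHom

theorem P1_psi_apply (q : ℕ) [NeZero q] (hqe : q ∣ e) (x : ZMod e) :
    P1_psi q hqe x = ZMod.stdAddChar (N := q) (ZMod.castHom hqe (ZMod q) x) := rfl

theorem P1_psi_ne_one (q : ℕ) [NeZero q] (hq : 1 < q) (hqe : q ∣ e) : P1_psi (e := e) q hqe ≠ 1 := by
  intro h
  have h1 := congrArg (fun ψ : AddChar (ZMod e) ℂ => ψ 1) h
  simp only [P1_psi_apply, map_one, AddChar.one_apply] at h1
  have h2 : ZMod.stdAddChar (N := q) 1 = ZMod.stdAddChar (N := q) 0 := by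
    rw [h1, AddChar.map_zero_eq_one]
  have h3 := ZMod.injective_stdAddChar h2
  haveI : Fact (1 < q) := ⟨hq⟩
  exact one_ne_zero h3

theorem P1_psi_nsmul (q : ℕ) [NeZero q] (hqe : q ∣ e) (y : ZMod e) :
    P1_psi q hqe (q • y) = 1 := by
  rw [P1_psi_apply, map_nsmul, nsmul_eq_mul, ZMod.natCast_self, zero_mul,
    AddChar.map_zero_eq_one]


/-- (P1), from the statements of the pieces (CH1) (CH2) (SG1) (SG2) (CYC) -/
theorem P1_of {A B : Finset (ZMod e)} {k lam mu : ℤ} (h : DihData e A B k lam mu) (hmu : 0 < mu)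
    (q : ℕ) [Fact q.Prime] (hqe : q ∣ e) (hndvd : ¬ (q : ℤ) ∣ sgn A B - sgn' A B lam mu)
    (hsub : ∀ x ∈ A, ∃ y : ZMod e, q • y = x)
    (CH1 : ∀ ψ : AddChar (ZMod e) ℂ, ψ ≠ 1 →
      (2 * csum ψ A - ((lam : ℂ) - mu)) * csum ψ B = 0)
    (CH2 : ∀ ψ : AddChar (ZMod e) ℂ, ψ ≠ 1 →
      csum ψ A ^ 2 + csum ψ B * (starRingEnd ℂ) (csum ψ B) =
        ((k : ℂ) - mu) + ((lam : ℂ) - mu) * csum ψ A)
    (SG1 : sgn A B ^ 2 = (k - mu) + (lam - mu) * sgn A B)
    (SG2 : k ^ 2 = k + lam * k + mu * (2 * e - 1 - k))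
    (CYC : ∀ ψ : AddChar (ZMod q) ℂ, ψ ≠ 1 → ∀ n : ZMod q → ℤ,
      ∑ c, (n c : ℂ) * ψ c = 0 → ∀ c, n c = n 0) : False := by
  classical
  have hq : q.Prime := Fact.out
  haveI : NeZero q := ⟨hq.ne_zero⟩
  set ψ := P1_psi (e := e) q hqe with hψdef
  have hψ : ψ ≠ 1 := P1_psi_ne_one q hq.one_lt hqe
  -- the character sum over `A`
  have hA : csum ψ A = (A.card : ℂ) := by
    unfold csum
    rw [Finset.sum_congr rfl (fun i hi => ?_), Finset.sum_const, nsmul_eq_mul, mul_one]
    obtain ⟨y, rfl⟩ := hsub i hi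
    exact P1_psi_nsmul q hqe y
  have hk : (A.card : ℤ) + (B.card : ℤ) = k := h.card_add
  have hs : sgn A B = (A.card : ℤ) - (B.card : ℤ) := rfl
  have hs' : sgn' A B lam mu = (lam - mu) - ((A.card : ℤ) - (B.card : ℤ)) := rfl
  have he0 : (0 : ℤ) < (e : ℤ) := by
    have := NeZero.ne e
    exact_mod_cast Nat.pos_of_ne_zero this
  rcases mul_eq_zero.mp (CH1 ψ hψ) with h1 | h1
  · -- `2 a = lam - mu`
    rw [hA] at h1
    have h2 : 2 * (A.card : ℤ) = lam - mu := by
      have : ((2 * (A.card : ℤ) - (lam - mu) : ℤ) : ℂ) = 0 := by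
        push_cast
        exact h1
      have := Int.cast_eq_zero.mp this
      linarith
    have hlam : lam = mu + 2 * (A.card : ℤ) := by linarith
    rw [hs] at SG1
    rw [← hk, hlam] at SG1 SG2
    have h0 : 2 * (e : ℤ) * mu = 0 := by linear_combination SG1 - SG2
    have : 0 < 2 * (e : ℤ) * mu := by positivity
    omega
  · -- `β = 0`
    have h3 := CH2 ψ hψ
    rw [h1, hA, zero_mul, add_zero] at h3
    have h4 : (A.card : ℤ) ^ 2 = (k - mu) + (lam - mu) * (A.card : ℤ) := by
      have : (((A.card : ℤ) ^ 2 - ((k - mu) + (lam - mu) * (A.card : ℤ)) : ℤ) : ℂ) = 0 := by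
        push_cast
        rw [h3]
        ring
      have := Int.cast_eq_zero.mp this
      linarith
    rw [hs] at SG1
    have h5 : (B.card : ℤ) * ((A.card : ℤ) + ((A.card : ℤ) - (B.card : ℤ)) - (lam - mu)) = 0 := by
      linear_combination h4 - SG1
    rcases mul_eq_zero.mp h5 with h6 | h6
    · -- `B = ∅`
      have hB : B = ∅ := by
        have : B.card = 0 := by exact_mod_cast h6
        exact Finset.card_eq_zero.mp this
      have h7 := h.refl 0
      rw [hB] at h7
      simp at h7
      omega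
    · -- `a = s'`, so `s - s' = -b`
      have h8 : sgn A B - sgn' A B lam mu = -(B.card : ℤ) := by
        rw [hs, hs']; linarith
      rw [h8, dvd_neg] at hndvd
      apply hndvd
      -- the fibres of `B` over `ZMod q`
      set φ := ZMod.castHom hqe (ZMod q) with hφ
      set n : ZMod q → ℤ := fun c => ((B.filter (fun j => φ j = c)).card : ℤ) with hn
      have hsum : ∑ c, (n c : ℂ) * ZMod.stdAddChar (N := q) c = 0 := by
        have h9 : csum ψ B = ∑ c : ZMod q, ∑ j ∈ B.filter (fun j => φ j = c),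
            ZMod.stdAddChar (N := q) (φ j) := by
          unfold csum
          rw [Finset.sum_fiberwise B (fun j => φ j) (fun j => ZMod.stdAddChar (N := q) (φ j))]
          rfl
        rw [h9] at h1
        rw [← h1]
        refine Finset.sum_congr rfl (fun c _ => ?_)
        rw [Finset.sum_congr rfl (fun j hj => by rw [(Finset.mem_filter.mp hj).2]),
          Finset.sum_const, nsmul_eq_mul]
        simp [hn]
      have hstd : ZMod.stdAddChar (N := q) ≠ 1 := by
        intro h10
        have h11 := congrArg (fun χ : AddChar (ZMod q) ℂ => χ 1) h10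
        simp only [AddChar.one_apply] at h11
        have h12 : ZMod.stdAddChar (N := q) 1 = ZMod.stdAddChar (N := q) 0 := by
          rw [h11, AddChar.map_zero_eq_one]
        have h13 := ZMod.injective_stdAddChar h12
        haveI : Fact (1 < q) := ⟨hq.one_lt⟩
        exact one_ne_zero h13
      have hconst := CYC (ZMod.stdAddChar (N := q)) hstd n hsum
      have hcard : (B.card : ℤ) = ∑ c : ZMod q, n c := by
        have := Finset.card_eq_sum_card_fiberwise (s := B) (t := (Finset.univ : Finset (ZMod q)))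
          (f := fun j => φ j) (fun j _ => Finset.mem_univ _)
        rw [this]
        push_cast
        rfl
      rw [hcard, Finset.sum_congr rfl (fun c _ => hconst c), Finset.sum_const, Finset.card_univ,
        ZMod.card, nsmul_eq_mul]
      exact Dvd.intro _ rfl

end Cfsg.Agent.Helper50.Dih
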