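import Cfsg.Agent.Helper61.DihDefs
import Cfsg.Agent.Helper50.DihP1a
import Cfsg.Agent.Helper76.DihCH1
import Cfsg.Agent.Helper76.DihCH2
import Cfsg.Agent.Helper11.DihSG
import Cfsg.Agent.Helper87.DihCYC

/-!
# S3616 (helper61), piece (P1), verbatim DihSkel statement

`P1_of` (file `DihP1a`) with the five black boxes filled by the landed pieces
(CH1) `Helper76.Dih.csum_refl`, (CH2) `Helper76.Dih.csum_rot`,
(SG1) `Helper11.Dih.DihData.sgn_sq`, (SG2) `Helper11.Dih.DihData.k_sq`,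
(CYC) `Helper87.Dih.cyc_const`.
-/

set_option autoImplicit false
set_option linter.unusedSectionVars false

namespace Cfsg.Agent.Helper50.Dih

open DihedralGroup Finset Cfsg.Agent.Helper61.Dih

variable {e : ℕ} [NeZero e]

/-- (P1) -/
theorem P1 {A B : Finset (ZMod e)} {k lam mu : ℤ} (h : DihData e A B k lam mu) (hmu : 0 < mu)
    (q : ℕ) [Fact q.Prime] (hqe : q ∣ e) (hndvd : ¬ (q : ℤ) ∣ sgn A B - sgn' A B lam mu)
    (hsub : ∀ x ∈ A, ∃ y : ZMod e, q • y = x) : False :=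
  P1_of h hmu q hqe hndvd hsub
    (fun ψ hψ => Cfsg.Agent.Helper76.Dih.csum_refl h ψ hψ)
    (fun ψ hψ => Cfsg.Agent.Helper76.Dih.csum_rot h ψ hψ)
    (Cfsg.Agent.Helper11.Dih.DihData.sgn_sq h)
    (Cfsg.Agent.Helper11.Dih.DihData.k_sq h)
    (fun ψ hψ n hn => Cfsg.Agent.Helper87.Dih.cyc_const ψ hψ n hn)

end Cfsg.Agent.Helper50.Dih
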