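import Mathlib

set_option autoImplicit false

/-!
# Commuting involutory automorphisms of a finite abelian group of odd order (helper50)

`sgE hc T s` is the subgroup of `V` of elements fixed (`s = false`) or inverted (`s = true`) by `T`.
`card_inv_split`: an invariant subgroup is the direct product of its fixed and inverted parts (cardinality form).
`card_split8`: the eightfold decomposition under three commuting involutions.
-/

namespace Cfsg.Agent.Helper50

section E8Inv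

variable {V : Type*} [Group V]

/-- Elements fixed (`s = false`) or inverted (`s = true`) by `T`, in a commutative group. -/
def sgE (hc : ∀ x y : V, x * y = y * x) (T : MulAut V) (s : Bool) : Subgroup V where
  carrier := {v | T v = if s then v⁻¹ else v}
  mul_mem' := by
    intro x y hx hy
    simp only [Set.mem_ofPred_eq] at *
    cases s
    · simp only [Bool.false_eq_true, if_false] at *
      rw [map_mul, hx, hy]
    · simp only [if_true] at *
      rw [map_mul, hx, hy, mul_inv_rev, hc]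
  one_mem' := by
    simp only [Set.mem_ofPred_eq, map_one, inv_one, ite_self]
  inv_mem' := by
    intro x hx
    simp only [Set.mem_ofPred_eq] at *
    cases s
    · simp only [Bool.false_eq_true, if_false] at *
      rw [map_inv, hx]
    · simp only [if_true] at *
      rw [map_inv, hx]

theorem mem_sgE_false (hc : ∀ x y : V, x * y = y * x) (T : MulAut V) (v : V) :
    v ∈ sgE hc T false ↔ T v = v := by
  show T v = (if false = true then v⁻¹ else v) ↔ _
  simp

theorem mem_sgE_true (hc : ∀ x y : V, x * y = y * x) (T : MulAut V) (v : V) :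
    v ∈ sgE hc T true ↔ T v = v⁻¹ := by
  show T v = (if true = true then v⁻¹ else v) ↔ _
  simp

theorem sq_eq_one_of_odd [Finite V] (hodd : Odd (Nat.card V)) {v : V} (h : v * v = 1) : v = 1 := by
  have h2 : v ^ 2 = 1 := by rw [pow_two, h]
  have h1 : orderOf v ∣ 2 := orderOf_dvd_of_pow_eq_one h2
  have h3 : orderOf v ∣ Nat.card V := orderOf_dvd_natCard v
  have h4 : orderOf v = 1 := by
    rcases (Nat.dvd_prime Nat.prime_two).mp h1 with h | h
    · exact h
    · exfalso
      rw [h] at h3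
      exact (Nat.not_even_iff_odd.mpr hodd) (even_iff_two_dvd.mpr h3)
  exact orderOf_eq_one_iff.mp h4

theorem sgE_inf_eq_bot [Finite V] (hc : ∀ x y : V, x * y = y * x) (hodd : Odd (Nat.card V))
    (T : MulAut V) : sgE hc T false ⊓ sgE hc T true = ⊥ := by
  rw [eq_bot_iff]
  intro v hv
  obtain ⟨h1, h2⟩ := Subgroup.mem_inf.mp hv
  rw [mem_sgE_false] at h1
  rw [mem_sgE_true] at h2
  rw [Subgroup.mem_bot]
  apply sq_eq_one_of_odd hodd
  have : v = v⁻¹ := h1.symm.trans h2
  calc v * v = v * v⁻¹ := by rw [← this]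
    _ = 1 := mul_inv_cancel v

/-- The half power: `v ^ halfExp = ` the square root of `v`. -/
theorem exists_half [Finite V] (hodd : Odd (Nat.card V)) : ∃ k : ℕ, ∀ v : V, (v * v) ^ k = v := by
  obtain ⟨m, hm⟩ := hodd
  refine ⟨m + 1, fun v => ?_⟩
  have h1 : v ^ (Nat.card V) = 1 := pow_card_eq_one'
  rw [← pow_two, ← pow_mul]
  have : 2 * (m + 1) = Nat.card V + 1 := by omega
  rw [this, pow_succ, h1, one_mul]

/-- An invariant subgroup splits into its fixed part and its inverted part. -/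
theorem card_inv_split [Finite V] (hc : ∀ x y : V, x * y = y * x) (hodd : Odd (Nat.card V))
    (T : MulAut V) (hT : ∀ v, T (T v) = v) (U : Subgroup V) (hU : ∀ u ∈ U, T u ∈ U) :
    Nat.card U = Nat.card ↥(U ⊓ sgE hc T false) * Nat.card ↥(U ⊓ sgE hc T true) := by
  obtain ⟨k, hk⟩ := exists_half hodd
  rw [← Nat.card_prod]
  symm
  let G : ↥(U ⊓ sgE hc T false) × ↥(U ⊓ sgE hc T true) → U :=
    fun x => ⟨(x.1 : V) * (x.2 : V), U.mul_mem (Subgroup.mem_inf.mp x.1.2).1 (Subgroup.mem_inf.mp x.2.2).1⟩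
  apply Nat.card_eq_of_bijective G
  constructor
  · rintro ⟨⟨f, hf⟩, ⟨i, hi⟩⟩ ⟨⟨f', hf'⟩, ⟨i', hi'⟩⟩ h
    have h' : f * i = f' * i' := congrArg Subtype.val h
    have hff : f'⁻¹ * f = i' * i⁻¹ := by
      calc f'⁻¹ * f = f'⁻¹ * (f * i) * i⁻¹ := by group
        _ = f'⁻¹ * (f' * i') * i⁻¹ := by rw [h']
        _ = i' * i⁻¹ := by group
    have hmem1 : f'⁻¹ * f ∈ sgE hc T false :=
      Subgroup.mul_mem _ (Subgroup.inv_mem _ (Subgroup.mem_inf.mp hf').2) (Subgroup.mem_inf.mp hf).2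
    have hmem2 : f'⁻¹ * f ∈ sgE hc T true := by
      rw [hff]
      exact Subgroup.mul_mem _ (Subgroup.mem_inf.mp hi').2 (Subgroup.inv_mem _ (Subgroup.mem_inf.mp hi).2)
    have hbot : f'⁻¹ * f ∈ (⊥ : Subgroup V) := by
      rw [← sgE_inf_eq_bot hc hodd T]
      exact Subgroup.mem_inf.mpr ⟨hmem1, hmem2⟩
    rw [Subgroup.mem_bot] at hbot
    have hf_eq : f = f' := by
      have : f = f' * (f'⁻¹ * f) := by group
      rw [this, hbot, mul_one]
    have hi_eq : i = i' := by
      rw [hf_eq] at h'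
      exact mul_left_cancel h'
    subst hf_eq
    subst hi_eq
    rfl
  · rintro ⟨u, hu⟩
    have hTu : T u ∈ U := hU u hu
    have h1 : (u * T u) ^ k ∈ U ⊓ sgE hc T false := by
      refine Subgroup.mem_inf.mpr ⟨U.pow_mem (U.mul_mem hu hTu) k, ?_⟩
      apply Subgroup.pow_mem
      rw [mem_sgE_false, map_mul, hT, hc]
    have h2 : (u * (T u)⁻¹) ^ k ∈ U ⊓ sgE hc T true := by
      refine Subgroup.mem_inf.mpr ⟨U.pow_mem (U.mul_mem hu (U.inv_mem hTu)) k, ?_⟩
      apply Subgroup.pow_mem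
      rw [mem_sgE_true, map_mul, map_inv, hT, mul_inv_rev, inv_inv, hc]
    refine ⟨(⟨_, h1⟩, ⟨_, h2⟩), ?_⟩
    apply Subtype.ext
    show (u * T u) ^ k * (u * (T u)⁻¹) ^ k = u
    have hcomm : Commute (u * T u) (u * (T u)⁻¹) := hc _ _
    rw [← hcomm.mul_pow]
    have : u * T u * (u * (T u)⁻¹) = u * u := by
      calc u * T u * (u * (T u)⁻¹) = u * (T u * u) * (T u)⁻¹ := by group
        _ = u * (u * T u) * (T u)⁻¹ := by rw [hc (T u) u]
        _ = u * u := by group
    rw [this, hk]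

theorem sgE_invariant (hc : ∀ x y : V, x * y = y * x) (T S : MulAut V)
    (hTS : ∀ v, T (S v) = S (T v)) (s : Bool) : ∀ v ∈ sgE hc T s, S v ∈ sgE hc T s := by
  intro v hv
  cases s
  · rw [mem_sgE_false] at *
    rw [hTS, hv]
  · rw [mem_sgE_true] at *
    rw [hTS, hv, map_inv]

theorem sgE_mul (hc : ∀ x y : V, x * y = y * x) (x y : MulAut V) (s s' : Bool) :
    sgE hc x s ⊓ sgE hc y s' ≤ sgE hc (x * y) (xor s s') := by
  intro v hv
  obtain ⟨h1, h2⟩ := Subgroup.mem_inf.mp hv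
  cases s <;> cases s'
  · rw [mem_sgE_false] at h1 h2
    show v ∈ sgE hc (x * y) false
    rw [mem_sgE_false, MulAut.mul_apply, h2, h1]
  · rw [mem_sgE_false] at h1
    rw [mem_sgE_true] at h2
    show v ∈ sgE hc (x * y) true
    rw [mem_sgE_true, MulAut.mul_apply, h2, map_inv, h1]
  · rw [mem_sgE_true] at h1
    rw [mem_sgE_false] at h2
    show v ∈ sgE hc (x * y) true
    rw [mem_sgE_true, MulAut.mul_apply, h2, h1]
  · rw [mem_sgE_true] at h1 h2
    show v ∈ sgE hc (x * y) false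
    rw [mem_sgE_false, MulAut.mul_apply, h2, map_inv, h1, inv_inv]

/-- The eight simultaneous sign spaces of three automorphisms. -/
def W8 (hc : ∀ x y : V, x * y = y * x) (a b c : MulAut V) (s₁ s₂ s₃ : Bool) : Subgroup V :=
  sgE hc a s₁ ⊓ sgE hc b s₂ ⊓ sgE hc c s₃

theorem card_split8 [Finite V] (hc : ∀ x y : V, x * y = y * x) (hodd : Odd (Nat.card V))
    (a b c : MulAut V) (ha : ∀ v, a (a v) = v) (hb : ∀ v, b (b v) = v) (hc' : ∀ v, c (c v) = v)
    (hab : ∀ v, a (b v) = b (a v)) (hac : ∀ v, a (c v) = c (a v)) (hbc : ∀ v, b (c v) = c (b v))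
    (U : Subgroup V) (hUa : ∀ u ∈ U, a u ∈ U) (hUb : ∀ u ∈ U, b u ∈ U) (hUc : ∀ u ∈ U, c u ∈ U) :
    Nat.card U =
      Nat.card ↥(U ⊓ W8 hc a b c false false false) * Nat.card ↥(U ⊓ W8 hc a b c false false true) *
      Nat.card ↥(U ⊓ W8 hc a b c false true false) * Nat.card ↥(U ⊓ W8 hc a b c false true true) *
      Nat.card ↥(U ⊓ W8 hc a b c true false false) * Nat.card ↥(U ⊓ W8 hc a b c true false true) *
      Nat.card ↥(U ⊓ W8 hc a b c true true false) * Nat.card ↥(U ⊓ W8 hc a b c true true true) := by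
  have hUA : ∀ s₁, ∀ u ∈ U ⊓ sgE hc a s₁, b u ∈ U ⊓ sgE hc a s₁ := by
    intro s₁ u hu
    obtain ⟨h1, h2⟩ := Subgroup.mem_inf.mp hu
    exact Subgroup.mem_inf.mpr ⟨hUb u h1, sgE_invariant hc a b hab s₁ u h2⟩
  have hUAB : ∀ s₁ s₂, ∀ u ∈ U ⊓ sgE hc a s₁ ⊓ sgE hc b s₂, c u ∈ U ⊓ sgE hc a s₁ ⊓ sgE hc b s₂ := by
    intro s₁ s₂ u hu
    obtain ⟨h12, h3⟩ := Subgroup.mem_inf.mp hu
    obtain ⟨h1, h2⟩ := Subgroup.mem_inf.mp h12
    exact Subgroup.mem_inf.mpr ⟨Subgroup.mem_inf.mpr ⟨hUc u h1, sgE_invariant hc a c hac s₁ u h2⟩,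
      sgE_invariant hc b c hbc s₂ u h3⟩
  have e : ∀ s₁ s₂ s₃, U ⊓ W8 hc a b c s₁ s₂ s₃ = U ⊓ sgE hc a s₁ ⊓ sgE hc b s₂ ⊓ sgE hc c s₃ := by
    intro s₁ s₂ s₃
    unfold W8
    rw [inf_assoc, inf_assoc, inf_assoc]
  rw [e, e, e, e, e, e, e, e]
  rw [card_inv_split hc hodd a ha U hUa,
    card_inv_split hc hodd b hb _ (hUA false), card_inv_split hc hodd b hb _ (hUA true),
    card_inv_split hc hodd c hc' _ (hUAB false false), card_inv_split hc hodd c hc' _ (hUAB false true),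
    card_inv_split hc hodd c hc' _ (hUAB true false), card_inv_split hc hodd c hc' _ (hUAB true true)]
  ring

/-- The fixed-point subgroup of an involution `T` commuting with `a, b, c` that acts on the sign space
`W s` by the sign `σ s`. -/
theorem card_fx_formula [Finite V] (hc : ∀ x y : V, x * y = y * x) (hodd : Odd (Nat.card V))
    (a b c : MulAut V) (ha : ∀ v, a (a v) = v) (hb : ∀ v, b (b v) = v) (hc' : ∀ v, c (c v) = v)
    (hab : ∀ v, a (b v) = b (a v)) (hac : ∀ v, a (c v) = c (a v)) (hbc : ∀ v, b (c v) = c (b v))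
    (T : MulAut V) (hTa : ∀ v, T (a v) = a (T v)) (hTb : ∀ v, T (b v) = b (T v))
    (hTc : ∀ v, T (c v) = c (T v)) (σ : Bool → Bool → Bool → Bool)
    (hσ : ∀ s₁ s₂ s₃, W8 hc a b c s₁ s₂ s₃ ≤ sgE hc T (σ s₁ s₂ s₃)) :
    Nat.card ↥(sgE hc T false) =
      (if σ false false false then 1 else Nat.card ↥(W8 hc a b c false false false)) *
      (if σ false false true then 1 else Nat.card ↥(W8 hc a b c false false true)) *
      (if σ false true false then 1 else Nat.card ↥(W8 hc a b c false true false)) *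
      (if σ false true true then 1 else Nat.card ↥(W8 hc a b c false true true)) *
      (if σ true false false then 1 else Nat.card ↥(W8 hc a b c true false false)) *
      (if σ true false true then 1 else Nat.card ↥(W8 hc a b c true false true)) *
      (if σ true true false then 1 else Nat.card ↥(W8 hc a b c true true false)) *
      (if σ true true true then 1 else Nat.card ↥(W8 hc a b c true true true)) := by
  have key : ∀ s₁ s₂ s₃, Nat.card ↥(sgE hc T false ⊓ W8 hc a b c s₁ s₂ s₃) =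
      (if σ s₁ s₂ s₃ then 1 else Nat.card ↥(W8 hc a b c s₁ s₂ s₃)) := by
    intro s₁ s₂ s₃
    have h := hσ s₁ s₂ s₃
    cases hs : σ s₁ s₂ s₃
    · rw [hs] at h
      simp only [Bool.false_eq_true, if_false]
      rw [inf_eq_right.mpr h]
    · rw [hs] at h
      simp only [if_true]
      have : sgE hc T false ⊓ W8 hc a b c s₁ s₂ s₃ = ⊥ := by
        rw [eq_bot_iff, ← sgE_inf_eq_bot hc hodd T]
        exact inf_le_inf_left _ h
      rw [this, Subgroup.card_bot]
  rw [card_split8 hc hodd a b c ha hb hc' hab hac hbc (sgE hc T false)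
    (sgE_invariant hc T a hTa false) (sgE_invariant hc T b hTb false) (sgE_invariant hc T c hTc false)]
  rw [key, key, key, key, key, key, key, key]

theorem W8_le_a (hc : ∀ x y : V, x * y = y * x) (a b c : MulAut V) (s₁ s₂ s₃ : Bool) :
    W8 hc a b c s₁ s₂ s₃ ≤ sgE hc a s₁ := inf_le_left.trans inf_le_left

theorem W8_le_b (hc : ∀ x y : V, x * y = y * x) (a b c : MulAut V) (s₁ s₂ s₃ : Bool) :
    W8 hc a b c s₁ s₂ s₃ ≤ sgE hc b s₂ := inf_le_left.trans inf_le_right

theorem W8_le_c (hc : ∀ x y : V, x * y = y * x) (a b c : MulAut V) (s₁ s₂ s₃ : Bool) :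
    W8 hc a b c s₁ s₂ s₃ ≤ sgE hc c s₃ := inf_le_right

theorem W8_le_ab (hc : ∀ x y : V, x * y = y * x) (a b c : MulAut V) (s₁ s₂ s₃ : Bool) :
    W8 hc a b c s₁ s₂ s₃ ≤ sgE hc (a * b) (xor s₁ s₂) :=
  inf_le_left.trans (sgE_mul hc a b s₁ s₂)

theorem W8_le_ac (hc : ∀ x y : V, x * y = y * x) (a b c : MulAut V) (s₁ s₂ s₃ : Bool) :
    W8 hc a b c s₁ s₂ s₃ ≤ sgE hc (a * c) (xor s₁ s₃) :=
  (le_inf (W8_le_a hc a b c s₁ s₂ s₃) (W8_le_c hc a b c s₁ s₂ s₃)).trans (sgE_mul hc a c s₁ s₃)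

theorem W8_le_bc (hc : ∀ x y : V, x * y = y * x) (a b c : MulAut V) (s₁ s₂ s₃ : Bool) :
    W8 hc a b c s₁ s₂ s₃ ≤ sgE hc (b * c) (xor s₂ s₃) :=
  (le_inf (W8_le_b hc a b c s₁ s₂ s₃) (W8_le_c hc a b c s₁ s₂ s₃)).trans (sgE_mul hc b c s₂ s₃)

theorem W8_le_abc (hc : ∀ x y : V, x * y = y * x) (a b c : MulAut V) (s₁ s₂ s₃ : Bool) :
    W8 hc a b c s₁ s₂ s₃ ≤ sgE hc (a * b * c) (xor (xor s₁ s₂) s₃) :=
  (le_inf (W8_le_ab hc a b c s₁ s₂ s₃) (W8_le_c hc a b c s₁ s₂ s₃)).trans (sgE_mul hc (a * b) c _ s₃)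

/-- The exponent bookkeeping for three commuting involutions on an abelian `p`-group (`p` odd). -/
theorem dec8 [Finite V] (hc : ∀ x y : V, x * y = y * x) {p : ℕ} [Fact p.Prime] (hV : IsPGroup p V)
    (hodd : Odd (Nat.card V))
    (a b c : MulAut V) (ha : ∀ v, a (a v) = v) (hb : ∀ v, b (b v) = v) (hc' : ∀ v, c (c v) = v)
    (hab : ∀ v, a (b v) = b (a v)) (hac : ∀ v, a (c v) = c (a v)) (hbc : ∀ v, b (c v) = c (b v)) :
    ∃ k0 k1 k2 k3 k4 k5 k6 k7 : ℕ,
      Nat.card ↥(W8 hc a b c false false false) = p ^ k0 ∧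
      Nat.card ↥(W8 hc a b c false false true) = p ^ k1 ∧
      Nat.card ↥(W8 hc a b c false true false) = p ^ k2 ∧
      Nat.card ↥(W8 hc a b c false true true) = p ^ k3 ∧
      Nat.card ↥(W8 hc a b c true false false) = p ^ k4 ∧
      Nat.card ↥(W8 hc a b c true false true) = p ^ k5 ∧
      Nat.card ↥(W8 hc a b c true true false) = p ^ k6 ∧
      Nat.card ↥(W8 hc a b c true true true) = p ^ k7 ∧
      Nat.card V = p ^ (k0 + k1 + k2 + k3 + k4 + k5 + k6 + k7) ∧
      Nat.card ↥(sgE hc a false) = p ^ (k0 + k1 + k2 + k3) ∧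
      Nat.card ↥(sgE hc b false) = p ^ (k0 + k1 + k4 + k5) ∧
      Nat.card ↥(sgE hc c false) = p ^ (k0 + k2 + k4 + k6) ∧
      Nat.card ↥(sgE hc (a * b) false) = p ^ (k0 + k1 + k6 + k7) ∧
      Nat.card ↥(sgE hc (a * c) false) = p ^ (k0 + k2 + k5 + k7) ∧
      Nat.card ↥(sgE hc (b * c) false) = p ^ (k0 + k3 + k4 + k7) ∧
      Nat.card ↥(sgE hc (a * b * c) false) = p ^ (k0 + k3 + k5 + k6) := by
  have hex : ∀ H : Subgroup V, ∃ n : ℕ, Nat.card H = p ^ n := fun H => (hV.to_subgroup H).exists_card_eq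
  obtain ⟨k0, h0⟩ := hex (W8 hc a b c false false false)
  obtain ⟨k1, h1⟩ := hex (W8 hc a b c false false true)
  obtain ⟨k2, h2⟩ := hex (W8 hc a b c false true false)
  obtain ⟨k3, h3⟩ := hex (W8 hc a b c false true true)
  obtain ⟨k4, h4⟩ := hex (W8 hc a b c true false false)
  obtain ⟨k5, h5⟩ := hex (W8 hc a b c true false true)
  obtain ⟨k6, h6⟩ := hex (W8 hc a b c true true false)
  obtain ⟨k7, h7⟩ := hex (W8 hc a b c true true true)
  refine ⟨k0, k1, k2, k3, k4, k5, k6, k7, h0, h1, h2, h3, h4, h5, h6, h7, ?_, ?_, ?_, ?_, ?_, ?_, ?_, ?_⟩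
  · have h := card_split8 hc hodd a b c ha hb hc' hab hac hbc ⊤ (fun _ _ => Subgroup.mem_top _)
      (fun _ _ => Subgroup.mem_top _) (fun _ _ => Subgroup.mem_top _)
    simp only [top_inf_eq, Subgroup.card_top] at h
    rw [h, h0, h1, h2, h3, h4, h5, h6, h7]
    ring
  · rw [card_fx_formula hc hodd a b c ha hb hc' hab hac hbc a (fun _ => rfl) hab hac
      (fun s₁ _ _ => s₁) (fun s₁ s₂ s₃ => W8_le_a hc a b c s₁ s₂ s₃)]
    simp only [Bool.false_eq_true, if_false, if_true, mul_one]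
    rw [h0, h1, h2, h3]
    ring
  · rw [card_fx_formula hc hodd a b c ha hb hc' hab hac hbc b (fun v => (hab v).symm) (fun _ => rfl) hbc
      (fun _ s₂ _ => s₂) (fun s₁ s₂ s₃ => W8_le_b hc a b c s₁ s₂ s₃)]
    simp only [Bool.false_eq_true, if_false, if_true, mul_one]
    rw [h0, h1, h4, h5]
    ring
  · rw [card_fx_formula hc hodd a b c ha hb hc' hab hac hbc c (fun v => (hac v).symm)
      (fun v => (hbc v).symm) (fun _ => rfl)
      (fun _ _ s₃ => s₃) (fun s₁ s₂ s₃ => W8_le_c hc a b c s₁ s₂ s₃)]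
    simp only [Bool.false_eq_true, if_false, if_true, mul_one]
    rw [h0, h2, h4, h6]
    ring
  · rw [card_fx_formula hc hodd a b c ha hb hc' hab hac hbc (a * b)
      (fun v => by simp only [MulAut.mul_apply]; rw [← hab])
      (fun v => by simp only [MulAut.mul_apply]; rw [hab])
      (fun v => by simp only [MulAut.mul_apply]; rw [hbc, hac])
      (fun s₁ s₂ _ => xor s₁ s₂) (fun s₁ s₂ s₃ => W8_le_ab hc a b c s₁ s₂ s₃)]
    simp only [Bool.xor_false, Bool.xor_true, Bool.not_false, Bool.not_true, Bool.false_eq_true,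
      if_false, if_true, mul_one]
    rw [h0, h1, h6, h7]
    ring
  · rw [card_fx_formula hc hodd a b c ha hb hc' hab hac hbc (a * c)
      (fun v => by simp only [MulAut.mul_apply]; rw [← hac])
      (fun v => by simp only [MulAut.mul_apply]; rw [← hbc, hab])
      (fun v => by simp only [MulAut.mul_apply]; rw [hac])
      (fun s₁ _ s₃ => xor s₁ s₃) (fun s₁ s₂ s₃ => W8_le_ac hc a b c s₁ s₂ s₃)]
    simp only [Bool.xor_false, Bool.xor_true, Bool.not_false, Bool.not_true, Bool.false_eq_true,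
      if_false, if_true, mul_one]
    rw [h0, h2, h5, h7]
    ring
  · rw [card_fx_formula hc hodd a b c ha hb hc' hab hac hbc (b * c)
      (fun v => by simp only [MulAut.mul_apply]; rw [← hac, ← hab])
      (fun v => by simp only [MulAut.mul_apply]; rw [← hbc])
      (fun v => by simp only [MulAut.mul_apply]; rw [hbc])
      (fun _ s₂ s₃ => xor s₂ s₃) (fun s₁ s₂ s₃ => W8_le_bc hc a b c s₁ s₂ s₃)]
    simp only [Bool.xor_false, Bool.xor_true, Bool.not_false, Bool.not_true, Bool.false_eq_true,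
      if_false, if_true, mul_one]
    rw [h0, h3, h4, h7]
    ring
  · rw [card_fx_formula hc hodd a b c ha hb hc' hab hac hbc (a * b * c)
      (fun v => by simp only [MulAut.mul_apply]; rw [← hac, ← hab])
      (fun v => by simp only [MulAut.mul_apply]; rw [← hbc, hab])
      (fun v => by simp only [MulAut.mul_apply]; rw [hbc, hac])
      (fun s₁ s₂ s₃ => xor (xor s₁ s₂) s₃) (fun s₁ s₂ s₃ => W8_le_abc hc a b c s₁ s₂ s₃)]
    simp only [Bool.xor_false, Bool.xor_true, Bool.not_false, Bool.not_true, Bool.false_eq_true,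
      if_false, if_true, mul_one]
    rw [h0, h3, h5, h6]
    ring

end E8Inv

end Cfsg.Agent.Helper50
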