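import Mathlib
import Cfsg.Agent.Helper2.Basic
import Cfsg.Agent.Helper63.Frattini
import Cfsg.Agent.Helper50.E8Inv

set_option autoImplicit false

/-!
# Involutory automorphisms of an odd `p`-group and its Frattini quotient (helper50)
-/

namespace Cfsg.Agent.Helper50

section E8Frat

variable {P : Type*} [Group P]

/-- The automorphism of the Frattini quotient induced by an automorphism. -/
noncomputable def barE (T : MulAut P) : MulAut (P ⧸ frattini P) :=
  QuotientGroup.congr (frattini P) (frattini P) T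
    (Subgroup.characteristic_iff_map_eq.mp inferInstance T)

theorem barE_mk (T : MulAut P) (x : P) :
    barE T (x : P ⧸ frattini P) = ((T x : P) : P ⧸ frattini P) :=
  QuotientGroup.congr_mk _ _ _ _ x

theorem barE_mul (T T' : MulAut P) : barE (T * T') = barE T * barE T' := by
  ext v
  induction v using QuotientGroup.induction_on with
  | H x => simp only [barE_mk, MulAut.mul_apply]

theorem barE_invol (T : MulAut P) (hT : ∀ x, T (T x) = x) : ∀ v, barE T (barE T v) = v := by
  intro v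
  induction v using QuotientGroup.induction_on with
  | H x => rw [barE_mk, barE_mk, hT]

theorem barE_comm (T T' : MulAut P) (h : ∀ x, T (T' x) = T' (T x)) :
    ∀ v, barE T (barE T' v) = barE T' (barE T v) := by
  intro v
  induction v using QuotientGroup.induction_on with
  | H x => rw [barE_mk, barE_mk, barE_mk, barE_mk, h]

open scoped commutatorElement in
theorem fq_comm [Finite P] {p : ℕ} [Fact p.Prime] (hP : IsPGroup p P) :
    ∀ x y : P ⧸ frattini P, x * y = y * x := by
  have : Group.IsNilpotent P := hP.isNilpotent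
  have hle : commutator P ≤ frattini P := Cfsg.Agent.Helper2.commutator_le_frattini
  intro x y
  induction x using QuotientGroup.induction_on with
  | H a =>
    induction y using QuotientGroup.induction_on with
    | H b =>
      rw [← QuotientGroup.mk_mul, ← QuotientGroup.mk_mul, QuotientGroup.eq]
      apply hle
      have : (a * b)⁻¹ * (b * a) = ⁅b⁻¹, a⁻¹⁆ := by
        rw [commutatorElement_def]; group
      rw [this, commutator_def]
      exact Subgroup.commutator_mem_commutator (Subgroup.mem_top _) (Subgroup.mem_top _)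

theorem fq_pow [Finite P] {p : ℕ} [Fact p.Prime] (hP : IsPGroup p P) :
    ∀ v : P ⧸ frattini P, v ^ p = 1 := by
  intro v
  induction v using QuotientGroup.induction_on with
  | H a =>
    rw [← QuotientGroup.mk_pow, QuotientGroup.eq_one_iff]
    exact Cfsg.Agent.Helper63.pow_prime_mem_frattini hP a

theorem odd_card_of_isPGroup {Q : Type*} [Group Q] [Finite Q] {p : ℕ} [Fact p.Prime] (hp2 : p ≠ 2)
    (hQ : IsPGroup p Q) : Odd (Nat.card Q) := by
  obtain ⟨n, hn⟩ := hQ.exists_card_eq
  rw [hn]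
  exact ((Fact.out : p.Prime).odd_of_ne_two hp2).pow

/-- Fixed points of an automorphism. -/
def fixP (T : MulAut P) : Subgroup P where
  carrier := {x | T x = x}
  mul_mem' := by
    intro x y hx hy
    simp only [Set.mem_ofPred_eq] at *
    rw [map_mul, hx, hy]
  one_mem' := by simp only [Set.mem_ofPred_eq, map_one]
  inv_mem' := by
    intro x hx
    simp only [Set.mem_ofPred_eq] at *
    rw [map_inv, hx]

theorem mem_fixP (T : MulAut P) (x : P) : x ∈ fixP T ↔ T x = x := Iff.rfl

theorem exists_fix_mul [Finite P] (hodd : Odd (Nat.card P)) (T : MulAut P) (hT : ∀ x, T (T x) = x)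
    (x₀ : P) : ∃ ψ ∈ Subgroup.zpowers (x₀⁻¹ * T x₀), T (x₀ * ψ) = x₀ * ψ := by
  obtain ⟨k, hk⟩ := exists_half hodd
  set φ := x₀⁻¹ * T x₀ with hφ
  have hTφ : T φ = φ⁻¹ := by
    rw [hφ, map_mul, map_inv, hT, mul_inv_rev, inv_inv]
  refine ⟨φ ^ k, Subgroup.pow_mem _ (Subgroup.mem_zpowers φ) k, ?_⟩
  have hψψ : φ ^ k * φ ^ k = φ := by
    rw [← (Commute.refl φ).mul_pow, hk]
  have hTψ : T (φ ^ k) = (φ ^ k)⁻¹ := by
    rw [map_pow, hTφ, inv_pow]
  rw [map_mul, hTψ]
  have : T x₀ = x₀ * φ := by rw [hφ]; group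
  rw [this]
  calc x₀ * φ * (φ ^ k)⁻¹ = x₀ * (φ ^ k * φ ^ k) * (φ ^ k)⁻¹ := by rw [hψψ]
    _ = x₀ * φ ^ k := by group

/-- Fixed points of the induced automorphism lift to fixed points. -/
theorem exists_fix_lift [Finite P] (hodd : Odd (Nat.card P)) (T : MulAut P) (hT : ∀ x, T (T x) = x)
    (v : P ⧸ frattini P) (hv : barE T v = v) : ∃ x : P, T x = x ∧ (x : P ⧸ frattini P) = v := by
  induction v using QuotientGroup.induction_on with
  | H x₀ =>
    rw [barE_mk] at hv
    have hφ : x₀⁻¹ * T x₀ ∈ frattini P := QuotientGroup.eq.mp hv.symm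
    obtain ⟨ψ, hψ, hfix⟩ := exists_fix_mul hodd T hT x₀
    refine ⟨x₀ * ψ, hfix, ?_⟩
    have hψΦ : ψ ∈ frattini P := (Subgroup.zpowers_le.mpr hφ) hψ
    rw [QuotientGroup.mk_mul, (QuotientGroup.eq_one_iff ψ).mpr hψΦ, mul_one]

/-- Common fixed points of two commuting induced involutions lift to common fixed points. -/
theorem exists_fix_lift₂ [Finite P] (hodd : Odd (Nat.card P)) (T₁ T₂ : MulAut P)
    (hT₁ : ∀ x, T₁ (T₁ x) = x) (hT₂ : ∀ x, T₂ (T₂ x) = x) (h12 : ∀ x, T₁ (T₂ x) = T₂ (T₁ x))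
    (v : P ⧸ frattini P) (hv₁ : barE T₁ v = v) (hv₂ : barE T₂ v = v) :
    ∃ x : P, T₁ x = x ∧ T₂ x = x ∧ (x : P ⧸ frattini P) = v := by
  obtain ⟨x₁, hx₁, hx₁v⟩ := exists_fix_lift hodd T₁ hT₁ v hv₁
  rw [← hx₁v, barE_mk] at hv₂
  have hφ : x₁⁻¹ * T₂ x₁ ∈ frattini P := QuotientGroup.eq.mp hv₂.symm
  obtain ⟨ψ, hψ, hfix⟩ := exists_fix_mul hodd T₂ hT₂ x₁
  have hψΦ : ψ ∈ frattini P := (Subgroup.zpowers_le.mpr hφ) hψ
  have hφ1 : x₁⁻¹ * T₂ x₁ ∈ fixP T₁ := by
    rw [mem_fixP, map_mul, map_inv, hx₁, h12, hx₁]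
  have hψ1 : T₁ ψ = ψ := (Subgroup.zpowers_le.mpr hφ1) hψ
  refine ⟨x₁ * ψ, ?_, hfix, ?_⟩
  · rw [map_mul, hx₁, hψ1]
  · rw [QuotientGroup.mk_mul, (QuotientGroup.eq_one_iff ψ).mpr hψΦ, mul_one, hx₁v]

/-- If `C_P(T)` is cyclic then `T` fixes at most `p` elements of the Frattini quotient. -/
theorem card_fx_le_of_cyc [Finite P] {p : ℕ} [Fact p.Prime] (hP : IsPGroup p P) (hodd : Odd (Nat.card P))
    (T : MulAut P) (hT : ∀ x, T (T x) = x) (g : P) (hg : ∀ x : P, T x = x ↔ x ∈ Subgroup.zpowers g) :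
    sgE (fq_comm hP) (barE T) false ≤ Subgroup.zpowers ((g : P) : P ⧸ frattini P) ∧
    Nat.card ↥(sgE (fq_comm hP) (barE T) false) ≤ p := by
  have hle : sgE (fq_comm hP) (barE T) false ≤ Subgroup.zpowers ((g : P) : P ⧸ frattini P) := by
    intro v hv
    rw [mem_sgE_false] at hv
    obtain ⟨x, hx, hxv⟩ := exists_fix_lift hodd T hT v hv
    obtain ⟨n, hn⟩ := Subgroup.mem_zpowers_iff.mp ((hg x).mp hx)
    rw [← hxv, ← hn, QuotientGroup.mk_zpow]
    exact Subgroup.zpow_mem _ (Subgroup.mem_zpowers _) n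
  refine ⟨hle, ?_⟩
  have h1 : Nat.card ↥(Subgroup.zpowers ((g : P) : P ⧸ frattini P)) ∣ p := by
    rw [Nat.card_zpowers]
    exact orderOf_dvd_of_pow_eq_one (fq_pow hP _)
  exact (Subgroup.card_le_of_le hle).trans (Nat.le_of_dvd (Fact.out : p.Prime).pos h1)

/-- A non-identity involutory automorphism acts non-trivially on the Frattini quotient. -/
theorem fx_bar_ne_top [Finite P] {p : ℕ} [Fact p.Prime] (hP : IsPGroup p P) (hodd : Odd (Nat.card P))
    (T : MulAut P) (hT : ∀ x, T (T x) = x) (hT1 : T ≠ 1) :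
    Nat.card ↥(sgE (fq_comm hP) (barE T) false) < Nat.card (P ⧸ frattini P) := by
  have hne : sgE (fq_comm hP) (barE T) false ≠ ⊤ := by
    intro htop
    apply hT1
    have hsup : fixP T ⊔ frattini P = ⊤ := by
      rw [eq_top_iff]
      intro x _
      have hx : ((x : P) : P ⧸ frattini P) ∈ sgE (fq_comm hP) (barE T) false := by
        rw [htop]; exact Subgroup.mem_top _
      rw [mem_sgE_false] at hx
      obtain ⟨y, hy, hyx⟩ := exists_fix_lift hodd T hT _ hx
      have hmem : y⁻¹ * x ∈ frattini P := QuotientGroup.eq.mp hyx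
      have : x = y * (y⁻¹ * x) := by group
      rw [this]
      exact Subgroup.mul_mem_sup hy hmem
    have hfix : fixP T = ⊤ := frattini_nongenerating hsup
    ext x
    have : x ∈ fixP T := by rw [hfix]; exact Subgroup.mem_top _
    rw [MulAut.one_apply]
    exact this
  have hle : Nat.card ↥(sgE (fq_comm hP) (barE T) false) ≤ Nat.card (P ⧸ frattini P) :=
    Subgroup.card_le_card_group _
  rcases lt_or_eq_of_le hle with h | h
  · exact h
  · exact absurd ((Subgroup.card_eq_iff_eq_top _).mp h) hne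

/-- Generation modulo the Frattini subgroup is generation. -/
theorem closure_eq_top_of_map [Finite P] (S : Set P)
    (h : (Subgroup.closure S).map (QuotientGroup.mk' (frattini P)) = ⊤) : Subgroup.closure S = ⊤ := by
  apply frattini_nongenerating
  rw [eq_top_iff]
  intro x _
  have hx : (QuotientGroup.mk' (frattini P)) x ∈ (Subgroup.closure S).map (QuotientGroup.mk' (frattini P)) := by
    rw [h]; exact Subgroup.mem_top _
  obtain ⟨y, hy, hyx⟩ := Subgroup.mem_map.mp hx
  have hmem : y⁻¹ * x ∈ frattini P := QuotientGroup.eq.mp hyx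
  have : x = y * (y⁻¹ * x) := by group
  rw [this]
  exact Subgroup.mul_mem_sup hy hmem

end E8Frat

end Cfsg.Agent.Helper50
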