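import Mathlib
import Cfsg.Agent.Helper50.E8Frat

set_option autoImplicit false

/-!
# Group-level lemmas for involutory automorphisms of odd `p`-groups (helper50)
-/

namespace Cfsg.Agent.Helper50

section E8PLevel

variable {P : Type*} [Group P]

/-- A fixed-point-free involution of an invariant subgroup inverts it, and the subgroup is abelian. -/
theorem inverts_of_fixed_point_free [Finite P] (T : MulAut P) (hT : ∀ x, T (T x) = x)
    (K : Subgroup P) (hK : ∀ x ∈ K, T x ∈ K) (hfpf : ∀ x ∈ K, T x = x → x = 1) :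
    (∀ x ∈ K, T x = x⁻¹) ∧ (∀ x ∈ K, ∀ y ∈ K, x * y = y * x) := by
  let f : K → K := fun x => ⟨(x : P)⁻¹ * T x, K.mul_mem (K.inv_mem x.2) (hK x x.2)⟩
  have hinj : Function.Injective f := by
    intro x y hxy
    have h : (x : P)⁻¹ * T x = (y : P)⁻¹ * T y := congrArg Subtype.val hxy
    have h2 : T ((y : P) * (x : P)⁻¹) = (y : P) * (x : P)⁻¹ := by
      rw [map_mul, map_inv]
      have : T (y : P) = (y : P) * ((x : P)⁻¹ * T x) := by rw [h]; group
      rw [this]; group
    have h3 := hfpf _ (K.mul_mem y.2 (K.inv_mem x.2)) h2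
    apply Subtype.ext
    have : (y : P) = (x : P) := by
      have := mul_inv_eq_one.mp h3
      exact this
    exact this.symm
  have hsurj : Function.Surjective f := Finite.injective_iff_surjective.mp hinj
  have hinv : ∀ x ∈ K, T x = x⁻¹ := by
    intro z hz
    obtain ⟨x, hx⟩ := hsurj ⟨z, hz⟩
    have hz' : z = (x : P)⁻¹ * T x := (congrArg Subtype.val hx).symm
    rw [hz', map_mul, map_inv, hT, mul_inv_rev, inv_inv]
  refine ⟨hinv, ?_⟩
  intro x hx y hy
  have h1 : T (x * y) = (x * y)⁻¹ := hinv _ (K.mul_mem hx hy)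
  rw [map_mul, hinv x hx, hinv y hy, mul_inv_rev] at h1
  have h2 : (x⁻¹ * y⁻¹)⁻¹ = (y⁻¹ * x⁻¹)⁻¹ := by rw [h1]
  rw [mul_inv_rev, mul_inv_rev, inv_inv, inv_inv] at h2
  exact h2.symm

/-- If `C_P(S) = ⟨g⟩` is cyclic, `E` commutes with `S` and inverts the (non-trivial) image of `g` in the
Frattini quotient, then `E` and `S` have no common non-trivial fixed point. -/
theorem fix_inf_fix_eq_one_of_cyc [Finite P] {p : ℕ} [Fact p.Prime] (hp2 : p ≠ 2) (hP : IsPGroup p P)
    (S E : MulAut P) (hSE : ∀ x, S (E x) = E (S x)) (g : P)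
    (hg : ∀ x : P, S x = x ↔ x ∈ Subgroup.zpowers g)
    (hg1 : ((g : P) : P ⧸ frattini P) ≠ 1)
    (hinv : barE E ((g : P) : P ⧸ frattini P) = ((g : P) : P ⧸ frattini P)⁻¹) :
    ∀ x : P, S x = x → E x = x → x = 1 := by
  have hp : p.Prime := Fact.out
  have hSg : S g = g := (hg g).mpr (Subgroup.mem_zpowers g)
  have hEg : E g ∈ Subgroup.zpowers g := by
    rw [← hg, hSE, hSg]
  obtain ⟨m, hm⟩ := Subgroup.mem_zpowers_iff.mp hEg
  -- order of the image of g is p
  have hord : orderOf ((g : P) : P ⧸ frattini P) = p := by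
    have hdvd : orderOf ((g : P) : P ⧸ frattini P) ∣ p := orderOf_dvd_of_pow_eq_one (fq_pow hP _)
    rcases (Nat.dvd_prime hp).mp hdvd with h | h
    · exact absurd (orderOf_eq_one_iff.mp h) hg1
    · exact h
  have hpm : (p : ℤ) ∣ m + 1 := by
    rw [← hord]
    apply orderOf_dvd_iff_zpow_eq_one.mpr
    rw [zpow_add, zpow_one, ← QuotientGroup.mk_zpow, hm, ← barE_mk, hinv, inv_mul_cancel]
  intro x hSx hEx
  obtain ⟨j, hj⟩ := Subgroup.mem_zpowers_iff.mp ((hg x).mp hSx)
  have hEx' : g ^ (m * j) = g ^ j := by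
    rw [zpow_mul, hm, ← map_zpow, hj, hEx]
  have h1 : g ^ ((m - 1) * j) = 1 := by
    have : (m - 1) * j = m * j - j := by ring
    rw [this, zpow_sub, hEx', mul_inv_cancel]
  have hdvd : (orderOf g : ℤ) ∣ (m - 1) * j := orderOf_dvd_iff_zpow_eq_one.mpr h1
  obtain ⟨n, hn⟩ : ∃ n : ℕ, orderOf g = p ^ n := by
    obtain ⟨k, hk⟩ := hP g
    exact (Nat.dvd_prime_pow hp).mp (orderOf_dvd_of_pow_eq_one hk) |>.imp fun n h => h.2
  have hcop : IsCoprime (m - 1) (p : ℤ) := by
    rw [isCoprime_comm, Int.isCoprime_iff_gcd_eq_one]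
    by_contra hne
    have hpd : (p : ℤ) ∣ m - 1 := by
      have hg' : Int.gcd (p : ℤ) (m - 1) ∣ p := by
        have := Int.gcd_dvd_left (p : ℤ) (m - 1)
        exact Int.natCast_dvd_natCast.mp this
      rcases (Nat.dvd_prime hp).mp hg' with h | h
      · exact absurd h hne
      · have := Int.gcd_dvd_right (p : ℤ) (m - 1)
        rwa [h] at this
    have h2 : (p : ℤ) ∣ 2 := by
      have := dvd_sub hpm hpd
      have e : m + 1 - (m - 1) = 2 := by ring
      rwa [e] at this
    have h2' : p ∣ 2 := Int.natCast_dvd_natCast.mp (by exact_mod_cast h2)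
    rcases (Nat.dvd_prime Nat.prime_two).mp h2' with h | h
    · exact hp.one_lt.ne' h
    · exact hp2 h
  have hcop' : IsCoprime (m - 1) ((p : ℤ) ^ n) := hcop.pow_right
  have hdvd' : ((p : ℤ) ^ n) ∣ j := by
    have : ((p : ℤ) ^ n) ∣ (m - 1) * j := by
      rw [hn] at hdvd
      exact_mod_cast hdvd
    exact hcop'.symm.dvd_of_dvd_mul_left this
  rw [← hj]
  apply orderOf_dvd_iff_zpow_eq_one.mp
  rw [hn]
  exact_mod_cast hdvd'

/-- A group generated by pairwise commuting elements is commutative. -/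
theorem comm_of_closure_comm (S : Set P) (hS : Subgroup.closure S = ⊤)
    (hcomm : ∀ x ∈ S, ∀ y ∈ S, x * y = y * x) : ∀ x y : P, x * y = y * x := by
  have h1 : S ⊆ Subgroup.centralizer S := by
    intro x hx
    rw [SetLike.mem_coe, Subgroup.mem_centralizer_iff]
    intro y hy
    exact hcomm y hy x hx
  have h2 : Subgroup.closure S ≤ Subgroup.centralizer S := (Subgroup.closure_le _).mpr h1
  have h3 : (⊤ : Subgroup P) ≤ Subgroup.centralizer ((Subgroup.closure S : Subgroup P) : Set P) := by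
    rw [Subgroup.centralizer_closure, ← hS]
    exact h2
  intro x y
  have hx : x ∈ Subgroup.centralizer ((Subgroup.closure S : Subgroup P) : Set P) := h3 (Subgroup.mem_top x)
  rw [Subgroup.mem_centralizer_iff] at hx
  have hy : y ∈ ((Subgroup.closure S : Subgroup P) : Set P) := by
    rw [hS]; exact Subgroup.mem_top y
  exact (hx y hy).symm

end E8PLevel

end Cfsg.Agent.Helper50
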