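import Mathlib
import Cfsg.Agent.Helper50.E8PLevel

set_option autoImplicit false

/-!
# Elementary abelian groups of order 8 acting on odd `p`-groups with cyclic centralizers (helper50)
-/

namespace Cfsg.Agent.Helper50

section E8Main

variable {P : Type*} [Group P]

/-- `C_P(T)` is cyclic. -/
def CycE (T : MulAut P) : Prop := ∃ g : P, ∀ x : P, (T x = x ↔ x ∈ Subgroup.zpowers g)

theorem invol_mul (a b : MulAut P) (ha : ∀ x, a (a x) = x) (hb : ∀ x, b (b x) = x)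
    (hab : ∀ x, a (b x) = b (a x)) : ∀ x, (a * b) ((a * b) x) = x := by
  intro x
  simp only [MulAut.mul_apply]
  rw [← hab (b x), hb, ha]

theorem comm_mul_left (a b c : MulAut P) (hac : ∀ x, a (c x) = c (a x)) (hbc : ∀ x, b (c x) = c (b x)) :
    ∀ x, (a * b) (c x) = c ((a * b) x) := by
  intro x
  simp only [MulAut.mul_apply]
  rw [hbc, hac]

theorem comm_mul_right (a b c : MulAut P) (hca : ∀ x, c (a x) = a (c x)) (hcb : ∀ x, c (b x) = b (c x)) :
    ∀ x, c ((a * b) x) = (a * b) (c x) := by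
  intro x
  simp only [MulAut.mul_apply]
  rw [hca, hcb]

theorem exp_le_one_of_cyc [Finite P] {p : ℕ} [Fact p.Prime] (hP : IsPGroup p P) (hodd : Odd (Nat.card P))
    (T : MulAut P) (hT : ∀ x, T (T x) = x) (hcyc : CycE T) {e : ℕ}
    (he : Nat.card ↥(sgE (fq_comm hP) (barE T) false) = p ^ e) : e ≤ 1 := by
  obtain ⟨g, hg⟩ := hcyc
  have h := (card_fx_le_of_cyc hP hodd T hT g hg).2
  rw [he] at h
  have hp : 1 < p := (Fact.out : p.Prime).one_lt
  by_contra hlt
  have h2 : p ^ 2 ≤ p ^ e := Nat.pow_le_pow_right (by omega) (by omega)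
  have h3 : p ^ 2 ≤ p := h2.trans h
  have h4 : p * p ≤ p * 1 := by rw [← pow_two, mul_one]; exact h3
  have := Nat.le_of_mul_le_mul_left h4 (by omega)
  omega

theorem exp_lt_of_ne_one [Finite P] {p : ℕ} [Fact p.Prime] (hP : IsPGroup p P) (hodd : Odd (Nat.card P))
    (T : MulAut P) (hT : ∀ x, T (T x) = x) (hT1 : T ≠ 1) {e n : ℕ}
    (he : Nat.card ↥(sgE (fq_comm hP) (barE T) false) = p ^ e)
    (hn : Nat.card (P ⧸ frattini P) = p ^ n) : e < n := by
  have h := fx_bar_ne_top hP hodd T hT hT1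
  rw [he, hn] at h
  exact (Nat.pow_lt_pow_iff_right (Fact.out : p.Prime).one_lt).mp h

/-- Step 1: some element of the coset `c⟨a,b⟩` acts fixed-point-freely on the Frattini quotient. -/
theorem exists_fpf [Finite P] {p : ℕ} [Fact p.Prime] (hp2 : p ≠ 2) (hP : IsPGroup p P)
    (a b c : MulAut P) (ha : ∀ x, a (a x) = x) (hb : ∀ x, b (b x) = x) (hc : ∀ x, c (c x) = x)
    (hab : ∀ x, a (b x) = b (a x)) (hac : ∀ x, a (c x) = c (a x)) (hbc : ∀ x, b (c x) = c (b x))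
    (ha1 : a ≠ 1) (hb1 : b ≠ 1) (hab1 : a * b ≠ 1) (hc1 : c ≠ 1) (hac1 : a * c ≠ 1) (hbc1 : b * c ≠ 1)
    (habc1 : a * b * c ≠ 1) (hcyca : CycE a) (hcycb : CycE b) (hcycab : CycE (a * b)) :
    ∃ t : MulAut P, (t = c ∨ t = a * c ∨ t = b * c ∨ t = a * b * c) ∧
      Nat.card ↥(sgE (fq_comm hP) (barE t) false) = 1 := by
  have hoddP : Odd (Nat.card P) := odd_card_of_isPGroup hp2 hP
  have hV : IsPGroup p (P ⧸ frattini P) := hP.to_quotient _
  have hoddV : Odd (Nat.card (P ⧸ frattini P)) := odd_card_of_isPGroup hp2 hV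
  obtain ⟨k0, k1, k2, k3, k4, k5, k6, k7, -, -, -, -, -, -, -, -, hn, hFa, hFb, hFc, hFab, hFac, hFbc, hFabc⟩ :=
    dec8 (fq_comm hP) hV hoddV (barE a) (barE b) (barE c) (barE_invol a ha) (barE_invol b hb)
      (barE_invol c hc) (barE_comm a b hab) (barE_comm a c hac) (barE_comm b c hbc)
  rw [← barE_mul] at hFab hFac hFbc
  rw [← barE_mul, ← barE_mul] at hFabc
  have iab := invol_mul a b ha hb hab
  have iac := invol_mul a c ha hc hac
  have ibc := invol_mul b c hb hc hbc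
  have iabc := invol_mul (a * b) c iab hc (comm_mul_left a b c hac hbc)
  have e1 := exp_le_one_of_cyc hP hoddP a ha hcyca hFa
  have e2 := exp_le_one_of_cyc hP hoddP b hb hcycb hFb
  have e3 := exp_le_one_of_cyc hP hoddP (a * b) iab hcycab hFab
  have f1 := exp_lt_of_ne_one hP hoddP a ha ha1 hFa hn
  have f2 := exp_lt_of_ne_one hP hoddP b hb hb1 hFb hn
  have f3 := exp_lt_of_ne_one hP hoddP (a * b) iab hab1 hFab hn
  have f4 := exp_lt_of_ne_one hP hoddP c hc hc1 hFc hn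
  have f5 := exp_lt_of_ne_one hP hoddP (a * c) iac hac1 hFac hn
  have f6 := exp_lt_of_ne_one hP hoddP (b * c) ibc hbc1 hFbc hn
  have f7 := exp_lt_of_ne_one hP hoddP (a * b * c) iabc habc1 hFabc hn
  have key : k0 + k2 + k4 + k6 = 0 ∨ k0 + k2 + k5 + k7 = 0 ∨ k0 + k3 + k4 + k7 = 0 ∨
      k0 + k3 + k5 + k6 = 0 := by omega
  rcases key with h | h | h | h
  · exact ⟨c, Or.inl rfl, by rw [hFc, h, pow_zero]⟩
  · exact ⟨a * c, Or.inr (Or.inl rfl), by rw [hFac, h, pow_zero]⟩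
  · exact ⟨b * c, Or.inr (Or.inr (Or.inl rfl)), by rw [hFbc, h, pow_zero]⟩
  · exact ⟨a * b * c, Or.inr (Or.inr (Or.inr rfl)), by rw [hFabc, h, pow_zero]⟩

end E8Main

end Cfsg.Agent.Helper50
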