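import Mathlib

set_option autoImplicit false

/-!
# A subgroup of order 8 and exponent 2: a hyperplane through a subgroup avoiding an element (helper50)
-/

namespace Cfsg.Agent.Helper50

section E8Shell

variable {A : Type*} [Group A]

theorem inv_eq_self_of_sq {x : A} (h : x * x = 1) : x⁻¹ = x := inv_eq_of_mul_eq_one_left h

/-- The subgroup `J ∪ xJ` for an involution `x` commuting with `J`. -/
def adjoinInvol (I J : Subgroup A) (hJI : J ≤ I) (hcm : ∀ x ∈ I, ∀ y ∈ I, x * y = y * x)
    (hsq : ∀ x ∈ I, x * x = 1) (x : A) (hx : x ∈ I) : Subgroup A where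
  carrier := {y | y ∈ J ∨ x * y ∈ J}
  one_mem' := Or.inl J.one_mem
  mul_mem' := by
    intro y z hy hz
    have memI : ∀ w, (w ∈ J ∨ x * w ∈ J) → w ∈ I := by
      intro w hw
      rcases hw with h | h
      · exact hJI h
      · have : w = x⁻¹ * (x * w) := by group
        rw [this]
        exact I.mul_mem (I.inv_mem hx) (hJI h)
    have hyI := memI y hy
    have hzI := memI z hz
    rcases hy with hy | hy <;> rcases hz with hz | hz
    · exact Or.inl (J.mul_mem hy hz)
    · right
      have : x * (y * z) = y * (x * z) := by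
        rw [← mul_assoc, hcm x hx y hyI, mul_assoc]
      rw [this]
      exact J.mul_mem hy hz
    · right
      rw [← mul_assoc]
      exact J.mul_mem hy hz
    · left
      have : y * z = (x * y) * (x * z) := by
        calc y * z = (x * x) * (y * z) := by rw [hsq x hx, one_mul]
          _ = x * (x * y) * z := by group
          _ = x * (y * x) * z := by rw [hcm x hx y hyI]
          _ = (x * y) * (x * z) := by group
      rw [this]
      exact J.mul_mem hy hz
  inv_mem' := by
    intro y hy
    rcases hy with hy | hy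
    · exact Or.inl (J.inv_mem hy)
    · right
      have hyI : y ∈ I := by
        have : y = x⁻¹ * (x * y) := by group
        rw [this]
        exact I.mul_mem (I.inv_mem hx) (hJI hy)
      rw [inv_eq_self_of_sq (hsq y hyI)]
      exact hy

theorem exists_four_group (I I₀ : Subgroup A) (hcm : ∀ x ∈ I, ∀ y ∈ I, x * y = y * x)
    (hsq : ∀ x ∈ I, x * x = 1) (h8 : Nat.card I = 8) (hle : I₀ ≤ I) (c : A) (hcI : c ∈ I)
    (hc0 : c ∉ I₀) :
    ∃ a b : A, a ∈ I ∧ b ∈ I ∧ a ≠ 1 ∧ b ≠ 1 ∧ a ≠ b ∧ c ≠ 1 ∧ c ≠ a ∧ c ≠ b ∧ c ≠ a * b ∧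
      (∀ x ∈ I₀, x = 1 ∨ x = a ∨ x = b ∨ x = a * b) ∧
      (∀ x ∈ I, (x = 1 ∨ x = a ∨ x = b ∨ x = a * b) ∨
        (x * c = 1 ∨ x * c = a ∨ x * c = b ∨ x * c = a * b)) := by
  have hfinI : Finite I := Nat.finite_of_card_ne_zero (by rw [h8]; norm_num)
  have hfin : ∀ K : Subgroup A, K ≤ I → Finite K := fun K h =>
    Finite.of_injective (Subgroup.inclusion h) (Subgroup.inclusion_injective h)
  let 𝒦 : Set (Subgroup A) := {K | I₀ ≤ K ∧ K ≤ I ∧ c ∉ K}
  have hne : 𝒦.Nonempty := ⟨I₀, le_refl _, hle, hc0⟩
  obtain ⟨J, ⟨hI₀J, hJI, hcJ⟩, hmin⟩ :=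
    (InvImage.wf (fun K : Subgroup A => 8 - Nat.card K) wellFounded_lt).has_min 𝒦 hne
  have hfinJ : Finite J := hfin J hJI
  have hcardle : ∀ K : Subgroup A, K ≤ I → Nat.card K ≤ 8 := fun K h => by
    rw [← h8]; exact Subgroup.card_le_of_le h
  -- index two
  have claim1 : ∀ x ∈ I, x ∈ J ∨ x * c ∈ J := by
    intro x hx
    by_contra hcon
    rw [not_or] at hcon
    obtain ⟨hxJ, hxcJ⟩ := hcon
    let K' := adjoinInvol I J hJI hcm hsq x hx
    have hJK' : J ≤ K' := fun y hy => Or.inl hy
    have hK'I : K' ≤ I := by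
      intro w hw
      rcases hw with h | h
      · exact hJI h
      · have : w = x⁻¹ * (x * w) := by group
        rw [this]
        exact I.mul_mem (I.inv_mem hx) (hJI h)
    have hcK' : c ∉ K' := by
      intro h
      rcases h with h | h
      · exact hcJ h
      · exact hxcJ h
    have hxK' : x ∈ K' := Or.inr (by rw [hsq x hx]; exact J.one_mem)
    have hK'mem : K' ∈ 𝒦 := ⟨hI₀J.trans hJK', hK'I, hcK'⟩
    have hfinK' : Finite K' := hfin K' hK'I
    have hlt : Nat.card J < Nat.card K' := by
      by_contra hge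
      rw [not_lt] at hge
      have := Subgroup.eq_of_le_of_card_ge hJK' hge
      exact hxJ (this ▸ hxK')
    apply hmin K' hK'mem
    show 8 - Nat.card K' < 8 - Nat.card J
    have := hcardle K' hK'I
    omega
  -- card J = 4
  have hJ4 : Nat.card J = 4 := by
    have hge : 8 ≤ Nat.card J * 2 := by
      classical
      let f : I → J × Bool := fun x =>
        if h : (x : A) ∈ J then (⟨x, h⟩, false)
        else (⟨(x : A) * c, (claim1 x x.2).resolve_left h⟩, true)
      have hf : Function.Injective f := by
        intro x y hxy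
        by_cases hx : (x : A) ∈ J <;> by_cases hy : (y : A) ∈ J
        · simp only [f, dif_pos hx, dif_pos hy, Prod.mk.injEq, Subtype.mk.injEq, and_true] at hxy
          exact Subtype.ext hxy
        · simp only [f, dif_pos hx, dif_neg hy, Prod.mk.injEq] at hxy
          exact absurd hxy.2 (by simp)
        · simp only [f, dif_neg hx, dif_pos hy, Prod.mk.injEq] at hxy
          exact absurd hxy.2 (by simp)
        · simp only [f, dif_neg hx, dif_neg hy, Prod.mk.injEq, Subtype.mk.injEq, and_true] at hxy
          exact Subtype.ext (mul_right_cancel hxy)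
      have := Nat.card_le_card_of_injective f hf
      rw [h8, Nat.card_prod, Nat.card_eq_fintype_card (α := Bool), Fintype.card_bool] at this
      exact this
    have hdvd : Nat.card J ∣ 8 := by rw [← h8]; exact Subgroup.card_dvd_of_le hJI
    have hne8 : Nat.card J ≠ 8 := by
      intro h
      have : J = I := Subgroup.eq_of_le_of_card_ge hJI (by rw [h, h8])
      exact hcJ (this ▸ hcI)
    have hle8 := hcardle J hJI
    have h4 : 4 ≤ Nat.card J := by omega
    interval_cases (Nat.card J) <;> first | rfl | omega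
  have hJncard : (J : Set A).ncard = 4 := by
    rw [← hJ4]; exact (Nat.card_coe_set_eq (J : Set A)).symm
  -- choose a
  obtain ⟨a, haJ, ha1⟩ : ∃ a ∈ J, a ≠ 1 := by
    by_contra hcon
    push Not at hcon
    have : J = ⊥ := (Subgroup.eq_bot_iff_forall J).mpr hcon
    rw [this, Subgroup.card_bot] at hJ4
    omega
  obtain ⟨b, hbJ, hb1, hba⟩ : ∃ b ∈ J, b ≠ 1 ∧ b ≠ a := by
    by_contra hcon
    push Not at hcon
    have hsub : (J : Set A) ⊆ {1, a} := by
      intro x hx
      by_cases h1 : x = 1
      · exact Or.inl h1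
      · exact Or.inr (hcon x hx h1)
    have := Set.ncard_le_ncard hsub (Set.toFinite _)
    have h2 : ({1, a} : Set A).ncard ≤ 2 := by
      have := Set.ncard_insert_le (1 : A) ({a} : Set A)
      rw [Set.ncard_singleton] at this
      exact this
    omega
  have haI := hJI haJ
  have hbI := hJI hbJ
  have hab1 : a * b ≠ 1 := by
    intro h
    apply hba
    have : b = a⁻¹ := (inv_eq_of_mul_eq_one_right h).symm
    rw [this, inv_eq_self_of_sq (hsq a haI)]
  have haba : a * b ≠ a := fun h => hb1 (mul_left_cancel (h.trans (mul_one a).symm))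
  have habb : a * b ≠ b := fun h => ha1 (mul_right_cancel (h.trans (one_mul b).symm))
  have hS : ({1, a, b, a * b} : Set A) = (J : Set A) := by
    apply Set.eq_of_subset_of_ncard_le
    · intro x hx
      simp only [Set.mem_insert_iff, Set.mem_singleton_iff] at hx
      rcases hx with rfl | rfl | rfl | rfl
      · exact J.one_mem
      · exact haJ
      · exact hbJ
      · exact J.mul_mem haJ hbJ
    · rw [hJncard]
      have h1 : ({a * b} : Set A).ncard = 1 := Set.ncard_singleton _
      have h2 : ({b, a * b} : Set A).ncard = 2 := by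
        rw [Set.ncard_insert_of_notMem (by simpa using habb.symm), h1]
      have h3 : ({a, b, a * b} : Set A).ncard = 3 := by
        rw [Set.ncard_insert_of_notMem (by
          simp only [Set.mem_insert_iff, Set.mem_singleton_iff, not_or]
          exact ⟨hba.symm, haba.symm⟩), h2]
      have h4 : ({1, a, b, a * b} : Set A).ncard = 4 := by
        rw [Set.ncard_insert_of_notMem (by
          simp only [Set.mem_insert_iff, Set.mem_singleton_iff, not_or]
          exact ⟨ha1.symm, hb1.symm, hab1.symm⟩), h3]
      rw [h4]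
    · exact Set.toFinite _
  have hJdesc : ∀ x, x ∈ J ↔ (x = 1 ∨ x = a ∨ x = b ∨ x = a * b) := by
    intro x
    rw [← SetLike.mem_coe, ← hS]
    simp only [Set.mem_insert_iff, Set.mem_singleton_iff]
  refine ⟨a, b, haI, hbI, ha1, hb1, hba.symm, ?_, ?_, ?_, ?_, ?_, ?_⟩
  · rintro rfl; exact hcJ J.one_mem
  · rintro rfl; exact hcJ haJ
  · rintro rfl; exact hcJ hbJ
  · rintro rfl; exact hcJ (J.mul_mem haJ hbJ)
  · intro x hx
    exact (hJdesc x).mp (hI₀J hx)
  · intro x hx
    rcases claim1 x hx with h | h
    · exact Or.inl ((hJdesc x).mp h)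
    · exact Or.inr ((hJdesc _).mp h)

end E8Shell

end Cfsg.Agent.Helper50
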