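import Mathlib
import Cfsg.Agent.Helper50.E8Main

set_option autoImplicit false

/-!
# Structure of an odd `p`-group with an `E_8` of automorphisms having a four-group of
elements with cyclic centralizers (helper50)
-/

namespace Cfsg.Agent.Helper50

section E8Struct

theorem pw_of_commute {P : Type*} [Group P] {S T : MulAut P} (h : Commute S T) :
    ∀ x, S (T x) = T (S x) := by
  intro x
  have := congrArg (fun f : MulAut P => f x) h.eq
  simpa only [MulAut.mul_apply] using this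

theorem commute_of_pw {P : Type*} [Group P] {S T : MulAut P} (h : ∀ x, S (T x) = T (S x)) :
    Commute S T := by
  show S * T = T * S
  ext x
  simp only [MulAut.mul_apply]
  exact h x

theorem card_closure_pair_le {V : Type*} [Group V] [Finite V] (hc : ∀ x y : V, x * y = y * x)
    (p : ℕ) (hp : 0 < p) (hpow : ∀ v : V, v ^ p = 1) (u w : V) :
    Nat.card ↥(Subgroup.closure ({u, w} : Set V)) ≤ p * p := by
  let f : ↥(Subgroup.zpowers u) × ↥(Subgroup.zpowers w) →* V :=
    MonoidHom.mk' (fun x => (x.1 : V) * (x.2 : V)) (by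
      intro x y
      show ((x.1 * y.1 : ↥(Subgroup.zpowers u)) : V) * ((x.2 * y.2 : ↥(Subgroup.zpowers w)) : V) =
        (x.1 : V) * (x.2 : V) * ((y.1 : V) * (y.2 : V))
      rw [Subgroup.coe_mul, Subgroup.coe_mul]
      calc (x.1 : V) * (y.1 : V) * ((x.2 : V) * (y.2 : V))
          = (x.1 : V) * ((y.1 : V) * (x.2 : V)) * (y.2 : V) := by group
        _ = (x.1 : V) * ((x.2 : V) * (y.1 : V)) * (y.2 : V) := by rw [hc (y.1 : V) (x.2 : V)]
        _ = (x.1 : V) * (x.2 : V) * ((y.1 : V) * (y.2 : V)) := by group)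
  have hle : Subgroup.closure ({u, w} : Set V) ≤ f.range := by
    rw [Subgroup.closure_le]
    intro x hx
    rcases hx with rfl | hx
    · exact ⟨(⟨x, Subgroup.mem_zpowers x⟩, 1), by show x * ((1 : ↥(Subgroup.zpowers w)) : V) = x; simp⟩
    · rw [Set.mem_singleton_iff] at hx
      subst hx
      exact ⟨(1, ⟨x, Subgroup.mem_zpowers x⟩), by show ((1 : ↥(Subgroup.zpowers u)) : V) * x = x; simp⟩
  have h1 : Nat.card ↥f.range ≤ Nat.card (↥(Subgroup.zpowers u) × ↥(Subgroup.zpowers w)) :=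
    Nat.card_le_card_of_surjective f.rangeRestrict f.rangeRestrict_surjective
  have hu : Nat.card ↥(Subgroup.zpowers u) ≤ p := by
    rw [Nat.card_zpowers]
    exact Nat.le_of_dvd hp (orderOf_dvd_of_pow_eq_one (hpow u))
  have hw : Nat.card ↥(Subgroup.zpowers w) ≤ p := by
    rw [Nat.card_zpowers]
    exact Nat.le_of_dvd hp (orderOf_dvd_of_pow_eq_one (hpow w))
  calc Nat.card ↥(Subgroup.closure ({u, w} : Set V)) ≤ Nat.card ↥f.range := Subgroup.card_le_of_le hle
    _ ≤ Nat.card (↥(Subgroup.zpowers u) × ↥(Subgroup.zpowers w)) := h1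
    _ = Nat.card ↥(Subgroup.zpowers u) * Nat.card ↥(Subgroup.zpowers w) := Nat.card_prod _ _
    _ ≤ p * p := Nat.mul_le_mul hu hw

theorem W8_invariant {V : Type*} [Group V] (hc : ∀ x y : V, x * y = y * x) (a b c S : MulAut V)
    (hSa : ∀ v, a (S v) = S (a v)) (hSb : ∀ v, b (S v) = S (b v)) (hSc : ∀ v, c (S v) = S (c v))
    (s₁ s₂ s₃ : Bool) : ∀ v ∈ W8 hc a b c s₁ s₂ s₃, S v ∈ W8 hc a b c s₁ s₂ s₃ := by
  intro v hv
  obtain ⟨h12, h3⟩ := Subgroup.mem_inf.mp hv
  obtain ⟨h1, h2⟩ := Subgroup.mem_inf.mp h12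
  exact Subgroup.mem_inf.mpr ⟨Subgroup.mem_inf.mpr ⟨sgE_invariant hc a S hSa s₁ v h1,
    sgE_invariant hc b S hSb s₂ v h2⟩, sgE_invariant hc c S hSc s₃ v h3⟩

theorem sup_invariant {V : Type*} [Group V] (S : MulAut V) (A B : Subgroup V)
    (hA : ∀ v ∈ A, S v ∈ A) (hB : ∀ v ∈ B, S v ∈ B) : ∀ v ∈ A ⊔ B, S v ∈ A ⊔ B := by
  have h : A ⊔ B ≤ (A ⊔ B).comap S.toMonoidHom := by
    apply sup_le
    · intro v hv
      rw [Subgroup.mem_comap]
      exact (le_sup_left : A ≤ A ⊔ B) (hA v hv)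
    · intro v hv
      rw [Subgroup.mem_comap]
      exact (le_sup_right : B ≤ A ⊔ B) (hB v hv)
  intro v hv
  exact Subgroup.mem_comap.mp (h hv)

theorem exists_gen_of_card_prime {V : Type*} [Group V] [Finite V] {p : ℕ} [Fact p.Prime]
    (hpow : ∀ v : V, v ^ p = 1) (W : Subgroup V) (hW : Nat.card W = p ^ 1) :
    ∃ g ∈ W, g ≠ 1 ∧ Subgroup.zpowers g = W := by
  have hp : p.Prime := Fact.out
  rw [pow_one] at hW
  have hne : W ≠ ⊥ := by
    intro h
    rw [h, Subgroup.card_bot] at hW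
    exact hp.one_lt.ne hW
  obtain ⟨g, hg1⟩ := (Subgroup.ne_bot_iff_exists_ne_one).mp hne
  have hg1' : (g : V) ≠ 1 := fun h => hg1 (Subtype.ext h)
  refine ⟨g, g.2, hg1', ?_⟩
  have hle : Subgroup.zpowers (g : V) ≤ W := Subgroup.zpowers_le.mpr g.2
  apply Subgroup.eq_of_le_of_card_ge hle
  rw [hW, Nat.card_zpowers]
  have hdvd : orderOf (g : V) ∣ p := orderOf_dvd_of_pow_eq_one (hpow _)
  rcases (Nat.dvd_prime hp).mp hdvd with h | h
  · exact absurd (orderOf_eq_one_iff.mp h) hg1'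
  · exact h.ge


/-- The structure theorem. -/
theorem e8_structure {P : Type*} [Group P] [Finite P] {p : ℕ} [Fact p.Prime] (hp2 : p ≠ 2)
    (hP : IsPGroup p P) (a b t : MulAut P)
    (ha : ∀ x, a (a x) = x) (hb : ∀ x, b (b x) = x) (ht : ∀ x, t (t x) = x)
    (hab : ∀ x, a (b x) = b (a x)) (hat : ∀ x, a (t x) = t (a x)) (hbt : ∀ x, b (t x) = t (b x))
    (ha1 : a ≠ 1) (hb1 : b ≠ 1) (hab1 : a * b ≠ 1) (hat1 : a * t ≠ 1) (hbt1 : b * t ≠ 1)
    (habt1 : a * b * t ≠ 1) (hcyca : CycE a) (hcycb : CycE b) (hcycab : CycE (a * b))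
    (ht0 : Nat.card ↥(sgE (fq_comm hP) (barE t) false) = 1) :
    (∀ x y : P, x * y = y * x) ∧ (∃ g₁ g₂ g₃ : P, Subgroup.closure ({g₁, g₂, g₃} : Set P) = ⊤) ∧
    (¬ ∃ x y : P, Subgroup.closure ({x, y} : Set P) = ⊤) ∧ (∀ x : P, t x = x ↔ x = 1) ∧
    ¬ CycE (a * t) ∧ ¬ CycE (b * t) ∧ ¬ CycE (a * b * t) := by
  have hp : p.Prime := Fact.out
  have hoddP : Odd (Nat.card P) := odd_card_of_isPGroup hp2 hP
  have hV : IsPGroup p (P ⧸ frattini P) := hP.to_quotient _
  have hoddV : Odd (Nat.card (P ⧸ frattini P)) := odd_card_of_isPGroup hp2 hV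
  have hpowV := fq_pow hP
  -- commutation facts
  have cab : Commute a b := commute_of_pw hab
  have cat : Commute a t := commute_of_pw hat
  have cbt : Commute b t := commute_of_pw hbt
  have iab := invol_mul a b ha hb hab
  have iat := invol_mul a t ha ht hat
  have ibt := invol_mul b t hb ht hbt
  have iabt := invol_mul (a * b) t iab ht (comm_mul_left a b t hat hbt)
  obtain ⟨k0, k1, k2, k3, k4, k5, k6, k7, h0, h1, h2, h3, h4, h5, h6, h7, hn, hFa, hFb, hFt, hFab, hFat,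
    hFbt, hFabt⟩ :=
    dec8 (fq_comm hP) hV hoddV (barE a) (barE b) (barE t) (barE_invol a ha) (barE_invol b hb)
      (barE_invol t ht) (barE_comm a b hab) (barE_comm a t hat) (barE_comm b t hbt)
  rw [← barE_mul] at hFab hFat hFbt
  rw [← barE_mul, ← barE_mul] at hFabt
  have e1 := exp_le_one_of_cyc hP hoddP a ha hcyca hFa
  have e2 := exp_le_one_of_cyc hP hoddP b hb hcycb hFb
  have e3 := exp_le_one_of_cyc hP hoddP (a * b) iab hcycab hFab
  have f1 := exp_lt_of_ne_one hP hoddP a ha ha1 hFa hn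
  have f2 := exp_lt_of_ne_one hP hoddP b hb hb1 hFb hn
  have f3 := exp_lt_of_ne_one hP hoddP (a * b) iab hab1 hFab hn
  have f5 := exp_lt_of_ne_one hP hoddP (a * t) iat hat1 hFat hn
  have f6 := exp_lt_of_ne_one hP hoddP (b * t) ibt hbt1 hFbt hn
  have f7 := exp_lt_of_ne_one hP hoddP (a * b * t) iabt habt1 hFabt hn
  have ht0' : k0 + k2 + k4 + k6 = 0 := by
    rw [hFt] at ht0
    rcases Nat.pow_eq_one.mp ht0 with h | h
    · exact absurd h hp.one_lt.ne'
    · exact h
  have hk : k0 = 0 ∧ k1 = 0 ∧ k2 = 0 ∧ k3 = 1 ∧ k4 = 0 ∧ k5 = 1 ∧ k6 = 0 ∧ k7 = 1 := by omega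
  obtain ⟨rfl, rfl, rfl, rfl, rfl, rfl, rfl, rfl⟩ := hk
  -- `t` inverts the Frattini quotient
  have htinv : ∀ v : P ⧸ frattini P, barE t v = v⁻¹ := by
    have h := card_inv_split (fq_comm hP) hoddV (barE t) (barE_invol t ht) ⊤ (fun _ _ => Subgroup.mem_top _)
    simp only [top_inf_eq, Subgroup.card_top] at h
    rw [ht0, one_mul] at h
    have htop : sgE (fq_comm hP) (barE t) true = ⊤ := (Subgroup.card_eq_iff_eq_top _).mp h.symm
    intro v
    have : v ∈ sgE (fq_comm hP) (barE t) true := by rw [htop]; exact Subgroup.mem_top v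
    exact (mem_sgE_true _ _ _).mp this
  -- non-cyclic centralizers
  have nc1 : ¬ CycE (a * t) := fun h => by
    have := exp_le_one_of_cyc hP hoddP (a * t) iat h hFat
    omega
  have nc2 : ¬ CycE (b * t) := fun h => by
    have := exp_le_one_of_cyc hP hoddP (b * t) ibt h hFbt
    omega
  have nc3 : ¬ CycE (a * b * t) := fun h => by
    have := exp_le_one_of_cyc hP hoddP (a * b * t) iabt h hFabt
    omega
  -- not two-generated
  have hn3 : Nat.card (P ⧸ frattini P) = p ^ 3 := by rw [hn]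
  have n2 : ¬ ∃ x y : P, Subgroup.closure ({x, y} : Set P) = ⊤ := by
    rintro ⟨x, y, hxy⟩
    have hmap : (Subgroup.closure ({x, y} : Set P)).map (QuotientGroup.mk' (frattini P)) = ⊤ := by
      rw [hxy, ← MonoidHom.range_eq_map, MonoidHom.range_eq_top]
      exact QuotientGroup.mk'_surjective _
    rw [MonoidHom.map_closure, Set.image_pair] at hmap
    have hle := card_closure_pair_le (fq_comm hP) p hp.pos hpowV
      ((QuotientGroup.mk' (frattini P)) x) ((QuotientGroup.mk' (frattini P)) y)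
    rw [hmap, Subgroup.card_top, hn3] at hle
    have : p ^ 3 = p * p * p := by ring
    rw [this] at hle
    have hpp : 0 < p * p := Nat.mul_pos hp.pos hp.pos
    have := Nat.le_of_mul_le_mul_left (by rw [mul_one]; exact hle : p * p * p ≤ p * p * 1) hpp
    exact absurd this (not_le.mpr hp.one_lt)
  -- generators of the three sign spaces
  obtain ⟨u₁, hu₁W, hu₁1, hu₁z⟩ := exists_gen_of_card_prime hpowV _ h3
  obtain ⟨u₂, hu₂W, hu₂1, hu₂z⟩ := exists_gen_of_card_prime hpowV _ h5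
  obtain ⟨u₃, hu₃W, hu₃1, hu₃z⟩ := exists_gen_of_card_prime hpowV _ h7
  set W3 := W8 (fq_comm hP) (barE a) (barE b) (barE t) false true true with hW3
  set W5 := W8 (fq_comm hP) (barE a) (barE b) (barE t) true false true with hW5
  set W7 := W8 (fq_comm hP) (barE a) (barE b) (barE t) true true true with hW7
  -- the three sign spaces generate
  have hKtop : W3 ⊔ W5 ⊔ W7 = ⊤ := by
    have ca := barE_comm a b hab
    have ct := barE_comm a t hat
    have cb := barE_comm b t hbt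
    have inva : ∀ s₁ s₂ s₃, ∀ v ∈ W8 (fq_comm hP) (barE a) (barE b) (barE t) s₁ s₂ s₃,
        barE a v ∈ W8 (fq_comm hP) (barE a) (barE b) (barE t) s₁ s₂ s₃ := fun s₁ s₂ s₃ =>
      W8_invariant _ _ _ _ _ (fun _ => rfl) (fun v => (ca v).symm) (fun v => (ct v).symm) s₁ s₂ s₃
    have invb : ∀ s₁ s₂ s₃, ∀ v ∈ W8 (fq_comm hP) (barE a) (barE b) (barE t) s₁ s₂ s₃,
        barE b v ∈ W8 (fq_comm hP) (barE a) (barE b) (barE t) s₁ s₂ s₃ := fun s₁ s₂ s₃ =>
      W8_invariant _ _ _ _ _ (fun v => ca v) (fun _ => rfl) (fun v => (cb v).symm) s₁ s₂ s₃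
    have invt : ∀ s₁ s₂ s₃, ∀ v ∈ W8 (fq_comm hP) (barE a) (barE b) (barE t) s₁ s₂ s₃,
        barE t v ∈ W8 (fq_comm hP) (barE a) (barE b) (barE t) s₁ s₂ s₃ := fun s₁ s₂ s₃ =>
      W8_invariant _ _ _ _ _ (fun v => ct v) (fun v => cb v) (fun _ => rfl) s₁ s₂ s₃
    have hsplit := card_split8 (fq_comm hP) hoddV (barE a) (barE b) (barE t) (barE_invol a ha)
      (barE_invol b hb) (barE_invol t ht) ca ct cb (W3 ⊔ W5 ⊔ W7)
      (sup_invariant _ _ _ (sup_invariant _ _ _ (inva _ _ _) (inva _ _ _)) (inva _ _ _))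
      (sup_invariant _ _ _ (sup_invariant _ _ _ (invb _ _ _) (invb _ _ _)) (invb _ _ _))
      (sup_invariant _ _ _ (sup_invariant _ _ _ (invt _ _ _) (invt _ _ _)) (invt _ _ _))
    have b0 : W8 (fq_comm hP) (barE a) (barE b) (barE t) false false false = ⊥ :=
      Subgroup.card_eq_one.mp (by rw [h0, pow_zero])
    have b1 : W8 (fq_comm hP) (barE a) (barE b) (barE t) false false true = ⊥ :=
      Subgroup.card_eq_one.mp (by rw [h1, pow_zero])
    have b2 : W8 (fq_comm hP) (barE a) (barE b) (barE t) false true false = ⊥ :=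
      Subgroup.card_eq_one.mp (by rw [h2, pow_zero])
    have b4 : W8 (fq_comm hP) (barE a) (barE b) (barE t) true false false = ⊥ :=
      Subgroup.card_eq_one.mp (by rw [h4, pow_zero])
    have b6 : W8 (fq_comm hP) (barE a) (barE b) (barE t) true true false = ⊥ :=
      Subgroup.card_eq_one.mp (by rw [h6, pow_zero])
    have l3 : W3 ≤ W3 ⊔ W5 ⊔ W7 := le_sup_left.trans le_sup_left
    have l5 : W5 ≤ W3 ⊔ W5 ⊔ W7 := le_sup_right.trans le_sup_left
    have l7 : W7 ≤ W3 ⊔ W5 ⊔ W7 := le_sup_right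
    rw [b0, b1, b2, b4, b6, inf_bot_eq, Subgroup.card_bot, ← hW3, ← hW5, ← hW7,
      inf_eq_right.mpr l3, inf_eq_right.mpr l5, inf_eq_right.mpr l7, h3, h5, h7] at hsplit
    apply (Subgroup.card_eq_iff_eq_top _).mp
    rw [hsplit, hn3]
    ring
  -- lifts of the generators
  have cbt_abt : ∀ x, (b * t) ((a * b * t) x) = (a * b * t) ((b * t) x) :=
    pw_of_commute (((cab.symm.mul_right (Commute.refl b)).mul_right cbt).mul_left
      ((cat.symm.mul_right cbt.symm).mul_right (Commute.refl t)))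
  have cat_abt : ∀ x, (a * t) ((a * b * t) x) = (a * b * t) ((a * t) x) :=
    pw_of_commute ((((Commute.refl a).mul_right cab).mul_right cat).mul_left
      ((cat.symm.mul_right cbt.symm).mul_right (Commute.refl t)))
  have cat_bt : ∀ x, (a * t) ((b * t) x) = (b * t) ((a * t) x) :=
    pw_of_commute ((cab.mul_right cat).mul_left (cbt.symm.mul_right (Commute.refl t)))
  have fix_bt_u₁ : barE (b * t) u₁ = u₁ := by
    have : u₁ ∈ sgE (fq_comm hP) (barE b * barE t) false := W8_le_bc _ _ _ _ false true true hu₁W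
    rw [barE_mul]
    exact (mem_sgE_false _ _ _).mp this
  have fix_abt_u₁ : barE (a * b * t) u₁ = u₁ := by
    have : u₁ ∈ sgE (fq_comm hP) (barE a * barE b * barE t) false := W8_le_abc _ _ _ _ false true true hu₁W
    rw [barE_mul, barE_mul]
    exact (mem_sgE_false _ _ _).mp this
  have fix_at_u₂ : barE (a * t) u₂ = u₂ := by
    have : u₂ ∈ sgE (fq_comm hP) (barE a * barE t) false := W8_le_ac _ _ _ _ true false true hu₂W
    rw [barE_mul]
    exact (mem_sgE_false _ _ _).mp this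
  have fix_abt_u₂ : barE (a * b * t) u₂ = u₂ := by
    have : u₂ ∈ sgE (fq_comm hP) (barE a * barE b * barE t) false := W8_le_abc _ _ _ _ true false true hu₂W
    rw [barE_mul, barE_mul]
    exact (mem_sgE_false _ _ _).mp this
  have fix_at_u₃ : barE (a * t) u₃ = u₃ := by
    have : u₃ ∈ sgE (fq_comm hP) (barE a * barE t) false := W8_le_ac _ _ _ _ true true true hu₃W
    rw [barE_mul]
    exact (mem_sgE_false _ _ _).mp this
  have fix_bt_u₃ : barE (b * t) u₃ = u₃ := by
    have : u₃ ∈ sgE (fq_comm hP) (barE b * barE t) false := W8_le_bc _ _ _ _ true true true hu₃W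
    rw [barE_mul]
    exact (mem_sgE_false _ _ _).mp this
  obtain ⟨g₁, hg₁bt, hg₁abt, hg₁u⟩ :=
    exists_fix_lift₂ hoddP (b * t) (a * b * t) ibt iabt cbt_abt u₁ fix_bt_u₁ fix_abt_u₁
  obtain ⟨g₂, hg₂at, hg₂abt, hg₂u⟩ :=
    exists_fix_lift₂ hoddP (a * t) (a * b * t) iat iabt cat_abt u₂ fix_at_u₂ fix_abt_u₂
  obtain ⟨g₃, hg₃at, hg₃bt, hg₃u⟩ :=
    exists_fix_lift₂ hoddP (a * t) (b * t) iat ibt cat_bt u₃ fix_at_u₃ fix_bt_u₃
  -- the three fixed-point subgroups are abelian and inverted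
  have hR : ∀ (S E : MulAut P), (∀ x, S (S x) = x) → (∀ x, S (E x) = E (S x)) → CycE S →
      Nat.card ↥(sgE (fq_comm hP) (barE S) false) = p ^ 1 →
      (∀ v, barE E v = barE S (barE t v)) →
      (∀ x ∈ fixP E, S x = x⁻¹) ∧ (∀ x ∈ fixP E, ∀ y ∈ fixP E, x * y = y * x) := by
    intro S E hS hSE hcyc hcard hEt
    obtain ⟨g, hg⟩ := hcyc
    have hle := (card_fx_le_of_cyc hP hoddP S hS g hg).1
    have hg1 : ((g : P) : P ⧸ frattini P) ≠ 1 := by
      intro h
      rw [h, Subgroup.zpowers_one_eq_bot, le_bot_iff] at hle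
      rw [hle, Subgroup.card_bot, pow_one] at hcard
      exact hp.one_lt.ne hcard
    have hSg : S g = g := (hg g).mpr (Subgroup.mem_zpowers g)
    have hinv : barE E ((g : P) : P ⧸ frattini P) = ((g : P) : P ⧸ frattini P)⁻¹ := by
      rw [hEt, htinv, map_inv, barE_mk, hSg]
    have hfpf := fix_inf_fix_eq_one_of_cyc hp2 hP S E hSE g hg hg1 hinv
    apply inverts_of_fixed_point_free S hS (fixP E)
    · intro x hx
      rw [mem_fixP] at hx ⊢
      rw [← hSE, hx]
    · intro x hx hSx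
      exact hfpf x hSx hx
  have hcard_a : Nat.card ↥(sgE (fq_comm hP) (barE a) false) = p ^ 1 := by rw [hFa]
  have hcard_b : Nat.card ↥(sgE (fq_comm hP) (barE b) false) = p ^ 1 := by rw [hFb]
  have hcard_ab : Nat.card ↥(sgE (fq_comm hP) (barE (a * b)) false) = p ^ 1 := by rw [hFab]
  obtain ⟨inv1, comm1⟩ := hR a (a * t) ha
    (pw_of_commute ((Commute.refl a).mul_right cat)) hcyca hcard_a
    (fun v => by rw [barE_mul, MulAut.mul_apply])
  obtain ⟨inv2, comm2⟩ := hR b (b * t) hb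
    (pw_of_commute ((Commute.refl b).mul_right cbt)) hcycb hcard_b
    (fun v => by rw [barE_mul, MulAut.mul_apply])
  obtain ⟨inv3, comm3⟩ := hR (a * b) (a * b * t) iab
    (pw_of_commute ((Commute.refl (a * b)).mul_right (cat.mul_left cbt))) hcycab hcard_ab
    (fun v => by rw [barE_mul (a * b) t, MulAut.mul_apply])
  -- commutation of generators
  have c12 : g₁ * g₂ = g₂ * g₁ := comm3 g₁ hg₁abt g₂ hg₂abt
  have c13 : g₁ * g₃ = g₃ * g₁ := comm2 g₁ hg₁bt g₃ hg₃bt
  have c23 : g₂ * g₃ = g₃ * g₂ := comm1 g₂ hg₂at g₃ hg₃at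
  have hgen : Subgroup.closure ({g₁, g₂, g₃} : Set P) = ⊤ := by
    apply closure_eq_top_of_map
    rw [MonoidHom.map_closure, eq_top_iff, ← hKtop]
    have m1 : u₁ ∈ Subgroup.closure ((QuotientGroup.mk' (frattini P)) '' ({g₁, g₂, g₃} : Set P)) :=
      Subgroup.subset_closure ⟨g₁, by simp, hg₁u⟩
    have m2 : u₂ ∈ Subgroup.closure ((QuotientGroup.mk' (frattini P)) '' ({g₁, g₂, g₃} : Set P)) :=
      Subgroup.subset_closure ⟨g₂, by simp, hg₂u⟩
    have m3 : u₃ ∈ Subgroup.closure ((QuotientGroup.mk' (frattini P)) '' ({g₁, g₂, g₃} : Set P)) :=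
      Subgroup.subset_closure ⟨g₃, by simp, hg₃u⟩
    apply sup_le (sup_le _ _) _
    · rw [← hu₁z]; exact Subgroup.zpowers_le.mpr m1
    · rw [← hu₂z]; exact Subgroup.zpowers_le.mpr m2
    · rw [← hu₃z]; exact Subgroup.zpowers_le.mpr m3
  have hcommP : ∀ x y : P, x * y = y * x := by
    apply comm_of_closure_comm _ hgen
    intro x hx y hy
    simp only [Set.mem_insert_iff, Set.mem_singleton_iff] at hx hy
    rcases hx with rfl | rfl | rfl <;> rcases hy with rfl | rfl | rfl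
    · rfl
    · exact c12
    · exact c13
    · exact c12.symm
    · rfl
    · exact c23
    · exact c13.symm
    · exact c23.symm
    · rfl
  -- `t` inverts `P`
  have tg : ∀ (S : MulAut P) (g : P), (∀ x, S (S x) = x) → (S * t) g = g → S g = g⁻¹ → t g = g⁻¹ := by
    intro S g hS h1 h2
    rw [MulAut.mul_apply] at h1
    have : t g = S g := by
      calc t g = S (S (t g)) := (hS _).symm
        _ = S g := by rw [h1]
    rw [this, h2]
  have tg₁ : t g₁ = g₁⁻¹ := tg b g₁ hb hg₁bt (inv2 g₁ hg₁bt)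
  have tg₂ : t g₂ = g₂⁻¹ := tg a g₂ ha hg₂at (inv1 g₂ hg₂at)
  have tg₃ : t g₃ = g₃⁻¹ := tg a g₃ ha hg₃at (inv1 g₃ hg₃at)
  have htop : sgE hcommP t true = ⊤ := by
    rw [eq_top_iff, ← hgen, Subgroup.closure_le]
    intro x hx
    simp only [Set.mem_insert_iff, Set.mem_singleton_iff] at hx
    rw [SetLike.mem_coe, mem_sgE_true]
    rcases hx with rfl | rfl | rfl
    · exact tg₁
    · exact tg₂
    · exact tg₃
  have htfix : ∀ x : P, t x = x ↔ x = 1 := by
    intro x
    constructor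
    · intro h
      have hx : x ∈ sgE hcommP t true := by rw [htop]; exact Subgroup.mem_top x
      rw [mem_sgE_true, h] at hx
      apply sq_eq_one_of_odd hoddP
      calc x * x = x * x⁻¹ := by rw [← hx]
        _ = 1 := mul_inv_cancel x
    · rintro rfl
      exact map_one t
  exact ⟨hcommP, ⟨g₁, g₂, g₃, hgen⟩, n2, htfix, nc1, nc2, nc3⟩

end E8Struct

end Cfsg.Agent.Helper50
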