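import Mathlib

set_option autoImplicit false

/-!
# Word identities in an elementary abelian 2-group on three generators (helper50)
-/

namespace Cfsg.Agent.Helper50

section E8Words

variable {A : Type*} [Group A]

/-- The four-group `{1, a, b, ab}` as a subgroup. -/
theorem exists_fourSub (a b : A) (haa : a * a = 1) (hbb : b * b = 1) (hab : a * b = b * a) :
    ∃ J : Subgroup A, ∀ x, x ∈ J ↔ (x = 1 ∨ x = a ∨ x = b ∨ x = a * b) := by
  have haa' : ∀ z, a * (a * z) = z := fun z => by rw [← mul_assoc, haa, one_mul]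
  have hbb' : ∀ z, b * (b * z) = z := fun z => by rw [← mul_assoc, hbb, one_mul]
  have hba : b * a = a * b := hab.symm
  have hba' : ∀ z, b * (a * z) = a * (b * z) := fun z => by
    rw [← mul_assoc, hba, mul_assoc]
  have habab : a * b * (a * b) = 1 := by
    rw [mul_assoc, hba', hbb, haa']
  refine ⟨{ carrier := {x | x = 1 ∨ x = a ∨ x = b ∨ x = a * b}
            one_mem' := Or.inl rfl
            mul_mem' := ?_
            inv_mem' := ?_ }, fun x => Iff.rfl⟩
  · intro x y hx hy
    simp only [Set.mem_ofPred_eq] at hx hy ⊢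
    rcases hx with hx | hx | hx | hx <;> rcases hy with hy | hy | hy | hy <;> rw [hx, hy]
    · exact Or.inl (mul_one 1)
    · exact Or.inr (Or.inl (one_mul a))
    · exact Or.inr (Or.inr (Or.inl (one_mul b)))
    · exact Or.inr (Or.inr (Or.inr (one_mul _)))
    · exact Or.inr (Or.inl (mul_one a))
    · exact Or.inl haa
    · exact Or.inr (Or.inr (Or.inr rfl))
    · exact Or.inr (Or.inr (Or.inl (haa' b)))
    · exact Or.inr (Or.inr (Or.inl (mul_one b)))
    · exact Or.inr (Or.inr (Or.inr hba))
    · exact Or.inl hbb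
    · exact Or.inr (Or.inl (by rw [hba', hbb, mul_one]))
    · exact Or.inr (Or.inr (Or.inr (mul_one _)))
    · exact Or.inr (Or.inr (Or.inl (by rw [mul_assoc, hba, haa'])))
    · exact Or.inr (Or.inl (by rw [mul_assoc, hbb, mul_one]))
    · exact Or.inl habab
  · intro x hx
    simp only [Set.mem_ofPred_eq] at hx ⊢
    rcases hx with hx | hx | hx | hx <;> rw [hx]
    · exact Or.inl inv_one
    · exact Or.inr (Or.inl (inv_eq_of_mul_eq_one_left haa))
    · exact Or.inr (Or.inr (Or.inl (inv_eq_of_mul_eq_one_left hbb)))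
    · exact Or.inr (Or.inr (Or.inr (inv_eq_of_mul_eq_one_left habab)))

variable {a b t : A}

theorem w_at_bt (htt : t * t = 1) (hbt : b * t = t * b) : (a * t) * (b * t) = a * b := by
  rw [mul_assoc, ← mul_assoc t b t, ← hbt, mul_assoc b t t, htt, mul_one]

theorem w_cancel_t (x : A) (htt : t * t = 1) : (x * t) * t = x := by
  rw [mul_assoc, htt, mul_one]

theorem w_sq (haa : a * a = 1) (htt : t * t = 1) (hat : a * t = t * a) :
    (a * t) * (a * t) = 1 := by
  rw [mul_assoc, ← mul_assoc t a t, ← hat, mul_assoc a t t, htt, mul_one, haa]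

theorem w_abab (haa : a * a = 1) (hbb : b * b = 1) (hab : a * b = b * a) :
    (a * b) * (a * b) = 1 := by
  rw [mul_assoc, ← mul_assoc b a b, ← hab, mul_assoc a b b, hbb, mul_one, haa]

theorem w_ab_abt (haa : a * a = 1) (hbb : b * b = 1) (hab : a * b = b * a) :
    (a * b) * (a * b * t) = t := by
  rw [← mul_assoc, w_abab haa hbb hab, one_mul]

theorem w_abt_bt (hbb : b * b = 1) (htt : t * t = 1) (hbt : b * t = t * b) :
    (a * b * t) * (b * t) = a := by
  rw [mul_assoc a b t, mul_assoc a (b * t) (b * t), w_sq hbb htt hbt, mul_one]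

theorem w_abt_at (haa : a * a = 1) (htt : t * t = 1) (hab : a * b = b * a) (hat : a * t = t * a) :
    (a * b * t) * (a * t) = b := by
  rw [hab, mul_assoc b a t, mul_assoc b (a * t) (a * t), w_sq haa htt hat, mul_one]

end E8Words

end Cfsg.Agent.Helper50
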