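import Cfsg.Agent.S2185
import Cfsg.Agent.S1074

/-!
# S2184, piece (TITS), concrete part on helper27's packed 52 × 52 matrices

`S(1,0) = x₂₇ x₂₅ x₂₈` does not lie in the commutator subgroup `T` of `G = ²F₄(2)`; every involution of
`G` is `G`-conjugate to `z = x₄₄ x₄₇` or to `v = x₃₉ x₄₅`; both are centralised by conjugates of `S(1,0)`.
-/

set_option autoImplicit false
set_option Elab.async false
set_option linter.unusedSimpArgs false

namespace Cfsg.Agent.Helper50.F4Inv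

open Cfsg Cfsg.Lie Cfsg.Agent.Helper18 Cfsg.Agent.Helper27.BitMat

/-! ### the codes of the generators, as facts on explicit elements -/

theorem code_G0 : IsCodeG cG0 (xg 33 * xg 24) := by
  have h : IsCodeG (evalW cX [33, 24]) (xg 33 * (xg 24 * 1)) :=
    isCodeG_mul isCodeG_cX33 (isCodeG_mul isCodeG_cX24 isCodeG_one)
  rw [mul_one, ← cG0_eq] at h
  exact h

theorem code_G1 : IsCodeG cG1 (xg 14 * xg 23) := by
  have h : IsCodeG (evalW cX [14, 23]) (xg 14 * (xg 23 * 1)) :=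
    isCodeG_mul isCodeG_cX14 (isCodeG_mul isCodeG_cX23 isCodeG_one)
  rw [mul_one, ← cG1_eq] at h
  exact h

theorem code_G2 : IsCodeG cG2 (xg 27 * (xg 25 * xg 28)) := by
  have h : IsCodeG (evalW cX [27, 25, 28]) (xg 27 * (xg 25 * (xg 28 * 1))) :=
    isCodeG_mul isCodeG_cX27 (isCodeG_mul isCodeG_cX25 (isCodeG_mul isCodeG_cX28 isCodeG_one))
  rw [mul_one, ← cG2_eq] at h
  exact h

theorem code_G3 : IsCodeG cG3 (xg 28 * xg 30) := by
  have h : IsCodeG (evalW cX [28, 30]) (xg 28 * (xg 30 * 1)) :=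
    isCodeG_mul isCodeG_cX28 (isCodeG_mul isCodeG_cX30 isCodeG_one)
  rw [mul_one, ← cG3_eq] at h
  exact h

theorem code_G4 : IsCodeG cG4 (xg 20 * (xg 22 * xg 19)) := by
  have h : IsCodeG (evalW cX [20, 22, 19]) (xg 20 * (xg 22 * (xg 19 * 1))) :=
    isCodeG_mul isCodeG_cX20 (isCodeG_mul isCodeG_cX22 (isCodeG_mul isCodeG_cX19 isCodeG_one))
  rw [mul_one, ← cG4_eq] at h
  exact h

theorem code_G5 : IsCodeG cG5 (xg 19 * xg 17) := by
  have h : IsCodeG (evalW cX [19, 17]) (xg 19 * (xg 17 * 1)) :=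
    isCodeG_mul isCodeG_cX19 (isCodeG_mul isCodeG_cX17 isCodeG_one)
  rw [mul_one, ← cG5_eq] at h
  exact h

theorem code_G23 : IsCodeG (evalW cX [27, 25, 30]) (xg 27 * (xg 25 * xg 30)) := by
  have h : IsCodeG (evalW cX [27, 25, 30]) (xg 27 * (xg 25 * (xg 30 * 1))) :=
    isCodeG_mul isCodeG_cX27 (isCodeG_mul isCodeG_cX25 (isCodeG_mul isCodeG_cX30 isCodeG_one))
  rw [mul_one] at h
  exact h

theorem code_G45 : IsCodeG (evalW cX [20, 22, 17]) (xg 20 * (xg 22 * xg 17)) := by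
  have h : IsCodeG (evalW cX [20, 22, 17]) (xg 20 * (xg 22 * (xg 17 * 1))) :=
    isCodeG_mul isCodeG_cX20 (isCodeG_mul isCodeG_cX22 (isCodeG_mul isCodeG_cX17 isCodeG_one))
  rw [mul_one] at h
  exact h

theorem code_z : IsCodeG cU12 (xg 44 * xg 47) := by
  have h : IsCodeG (evalW cX [44, 47]) (xg 44 * (xg 47 * 1)) :=
    isCodeG_mul isCodeG_cX44 (isCodeG_mul isCodeG_cX47 isCodeG_one)
  rw [mul_one, ← cU12_pos] at h
  exact h

theorem code_v : IsCodeG cU10 (xg 39 * xg 45) := by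
  have h : IsCodeG (evalW cX [39, 45]) (xg 39 * (xg 45 * 1)) :=
    isCodeG_mul isCodeG_cX39 (isCodeG_mul isCodeG_cX45 isCodeG_one)
  rw [mul_one, ← cU10_pos] at h
  exact h

/-! ### code identities (kernel computations) -/

theorem id_sq0 : mulU cG0 cG0 = Icode := by decide +kernel
theorem id_sq1 : mulU cG1 cG1 = Icode := by decide +kernel
theorem id_sq3 : mulU cG3 cG3 = Icode := by decide +kernel
theorem id_sq5 : mulU cG5 cG5 = Icode := by decide +kernel
theorem id_sqz : mulU cU12 cU12 = Icode := by decide +kernel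
theorem id_sqv : mulU cU10 cU10 = Icode := by decide +kernel
theorem id_23 : mulU cG2 cG3 = evalW cX [27, 25, 30] := by decide +kernel
theorem id_45 : mulU cG4 cG5 = evalW cX [20, 22, 17] := by decide +kernel
theorem id_n : mulU (mulU cG2 cG5) cG2 = mulU cG4 (mulU cG2 cG5) := by decide +kernel
theorem id_cz : mulU cG2 cU12 = mulU cU12 cG2 := by decide +kernel
theorem id_cv : mulU cU5 cU10 = mulU cU10 cU5 := by decide +kernel
theorem id_h : mulU (evalW cG [0, 1, 5, 4, 0, 2, 1, 0]) cG2 =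
    mulU cU5 (evalW cG [0, 1, 5, 4, 0, 2, 1, 0]) := by decide +kernel
theorem id_W0 : mulU (evalW cG [2, 0, 1]) cR0 = mulU cU10 (evalW cG [2, 0, 1]) := by decide +kernel
theorem id_W1 : mulU (evalW cG [1, 5, 1, 4, 2, 0, 2, 1, 5, 0]) cR1 =
    mulU cU12 (evalW cG [1, 5, 1, 4, 2, 0, 2, 1, 5, 0]) := by decide +kernel
theorem z_ne : cU12 ≠ Icode := by decide +kernel
theorem v_ne : cU10 ≠ Icode := by decide +kernel

/-! ### the generators of `²F₄(2)` -/

theorem zmod2_cases (t : ZMod 2) : t = 0 ∨ t = 1 := by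
  revert t; decide

/-- every generator of `²F₄(2)` is one of nine explicit elements -/
theorem gen_cases (g : GL52)
    (hg : ∃ w ∈ f4Words (ZMod 2) 1, (g : Mat52) = chevF4.wordMat (ZMod 2) w) :
    g = 1 ∨ g = xg 33 * xg 24 ∨ g = xg 14 * xg 23 ∨ g = xg 27 * (xg 25 * xg 28) ∨
      g = xg 28 * xg 30 ∨ g = xg 27 * (xg 25 * xg 30) ∨ g = xg 20 * (xg 22 * xg 19) ∨
      g = xg 19 * xg 17 ∨ g = xg 20 * (xg 22 * xg 17) := by
  obtain ⟨w, hw, e⟩ := hg
  have h2 : (1 : ZMod 2) + 1 = 0 := by decide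
  rcases hw with ⟨t, rfl | rfl⟩ | ⟨t, u, rfl | rfl⟩
  · rcases zmod2_cases t with rfl | rfl
    · left
      apply Units.ext
      rw [e]
      simp [ChevalleyDatum.wordMat, f4PairWord, f4p1, f4p4, x_zero]
    · right; left
      apply Units.ext
      rw [e]
      simp [ChevalleyDatum.wordMat, f4PairWord, f4p1, f4p4, xg_val, x_zero, mul_assoc]
  · rcases zmod2_cases t with rfl | rfl
    · left
      apply Units.ext
      rw [e]
      simp [ChevalleyDatum.wordMat, f4PairWord, f4m1, f4m4, x_zero]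
    · right; right; left
      apply Units.ext
      rw [e]
      simp [ChevalleyDatum.wordMat, f4PairWord, f4m1, f4m4, xg_val, x_zero, mul_assoc]
  · rcases zmod2_cases t with rfl | rfl <;> rcases zmod2_cases u with rfl | rfl
    · left
      apply Units.ext
      rw [e]
      simp [ChevalleyDatum.wordMat, b2ClassWord, f4a, f4b, f4ab, f4aab, x_zero]
    · right; right; right; right; left
      apply Units.ext
      rw [e]
      simp [ChevalleyDatum.wordMat, b2ClassWord, f4a, f4b, f4ab, f4aab, xg_val, x_zero, mul_assoc]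
    · right; right; right; left
      apply Units.ext
      rw [e]
      simp [ChevalleyDatum.wordMat, b2ClassWord, f4a, f4b, f4ab, f4aab, xg_val, x_zero, mul_assoc]
    · right; right; right; right; right; left
      apply Units.ext
      rw [e]
      simp [ChevalleyDatum.wordMat, b2ClassWord, f4a, f4b, f4ab, f4aab, xg_val, x_zero, mul_assoc, h2]
  · rcases zmod2_cases t with rfl | rfl <;> rcases zmod2_cases u with rfl | rfl
    · left
      apply Units.ext
      rw [e]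
      simp [ChevalleyDatum.wordMat, b2ClassWord, f4ma, f4mb, f4mab, f4maab, x_zero]
    · right; right; right; right; right; right; right; left
      apply Units.ext
      rw [e]
      simp [ChevalleyDatum.wordMat, b2ClassWord, f4ma, f4mb, f4mab, f4maab, xg_val, x_zero, mul_assoc]
    · right; right; right; right; right; right; left
      apply Units.ext
      rw [e]
      simp [ChevalleyDatum.wordMat, b2ClassWord, f4ma, f4mb, f4mab, f4maab, xg_val, x_zero, mul_assoc]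
    · right; right; right; right; right; right; right; right
      apply Units.ext
      rw [e]
      simp [ChevalleyDatum.wordMat, b2ClassWord, f4ma, f4mb, f4mab, f4maab, xg_val, x_zero, mul_assoc, h2]

/-! ### `S(1,0)` is not in the commutator subgroup -/

/-- the element `S(1,0)` of `²F₄(2)` -/
noncomputable def s10 : ↥G2F4 := ⟨xg 27 * (xg 25 * xg 28), mem_G2⟩

/-- involutions (and `1`) lie in the commutator subgroup (S2185) -/
theorem invol_mem_comm (g : ↥G2F4) (h : g * g = 1) : g ∈ commutator ↥G2F4 := by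
  by_cases h1 : g = 1
  · rw [h1]; exact Subgroup.one_mem _
  · have hp : Fact (Nat.Prime 2) := ⟨Nat.prime_two⟩
    have : orderOf g = 2 := orderOf_eq_prime (by rw [pow_two]; exact h) h1
    exact Cfsg.Agent.S2185.result g this

/-- an element of `²F₄(2)` with a code squaring to the identity lies in the commutator subgroup -/
theorem coded_invol_mem {c : ℕ} {g : GL52} (hc : IsCodeG c g) (hm : g ∈ G2F4)
    (hsq : mulU c c = Icode) : (⟨g, hm⟩ : ↥G2F4) ∈ commutator ↥G2F4 := by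
  apply invol_mem_comm
  apply Subtype.ext
  exact isCodeG_inj (isCodeG_mul hc hc) (hsq ▸ isCodeG_one)

theorem mem_G23 : xg 27 * (xg 25 * xg 30) ∈ G2F4 := by
  have e : xg 27 * (xg 25 * xg 30) = (xg 27 * (xg 25 * xg 28)) * (xg 28 * xg 30) :=
    isCodeG_inj code_G23 (id_23 ▸ isCodeG_mul code_G2 code_G3)
  rw [e]
  exact G2F4.mul_mem mem_G2 mem_G3

theorem mem_G45 : xg 20 * (xg 22 * xg 17) ∈ G2F4 := by
  have e : xg 20 * (xg 22 * xg 17) = (xg 20 * (xg 22 * xg 19)) * (xg 19 * xg 17) :=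
    isCodeG_inj code_G45 (id_45 ▸ isCodeG_mul code_G4 code_G5)
  rw [e]
  exact G2F4.mul_mem mem_G4 mem_G5

theorem s10_not_mem : s10 ∉ commutator ↥G2F4 := by
  intro hs
  have hnorm : (commutator ↥G2F4).Normal := inferInstance
  -- the image of the commutator subgroup in `GL₅₂`
  have hgen : ∀ g : GL52, (∃ w ∈ f4Words (ZMod 2) 1, (g : Mat52) = chevF4.wordMat (ZMod 2) w) →
      ∃ hm : g ∈ G2F4, (⟨g, hm⟩ : ↥G2F4) ∈ commutator ↥G2F4 := by
    intro g hg
    have h3 : (⟨xg 28 * xg 30, mem_G3⟩ : ↥G2F4) ∈ commutator ↥G2F4 :=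
      coded_invol_mem code_G3 mem_G3 id_sq3
    have h5 : (⟨xg 19 * xg 17, mem_G5⟩ : ↥G2F4) ∈ commutator ↥G2F4 :=
      coded_invol_mem code_G5 mem_G5 id_sq5
    have h4 : (⟨xg 20 * (xg 22 * xg 19), mem_G4⟩ : ↥G2F4) ∈ commutator ↥G2F4 := by
      -- `S⁻(1,0) = n S(1,0) n⁻¹` with `n = S(1,0) S⁻(0,1)`
      have e : (xg 27 * (xg 25 * xg 28) * (xg 19 * xg 17)) * (xg 27 * (xg 25 * xg 28)) =
          (xg 20 * (xg 22 * xg 19)) * (xg 27 * (xg 25 * xg 28) * (xg 19 * xg 17)) := by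
        have h1 := isCodeG_mul (isCodeG_mul code_G2 code_G5) code_G2
        have h2 := isCodeG_mul code_G4 (isCodeG_mul code_G2 code_G5)
        rw [← id_n] at h2
        exact isCodeG_inj h1 h2
      have e' : (⟨xg 20 * (xg 22 * xg 19), mem_G4⟩ : ↥G2F4) =
          (s10 * ⟨xg 19 * xg 17, mem_G5⟩) * s10 * (s10 * ⟨xg 19 * xg 17, mem_G5⟩)⁻¹ := by
        rw [eq_mul_inv_iff_mul_eq]
        apply Subtype.ext
        exact e.symm
      rw [e']
      exact hnorm.conj_mem _ hs _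
    rcases gen_cases g hg with rfl | rfl | rfl | rfl | rfl | rfl | rfl | rfl | rfl
    · exact ⟨G2F4.one_mem, Subgroup.one_mem _⟩
    · exact ⟨mem_G0, coded_invol_mem code_G0 mem_G0 id_sq0⟩
    · exact ⟨mem_G1, coded_invol_mem code_G1 mem_G1 id_sq1⟩
    · exact ⟨mem_G2, hs⟩
    · exact ⟨mem_G3, h3⟩
    · refine ⟨mem_G23, ?_⟩
      have e : (⟨xg 27 * (xg 25 * xg 30), mem_G23⟩ : ↥G2F4) = s10 * ⟨xg 28 * xg 30, mem_G3⟩ := by
        apply Subtype.ext
        exact isCodeG_inj code_G23 (id_23 ▸ isCodeG_mul code_G2 code_G3)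
      rw [e]
      exact Subgroup.mul_mem _ hs h3
    · exact ⟨mem_G4, h4⟩
    · exact ⟨mem_G5, h5⟩
    · refine ⟨mem_G45, ?_⟩
      have e : (⟨xg 20 * (xg 22 * xg 17), mem_G45⟩ : ↥G2F4) =
          ⟨xg 20 * (xg 22 * xg 19), mem_G4⟩ * ⟨xg 19 * xg 17, mem_G5⟩ := by
        apply Subtype.ext
        exact isCodeG_inj code_G45 (id_45 ▸ isCodeG_mul code_G4 code_G5)
      rw [e]
      exact Subgroup.mul_mem _ h4 h5
  have hle : G2F4 ≤ (commutator ↥G2F4).map G2F4.subtype := by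
    show Subgroup.closure _ ≤ _
    rw [Subgroup.closure_le]
    intro g hg
    obtain ⟨hm, hc⟩ := hgen g hg
    exact ⟨⟨g, hm⟩, hc, rfl⟩
  have htop : commutator ↥G2F4 = ⊤ := by
    rw [eq_top_iff]
    intro x _
    obtain ⟨y, hy, hyx⟩ := hle x.2
    have : y = x := Subtype.ext hyx
    rw [← this]
    exact hy
  have hidx := Cfsg.Agent.S1074.result.1
  rw [show commutator ↥(twistedF4 (ZMod 2) 1) = commutator ↥G2F4 from rfl, htop,
    Subgroup.index_top] at hidx
  norm_num at hidx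

/-! ### every involution is conjugate to `z` or to `v` -/

theorem mem_z : xg 44 * xg 47 ∈ G2F4 := by
  obtain ⟨u, hu, huc⟩ := codedIn_U12
  rw [isCodeG_inj code_z huc]
  exact hu.2

theorem mem_v : xg 39 * xg 45 ∈ G2F4 := by
  obtain ⟨u, hu, huc⟩ := codedIn_U10
  rw [isCodeG_inj code_v huc]
  exact hu.2

theorem invol_conj (g : GL52) (hg : g ∈ G2F4) (h2 : g * g = 1) (h1 : g ≠ 1) :
    ∃ w ∈ G2F4, g = w * (xg 44 * xg 47) * w⁻¹ ∨ g = w * (xg 39 * xg 45) * w⁻¹ := by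
  have hp : Fact (Nat.Prime 2) := ⟨Nat.prime_two⟩
  obtain ⟨h, hh, hu⟩ := sylow_conj_mem G2F4 2 (UF4 ⊓ G2F4) inf_le_right 12 card_U1
    (by rw [card_G2F4]; norm_num) g hg 1 (by rw [pow_one, pow_two]; exact h2)
  have hu2 : (h * g * h⁻¹) * (h * g * h⁻¹) = 1 := by
    calc (h * g * h⁻¹) * (h * g * h⁻¹) = h * (g * g) * h⁻¹ := by group
      _ = 1 := by rw [h2]; group
  have hu1 : h * g * h⁻¹ ≠ 1 := by
    intro e
    apply h1
    have : g = h⁻¹ * (h * g * h⁻¹) * h := by group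
    rw [this, e]
    group
  obtain ⟨c, hc, hcu⟩ := all_coded_U1 _ hu
  obtain ⟨zc, hz⟩ := chk2_sound cG cR Llist certs chk_certs c hc
  obtain ⟨k, w, hw, hconj⟩ := okEntry_sound G2F4 cG cR codedIn_cG c zc hz _ hcu hu2 hu1
  have e4 : g = h⁻¹ * (h * g * h⁻¹) * h := by group
  rcases k with _ | k
  · -- the class of `cR0` is the class of `v`
    obtain ⟨x, _, y, _, hr⟩ := comm_R0
    have e1 := hconj _ hr
    obtain ⟨W, hW, hWc⟩ := codedIn_evalW G2F4 cG [2, 0, 1] (fun i _ => codedIn_cG i)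
    have e2 : W * (x * y * x⁻¹ * y⁻¹) = (xg 39 * xg 45) * W := by
      have a := isCodeG_mul hWc hr
      have b := isCodeG_mul code_v hWc
      rw [← id_W0] at b
      exact isCodeG_inj a b
    have e3 : x * y * x⁻¹ * y⁻¹ = W⁻¹ * (xg 39 * xg 45) * W := by
      calc x * y * x⁻¹ * y⁻¹ = W⁻¹ * (W * (x * y * x⁻¹ * y⁻¹)) := by group
        _ = W⁻¹ * ((xg 39 * xg 45) * W) := by rw [e2]
        _ = W⁻¹ * (xg 39 * xg 45) * W := by group
    refine ⟨h⁻¹ * w * W⁻¹, G2F4.mul_mem (G2F4.mul_mem (G2F4.inv_mem hh) hw) (G2F4.inv_mem hW),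
      Or.inr ?_⟩
    rw [e4, e1, e3]
    group
  · -- the class of `cR1` is the class of `z`
    obtain ⟨x, _, y, _, hr⟩ := comm_R1
    have e1 := hconj _ hr
    obtain ⟨W, hW, hWc⟩ := codedIn_evalW G2F4 cG [1, 5, 1, 4, 2, 0, 2, 1, 5, 0]
      (fun i _ => codedIn_cG i)
    have e2 : W * (x * y * x⁻¹ * y⁻¹) = (xg 44 * xg 47) * W := by
      have a := isCodeG_mul hWc hr
      have b := isCodeG_mul code_z hWc
      rw [← id_W1] at b
      exact isCodeG_inj a b
    have e3 : x * y * x⁻¹ * y⁻¹ = W⁻¹ * (xg 44 * xg 47) * W := by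
      calc x * y * x⁻¹ * y⁻¹ = W⁻¹ * (W * (x * y * x⁻¹ * y⁻¹)) := by group
        _ = W⁻¹ * ((xg 44 * xg 47) * W) := by rw [e2]
        _ = W⁻¹ * (xg 44 * xg 47) * W := by group
    refine ⟨h⁻¹ * w * W⁻¹, G2F4.mul_mem (G2F4.mul_mem (G2F4.inv_mem hh) hw) (G2F4.inv_mem hW),
      Or.inl ?_⟩
    rw [e4, e1, e3]
    group

/-! ### centralisers -/

theorem exists_cz : ∃ c : ↥G2F4, c ∉ commutator ↥G2F4 ∧
    (c : GL52) * (xg 44 * xg 47) = (xg 44 * xg 47) * (c : GL52) := by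
  refine ⟨s10, s10_not_mem, ?_⟩
  have a := isCodeG_mul code_G2 code_z
  have b := isCodeG_mul code_z code_G2
  rw [← id_cz] at b
  exact isCodeG_inj a b

theorem exists_cv : ∃ c : ↥G2F4, c ∉ commutator ↥G2F4 ∧
    (c : GL52) * (xg 39 * xg 45) = (xg 39 * xg 45) * (c : GL52) := by
  obtain ⟨u5, hu5m, hu5c⟩ := codedIn_U5
  obtain ⟨H, hH, hHc⟩ := codedIn_evalW G2F4 cG [0, 1, 5, 4, 0, 2, 1, 0] (fun i _ => codedIn_cG i)
  have e1 : H * (xg 27 * (xg 25 * xg 28)) = u5 * H := by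
    have a := isCodeG_mul hHc code_G2
    have b := isCodeG_mul hu5c hHc
    rw [← id_h] at b
    exact isCodeG_inj a b
  have e2 : u5 * (xg 39 * xg 45) = (xg 39 * xg 45) * u5 := by
    have a := isCodeG_mul hu5c code_v
    have b := isCodeG_mul code_v hu5c
    rw [← id_cv] at b
    exact isCodeG_inj a b
  refine ⟨⟨u5, hu5m.2⟩, ?_, e2⟩
  intro hmem
  apply s10_not_mem
  have hnorm : (commutator ↥G2F4).Normal := inferInstance
  have e : s10 = (⟨H, hH⟩ : ↥G2F4)⁻¹ * ⟨u5, hu5m.2⟩ * ((⟨H, hH⟩ : ↥G2F4)⁻¹)⁻¹ := by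
    apply Subtype.ext
    show xg 27 * (xg 25 * xg 28) = H⁻¹ * u5 * (H⁻¹)⁻¹
    have : u5 = H * (xg 27 * (xg 25 * xg 28)) * H⁻¹ := by rw [e1]; group
    rw [this]; group
  rw [e]
  exact hnorm.conj_mem _ hmem _

end Cfsg.Agent.Helper50.F4Inv
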