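import Cfsg.Agent.Helper50.F4InvTITSa
import Cfsg.Agent.Helper50.F4InvTITSb
import Cfsg.Agent.Helper4.F4Inv.Skel
import Cfsg.Agent.Helper31.F4Inv.NC

/-!
# S2184, piece (TITS): the Tits group has exactly two classes of involutions
-/

set_option autoImplicit false

namespace Cfsg.Agent.Helper50.F4Inv

open Cfsg Cfsg.Lie Cfsg.Agent.Helper18 Cfsg.Agent.Helper27.BitMat

/-- PIECE TITS -/
theorem pieceTITS : Cfsg.Agent.Helper4.F4Inv.PieceTITS := by
  have hp : Fact (Nat.Prime 2) := ⟨Nat.prime_two⟩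
  have hNC := Cfsg.Agent.Helper31.F4Inv.pieceNC (ZMod 2)
  obtain ⟨cz, hcz, hczz⟩ := exists_cz
  obtain ⟨cv, hcv, hcvv⟩ := exists_cv
  have hzz : (⟨xg 44 * xg 47, mem_z⟩ : ↥G2F4) * ⟨xg 44 * xg 47, mem_z⟩ = 1 := by
    apply Subtype.ext
    have a := isCodeG_mul code_z code_z
    rw [id_sqz] at a
    exact isCodeG_inj a isCodeG_one
  have hvv : (⟨xg 39 * xg 45, mem_v⟩ : ↥G2F4) * ⟨xg 39 * xg 45, mem_v⟩ = 1 := by
    apply Subtype.ext
    have a := isCodeG_mul code_v code_v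
    rw [id_sqv] at a
    exact isCodeG_inj a isCodeG_one
  have hz1 : (⟨xg 44 * xg 47, mem_z⟩ : ↥G2F4) ≠ 1 := by
    intro e
    have e' := congrArg Subtype.val e
    rw [Subgroup.coe_one] at e'
    have a : IsCodeG cU12 (Subtype.val (⟨xg 44 * xg 47, mem_z⟩ : ↥G2F4)) := code_z
    rw [e'] at a
    exact z_ne (isCodeG_code_eq a isCodeG_one)
  have hv1 : (⟨xg 39 * xg 45, mem_v⟩ : ↥G2F4) ≠ 1 := by
    intro e
    have e' := congrArg Subtype.val e
    rw [Subgroup.coe_one] at e'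
    have a : IsCodeG cU10 (Subtype.val (⟨xg 39 * xg 45, mem_v⟩ : ↥G2F4)) := code_v
    rw [e'] at a
    exact v_ne (isCodeG_code_eq a isCodeG_one)
  have hz2 : orderOf (⟨xg 44 * xg 47, mem_z⟩ : ↥G2F4) = 2 :=
    orderOf_eq_prime (by rw [pow_two]; exact hzz) hz1
  have hv2 : orderOf (⟨xg 39 * xg 45, mem_v⟩ : ↥G2F4) = 2 :=
    orderOf_eq_prime (by rw [pow_two]; exact hvv) hv1
  have hall : ∀ g : ↥G2F4, orderOf g = 2 → ∃ w : ↥G2F4,
      g = w * ⟨xg 44 * xg 47, mem_z⟩ * w⁻¹ ∨ g = w * ⟨xg 39 * xg 45, mem_v⟩ * w⁻¹ := by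
    intro g hg
    have h2 : g * g = 1 := by
      have h := pow_orderOf_eq_one g
      rw [hg, pow_two] at h
      exact h
    have h1 : g ≠ 1 := by
      intro e
      rw [e, orderOf_one] at hg
      norm_num at hg
    obtain ⟨w, hw, h | h⟩ := invol_conj g.1 g.2
      (by have := congrArg Subtype.val h2; simpa using this) (fun e => h1 (Subtype.ext e))
    · exact ⟨⟨w, hw⟩, Or.inl (Subtype.ext h)⟩
    · exact ⟨⟨w, hw⟩, Or.inr (Subtype.ext h)⟩
  have hnc : ¬ ∃ g : ↥G2F4, g * ⟨xg 44 * xg 47, mem_z⟩ * g⁻¹ = ⟨xg 39 * xg 45, mem_v⟩ := by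
    rintro ⟨g, hg⟩
    apply hNC
    have h := congrArg Subtype.val hg
    rw [Subgroup.coe_mul, Subgroup.coe_mul, Subgroup.coe_inv] at h
    refine ⟨g.1, ?_⟩
    unfold xg at h
    exact h
  exact two_classes_of_index_two (commutator ↥G2F4) Cfsg.Agent.S1074.result.1
    ⟨xg 44 * xg 47, mem_z⟩ ⟨xg 39 * xg 45, mem_v⟩
    (Cfsg.Agent.S2185.result _ hz2) (Cfsg.Agent.S2185.result _ hv2) hz2 hv2 hall cz cv hcz hcv
    (Subtype.ext hczz) (Subtype.ext hcvv) hnc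

end Cfsg.Agent.Helper50.F4Inv
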