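import Mathlib

/-!
# S2184, piece (TITS), abstract part: classes of involutions in a normal subgroup of index 2
-/

set_option autoImplicit false

namespace Cfsg.Agent.Helper50.F4Inv

/-- If every involution of `G` is conjugate to `z` or to `v`, both in the normal subgroup `T` of
index 2, both centralised by elements outside `T`, and `z`, `v` are not conjugate in `G`, then `T` has
exactly two classes of involutions. -/
theorem two_classes_of_index_two {G : Type*} [Group G] (T : Subgroup G)
    (hidx : T.index = 2) (z v : G) (hzT : z ∈ T) (hvT : v ∈ T) (hz2 : orderOf z = 2)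
    (hv2 : orderOf v = 2)
    (hall : ∀ g : G, orderOf g = 2 → ∃ w : G, g = w * z * w⁻¹ ∨ g = w * v * w⁻¹)
    (cz cv : G) (hcz : cz ∉ T) (hcv : cv ∉ T) (hczz : cz * z = z * cz) (hcvv : cv * v = v * cv)
    (hnc : ¬ ∃ g : G, g * z * g⁻¹ = v) :
    (ConjClasses.mk '' {g : T | orderOf g = 2}).ncard = 2 := by
  -- conjugation by an element of `G` can be replaced by conjugation by an element of `T`
  have key : ∀ (r c : G) (hrT : r ∈ T), c ∉ T → c * r = r * c → ∀ (g : T) (w : G),
      (g : G) = w * r * w⁻¹ → ConjClasses.mk g = ConjClasses.mk (⟨r, hrT⟩ : T) := by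
    intro r c hrT hc hcr g w hg
    rw [ConjClasses.mk_eq_mk_iff_isConj, isConj_comm, isConj_iff]
    by_cases hw : w ∈ T
    · refine ⟨⟨w, hw⟩, ?_⟩
      apply Subtype.ext
      rw [hg]
      rfl
    · have hwc : w * c ∈ T := by
        rw [Subgroup.mul_mem_iff_of_index_two hidx]
        exact ⟨fun h => absurd h hw, fun h => absurd h hc⟩
      refine ⟨⟨w * c, hwc⟩, ?_⟩
      apply Subtype.ext
      rw [hg]
      show w * c * r * (w * c)⁻¹ = w * r * w⁻¹
      rw [mul_assoc w c r, hcr]
      group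
  have hzo : orderOf (⟨z, hzT⟩ : T) = 2 := by
    rw [← Subgroup.orderOf_coe]; exact hz2
  have hvo : orderOf (⟨v, hvT⟩ : T) = 2 := by
    rw [← Subgroup.orderOf_coe]; exact hv2
  have hset : ConjClasses.mk '' {g : T | orderOf g = 2} =
      {ConjClasses.mk (⟨z, hzT⟩ : T), ConjClasses.mk (⟨v, hvT⟩ : T)} := by
    apply Set.Subset.antisymm
    · rintro _ ⟨g, hg, rfl⟩
      have hg2 : orderOf (g : G) = 2 := by
        rw [Subgroup.orderOf_coe]; exact hg
      obtain ⟨w, hw | hw⟩ := hall (g : G) hg2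
      · exact Or.inl (key z cz hzT hcz hczz g w hw)
      · exact Or.inr (key v cv hvT hcv hcvv g w hw)
    · rintro x (rfl | rfl)
      · exact ⟨⟨z, hzT⟩, hzo, rfl⟩
      · exact ⟨⟨v, hvT⟩, hvo, rfl⟩
  rw [hset]
  apply Set.ncard_pair
  intro h
  rw [ConjClasses.mk_eq_mk_iff_isConj, isConj_iff] at h
  obtain ⟨c, hc⟩ := h
  apply hnc
  refine ⟨(c : G), ?_⟩
  have := congrArg Subtype.val hc
  exact this

end Cfsg.Agent.Helper50.F4Inv
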