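import Mathlib
import Cfsg.Prelude.Def_Solvable
import Cfsg.Agent.Lib.Cores

/-!
# `F(G) ≤ Z(G)` from two hypotheses on normal subgroups (piece (C) of helper79's proof of S4843)
(helper50)
-/

set_option autoImplicit false

universe u

namespace Cfsg.Agent.Helper50.FitCenter

open scoped commutatorElement

/-- a subgroup `M` of a nilpotent subgroup `F` with `[M, F] = M` is trivial -/
theorem eq_bot_of_commutator_eq {G : Type u} [Group G] {M F : Subgroup G}
    (hF : Group.IsNilpotent ↥F) (hMF : M ≤ F) (h : ⁅M, F⁆ = M) : M = ⊥ := by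
  have key : ∀ n : ℕ, M ≤ F.lowerCentralSeries n := by
    intro n
    induction n with
    | zero => rw [Subgroup.lowerCentralSeries_zero]; exact hMF
    | succ n ih =>
      rw [Subgroup.lowerCentralSeries_succ, ← h]
      exact Subgroup.commutator_mono ih le_rfl
  obtain ⟨n, hn⟩ := (Subgroup.isNilpotent_iff_lowerCentralSeries F).mp hF
  have h1 := key n
  rwa [hn, le_bot_iff] at h1

/-- (C): `F(G) ≤ Z(G)` if every abelian normal subgroup is central and every normal subgroup of
class at most two (modulo `Z(G)`) whose centre lies in `Z(G)` is abelian. -/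
theorem fitting_le_center {G : Type u} [Group G] [Finite G]
    (hA : ∀ A : Subgroup G, A.Normal → (∀ a ∈ A, ∀ b ∈ A, a * b = b * a) →
      A ≤ Subgroup.center G)
    (hB : ∀ N : Subgroup G, N.Normal →
      (∀ a ∈ N, ∀ b ∈ N, a⁻¹ * b⁻¹ * a * b ∈ Subgroup.center G) →
      (∀ a ∈ N, (∀ b ∈ N, a * b = b * a) → a ∈ Subgroup.center G) →
      ∀ a ∈ N, ∀ b ∈ N, a * b = b * a) :
    Cfsg.fittingSubgroup G ≤ Subgroup.center G := by
  by_contra hF
  have hFn : (Cfsg.fittingSubgroup G).Normal := inferInstance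
  have hFnil : Group.IsNilpotent ↥(Cfsg.fittingSubgroup G) :=
    Cfsg.Agent.Lib.isNilpotent_fittingSubgroup
  obtain ⟨M, hM⟩ := exists_minimal_of_wellFoundedLT
    (fun M : Subgroup G => M.Normal ∧ M ≤ Cfsg.fittingSubgroup G ∧ ¬ M ≤ Subgroup.center G)
    ⟨Cfsg.fittingSubgroup G, hFn, le_rfl, hF⟩
  obtain ⟨⟨hMn, hMF, hMZ⟩, hmin⟩ := hM
  have := hMn
  -- `L = [M, F]` is normal, inside `M`, proper, hence central
  have hLn : (⁅M, Cfsg.fittingSubgroup G⁆).Normal := Subgroup.commutator_normal _ _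
  have hLM : ⁅M, Cfsg.fittingSubgroup G⁆ ≤ M := Subgroup.commutator_le_left _ _
  have hLne : ⁅M, Cfsg.fittingSubgroup G⁆ ≠ M := by
    intro h
    apply hMZ
    rw [eq_bot_of_commutator_eq hFnil hMF h]
    exact bot_le
  have hLZ : ⁅M, Cfsg.fittingSubgroup G⁆ ≤ Subgroup.center G := by
    by_contra hLZ
    have := hmin ⟨hLn, hLM.trans hMF, hLZ⟩ hLM
    exact hLne (le_antisymm hLM this)
  -- commutators in `M` are central
  have h1 : ∀ a ∈ M, ∀ b ∈ M, a⁻¹ * b⁻¹ * a * b ∈ Subgroup.center G := by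
    intro a ha b hb
    apply hLZ
    have : a⁻¹ * b⁻¹ * a * b = ⁅a⁻¹, b⁻¹⁆ := by
      rw [commutatorElement_def]; group
    rw [this]
    exact Subgroup.commutator_mem_commutator (M.inv_mem ha) (hMF (M.inv_mem hb))
  -- `Z(M)` is central
  have h2 : ∀ a ∈ M, (∀ b ∈ M, a * b = b * a) → a ∈ Subgroup.center G := by
    intro a ha hab
    have hAn : (M ⊓ Subgroup.centralizer (M : Set G)).Normal := inferInstance
    apply hA (M ⊓ Subgroup.centralizer (M : Set G)) hAn
    · rintro x ⟨hx, hxc⟩ y ⟨hy, -⟩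
      exact ((Subgroup.mem_centralizer_iff.mp hxc) y hy).symm
    · refine ⟨ha, ?_⟩
      show a ∈ Subgroup.centralizer (M : Set G)
      rw [Subgroup.mem_centralizer_iff]
      intro b hb
      exact (hab b hb).symm
  exact hMZ (hA M hMn (hB M hMn h1 h2))

end Cfsg.Agent.Helper50.FitCenter
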