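import Cfsg.Agent.Helper50.MaxInv
import Cfsg.Agent.Helper50.CyclicAut

/-!
# Coprime automorphisms normalizing all subgroups of one fixed order of a `p`-group (helper50)
-/

set_option autoImplicit false

namespace Cfsg.Agent.Helper50

open Cfsg.Agent.Helper24

variable {G : Type*} [Group G]

/-- Auxiliary step: `a` commutes with every `x ∈ P` generating a cyclic subgroup of order `p ^ j`,
`j ≤ 2` (with `j = 2` only for `p = 2`). -/
theorem commute_of_normalizes_fixed_order_aux [Finite G] {p : ℕ} [hp : Fact p.Prime] {P : Subgroup G}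
    (hP : IsPGroup p P) {a : G}
    (hcop : (orderOf a).Coprime p) (hcop' : (orderOf a).Coprime (p - 1))
    {d : ℕ} (hd1 : 1 ≤ d) (hdP : p ^ d < Nat.card P)
    (hinv : ∀ E : Subgroup G, E ≤ P → (Nat.card E = p ^ d ∨ (p ^ d = 2 ∧ Nat.card E = 4)) →
      a ∈ Subgroup.normalizer (E : Set G))
    (x : G) (hx : x ∈ P) (j : ℕ) (hj2 : j ≤ 2) (hj2' : j = 2 → p = 2)
    (hj : Nat.card (Subgroup.zpowers x) = p ^ j) : a * x = x * a := by
  obtain ⟨k, hk⟩ := (IsPGroup.iff_card).mp hP
  have hdk : d < k := by
    rw [hk] at hdP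
    exact (Nat.pow_lt_pow_iff_right hp.out.one_lt).mp hdP
  set C : Subgroup G := Subgroup.zpowers x with hCdef
  have hCP : C ≤ P := Subgroup.zpowers_le.mpr hx
  have hCcyc : IsCyclic C := inferInstance
  have hxC : x ∈ C := Subgroup.mem_zpowers x
  by_cases hd2 : d = 1
  · have haC : a ∈ Subgroup.normalizer (C : Set G) := by
      interval_cases j
      · have hbot : C = ⊥ := Subgroup.card_eq_one.mp (by rw [hj]; norm_num)
        rw [hbot, Subgroup.mem_normalizer_iff]
        intro y
        simp only [Subgroup.mem_bot]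
        constructor
        · rintro rfl; group
        · intro h
          have : y = a⁻¹ * (a * y * a⁻¹) * a := by group
          rw [this, h]; group
      · exact hinv C hCP (Or.inl (by rw [hj, hd2]))
      · have hp2 : p = 2 := hj2' rfl
        exact hinv C hCP (Or.inr ⟨by rw [hd2, hp2]; norm_num, by rw [hj, hp2]; norm_num⟩)
    exact commute_of_normalizes_cyclic (hP.to_le hCP) hCcyc haC hcop hcop' x hxC
  · have hd2' : 2 ≤ d := by omega
    obtain ⟨E, hCE, hEP, hEcard⟩ := exists_between_card_pow hCP hj
      (le_trans hj2 hd2') (hk ▸ pow_dvd_pow p hdk.le)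
    have haE := hinv E hEP (Or.inl hEcard)
    by_cases hEcyc : IsCyclic E
    · exact commute_of_normalizes_cyclic (hP.to_le hEP) hEcyc haE hcop hcop' x (hCE hxC)
    · obtain ⟨Q, hEQ, hQP, hQcard⟩ := exists_between_card_pow hEP hEcard
        (Nat.le_succ d) (hk ▸ pow_dvd_pow p (Nat.succ_le_of_lt hdk))
      have hEneQ : E ≠ Q := by
        intro h
        rw [h, hQcard] at hEcard
        have := Nat.pow_right_injective hp.out.two_le hEcard
        omega
      obtain ⟨g, hgQ, hgE⟩ := SetLike.exists_of_lt (lt_of_le_of_ne hEQ hEneQ)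
      have hgle : Subgroup.zpowers g ≤ Q := Subgroup.zpowers_le.mpr hgQ
      have hgne : Subgroup.zpowers g ≠ Q := by
        intro h
        apply hEcyc
        have hEg : E ≤ Subgroup.zpowers g := h ▸ hEQ
        exact Subgroup.isCyclic_of_le hEg
      obtain ⟨i, hi⟩ := exists_card_eq_pow_of_le hP (le_trans hgle hQP)
      have hid : i ≤ d := by
        have hlt : Nat.card (Subgroup.zpowers g) < Nat.card Q :=
          card_lt_of_lt (lt_of_le_of_ne hgle hgne)
        rw [hi, hQcard] at hlt
        have := (Nat.pow_lt_pow_iff_right hp.out.one_lt).mp hlt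
        omega
      obtain ⟨M', hgM', hM'Q, hM'card⟩ := exists_between_card_pow hgle hi hid
        (hQcard ▸ pow_dvd_pow p (Nat.le_succ d))
      have haM' := hinv M' (le_trans hM'Q hQP) (Or.inl hM'card)
      have hsup : E ⊔ M' = Q := by
        have hle : E ⊔ M' ≤ Q := sup_le hEQ hM'Q
        have hEne : E ≠ E ⊔ M' := by
          intro h
          apply hgE
          rw [h]
          exact (le_sup_right : M' ≤ E ⊔ M') (hgM' (Subgroup.mem_zpowers g))
        obtain ⟨t, ht⟩ := exists_card_eq_pow_of_le hP (le_trans hle hQP)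
        have h1 : Nat.card E < Nat.card ↥(E ⊔ M') :=
          card_lt_of_lt (lt_of_le_of_ne le_sup_left hEne)
        rw [hEcard, ht] at h1
        have h2 := (Nat.pow_lt_pow_iff_right hp.out.one_lt).mp h1
        by_contra hne
        have h3 : Nat.card ↥(E ⊔ M') < Nat.card Q :=
          card_lt_of_lt (lt_of_le_of_ne hle hne)
        rw [ht, hQcard] at h3
        have h4 := (Nat.pow_lt_pow_iff_right hp.out.one_lt).mp h3
        omega
      have haQ : a ∈ Subgroup.normalizer (Q : Set G) := by
        have h1 := mem_normalizer_sup_of_mem haE haM'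
        rwa [hsup] at h1
      have hMinv : ∀ M : Subgroup G, M ≤ Q → p * Nat.card M = Nat.card Q →
          a ∈ Subgroup.normalizer (M : Set G) := fun M hMQ hMcard =>
        hinv M (le_trans hMQ hQP) (Or.inl (by
          rw [hQcard, pow_succ'] at hMcard
          exact Nat.eq_of_mul_eq_mul_left hp.out.pos hMcard))
      have hcentQ := commute_of_commutator_mem_maximal (hP.to_le hQP) haQ hcop
        (fun M hMQ hMcard => ⟨hMinv M hMQ hMcard,
          commutator_mem_of_index_prime (hP.to_le hQP) hMQ hMcard haQ (hMinv M hMQ hMcard) hcop'⟩)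
      exact hcentQ x (hEQ (hCE hxC))

/-- **Automorphisms normalizing all subgroups of one fixed order.** `P` a `p`-subgroup, `a` normalizing
`P`, of order coprime to `p (p - 1)`, and normalizing every subgroup of `P` of order `p ^ d`
(and of order `4` when `p ^ d = 2`), where `1 ≤ d` and `p ^ d < #P`. Then `a` centralizes `P`. -/
theorem commute_of_normalizes_fixed_order [Finite G] {p : ℕ} [hp : Fact p.Prime] {P : Subgroup G}
    (hP : IsPGroup p P) {a : G} (haP : a ∈ Subgroup.normalizer (P : Set G))
    (hcop : (orderOf a).Coprime p) (hcop' : (orderOf a).Coprime (p - 1))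
    {d : ℕ} (hd1 : 1 ≤ d) (hdP : p ^ d < Nat.card P)
    (hinv : ∀ E : Subgroup G, E ≤ P → (Nat.card E = p ^ d ∨ (p ^ d = 2 ∧ Nat.card E = 4)) →
      a ∈ Subgroup.normalizer (E : Set G)) :
    ∀ x ∈ P, a * x = x * a := by
  have key : ∀ x ∈ P, ∀ e : ℕ, e ≤ 2 → (e = 2 → p = 2) → x ^ p ^ e = 1 → a * x = x * a := by
    intro x hx e he2 he2' hxe
    obtain ⟨j, hj⟩ := exists_card_eq_pow_of_le hP (Subgroup.zpowers_le.mpr hx)
    have hje : j ≤ e := by
      have h1 : Nat.card (Subgroup.zpowers x) = orderOf x := Nat.card_zpowers x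
      have h2 : orderOf x ∣ p ^ e := orderOf_dvd_of_pow_eq_one hxe
      rw [← h1, hj] at h2
      exact (Nat.pow_dvd_pow_iff_le_right hp.out.one_lt).mp h2
    exact commute_of_normalizes_fixed_order_aux hP hcop hcop' hd1 hdP hinv x hx j
      (le_trans hje he2) (fun h => he2' (by omega)) hj
  by_cases hp2 : p = 2
  · apply commute_of_commute_omega_sq hcop P hP haP
    intro x hx hx4
    exact key x hx 2 le_rfl (fun _ => hp2) hx4
  · apply commute_of_commute_omega_odd hp2 hcop P hP haP
    intro x hx hxp
    exact key x hx 1 (by norm_num) (fun h => by omega) (by rwa [pow_one])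

end Cfsg.Agent.Helper50
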