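import Mathlib
import Cfsg.Agent.Helper50.HH3
import Cfsg.Agent.Helper50.HH5
import Cfsg.Agent.Helper50.QA6
import Cfsg.Agent.S0095

set_option autoImplicit false

/-!
# The Shult type lemma, abstract action form with the full numerical conclusion (helper50)
-/

namespace Cfsg.Agent.Helper50

open scoped commutatorElement

section HH6

variable {Γ : Type*} [Group Γ]

/-- conjugation by a power when the commutator is central -/
theorem conj_pow_of_comm_central {y a c : Γ} (hc : c = y * a * y⁻¹ * a⁻¹) (hcy : y * c = c * y) (k : ℕ) :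
    y ^ k * a * (y ^ k)⁻¹ = c ^ k * a := by
  induction k with
  | zero => simp
  | succ k ih =>
    have h1 : y * a * y⁻¹ = c * a := by rw [hc]; group
    have hcyk : y * c ^ k = c ^ k * y := (Commute.pow_right hcy k).eq
    calc y ^ (k + 1) * a * (y ^ (k + 1))⁻¹
        = y * (y ^ k * a * (y ^ k)⁻¹) * y⁻¹ := by
          rw [pow_succ']; group
      _ = y * (c ^ k * a) * y⁻¹ := by rw [ih]
      _ = c ^ k * (y * a * y⁻¹) := by
          rw [← mul_assoc, hcyk]; group
      _ = c ^ (k + 1) * a := by rw [h1, pow_succ]; group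

theorem shult_action_full [Finite Γ] {W : Type*} [CommGroup W] [Finite W] {p : ℕ}
    [hp : Fact p.Prime] (φ : Γ →* MulAut W) (hexp : ∀ w : W, w ^ p = 1)
    (Q : Subgroup Γ) [hQn : Q.Normal] (z₀ x : Γ) {q r : ℕ} (hq : q.Prime) (hr : r.Prime)
    (hz₀o : orderOf z₀ = q) (hz₀c : ∀ g : Γ, g * z₀ = z₀ * g)
    (hcomm : ∀ a ∈ Q, ∀ b ∈ Q, ⁅a, b⁆ ∈ Subgroup.zpowers z₀)
    (hcent : ∀ a ∈ Q, (∀ b ∈ Q, a * b = b * a) → a ∈ Subgroup.zpowers z₀)
    (hnonab : ∃ a ∈ Q, ∃ b ∈ Q, a * b ≠ b * a)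
    (hpq : p ≠ q) (hpr : p ≠ r) (hqr : q ≠ r) (hxo : orderOf x = r)
    (hfpf : ∀ y ∈ Subgroup.zpowers x, y ≠ 1 → ∀ a ∈ Q,
      ⁅y, a⁆ ∈ Subgroup.zpowers z₀ → a ∈ Subgroup.zpowers z₀)
    (hz₀W : ∃ w : W, φ z₀ w ≠ w) (hfix : ∀ w : W, φ x w = w → w = 1) :
    q = 2 ∧ ∃ n : ℕ, r = 2 ^ n + 1 ∧ Nat.card Q = 2 ^ (2 * n + 1) := by
  classical
  have hqF : Fact q.Prime := ⟨hq⟩
  have hrF : Fact r.Prime := ⟨hr⟩
  have hcardZ : Nat.card (Subgroup.zpowers z₀) = q := by rw [Nat.card_zpowers, hz₀o]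
  have hZc : ∀ c ∈ Subgroup.zpowers z₀, ∀ g : Γ, g * c = c * g := by
    intro c hc g
    obtain ⟨k, rfl⟩ := Subgroup.mem_zpowers_iff.mp hc
    exact (Commute.zpow_right (show Commute g z₀ from hz₀c g) k).eq
  have hZq : ∀ c ∈ Subgroup.zpowers z₀, c ^ q = 1 := by
    intro c hc
    have := pow_card_eq_one' (G := Subgroup.zpowers z₀) (x := ⟨c, hc⟩)
    rw [hcardZ] at this
    exact congrArg Subtype.val this
  -- `z₀ ∈ Q`
  have hzQ : Subgroup.zpowers z₀ ≤ Q := by
    obtain ⟨a, ha, b, hb, hab⟩ := hnonab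
    have hc := hcomm a ha b hb
    have hcQ : ⁅a, b⁆ ∈ Q := by
      rw [commutatorElement_def]
      exact Q.mul_mem (Q.mul_mem (Q.mul_mem ha hb) (Q.inv_mem ha)) (Q.inv_mem hb)
    have hc1 : ⁅a, b⁆ ≠ 1 := by
      intro h
      apply hab
      rw [commutatorElement_def] at h
      calc a * b = (a * b * a⁻¹ * b⁻¹) * (b * a) := by group
        _ = b * a := by rw [h, one_mul]
    have hFact : Fact (Nat.card (Subgroup.zpowers z₀)).Prime := ⟨by rw [hcardZ]; exact hq⟩
    have hgen : Subgroup.zpowers (⟨⁅a, b⁆, hc⟩ : Subgroup.zpowers z₀) = ⊤ := by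
      rcases Subgroup.eq_bot_or_eq_top_of_prime_card
        (Subgroup.zpowers (⟨⁅a, b⁆, hc⟩ : Subgroup.zpowers z₀)) with h | h
      · exfalso
        apply hc1
        have := (Subgroup.zpowers_eq_bot.mp h)
        exact congrArg Subtype.val this
      · exact h
    intro g hg
    have : (⟨g, hg⟩ : Subgroup.zpowers z₀) ∈ Subgroup.zpowers (⟨⁅a, b⁆, hc⟩ : Subgroup.zpowers z₀) := by
      rw [hgen]; exact Subgroup.mem_top _
    obtain ⟨k, hk⟩ := Subgroup.mem_zpowers_iff.mp this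
    have hk' : ⁅a, b⁆ ^ k = g := by
      have := congrArg Subtype.val hk
      simpa using this
    rw [← hk']
    exact Q.zpow_mem hcQ k
  -- the centre of `↥Q`
  have hcenter : ∀ a : ↥Q, a ∈ Subgroup.center ↥Q ↔ (a : Γ) ∈ Subgroup.zpowers z₀ := by
    intro a
    constructor
    · intro ha
      apply hcent a a.2
      intro b hb
      have := Subgroup.mem_center_iff.mp ha ⟨b, hb⟩
      exact (congrArg Subtype.val this).symm
    · intro ha
      rw [Subgroup.mem_center_iff]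
      intro g
      apply Subtype.ext
      exact hZc _ ha g
  have hcardcenter : Nat.card (Subgroup.center ↥Q) = q := by
    rw [← hcardZ]
    refine Nat.card_congr
      { toFun := fun a => ⟨(a.1 : Γ), (hcenter a.1).mp a.2⟩
        invFun := fun c => ⟨⟨c.1, hzQ c.2⟩, (hcenter _).mpr c.2⟩
        left_inv := fun a => rfl
        right_inv := fun c => rfl }
  have hcc : ∀ a b : ↥Q, a * b * a⁻¹ * b⁻¹ ∈ Subgroup.center ↥Q := by
    intro a b
    rw [hcenter]
    exact hcomm a a.2 b b.2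
  obtain ⟨m, hm⟩ := Cfsg.Agent.S0095.card_of_nondeg hq hcc hcardcenter _ ⊤ rfl le_top
    (fun w _ hw => Subgroup.mem_center_iff.mpr (fun g => (hw g (Subgroup.mem_top g)).symm))
  rw [Subgroup.card_top] at hm
  have hm1 : 1 ≤ m := by
    by_contra hcon
    have hm0 : m = 0 := by omega
    rw [hm0] at hm
    simp only [mul_zero, zero_add, pow_one] at hm
    have hQZ : Subgroup.zpowers z₀ = Q := by
      apply Subgroup.eq_of_le_of_card_ge hzQ
      rw [hm, hcardZ]
    obtain ⟨a, ha, b, hb, hab⟩ := hnonab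
    rw [← hQZ] at ha
    exact hab (hZc a ha b).symm
  have hpQ : ¬ p ∣ Nat.card Q := by
    rw [hm]
    intro hdvd
    exact hpq ((Nat.prime_dvd_prime_iff_eq hp.out hq).mp (hp.out.dvd_of_dvd_pow hdvd))
  have hxr : ∀ y ∈ Subgroup.zpowers x, y ^ r = 1 := by
    intro y hy
    obtain ⟨k, rfl⟩ := Subgroup.mem_zpowers_iff.mp hy
    rw [← zpow_natCast, ← zpow_mul, mul_comm, zpow_mul, zpow_natCast, ← hxo, pow_orderOf_eq_one,
      one_zpow]
  have hxN : ∀ y ∈ Subgroup.zpowers x, y ∈ Subgroup.zpowers z₀ → y = 1 := by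
    intro y hy hyz
    have h3 : orderOf y ∣ Nat.gcd r q := Nat.dvd_gcd (orderOf_dvd_of_pow_eq_one (hxr y hy))
      (orderOf_dvd_of_pow_eq_one (hZq y hyz))
    rw [(Nat.coprime_primes hr hq).mpr (Ne.symm hqr)] at h3
    exact orderOf_eq_one_iff.mp (Nat.dvd_one.mp h3)
  have hmain := shult_action φ hexp Q z₀ x hq hr hz₀o hz₀c hcomm hcent hpQ hpq hpr hxo hxN hfpf
    hz₀W hfix
  have hidx : q * (Subgroup.zpowers z₀).relIndex Q = Nat.card Q := by
    have := card_mul_relIndex_of_le hzQ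
    rw [hcardZ] at this
    exact this
  -- the congruence
  have hx1 : x ≠ 1 := by
    intro h
    rw [h, orderOf_one] at hxo
    exact hr.ne_one hxo.symm
  have hXp : IsPGroup r (Subgroup.zpowers x) :=
    IsPGroup.of_card (n := 1) (by rw [Nat.card_zpowers, hxo, pow_one])
  let act : MulAction ↥(Subgroup.zpowers x) ↥Q :=
    MulAction.compHom ↥Q ((MulAut.conjNormal (H := Q)).comp (Subgroup.zpowers x).subtype)
  have hsmul : ∀ (g : ↥(Subgroup.zpowers x)) (a : ↥Q),
      ((g • a : ↥Q) : Γ) = (g : Γ) * a * (g : Γ)⁻¹ := fun _ _ => rfl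
  have hmod := hXp.card_modEq_card_fixedPoints ↥Q
  have hfixcard : Nat.card (MulAction.fixedPoints ↥(Subgroup.zpowers x) ↥Q) = q := by
    rw [← hcardZ]
    refine Nat.card_congr
      { toFun := fun a => ⟨(a.1 : Γ), ?_⟩
        invFun := fun c => ⟨⟨c.1, hzQ c.2⟩, ?_⟩
        left_inv := fun a => rfl
        right_inv := fun c => rfl }
    · have ha := a.2
      apply hfpf x (Subgroup.mem_zpowers x) hx1 a.1 a.1.2
      have h2 := congrArg Subtype.val (ha ⟨x, Subgroup.mem_zpowers x⟩)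
      rw [hsmul] at h2
      have h3 : x * ((a.1 : ↥Q) : Γ) * x⁻¹ = (a.1 : ↥Q) := h2
      rw [commutatorElement_def, h3, mul_inv_cancel]
      exact one_mem _
    · intro g
      apply Subtype.ext
      rw [hsmul]
      have := hZc _ c.2 g
      show (g : Γ) * c.1 * (g : Γ)⁻¹ = c.1
      rw [this]; group
  rw [hfixcard] at hmod
  exact shult_arith hq hr hqr hm1 hm hidx hmain hmod

end HH6

end Cfsg.Agent.Helper50
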