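import Mathlib
import Cfsg.Agent.Helper50.FixedOrder
import Cfsg.Agent.Helper50.LocallyCentral
import Cfsg.Agent.Helper1.PGroup

/-!
# Auxiliary lemmas for groups whose `p`-subgroups of one fixed order are strongly closed in their
normalizers (helper50)
-/

set_option autoImplicit false

namespace Cfsg.Agent.Helper50

open Cfsg.Agent.Helper24
open scoped commutatorElement

variable {G : Type*} [Group G]

/-- The normalizer of `U` normalizes the centralizer of `U`. -/
theorem normalizer_le_normalizer_centralizer (U : Subgroup G) :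
    Subgroup.normalizer (U : Set G) ≤
      Subgroup.normalizer ((Subgroup.centralizer (U : Set G) : Subgroup G) : Set G) := by
  have key : ∀ h : G, h ∈ Subgroup.normalizer (U : Set G) → ∀ c ∈ Subgroup.centralizer (U : Set G),
      h * c * h⁻¹ ∈ Subgroup.centralizer (U : Set G) := by
    intro h hh c hc
    rw [Subgroup.mem_centralizer_iff] at hc ⊢
    intro y hy
    have h1 : h⁻¹ * y * h ∈ U := conj_inv_mem_of_mem_normalizer hh hy
    have h2 := hc _ h1
    calc y * (h * c * h⁻¹) = h * ((h⁻¹ * y * h) * c) * h⁻¹ := by group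
      _ = h * (c * (h⁻¹ * y * h)) * h⁻¹ := by rw [h2]
      _ = h * c * h⁻¹ * y := by group
  intro h hh
  apply mem_normalizer_of_forall_conj_mem
  · exact fun c hc => key h hh c hc
  · intro c hc
    have := key h⁻¹ (Subgroup.inv_mem _ hh) c hc
    simpa using this

/-- If every `p'`-element of `N(U)` centralizes `U` and `T ≤ N(U)` has index prime to `p` in `N(U)`,
then `N(U) = T C(U)`. -/
theorem exists_mul_centralizer_of_coprime_central [Finite G] {p : ℕ} [hp : Fact p.Prime]
    (U T : Subgroup G) (hT : T ≤ Subgroup.normalizer (U : Set G))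
    (hTidx : ¬ p ∣ T.relIndex (Subgroup.normalizer (U : Set G)))
    (hF2 : ∀ g ∈ Subgroup.normalizer (U : Set G), (orderOf g).Coprime p →
      g ∈ Subgroup.centralizer (U : Set G)) :
    ∀ h ∈ Subgroup.normalizer (U : Set G), ∃ t ∈ T, ∃ c ∈ Subgroup.centralizer (U : Set G),
      h = t * c := by
  set H : Subgroup G := Subgroup.normalizer (U : Set G) with hH
  set C : Subgroup G := Subgroup.centralizer (U : Set G) with hC
  have hCH : C ≤ H := Subgroup.centralizer_le_normalizer _
  have hHC : H ≤ Subgroup.normalizer (C : Set G) := normalizer_le_normalizer_centralizer U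
  have hnorm : (C.subgroupOf H).Normal := (Subgroup.normal_subgroupOf_iff_le_normalizer hCH).mpr hHC
  have hpg : IsPGroup p (↥H ⧸ C.subgroupOf H) := by
    intro q
    induction q using QuotientGroup.induction_on with
    | H h =>
      have hne : orderOf (h : G) ≠ 0 := (orderOf_pos (h : G)).ne'
      obtain ⟨k, m, hm, hkm⟩ := Nat.exists_eq_pow_mul_and_not_dvd hne p hp.out.ne_one
      refine ⟨k, ?_⟩
      rw [← QuotientGroup.mk_pow, QuotientGroup.eq_one_iff, Subgroup.mem_subgroupOf]
      have hmem : ((h ^ p ^ k : H) : G) ∈ H := (h ^ p ^ k).2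
      apply hF2 _ hmem
      have hord : orderOf ((h ^ p ^ k : H) : G) = m := by
        rw [Subgroup.coe_pow, orderOf_pow' _ (pow_ne_zero k hp.out.ne_zero), hkm,
          Nat.gcd_eq_right (Dvd.intro _ rfl)]
        exact Nat.mul_div_cancel_left m (pow_pos hp.out.pos k)
      rw [hord]
      exact ((Nat.Prime.coprime_iff_not_dvd hp.out).mpr hm).symm
  obtain ⟨k', hk'⟩ := (IsPGroup.iff_card).mp hpg
  have hCrel : C.relIndex H = p ^ k' := by
    rw [Subgroup.relIndex, Subgroup.index_eq_card]; exact hk'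
  have hJH : T ⊔ C ≤ H := sup_le hT hCH
  have h1 : (T ⊔ C).relIndex H ∣ T.relIndex H := Subgroup.relIndex_dvd_of_le_left H le_sup_left
  have h2 : (T ⊔ C).relIndex H ∣ p ^ k' := hCrel ▸ Subgroup.relIndex_dvd_of_le_left H le_sup_right
  have h3 : (T ⊔ C).relIndex H = 1 := by
    obtain ⟨i, _, hi⟩ := (Nat.dvd_prime_pow hp.out).mp h2
    rcases Nat.eq_zero_or_pos i with h0 | h0
    · rw [hi, h0, pow_zero]
    · exfalso
      apply hTidx
      exact dvd_trans (hi ▸ dvd_pow_self p h0.ne') h1
  have hle : H ≤ T ⊔ C := Subgroup.relIndex_eq_one.mp h3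
  intro h hh
  have hmem : h ∈ ((T ⊔ C : Subgroup G) : Set G) := hle hh
  rw [Subgroup.coe_mul_of_left_le_normalizer_right T C (le_trans hT hHC)] at hmem
  obtain ⟨t, ht, c, hc, rfl⟩ := Set.mem_mul.mp hmem
  exact ⟨t, ht, c, hc, rfl⟩

/-- A `p`-subgroup `S` of `L` containing a subgroup `T` of index prime to `p` in `L` equals `T`. -/
theorem le_of_isPGroup_of_not_dvd_relIndex [Finite G] {p : ℕ} [hp : Fact p.Prime] {T S L : Subgroup G}
    (hTS : T ≤ S) (hSL : S ≤ L) (hS : IsPGroup p S) (hT : ¬ p ∣ T.relIndex L) : S ≤ T := by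
  have h1 : T.relIndex S ∣ T.relIndex L :=
    Dvd.intro _ (Subgroup.relIndex_mul_relIndex _ _ _ hTS hSL)
  have h2 : Nat.card T * T.relIndex S = Nat.card S := by
    rw [← Subgroup.relIndex_bot_left, Subgroup.relIndex_mul_relIndex _ _ _ bot_le hTS,
      Subgroup.relIndex_bot_left]
  obtain ⟨s, hs⟩ := (IsPGroup.iff_card).mp hS
  have h3 : T.relIndex S ∣ p ^ s := hs ▸ Dvd.intro_left _ h2
  obtain ⟨i, _, hi⟩ := (Nat.dvd_prime_pow hp.out).mp h3
  rcases Nat.eq_zero_or_pos i with h0 | h0
  · rw [h0, pow_zero] at hi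
    exact Subgroup.relIndex_eq_one.mp hi
  · exfalso
    apply hT
    exact dvd_trans (hi ▸ dvd_pow_self p h0.ne') h1

/-- Membership in the Frattini subgroup. -/
theorem mem_frattini_iff' {H : Type*} [Group H] (z : H) :
    z ∈ frattini H ↔ ∀ M : Subgroup H, IsCoatom M → z ∈ M := by
  unfold frattini Order.radical
  simp [Subgroup.mem_iInf]

end Cfsg.Agent.Helper50
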