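import Cfsg.Agent.Helper50.HallSymA8
import Cfsg.Agent.Helper74.HallSymA5
import Cfsg.Agent.Helper93.HallSymA6
import Cfsg.Agent.Helper93.HallSymA7

/-!
# Hall subgroups of alternating groups, piece (A-8) of board post #6463 (helper30): exact signature
-/

set_option autoImplicit false

open Equiv Equiv.Perm MulAction Subgroup Cfsg Cfsg.Agent.Helper30.HallSym
open scoped Nat Pointwise
universe u

namespace Cfsg.Agent.Helper50.HallSym

/-- (A-8) -/
theorem alt_primitive_hall_allIn {α : Type u} [Fintype α] [DecidableEq α] {π : Set ℕ}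
    (M : Subgroup (Perm α)) (hM : IsPiHallOf π M (alternatingGroup α))
    (hprim : IsPreprimitive M α) (h2 : ¬ AtMostOne π (Fintype.card α)) :
    AllIn π (Fintype.card α) :=
  alt_primitive_hall_allIn_of M hM hprim h2
    (fun h5 h2' => Cfsg.Agent.Helper74.HallSym.alt_two_transitive_of_sylow_two M hM.1 hprim h5 h2')
    (fun h2t h5 hp hc => Cfsg.Agent.Helper93.HallSym.no_two_transitive_fermat M hM.1 h2t h5 hp hc)
    (fun h2t h5 hp hc => Cfsg.Agent.Helper93.HallSym.no_two_transitive_mersenne M hM.1 h2t h5 hp hc)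

end Cfsg.Agent.Helper50.HallSym
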