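import Mathlib
import Cfsg.Agent.Helper68.J2C

/-!
# J2 icosian cluster, piece (J2-D) (helper50 for helper7): the centre of `twoJ2` is `{±1}`
-/

set_option autoImplicit false

open Quaternion Cfsg.Spor Cfsg.Agent.Helper7.J2 Cfsg.Agent.Helper91.J2A Cfsg.Agent.Helper91.J2B
  Cfsg.Agent.Helper68.J2C

namespace Cfsg.Agent.Helper50.J2D

/-- the second generator of the icosian ring -/
noncomputable abbrev om : ℍ[ℝ] := ⟨1 / 2, sig / 2, 0, tau / 2⟩

theorem tau_pos : 0 < tau := by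
  unfold tau
  have := Real.sqrt_nonneg 5
  linarith

/-- a quaternion commuting with `i` and with `ω` is real -/
theorem real_of_commute (q : ℍ[ℝ]) (h1 : qI * q = q * qI) (h2 : om * q = q * om) :
    q = ((q.re : ℝ) : ℍ[ℝ]) := by
  have e1 := congrArg (fun x : ℍ[ℝ] => x.imJ) h1
  have e2 := congrArg (fun x : ℍ[ℝ] => x.imK) h1
  have e3 := congrArg (fun x : ℍ[ℝ] => x.imJ) h2
  simp only [Quaternion.imJ_mul, Quaternion.imK_mul] at e1 e2 e3
  simp [qI] at e1 e2 e3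
  have hK : q.imK = 0 := by linarith
  have hJ : q.imJ = 0 := by linarith
  rw [hK, hJ] at e3
  have hI : tau * q.imI = 0 := by linarith
  have hI' : q.imI = 0 := by
    rcases mul_eq_zero.mp hI with h | h
    · exact absurd h tau_pos.ne'
    · exact h
  apply Quaternion.ext
  · simp
  · simp [hI']
  · simp [hJ]
  · simp [hK]

theorem qI_mem : qI ∈ icosians := Subring.subset_closure (Or.inl rfl)

theorem om_mem : om ∈ icosians := Subring.subset_closure (Or.inr rfl)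


theorem lsmul_zero' (x : Fin 3 → ℍ[ℝ]) : lsmul 0 x = 0 := by
  funext t
  simp [lsmul_apply]

theorem eq_zero_of_neg_eq {a : ℍ[ℝ]} (h : -a = a) : a = 0 := by
  have h2 : (2 : ℝ) • a = 0 := by
    rw [two_smul]
    nth_rewrite 1 [← h]
    exact neg_add_cancel a
  rcases smul_eq_zero.mp h2 with h | h
  · exact absurd h two_ne_zero
  · exact h

/-- the frame vectors as lattice points -/
noncomputable abbrev e (t : Fin 3) : icoLeech := ⟨E t, E_mem t⟩

/-- central elements commute with the members of `twoJ2`, pointwise -/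
theorem comm_apply (z : ↥twoJ2) (hz : z ∈ Subgroup.center ↥twoJ2) {g : Equiv.Perm icoLeech}
    (hg : g ∈ twoJ2) (x : icoLeech) :
    (z : Equiv.Perm icoLeech) (g x) = g ((z : Equiv.Perm icoLeech) x) := by
  have h := Subgroup.mem_center_iff.mp hz ⟨g, hg⟩
  have h' := congrArg (fun w : ↥twoJ2 => (w : Equiv.Perm icoLeech) x) h
  simpa [Equiv.Perm.mul_apply] using h'.symm

/-- step (1): the image of `E 0` under a central element is supported on the coordinate `0` -/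
theorem center_support (z : ↥twoJ2) (hz : z ∈ Subgroup.center ↥twoJ2) {s : Fin 3} (hs : s ≠ 0) :
    (((z : Equiv.Perm icoLeech) (e 0) : icoLeech) : Fin 3 → ℍ[ℝ]) s = 0 := by
  have hl := isLin_of_mem_twoJ2 z.2
  have hc := comm_apply z hz (reflPerm_mem_twoJ2 (E 0) (E_mem 0) (qip_E 0)) (e 0)
  have hn : -(E 0) ∈ icoLeech := icoLeech_neg (E_mem 0)
  have hR : reflPerm (E 0) (E_mem 0) (qip_E 0) (e 0) = ⟨-(E 0), hn⟩ := by
    apply Subtype.ext
    rw [reflPerm_apply]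
    exact qrefl_self (E 0) (qip_E 0)
  rw [hR] at hc
  have hc' := congrArg (fun w : icoLeech => (w : Fin 3 → ℍ[ℝ]) s) hc
  rw [hl.map_neg (e 0) hn, reflPerm_apply, qrefl_E_of_ne _ hs] at hc'
  exact eq_zero_of_neg_eq hc'

/-- step (2): the doubled image of `z (E 0)` under a linear map -/
theorem frame0 (z : ↥twoJ2) (hz : z ∈ Subgroup.center ↥twoJ2) {g : Equiv.Perm icoLeech}
    (hg : IsLin g) :
    ((g ((z : Equiv.Perm icoLeech) (e 0)) : icoLeech) : Fin 3 → ℍ[ℝ]) +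
      g ((z : Equiv.Perm icoLeech) (e 0)) =
      lsmul ((((z : Equiv.Perm icoLeech) (e 0) : icoLeech) : Fin 3 → ℍ[ℝ]) 0) (g (e 0)) := by
  rw [hg.frame ((z : Equiv.Perm icoLeech) (e 0)), center_support z hz (by decide : (1 : Fin 3) ≠ 0),
    center_support z hz (by decide : (2 : Fin 3) ≠ 0), lsmul_zero', lsmul_zero', add_zero, add_zero]

/-- step (2'): images of the other frame vectors -/
theorem frame_other (z : ↥twoJ2) (hz : z ∈ Subgroup.center ↥twoJ2) {h : Equiv.Perm icoLeech}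
    (hh : h ∈ twoJ2) (t : Fin 3) (eh : ((h (e 0) : icoLeech) : Fin 3 → ℍ[ℝ]) = E t) :
    (((z : Equiv.Perm icoLeech) (e t) : icoLeech) : Fin 3 → ℍ[ℝ]) + (z : Equiv.Perm icoLeech) (e t) =
      lsmul ((((z : Equiv.Perm icoLeech) (e 0) : icoLeech) : Fin 3 → ℍ[ℝ]) 0) (E t) := by
  have he : h (e 0) = e t := Subtype.ext eh
  have hc := comm_apply z hz hh (e 0)
  rw [he] at hc
  have := frame0 z hz (isLin_of_mem_twoJ2 hh)
  rw [← hc, he] at this
  exact this

/-- step (3): `(z (E 0)) 0` commutes with the icosian `a` when some group element maps `E 0` to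
`a • E 0` -/
theorem commute_coord (z : ↥twoJ2) (hz : z ∈ Subgroup.center ↥twoJ2) {g : Equiv.Perm icoLeech}
    (hg : g ∈ twoJ2) (a : ℍ[ℝ]) (ha : a ∈ icosians)
    (eg : ((g (e 0) : icoLeech) : Fin 3 → ℍ[ℝ]) = lsmul a (E 0)) :
    a * (((z : Equiv.Perm icoLeech) (e 0) : icoLeech) : Fin 3 → ℍ[ℝ]) 0 =
      (((z : Equiv.Perm icoLeech) (e 0) : icoLeech) : Fin 3 → ℍ[ℝ]) 0 * a := by
  have hl := isLin_of_mem_twoJ2 z.2
  have hm : lsmul a (E 0) ∈ icoLeech := icoLeech_lsmul ha (E_mem 0)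
  have he : g (e 0) = ⟨lsmul a (E 0), hm⟩ := Subtype.ext eg
  have hc := comm_apply z hz hg (e 0)
  rw [he] at hc
  have h1 := frame0 z hz (isLin_of_mem_twoJ2 hg)
  rw [← hc, hl.2.1 a ha (e 0) hm, eg] at h1
  have h2 := congrFun h1 0
  simp only [Pi.add_apply, lsmul_apply] at h2
  have hE : E 0 0 = (2 : ℍ[ℝ]) := by unfold E; rw [Pi.single_eq_same]
  rw [hE, mul_two, mul_add] at h2
  set w := (((z : Equiv.Perm icoLeech) (e 0) : icoLeech) : Fin 3 → ℍ[ℝ]) 0 with hw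
  have h3 : (2 : ℝ) • (a * w) = (2 : ℝ) • (w * a) := by rw [two_smul, two_smul]; exact h2
  exact smul_right_injective _ (two_ne_zero) h3


/-- step (4): the coordinate is `2` or `-2` -/
theorem coord_cases {gi gw : Equiv.Perm icoLeech} (hgi : gi ∈ twoJ2) (hgw : gw ∈ twoJ2)
    (egi : ((gi ⟨E 0, E_mem 0⟩ : icoLeech) : Fin 3 → ℍ[ℝ]) = lsmul qI (E 0))
    (egw : ((gw ⟨E 0, E_mem 0⟩ : icoLeech) : Fin 3 → ℍ[ℝ]) =
      lsmul (⟨1 / 2, sig / 2, 0, tau / 2⟩ : ℍ[ℝ]) (E 0))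
    (z : ↥twoJ2) (hz : z ∈ Subgroup.center ↥twoJ2) :
    (((z : Equiv.Perm icoLeech) (e 0) : icoLeech) : Fin 3 → ℍ[ℝ]) 0 = 2 ∨
      (((z : Equiv.Perm icoLeech) (e 0) : icoLeech) : Fin 3 → ℍ[ℝ]) 0 = -2 := by
  have hl := isLin_of_mem_twoJ2 z.2
  have c1 := commute_coord z hz hgi qI qI_mem egi
  have c2 := commute_coord z hz hgw om om_mem egw
  set v := (((z : Equiv.Perm icoLeech) (e 0) : icoLeech) : Fin 3 → ℍ[ℝ]) with hv
  have hre := real_of_commute (v 0) c1 c2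
  have hq : qip v v = 4 := by
    rw [hv, hl.2.2]; exact qip_E 0
  have s1 : v 1 = 0 := center_support z hz (by decide : (1 : Fin 3) ≠ 0)
  have s2 : v 2 = 0 := center_support z hz (by decide : (2 : Fin 3) ≠ 0)
  rw [qip_fin3, s1, s2, zero_mul, add_zero, add_zero, hre, Quaternion.star_coe] at hq
  have hq' : (v 0).re * (v 0).re = 4 := by
    have := congrArg (fun x : ℍ[ℝ] => x.re) hq
    have h4 : (4 : ℍ[ℝ]).re = 4 := rfl
    simpa [h4] using this
  have hq'' : ((v 0).re - 2) * ((v 0).re + 2) = 0 := by linarith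
  rcases mul_eq_zero.mp hq'' with h | h
  · left
    rw [hre]
    have : (v 0).re = 2 := by linarith
    rw [this]; norm_cast
  · right
    rw [hre]
    have : (v 0).re = -2 := by linarith
    rw [this]; norm_cast

theorem lsmul_two (x : Fin 3 → ℍ[ℝ]) : lsmul 2 x = x + x := by
  funext t
  simp [lsmul_apply, two_mul]

theorem lsmul_neg_two (x : Fin 3 → ℍ[ℝ]) : lsmul (-2) x = -x + -x := by
  funext t
  simp [lsmul_apply, two_mul]

theorem vec_eq_of_support {v : Fin 3 → ℍ[ℝ]} (h1 : v 1 = 0) (h2 : v 2 = 0) :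
    v = Pi.single 0 (v 0) := by
  funext s
  fin_cases s
  · simp
  · simpa using h1
  · simpa using h2

theorem center_cases {gi gw h1 h2 : Equiv.Perm icoLeech} (hgi : gi ∈ twoJ2) (hgw : gw ∈ twoJ2)
    (hh1 : h1 ∈ twoJ2) (hh2 : h2 ∈ twoJ2)
    (egi : ((gi ⟨E 0, E_mem 0⟩ : icoLeech) : Fin 3 → ℍ[ℝ]) = lsmul qI (E 0))
    (egw : ((gw ⟨E 0, E_mem 0⟩ : icoLeech) : Fin 3 → ℍ[ℝ]) =
      lsmul (⟨1 / 2, sig / 2, 0, tau / 2⟩ : ℍ[ℝ]) (E 0))
    (eh1 : ((h1 ⟨E 0, E_mem 0⟩ : icoLeech) : Fin 3 → ℍ[ℝ]) = E 1)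
    (eh2 : ((h2 ⟨E 0, E_mem 0⟩ : icoLeech) : Fin 3 → ℍ[ℝ]) = E 2)
    (z : ↥twoJ2) (hz : z ∈ Subgroup.center ↥twoJ2) :
    (z : Equiv.Perm icoLeech) = 1 ∨
      ∀ x : icoLeech, (((z : Equiv.Perm icoLeech) x : icoLeech) : Fin 3 → ℍ[ℝ]) =
        -(x : Fin 3 → ℍ[ℝ]) := by
  have hsupp := vec_eq_of_support (center_support z hz (by decide : (1 : Fin 3) ≠ 0))
    (center_support z hz (by decide : (2 : Fin 3) ≠ 0))
  have f1 := frame_other z hz hh1 1 eh1
  have f2 := frame_other z hz hh2 2 eh2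
  rcases coord_cases hgi hgw egi egw z hz with h | h
  · left
    rw [h] at hsupp f1 f2
    rw [lsmul_two] at f1 f2
    apply ext_of_frame z.2 twoJ2.one_mem
    intro t
    apply Subtype.ext
    rw [Equiv.Perm.one_apply]
    fin_cases t
    · exact hsupp
    · exact eq_of_add_self_eq f1
    · exact eq_of_add_self_eq f2
  · right
    obtain ⟨n, hn, hneg⟩ := exists_neg_one
    rw [h] at hsupp f1 f2
    rw [lsmul_neg_two] at f1 f2
    have hzn : (z : Equiv.Perm icoLeech) = n := by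
      apply ext_of_frame z.2 hn
      intro t
      apply Subtype.ext
      rw [hneg]
      fin_cases t
      · show (((z : Equiv.Perm icoLeech) (e 0) : icoLeech) : Fin 3 → ℍ[ℝ]) = -(E 0)
        rw [hsupp]
        unfold E
        rw [← Pi.single_neg]
      · exact eq_of_add_self_eq f1
      · exact eq_of_add_self_eq f2
    rw [hzn]
    exact hneg


theorem card_center_eq_two {gi gw h1 h2 : Equiv.Perm icoLeech} (hgi : gi ∈ twoJ2)
    (hgw : gw ∈ twoJ2) (hh1 : h1 ∈ twoJ2) (hh2 : h2 ∈ twoJ2)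
    (egi : ((gi ⟨E 0, E_mem 0⟩ : icoLeech) : Fin 3 → ℍ[ℝ]) = lsmul qI (E 0))
    (egw : ((gw ⟨E 0, E_mem 0⟩ : icoLeech) : Fin 3 → ℍ[ℝ]) =
      lsmul (⟨1 / 2, sig / 2, 0, tau / 2⟩ : ℍ[ℝ]) (E 0))
    (eh1 : ((h1 ⟨E 0, E_mem 0⟩ : icoLeech) : Fin 3 → ℍ[ℝ]) = E 1)
    (eh2 : ((h2 ⟨E 0, E_mem 0⟩ : icoLeech) : Fin 3 → ℍ[ℝ]) = E 2) :
    Nat.card ↥(Subgroup.center ↥twoJ2) = 2 := by
  obtain ⟨n, hn, hneg⟩ := exists_neg_one
  have hnc : (⟨n, hn⟩ : twoJ2) ∈ Subgroup.center twoJ2 := neg_one_mem_center hn hneg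
  rw [Nat.card_eq_two_iff]
  refine ⟨1, ⟨⟨n, hn⟩, hnc⟩, ?_, ?_⟩
  · intro h
    have h1 : n = 1 := by
      have := congrArg (fun w : Subgroup.center twoJ2 => ((w : twoJ2) : Equiv.Perm icoLeech)) h
      exact this.symm
    have h2 := hneg (e 0)
    rw [h1, Equiv.Perm.one_apply] at h2
    have h3 := congrFun h2 0
    have hE : E 0 0 = (2 : ℍ[ℝ]) := by unfold E; rw [Pi.single_eq_same]
    have h4 : (2 : ℍ[ℝ]) = -2 := by
      have : (E 0) 0 = -((E 0) 0) := h3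
      rw [hE] at this
      exact this
    have h5 := congrArg (fun x : ℍ[ℝ] => x.re) h4
    have h6 : (2 : ℍ[ℝ]).re = 2 := rfl
    have h7 : (-2 : ℍ[ℝ]).re = -2 := rfl
    simp only [h6, h7] at h5
    norm_num at h5
  · rw [Set.eq_univ_iff_forall]
    intro w
    rcases center_cases hgi hgw hh1 hh2 egi egw eh1 eh2 w.1 w.2 with h | h
    · left
      exact Subtype.ext (Subtype.ext h)
    · right
      apply Subtype.ext
      apply Subtype.ext
      show ((w : twoJ2) : Equiv.Perm icoLeech) = n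
      apply Equiv.ext
      intro x
      apply Subtype.ext
      rw [h, hneg]

end Cfsg.Agent.Helper50.J2D
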