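import Mathlib
import Cfsg.Agent.Helper17.J2Defs

/-!
# (P1e) of helper17's WANTED #4968 for S3313: `Q` has a noncentral involution (helper50)
-/

set_option autoImplicit false

namespace Cfsg.Agent.Helper50.J2P1e

open Cfsg.Agent.Helper17.J2

/-- abstract version: a group of order `> 8` with a central involution `z`, all squares in `{1, z}` and all
commutators in `{1, z}` has an involution different from `z`. -/
theorem exists_invol_ne {E : Type*} [Group E] [Fintype E] [DecidableEq E] (z : E) (hz2 : z ^ 2 = 1)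
    (hzc : ∀ q : E, q * z = z * q) (hcard : 8 < Fintype.card E)
    (sq : ∀ q : E, q ^ 2 = 1 ∨ q ^ 2 = z)
    (comm : ∀ a b : E, a * b = b * a ∨ a * b = z * (b * a)) :
    ∃ u : E, u ^ 2 = 1 ∧ u ≠ 1 ∧ u ≠ z := by
  -- pick `a ∉ {1, z}`
  obtain ⟨a, ha⟩ : ∃ a : E, a ∉ ({1, z} : Finset E) := by
    by_contra hcon
    push Not at hcon
    have hsub : (Finset.univ : Finset E) ⊆ {1, z} := fun a _ => hcon a
    have h1 : Fintype.card E ≤ ({1, z} : Finset E).card := Finset.card_le_card hsub
    have h2 : ({1, z} : Finset E).card ≤ 2 := Finset.card_le_two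
    omega
  have ha1 : a ≠ 1 := fun h => ha (by simp [h])
  have haz : a ≠ z := fun h => ha (by simp [h])
  rcases sq a with hsq | hsq
  · exact ⟨a, hsq, ha1, haz⟩
  -- now `a ^ 2 = z`
  let C : Finset E := Finset.univ.filter (fun b => a * b = b * a)
  have hC : ∀ b, b ∈ C ↔ a * b = b * a := fun b => by simp [C]
  have hCcard : 5 ≤ C.card := by
    by_cases hall : ∀ b : E, a * b = b * a
    · have : C = Finset.univ := by
        ext b; simp [C, hall b]
      rw [this, Finset.card_univ]; omega
    · push Not at hall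
      obtain ⟨b0, hb0⟩ := hall
      have hb0z : a * b0 = z * (b0 * a) := (comm a b0).resolve_left hb0
      -- `a * b0⁻¹ = z * (b0⁻¹ * a)`
      have hb0i : a * b0⁻¹ = z * (b0⁻¹ * a) := by
        have h1 : b0⁻¹ * (a * b0) * b0⁻¹ = b0⁻¹ * (z * (b0 * a)) * b0⁻¹ := by rw [hb0z]
        have h2 : b0⁻¹ * (a * b0) * b0⁻¹ = b0⁻¹ * a := by group
        have h3 : b0⁻¹ * (z * (b0 * a)) * b0⁻¹ = z * (a * b0⁻¹) := by
          calc b0⁻¹ * (z * (b0 * a)) * b0⁻¹ = (b0⁻¹ * z) * (b0 * a) * b0⁻¹ := by group
            _ = (z * b0⁻¹) * (b0 * a) * b0⁻¹ := by rw [hzc b0⁻¹]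
            _ = z * (a * b0⁻¹) := by group
        rw [h2, h3] at h1
        -- b0⁻¹ * a = z * (a * b0⁻¹)
        calc a * b0⁻¹ = (z ^ 2) * (a * b0⁻¹) := by rw [hz2, one_mul]
          _ = z * (z * (a * b0⁻¹)) := by rw [pow_two, mul_assoc]
          _ = z * (b0⁻¹ * a) := by rw [← h1]
      have hinj : Cᶜ.card ≤ C.card := by
        apply Finset.card_le_card_of_injOn (fun b => b0⁻¹ * b)
        · intro b hb
          have hb' : ¬ a * b = b * a := by
            have := Finset.mem_compl.mp hb
            rwa [hC] at this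
          have hbz : a * b = z * (b * a) := (comm a b).resolve_left hb'
          show b0⁻¹ * b ∈ C
          rw [hC]
          calc a * (b0⁻¹ * b) = (a * b0⁻¹) * b := by group
            _ = z * (b0⁻¹ * a) * b := by rw [hb0i]
            _ = z * b0⁻¹ * (a * b) := by group
            _ = z * b0⁻¹ * (z * (b * a)) := by rw [hbz]
            _ = (z * b0⁻¹ * z) * (b * a) := by group
            _ = (z * (z * b0⁻¹)) * (b * a) := by rw [mul_assoc z b0⁻¹ z, hzc b0⁻¹]
            _ = (z ^ 2 * b0⁻¹) * (b * a) := by rw [pow_two]; group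
            _ = b0⁻¹ * b * a := by rw [hz2]; group
        · intro b _ b' _ h
          exact mul_left_cancel h
      have hsum : Cᶜ.card + C.card = Fintype.card E := by
        rw [add_comm]; exact Finset.card_add_card_compl C
      omega
  obtain ⟨b, hbC, hbS⟩ : ∃ b ∈ C, b ∉ ({1, a, z, a * z} : Finset E) := by
    apply Finset.exists_mem_notMem_of_card_lt_card
    have : ({1, a, z, a * z} : Finset E).card ≤ 4 := Finset.card_le_four
    omega
  have hab : a * b = b * a := (hC b).mp hbC
  simp only [Finset.mem_insert, Finset.mem_singleton, not_or] at hbS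
  obtain ⟨hb1, hba, hbz, hbaz⟩ := hbS
  rcases sq b with hbsq | hbsq
  · exact ⟨b, hbsq, hb1, hbz⟩
  · refine ⟨a * b, ?_, ?_, ?_⟩
    · calc (a * b) ^ 2 = a * (b * a) * b := by rw [pow_two]; group
        _ = a * (a * b) * b := by rw [hab]
        _ = a ^ 2 * b ^ 2 := by rw [pow_two, pow_two]; group
        _ = 1 := by rw [hsq, hbsq, ← pow_two, hz2]
    · intro h
      -- `b = a⁻¹ = a * z`
      apply hbaz
      have h1 : a * (a * z) = 1 := by rw [← mul_assoc, ← pow_two, hsq, ← pow_two, hz2]
      have h2 : a * b = a * (a * z) := by rw [h, h1]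
      exact mul_left_cancel h2
    · intro h
      apply hba
      have h2 : a * b = a * a := by rw [h, ← pow_two, hsq]
      exact mul_left_cancel h2

variable {G : Type*} [Group G] [Finite G] {z : G} {Q K : Subgroup G}

theorem T_nonempty (c : Ctx z Q K) : ∃ u : G, u ∈ Q ∧ orderOf u = 2 ∧ u ≠ z := by
  classical
  have hz2 : z ^ 2 = 1 := by rw [← c.hz]; exact pow_orderOf_eq_one z
  let _ := Fintype.ofFinite ↥Q
  have hcard : Fintype.card ↥Q = 32 := by rw [← Nat.card_eq_fintype_card]; exact c.hQcard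
  obtain ⟨u, hu2, hu1, huz⟩ := exists_invol_ne (E := ↥Q) ⟨z, c.hzQ⟩ (Subtype.ext hz2)
    (fun q => Subtype.ext (c.hzc q (Subgroup.mem_sup_right q.2)))
    (by rw [hcard]; norm_num)
    (fun q => by
      rcases c.sq q q.2 with h | h
      · exact Or.inl (Subtype.ext h)
      · exact Or.inr (Subtype.ext h))
    (fun a b => by
      rcases c.comm a a.2 b b.2 with h | h
      · exact Or.inl (Subtype.ext h)
      · exact Or.inr (Subtype.ext h))
  refine ⟨u, u.2, ?_, fun h => huz (Subtype.ext h)⟩
  apply orderOf_eq_prime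
  · have := congrArg Subtype.val hu2
    simpa using this
  · intro h
    exact hu1 (Subtype.ext h)

end Cfsg.Agent.Helper50.J2P1e
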