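import Cfsg.Agent.Helper50.K4KMa
import Cfsg.Agent.Helper76.K4INV

/-!
# S4501 (helper54), piece (KM): `klein_data`, verbatim skeleton statement
-/

set_option autoImplicit false

namespace Cfsg.Agent.Helper50.K4

open Cfsg
open scoped ComplexConjugate

universe u

section chars

variable {G : Type u} [Group G] [Fintype G]

/-- (KM) the principal `2`-block of a simple group of order `4 p^a q^b` -/
theorem klein_data [IsSimpleGroup G] (hperf : commutator G = ⊤) (p q a b : ℕ) (hp : p.Prime)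
    (hq : q.Prime) (hp2 : p ≠ 2) (hq2 : q ≠ 2) (hcard : Nat.card G = 4 * p ^ a * q ^ b) :
    ∃ (ζ₂ ζ₃ ζ₄ : IrrCharacter G) (ε : ℤ), (ε = 1 ∨ ε = -1) ∧
      2 ≤ charDegree (ζ₂ : G → ℂ) ∧ 2 ≤ charDegree (ζ₃ : G → ℂ) ∧
      2 ≤ charDegree (ζ₄ : G → ℂ) ∧
      (4 : ℤ) ∣ (charDegree (ζ₂ : G → ℂ) : ℤ) - 1 ∧
      (4 : ℤ) ∣ (charDegree (ζ₃ : G → ℂ) : ℤ) - ε ∧
      (4 : ℤ) ∣ (charDegree (ζ₄ : G → ℂ) : ℤ) + 1 ∧
      1 + (charDegree (ζ₂ : G → ℂ) : ℤ) + ε * (charDegree (ζ₃ : G → ℂ) : ℤ)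
        - (charDegree (ζ₄ : G → ℂ) : ℤ) = 0 ∧
      ∀ ℓ : ℕ, ℓ.Prime →
        (ℓ : ℤ) ∣ ((charDegree (ζ₂ : G → ℂ) : ℤ) + 1) * ((charDegree (ζ₃ : G → ℂ) : ℤ) + ε) *
          ((charDegree (ζ₄ : G → ℂ) : ℤ) + -1) → ℓ = 2 ∨ ℓ = p ∨ ℓ = q :=
  klein_data_of_inv hperf p q a b hp hq hp2 hq2 hcard
    (fun P hP => Cfsg.Agent.Helper76.K4.invol_conj hperf P hP)

end chars

end Cfsg.Agent.Helper50.K4
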