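import Cfsg.Agent.Helper74.DegP3
import Cfsg.Agent.Helper74.DefectZero
import Cfsg.Agent.Helper20.D8Main
import Cfsg.Agent.S0948
import Cfsg.Agent.S4479
import Cfsg.Agent.S0992

/-!
# S4501 (helper54), piece (KM): the principal `2`-block of a simple group of order `4 p^a q^b`

`klein_data_of_inv` is the statement with the conjugacy of involutions (piece (INV)) as a
hypothesis.
-/

set_option autoImplicit false
set_option linter.unusedSectionVars false

namespace Cfsg.Agent.Helper50.K4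

open Cfsg
open scoped ComplexConjugate

universe u

section chars

variable {G : Type u} [Group G] [Fintype G]

/-- a Klein four subgroup contains an involution -/
theorem exists_invol_of_kleinFour (P : Subgroup G) (hP : IsKleinFour P) :
    ∃ J ∈ P, orderOf J = 2 := by
  have h4 : Nat.card P = 4 := IsKleinFour.card_four
  have hnt : Nontrivial P := by
    rw [← Finite.one_lt_card_iff_nontrivial]
    omega
  obtain ⟨x, hx⟩ := exists_ne (1 : P)
  refine ⟨x, x.2, ?_⟩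
  have hx2 : x * x = 1 := IsKleinFour.mul_self x
  have h2 : orderOf x = 2 := orderOf_eq_prime (by rw [pow_two]; exact hx2) hx
  rwa [Subgroup.orderOf_coe]

/-- a perfect nontrivial group is not commutative -/
theorem not_comm_of_perfect [Nontrivial G] (hperf : commutator G = ⊤) : ¬ IsMulCommutative G := by
  intro hc
  have hbot : commutator G = ⊥ := by
    rw [commutator_def, Subgroup.commutator_eq_bot_iff_le_centralizer]
    intro x _
    rw [Subgroup.mem_centralizer_iff]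
    intro y _
    exact hc.is_comm.comm y x
  rw [hbot] at hperf
  exact bot_ne_top hperf

/-- nonprincipal irreducible characters of a perfect group have degree at least `2` -/
theorem two_le_degree_of_perfect (hperf : commutator G = ⊤) (χ : IrrCharacter G)
    (hχ : (χ : G → ℂ) ≠ fun _ => 1) : 2 ≤ charDegree (χ : G → ℂ) := by
  have hχc : IsCharacter G (χ : G → ℂ) := Helper74.isCharacter_of_isIrr χ.2
  have hcast := Helper74.charDegree_cast hχc
  have hpos := Helper74.charDegree_pos' χ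
  by_contra hlt
  have h1 : charDegree (χ : G → ℂ) = 1 := by omega
  rw [h1] at hcast
  have hp : χ = Helper79.principalIrr G :=
    Helper20.D8.eq_principal_of_degree_one hperf χ (by rw [← hcast]; simp)
  apply hχ
  rw [hp]
  rfl

/-- the prime divisors of a product all of whose factors divide `8 N` -/
theorem prime_cases_of_dvd (p q a b ℓ : ℕ) (hp : p.Prime) (hq : q.Prime) (hℓ : ℓ.Prime)
    (h : ℓ ∣ 4 * p ^ a * q ^ b) : ℓ = 2 ∨ ℓ = p ∨ ℓ = q := by
  rcases (Nat.Prime.dvd_mul hℓ).mp h with h | h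
  · rcases (Nat.Prime.dvd_mul hℓ).mp h with h | h
    · left
      have h4 : ℓ ∣ 2 ^ 2 := by norm_num; exact h
      exact (Nat.prime_dvd_prime_iff_eq hℓ Nat.prime_two).mp (hℓ.dvd_of_dvd_pow h4)
    · right; left
      exact (Nat.prime_dvd_prime_iff_eq hℓ hp).mp (hℓ.dvd_of_dvd_pow h)
  · right; right
    exact (Nat.prime_dvd_prime_iff_eq hℓ hq).mp (hℓ.dvd_of_dvd_pow h)


/-- the arithmetic consequence of the order formula -/
theorem prime_of_formula (N u v w cJ cP : ℕ) (ε : ℤ) (hN : 0 < N) (hu : u ∣ N) (hv : v ∣ N)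
    (hw : w ∣ N) (hcJ : cJ ∣ N)
    (hform : (N : ℚ) = 8 * (((u : ℚ) * v * w) / (((u : ℚ) + (1 : ℤ)) * ((v : ℚ) + ε) *
      ((w : ℚ) + (-1 : ℤ)))) * (cJ : ℚ) ^ 3 / (cP : ℚ) ^ 2)
    (ℓ : ℕ) (hℓ : ℓ.Prime)
    (hdvd : (ℓ : ℤ) ∣ ((u : ℤ) + 1) * ((v : ℤ) + ε) * ((w : ℤ) + -1)) : ℓ ∣ 8 * N := by
  set D : ℤ := ((u : ℤ) + 1) * ((v : ℤ) + ε) * ((w : ℤ) + -1) with hD
  have hDq : (((u : ℚ) + (1 : ℤ)) * ((v : ℚ) + ε) * ((w : ℚ) + (-1 : ℤ))) = (D : ℚ) := by
    rw [hD]; push_cast; ring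
  rw [hDq] at hform
  have hN' : (N : ℚ) ≠ 0 := by exact_mod_cast hN.ne'
  have hD0 : (D : ℚ) ≠ 0 := by
    intro h0
    rw [h0, div_zero, mul_zero, zero_mul, zero_div] at hform
    exact hN' hform
  have hcP0 : (cP : ℚ) ≠ 0 := by
    intro h0
    rw [h0] at hform
    simp at hform
    exact hN.ne' hform
  have hmain : (N : ℚ) * D * (cP : ℚ) ^ 2 = 8 * ((u : ℚ) * v * w) * (cJ : ℚ) ^ 3 := by
    rw [hform]
    field_simp
  have hmainZ : (N : ℤ) * D * (cP : ℤ) ^ 2 = 8 * ((u : ℤ) * v * w) * (cJ : ℤ) ^ 3 := by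
    exact_mod_cast hmain
  have hdvd2 : (ℓ : ℤ) ∣ 8 * ((u : ℤ) * v * w) * (cJ : ℤ) ^ 3 := by
    rw [← hmainZ]
    exact Dvd.dvd.mul_right (Dvd.dvd.mul_left hdvd _) _
  have hdvd3 : ℓ ∣ 8 * (u * v * w) * cJ ^ 3 := by
    exact_mod_cast hdvd2
  rcases (Nat.Prime.dvd_mul hℓ).mp hdvd3 with h | h
  · rcases (Nat.Prime.dvd_mul hℓ).mp h with h | h
    · exact Dvd.dvd.mul_right h _
    · have : ℓ ∣ N := by
        rcases (Nat.Prime.dvd_mul hℓ).mp h with h | h
        · rcases (Nat.Prime.dvd_mul hℓ).mp h with h | h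
          · exact h.trans hu
          · exact h.trans hv
        · exact h.trans hw
      exact Dvd.dvd.mul_left this _
  · exact Dvd.dvd.mul_left ((hℓ.dvd_of_dvd_pow h).trans hcJ) _

/-- (KM) with the conjugacy of involutions as a hypothesis -/
theorem klein_data_of_inv [IsSimpleGroup G] (hperf : commutator G = ⊤) (p q a b : ℕ)
    (hp : p.Prime) (hq : q.Prime) (hp2 : p ≠ 2) (hq2 : q ≠ 2)
    (hcard : Nat.card G = 4 * p ^ a * q ^ b)
    (hinv : ∀ P : Sylow 2 G, IsKleinFour (P : Subgroup G) →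
      ∀ s t : G, orderOf s = 2 → orderOf t = 2 → IsConj s t) :
    ∃ (ζ₂ ζ₃ ζ₄ : IrrCharacter G) (ε : ℤ), (ε = 1 ∨ ε = -1) ∧
      2 ≤ charDegree (ζ₂ : G → ℂ) ∧ 2 ≤ charDegree (ζ₃ : G → ℂ) ∧
      2 ≤ charDegree (ζ₄ : G → ℂ) ∧
      (4 : ℤ) ∣ (charDegree (ζ₂ : G → ℂ) : ℤ) - 1 ∧
      (4 : ℤ) ∣ (charDegree (ζ₃ : G → ℂ) : ℤ) - ε ∧
      (4 : ℤ) ∣ (charDegree (ζ₄ : G → ℂ) : ℤ) + 1 ∧
      1 + (charDegree (ζ₂ : G → ℂ) : ℤ) + ε * (charDegree (ζ₃ : G → ℂ) : ℤ)
        - (charDegree (ζ₄ : G → ℂ) : ℤ) = 0 ∧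
      ∀ ℓ : ℕ, ℓ.Prime →
        (ℓ : ℤ) ∣ ((charDegree (ζ₂ : G → ℂ) : ℤ) + 1) * ((charDegree (ζ₃ : G → ℂ) : ℤ) + ε) *
          ((charDegree (ζ₄ : G → ℂ) : ℤ) + -1) → ℓ = 2 ∨ ℓ = p ∨ ℓ = q := by
  classical
  obtain ⟨M, hM⟩ := Helper74.exists_isPModular 2 Nat.prime_two
  have hodd : Odd (p ^ a * q ^ b) := (hp.odd_of_ne_two hp2).pow.mul (hq.odd_of_ne_two hq2).pow
  have hcard' : Nat.card G = 4 * (p ^ a * q ^ b) := by rw [hcard, mul_assoc]
  have hnc : ¬ IsMulCommutative G := not_comm_of_perfect hperf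
  have h2 : Even (Nat.card G) := by rw [hcard']; exact ⟨2 * (p ^ a * q ^ b), by ring⟩
  have h8 : ¬ 8 ∣ Nat.card G := by
    rw [hcard']
    intro h
    have h2' : 2 ∣ p ^ a * q ^ b := by omega
    exact (Nat.not_even_iff_odd.mpr hodd) (even_iff_two_dvd.mpr h2')
  let P : Sylow 2 G := default
  have hP : IsKleinFour (P : Subgroup G) := (S0992.result hnc h2 h8 P).1
  have hone := hinv P hP
  obtain ⟨ζ₂, ζ₃, ζ₄, ε, hε, hζ₂, hζ₃, h23, h24, h34, hB, hval, h4u, h4v, h4w, hrel⟩ :=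
    S0948.result M hM P hP hone
  obtain ⟨J, hJP, hJ2⟩ := exists_invol_of_kleinFour (P : Subgroup G) hP
  have hζ₄ : (ζ₄ : G → ℂ) ≠ fun _ => 1 := by
    intro h
    have := (hval J hJ2).2.2
    rw [h] at this
    norm_num at this
  have hc2 := Helper74.charDegree_cast (Helper74.isCharacter_of_isIrr ζ₂.2)
  have hc3 := Helper74.charDegree_cast (Helper74.isCharacter_of_isIrr ζ₃.2)
  have hc4 := Helper74.charDegree_cast (Helper74.isCharacter_of_isIrr ζ₄.2)
  refine ⟨ζ₂, ζ₃, ζ₄, ε, hε, two_le_degree_of_perfect hperf ζ₂ hζ₂,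
    two_le_degree_of_perfect hperf ζ₃ hζ₃, two_le_degree_of_perfect hperf ζ₄ hζ₄, h4u, h4v, h4w,
    ?_, ?_⟩
  · have h1 := hrel 1 (by rw [orderOf_one]; exact odd_one)
    rw [← hc2, ← hc3, ← hc4] at h1
    exact_mod_cast h1
  · intro ℓ hℓ hdvd
    have hnorm : ¬ ∃ N : Subgroup G, N.Normal ∧ Nat.card N = p ^ a * q ^ b := by
      rintro ⟨N, hN, hNc⟩
      rcases hN.eq_bot_or_eq_top with h | h
      · rw [h, Subgroup.card_bot] at hNc
        rw [← hNc] at hcard'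
        have : Fact (Nat.Prime 2) := ⟨Nat.prime_two⟩
        exact hnc (IsPGroup.isMulCommutative_of_card_eq_prime_sq (p := 2) (G := G)
          (by rw [hcard']; norm_num))
      · rw [h, Subgroup.card_top, hcard'] at hNc
        have : p ^ a * q ^ b = 0 := by omega
        rw [this] at hodd
        exact absurd hodd (by decide)
    have hform := S4479.result M hM (p ^ a * q ^ b) hodd hcard' hnorm P J hJP hJ2 ζ₂ ζ₃ ζ₄ 1 ε (-1)
      hB ⟨hζ₂, hζ₃, hζ₄, h23, h24, h34⟩ ⟨Or.inl rfl, hε, Or.inr rfl⟩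
      ⟨by simpa using (hval J hJ2).1, (hval J hJ2).2.1, by simpa using (hval J hJ2).2.2⟩
    have hNpos : 0 < Nat.card G := Nat.card_pos
    have h8N := prime_of_formula (Nat.card G) _ _ _ _ _ ε hNpos
      (Helper74.charDegree_dvd_card ζ₂) (Helper74.charDegree_dvd_card ζ₃)
      (Helper74.charDegree_dvd_card ζ₄) (Subgroup.card_subgroup_dvd_card _) hform ℓ hℓ hdvd
    rcases (Nat.Prime.dvd_mul hℓ).mp h8N with h | h
    · left
      have h4 : ℓ ∣ 2 ^ 3 := by norm_num; exact h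
      exact (Nat.prime_dvd_prime_iff_eq hℓ Nat.prime_two).mp (hℓ.dvd_of_dvd_pow h4)
    · rw [hcard] at h
      exact prime_cases_of_dvd p q a b ℓ hp hq hℓ h

end chars

end Cfsg.Agent.Helper50.K4
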