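import Cfsg.Agent.Helper77.KW.Defs
import Cfsg.Agent.Helper16.PrincipalNorm
import Cfsg.Agent.Helper16.Height
import Cfsg.Agent.Helper16.Contribution3

/-!
# S4588 (helper77), piece (T1): power form of the numbers `⟨cut g, χ(y^γ ·)⟩`
-/

set_option autoImplicit false
set_option linter.unusedSectionVars false

namespace Cfsg.Agent.Helper50.KW

open Cfsg
open scoped ComplexConjugate
open Cfsg.Agent.S4426 (cut)

universe u

section T

variable {G : Type u} [Group G] [Fintype G]

/-- (T1) power form of the numbers `⟨cut g, χ(y^γ ·)⟩` -/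
theorem exists_pow_form_test (p : ℕ) [Fact p.Prime] (H : Subgroup G) [Fintype H] (yH : H)
    (hyc : yH ∈ Subgroup.center H) (n : ℕ) (hy : yH ^ (p ^ n) = 1) (g : H → ℂ)
    (hint : ∀ ξ : IrrCharacter H, ∃ m : ℤ, classInner (cut p 1 g) (ξ : H → ℂ) = (m : ℂ))
    (χ : IrrCharacter G) :
    ∃ (A : IrrCharacter H → ℤ) (μ : IrrCharacter H → ℂ), (∀ ξ, μ ξ ^ (p ^ n) = 1) ∧
      ∀ γ : ℕ, classInner (cut p 1 g)
          (fun c : H => (χ : G → ℂ) ((yH : G) ^ γ * (c : G))) = ∑ ξ, (A ξ : ℂ) * μ ξ ^ γ := by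
  classical
  choose lam hlam1 hlam using fun θ : IrrCharacter H => Helper16.irr_central_mul_norm θ hyc
  have hlamN : ∀ θ : IrrCharacter H, lam θ ^ (p ^ n) = 1 := fun θ =>
    Helper16.central_scalar_pow_eq_one θ yH (lam θ) (hlam θ) hy
  have hnat : ∀ θ : IrrCharacter H, ∃ m : ℕ,
      classInner (fun c : H => (χ : G → ℂ) (c : G)) (θ : H → ℂ) = (m : ℂ) := fun θ =>
    Helper15.isCharacter_inner_nat (Helper74.isCharacter_restrict H (Helper74.irr_isCharacter χ))
      (Helper74.irr_isCharacter θ)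
  choose aa haa using hnat
  choose mm hmm using hint
  have hexp : ∀ γ : ℕ, (fun c : H => (χ : G → ℂ) ((yH : G) ^ γ * (c : G))) =
      ∑ θ : IrrCharacter H, (lam θ ^ γ * (aa θ : ℂ)) • (θ : H → ℂ) := by
    intro γ
    have h0 := Helper16.restrict_expansion H χ aa haa
    funext c
    have h1 := congrFun h0 (yH ^ γ * c)
    simp only [Subgroup.coe_mul, SubmonoidClass.coe_pow, Finset.sum_apply, Pi.smul_apply,
      smul_eq_mul] at h1 ⊢
    rw [h1]
    refine Finset.sum_congr rfl (fun θ _ => ?_)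
    rw [Helper16.irr_central_pow_mul θ yH (lam θ) (hlam θ) γ c]
    ring
  refine ⟨fun θ => (aa θ : ℤ) * mm θ, fun θ => conj (lam θ), ?_, ?_⟩
  · intro θ
    rw [← map_pow, hlamN, map_one]
  · intro γ
    rw [hexp γ, Helper79.classInner_sum_right]
    refine Finset.sum_congr rfl (fun θ _ => ?_)
    rw [Helper79.classInner_smul_right, hmm θ, map_mul, map_pow, Complex.conj_natCast]
    push_cast
    ring

end T

end Cfsg.Agent.Helper50.KW
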