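import Cfsg.Agent.Helper77.KW.Defs
import Cfsg.Agent.Helper16.PrincipalNorm
import Cfsg.Agent.Helper16.Height
import Cfsg.Agent.Helper16.Contribution4

/-!
# S4588 (helper77), piece (T2a): Parseval on the section of `y^γ`, general subgroup form
-/

set_option autoImplicit false
set_option linter.unusedSectionVars false

namespace Cfsg.Agent.Helper50.KW

open Cfsg
open scoped ComplexConjugate
open Cfsg.Agent.S4426 (cut)

universe u

section T

variable {G : Type u} [Group G] [Fintype G]

/-- (T2a) Parseval on the section of `y^γ`, general subgroup form -/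
theorem section_parseval_pow (p : ℕ) [Fact p.Prime] (H : Subgroup G) [Fintype H] (yH : H)
    (hHy : H = Subgroup.centralizer ({(yH : G)} : Set G)) (n : ℕ)
    (hy : orderOf (yH : G) = p ^ n) (γ : ℕ) (hγ : Nat.Coprime (p ^ n) γ) (f : H → ℂ)
    {g : H → ℂ} (hg : IsClassFunction H g) :
    ∑ ψ : IrrCharacter G,
      classInner (cut p 1 f) (fun c : H => (ψ : G → ℂ) ((yH : G) ^ γ * (c : G))) *
      conj (classInner (cut p 1 g) (fun c : H => (ψ : G → ℂ) ((yH : G) ^ γ * (c : G)))) =
    classInner (cut p 1 f) g := by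
  have hpr : p.Prime := Fact.out
  have hcop : Nat.Coprime γ (orderOf (yH : G)) := by rw [hy]; exact hγ.symm
  have hH' : H = Subgroup.centralizer ({(yH : G) ^ γ} : Set G) := by
    rw [← Helper16.centralizer_pow_eq_of_coprime (yH : G) hcop]; exact hHy
  have hx : ∃ k : ℕ, orderOf ((yH : G) ^ γ) = p ^ k :=
    Helper16.exists_orderOf_pow_eq_prime_pow hpr (yH : G) hy γ
  generalize (yH : G) ^ γ = x at hH' hx ⊢
  clear hcop hy hHy
  subst hH'
  exact Helper16.section_parseval x hx f hg

end T

end Cfsg.Agent.Helper50.KW
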