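import Cfsg.Agent.Helper50.KWT1
import Cfsg.Agent.Helper50.KWT2a
import Cfsg.Agent.Helper16.CycloIneq

/-!
# S4588 (helper77), piece (T2b): the counting theorem
-/

set_option autoImplicit false
set_option linter.unusedSectionVars false

namespace Cfsg.Agent.Helper50.KW

open Cfsg
open scoped ComplexConjugate
open Cfsg.Agent.S4426 (cut)

universe u

section T

variable {G : Type u} [Group G] [Fintype G]

/-- (T2b) **the counting theorem**: characters detected by two of the test functions -/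
theorem card_le_of_tests (p : ℕ) [Fact p.Prime] (H : Subgroup G) [Fintype H] (yH : H)
    (hyc : yH ∈ Subgroup.center H) (hHy : H = Subgroup.centralizer ({(yH : G)} : Set G))
    (n : ℕ) (hy : orderOf (yH : G) = p ^ n) {ι : Type} [Fintype ι] (g : ι → H → ℂ)
    (hcl : ∀ j, IsClassFunction H (g j))
    (hint : ∀ j (ξ : IrrCharacter H), ∃ m : ℤ, classInner (cut p 1 (g j)) (ξ : H → ℂ) = (m : ℂ))
    (N0 : ℕ) (hnorm : ∑ j, classInner (cut p 1 (g j)) (g j) = ((2 * N0 : ℕ) : ℂ))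
    (S : Finset (IrrCharacter G))
    (hS : ∀ χ ∈ S, ∃ j₁ j₂ : ι, j₁ ≠ j₂ ∧
      classInner (cut p 1 (g j₁)) (fun c : H => (χ : G → ℂ) ((yH : G) * (c : G))) ≠ 0 ∧
      classInner (cut p 1 (g j₂)) (fun c : H => (χ : G → ℂ) ((yH : G) * (c : G))) ≠ 0) :
    S.card ≤ N0 := by
  classical
  have hpr : p.Prime := Fact.out
  set Γ := (Finset.range (p ^ n)).filter (fun γ => Nat.Coprime (p ^ n) γ) with hΓ
  have hΓcard : Γ.card = (p ^ n).totient := (Nat.totient_eq_card_coprime (p ^ n)).symm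
  have hφpos : (0 : ℝ) < ((p ^ n).totient : ℝ) := by
    exact_mod_cast Nat.totient_pos.mpr (pow_pos hpr.pos n)
  have hyHpow : yH ^ (p ^ n) = 1 := by
    apply Subtype.ext
    rw [SubmonoidClass.coe_pow, ← hy, pow_orderOf_eq_one]
    rfl
  set a : ι → IrrCharacter G → ℕ → ℂ := fun j χ γ =>
    classInner (cut p 1 (g j)) (fun c : H => (χ : G → ℂ) ((yH : G) ^ γ * (c : G))) with ha
  -- the total norm
  have htot : ∀ γ ∈ Γ, ∑ j, ∑ χ : IrrCharacter G, Complex.normSq (a j χ γ) =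
      ((2 * N0 : ℕ) : ℝ) := by
    intro γ hγ
    have hγ' : Nat.Coprime (p ^ n) γ := (Finset.mem_filter.mp hγ).2
    have h1 : ∀ j, ((∑ χ : IrrCharacter G, Complex.normSq (a j χ γ) : ℝ) : ℂ) =
        classInner (cut p 1 (g j)) (g j) := by
      intro j
      rw [← section_parseval_pow p H yH hHy n hy γ hγ' (g j) (hcl j)]
      push_cast
      refine Finset.sum_congr rfl (fun χ _ => ?_)
      rw [Complex.mul_conj]
    have h2 : ((∑ j, ∑ χ : IrrCharacter G, Complex.normSq (a j χ γ) : ℝ) : ℂ) =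
        ((2 * N0 : ℕ) : ℂ) := by
      rw [← hnorm, Complex.ofReal_sum]
      exact Finset.sum_congr rfl (fun j _ => h1 j)
    have h3 : ((∑ j, ∑ χ : IrrCharacter G, Complex.normSq (a j χ γ) : ℝ) : ℂ) =
        (((2 * N0 : ℕ) : ℝ) : ℂ) := by
      rw [h2]; push_cast; rfl
    exact Complex.ofReal_injective h3
  -- the lower bound for the members of `S`
  have hlow : ∀ χ ∈ S, 2 * ((p ^ n).totient : ℝ) ≤
      ∑ j, ∑ γ ∈ Γ, Complex.normSq (a j χ γ) := by
    intro χ hχ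
    obtain ⟨j₁, j₂, hne, h1, h2⟩ := hS χ hχ
    have hj : ∀ j, classInner (cut p 1 (g j))
        (fun c : H => (χ : G → ℂ) ((yH : G) * (c : G))) ≠ 0 →
        ((p ^ n).totient : ℝ) ≤ ∑ γ ∈ Γ, Complex.normSq (a j χ γ) := by
      intro j hj0
      obtain ⟨A, μ, hμ, hform⟩ := exists_pow_form_test p H yH hyc n hyHpow (g j) (hint j) χ
      have h1' : ∑ i ∈ Finset.univ, (A i : ℂ) * μ i ≠ 0 := by
        have := hform 1
        simp only [pow_one] at this
        rw [← this]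
        exact hj0
      have := Helper16.sum_normSq_ge_totient hpr n Finset.univ A μ (fun i _ => hμ i) h1'
      refine this.trans (le_of_eq ?_)
      refine Finset.sum_congr rfl (fun γ _ => ?_)
      rw [ha]
      simp only
      rw [hform γ]
    calc 2 * ((p ^ n).totient : ℝ) = ((p ^ n).totient : ℝ) + ((p ^ n).totient : ℝ) := by ring
      _ ≤ ∑ γ ∈ Γ, Complex.normSq (a j₁ χ γ) + ∑ γ ∈ Γ, Complex.normSq (a j₂ χ γ) :=
          add_le_add (hj j₁ h1) (hj j₂ h2)
      _ = ∑ j ∈ ({j₁, j₂} : Finset ι), ∑ γ ∈ Γ, Complex.normSq (a j χ γ) := by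
          rw [Finset.sum_pair hne]
      _ ≤ ∑ j, ∑ γ ∈ Γ, Complex.normSq (a j χ γ) :=
          Finset.sum_le_sum_of_subset_of_nonneg (Finset.subset_univ _)
            (fun j _ _ => Finset.sum_nonneg (fun γ _ => Complex.normSq_nonneg _))
  -- combine
  have hmain : (S.card : ℝ) * (2 * ((p ^ n).totient : ℝ)) ≤
      ((p ^ n).totient : ℝ) * ((2 * N0 : ℕ) : ℝ) := by
    calc (S.card : ℝ) * (2 * ((p ^ n).totient : ℝ))
        = ∑ _χ ∈ S, 2 * ((p ^ n).totient : ℝ) := by rw [Finset.sum_const, nsmul_eq_mul]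
      _ ≤ ∑ χ ∈ S, ∑ j, ∑ γ ∈ Γ, Complex.normSq (a j χ γ) := Finset.sum_le_sum hlow
      _ ≤ ∑ χ : IrrCharacter G, ∑ j, ∑ γ ∈ Γ, Complex.normSq (a j χ γ) :=
          Finset.sum_le_sum_of_subset_of_nonneg (Finset.subset_univ _)
            (fun χ _ _ => Finset.sum_nonneg (fun j _ =>
              Finset.sum_nonneg (fun γ _ => Complex.normSq_nonneg _)))
      _ = ∑ j, ∑ χ : IrrCharacter G, ∑ γ ∈ Γ, Complex.normSq (a j χ γ) := Finset.sum_comm
      _ = ∑ j, ∑ γ ∈ Γ, ∑ χ : IrrCharacter G, Complex.normSq (a j χ γ) :=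
          Finset.sum_congr rfl (fun j _ => Finset.sum_comm)
      _ = ∑ γ ∈ Γ, ∑ j, ∑ χ : IrrCharacter G, Complex.normSq (a j χ γ) := Finset.sum_comm
      _ = ∑ _γ ∈ Γ, ((2 * N0 : ℕ) : ℝ) := Finset.sum_congr rfl htot
      _ = ((p ^ n).totient : ℝ) * ((2 * N0 : ℕ) : ℝ) := by
          rw [Finset.sum_const, hΓcard, nsmul_eq_mul]
  have h5 : (S.card : ℝ) * (2 * ((p ^ n).totient : ℝ)) ≤
      (N0 : ℝ) * (2 * ((p ^ n).totient : ℝ)) := by
    refine hmain.trans (le_of_eq ?_)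
    push_cast
    ring
  have h6 : (S.card : ℝ) ≤ (N0 : ℝ) :=
    le_of_mul_le_mul_right h5 (by positivity)
  exact_mod_cast h6

end T

end Cfsg.Agent.Helper50.KW
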