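import Cfsg.Agent.Helper96.L34.Pres
import Cfsg.Agent.Helper28.CosetCox
import Cfsg.Agent.Helper27.GF4
import Cfsg.Agent.Helper5.SLn

/-! (T1) piece for helper96's S2088: the presented group `PE` maps onto `PSL₃(4)` with the central
generators `a, b` in the kernel. -/

set_option autoImplicit false
set_option maxRecDepth 100000
set_option linter.unusedSimpArgs false

namespace Cfsg.Agent.Helper50.L34

open Cfsg.Agent.Helper27 Cfsg.Agent.Helper28 Cfsg.Agent.Helper96.L34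

/-- `3 × 3` matrices over `GF4` -/
abbrev M3 : Type := Matrix (Fin 3) (Fin 3) GF4

/-- `SL₃(4)` -/
abbrev SL3 : Type := Matrix.SpecialLinearGroup (Fin 3) GF4

/-- `PSL₃(4)` -/
abbrev PSL3 : Type := Matrix.ProjectiveSpecialLinearGroup (Fin 3) GF4

/-- explicit matrix -/
def Xm : M3 :=
  !![GF4.o, GF4.z, GF4.z; GF4.z, GF4.z, GF4.o; GF4.z, GF4.o, GF4.w]

/-- explicit matrix -/
def Pm : M3 :=
  !![GF4.o, GF4.o, GF4.z; GF4.z, GF4.w, GF4.o; GF4.z, GF4.o, GF4.z]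

/-- explicit matrix -/
def Wm : M3 :=
  !![GF4.z, GF4.z, GF4.o; GF4.o, GF4.z, GF4.o; GF4.z, GF4.o, GF4.z]

/-- explicit matrix -/
def Xi : M3 :=
  !![GF4.o, GF4.z, GF4.z; GF4.z, GF4.w, GF4.o; GF4.z, GF4.o, GF4.z]

/-- explicit matrix -/
def Pi : M3 :=
  !![GF4.o, GF4.z, GF4.o; GF4.z, GF4.z, GF4.o; GF4.z, GF4.o, GF4.w]

/-- explicit matrix -/
def Wi : M3 :=
  !![GF4.o, GF4.o, GF4.z; GF4.z, GF4.z, GF4.o; GF4.o, GF4.z, GF4.z]

theorem Xm_inv : Xm * Xi = 1 := by decide +kernel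
theorem Pm_inv : Pm * Pi = 1 := by decide +kernel
theorem Wm_inv : Wm * Wi = 1 := by decide +kernel

theorem Xm_det : Xm.det = 1 := by
  rw [Matrix.det_fin_three]
  decide +kernel

theorem Pm_det : Pm.det = 1 := by
  rw [Matrix.det_fin_three]
  decide +kernel

theorem Wm_det : Wm.det = 1 := by
  rw [Matrix.det_fin_three]
  decide +kernel

theorem mr1 : Xm * Xm * Xm * Xm * Xm = 1 := by decide +kernel

theorem mr2 : Pm * Pm * Pm * Pm * Pm = 1 := by decide +kernel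

theorem mr3 : Wm * Wm * Wm * Wm * Wm * Wm * Wm = 1 := by decide +kernel

theorem mr4 : Pm * Xi * Pm * Xi * Pm * Xm * Pi * Xm * Pi * Xm = 1 := by decide +kernel

theorem mr5 : Pi * Xi * Xi * Pm * Xi * Pm * Xm * Pi * Xm * Xm * Pm * Xm = 1 := by decide +kernel

theorem mr6 : Pm * Xi * Pm * Xi * Pm * Pm * Xm * Pi * Xm * Pi * Xm * Xm = 1 := by decide +kernel

theorem mr7 : Pi * Xm * Pi * Xm * Pm * Pm * Xi * Pm * Xi * Pm * Xm * Xm = 1 := by decide +kernel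

theorem mr8 : Xm * Pm * Pm * Xi * Pm * Xm * Pi * Xm * Pi * Pi * Xi * Pm = 1 := by decide +kernel

theorem mr9 : Xi * Wi * Xm * Pi * Pi * Xm * Wm * Xi * Pm * Pm * Xi * Wm * Xm * Wi * Wi = 1 := by decide +kernel

theorem mr10 : Wm * Pm * Xi * Xi * Pm * Xi * Wi * Xm * Wm * Xm * Pi * Xm * Xm * Pi * Wi * Xm = 1 := by decide +kernel

theorem mr11 : Wm * Pm * Xm * Xm * Wm * Pm * Xi * Pm * Xm * Pi * Wi * Xi * Xi * Pi * Wi * Xi = 1 := by decide +kernel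

theorem mr12 : Xi * Pm * Wi * Xi * Xi * Pi * Wi * Pm * Wm * Pm * Xm * Xm * Wm * Pi * Xm * Pm = 1 := by decide +kernel

theorem mr13 : Wi * Pi * Xi * Wm * Pm * Xm * Wi * Xm * Wm * Xi * Pi * Wi * Xm * Pm * Wm * Xm = 1 := by decide +kernel

theorem mr14 : Wi * Pi * Xi * Wm * Pm * Xm * Wi * Pm * Wm * Xi * Pi * Wi * Xm * Pm * Wm * Pm = 1 := by decide +kernel

theorem mr15 : Pi * Xm * Wm * Xi * Pi * Xm * Wm * Xm * Wi * Xi * Pm * Xm * Wi * Xi * Pm * Xm = 1 := by decide +kernel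

theorem mr16 : Xm * Pi * Wm * Xi * Pi * Xm * Wm * Pm * Wi * Xi * Pm * Xm * Wi * Pm * Xi * Pm = 1 := by decide +kernel

theorem mr17 : Xm * Wm * Wm * Pi * Xm * Wm * Wm * Xm * Wi * Wi * Xi * Pm * Wi * Wi * Xi * Pi = 1 := by decide +kernel

theorem mr18 : Wm * Wm * Pi * Xm * Wm * Wm * Xi * Pm * Xm * Wi * Wi * Xi * Pm * Wi * Wi * Xi = 1 := by decide +kernel

theorem mr19 : Xm * Wm * Xm * Xm * Pi * Pi * Xm * Wm * Xi * Pm * Pm * Xi * Xi * Wi * Xi * Wi * Wi = 1 := by decide +kernel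

theorem mr20 : Xm * Xm * Pi * Pi * Xm * Wi * Xi * Wm * Wm * Xm * Wm * Xi * Pm * Pm * Xi * Xi * Wi = 1 := by decide +kernel

theorem mr21 : Wi * Pi * Xi * Wm * Pm * Xm * Wi * Pm * Pm * Wm * Xi * Pi * Wi * Xm * Pm * Wm * Pm * Pm = 1 := by decide +kernel

theorem mr22 : Xm * Pi * Pi * Wm * Wm * Wm * Pm * Wm * Pi * Wi = Matrix.diagonal fun _ => GF4.w := by decide +kernel

theorem mr23 : Xm * Wm * Xm * Wm * Xm * Wm = 1 := by decide +kernel

theorem mt01_1 : Xm * Pm = 1 + Matrix.single 0 1 GF4.o := by decide +kernel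

theorem mt01_2 : Xm * Pi * Xm * Xm * Pi = 1 + Matrix.single 0 1 GF4.w := by decide +kernel

theorem mt01_3 : Xm * Xm * Pi * Pi * Xm = 1 + Matrix.single 0 1 GF4.w2 := by decide +kernel

theorem mt02_1 : Xi * Pi = 1 + Matrix.single 0 2 GF4.o := by decide +kernel

theorem mt02_2 : Xm * Pi * Pi * Xm * Pi = 1 + Matrix.single 0 2 GF4.w := by decide +kernel

theorem mt02_3 : Xm * Pi * Pi * Xm * Xm = 1 + Matrix.single 0 2 GF4.w2 := by decide +kernel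

theorem mt10_1 : Wm * Xi * Pi * Wi = 1 + Matrix.single 1 0 GF4.o := by decide +kernel

theorem mt10_2 : Pm * Wm * Pm * Wm = 1 + Matrix.single 1 0 GF4.w := by decide +kernel

theorem mt10_3 : Wm * Xm * Pi * Pi * Xm * Xm * Wi = 1 + Matrix.single 1 0 GF4.w2 := by decide +kernel

theorem mt12_1 : Wm * Xm * Pm * Wi = 1 + Matrix.single 1 2 GF4.o := by decide +kernel

theorem mt12_2 : Wm * Xm * Pi * Xm * Xm * Pi * Wi = 1 + Matrix.single 1 2 GF4.w := by decide +kernel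

theorem mt12_3 : Wm * Xm * Xm * Pi * Pi * Xm * Wi = 1 + Matrix.single 1 2 GF4.w2 := by decide +kernel

theorem mt20_1 : Xm * Wm * Xi * Pi * Wi * Xi = 1 + Matrix.single 2 0 GF4.o := by decide +kernel

theorem mt20_2 : Xm * Pm * Wm * Pm * Wm * Xi = 1 + Matrix.single 2 0 GF4.w := by decide +kernel

theorem mt20_3 : Xi * Pm * Wm * Xi * Wi * Pi = 1 + Matrix.single 2 0 GF4.w2 := by decide +kernel

theorem mt21_1 : Xm * Pm * Wi * Xi * Pi * Wm = 1 + Matrix.single 2 1 GF4.o := by decide +kernel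

theorem mt21_2 : Xm * Wm * Xi * Pi * Wi * Xm * Pm * Wm = 1 + Matrix.single 2 1 GF4.w := by decide +kernel

theorem mt21_3 : Xi * Pi * Pi * Wm * Xi * Pi * Pi * Wm = 1 + Matrix.single 2 1 GF4.w2 := by decide +kernel


/-- the underlying matrix -/
def cm (g : SL3) : M3 := (g : M3)

theorem cm_mul (g g' : SL3) : cm (g * g') = cm g * cm g' := by
  unfold cm
  rw [Matrix.SpecialLinearGroup.coe_mul]

theorem cm_one : cm 1 = 1 := by
  unfold cm
  rw [Matrix.SpecialLinearGroup.coe_one]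

theorem cm_injective : Function.Injective cm := by
  intro g g' h
  apply Subtype.ext
  exact h

theorem cm_inv (g : SL3) (A B : M3) (hA : cm g = A) (hAB : A * B = 1) : cm g⁻¹ = B := by
  have h1 : cm g⁻¹ * A = 1 := by rw [← hA, ← cm_mul, inv_mul_cancel, cm_one]
  calc cm g⁻¹ = cm g⁻¹ * (A * B) := by rw [hAB, mul_one]
    _ = (cm g⁻¹ * A) * B := by rw [mul_assoc]
    _ = B := by rw [h1, one_mul]

/-- the image of `x` in `SL₃(4)` -/
def gx : SL3 := ⟨Xm, Xm_det⟩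
/-- the image of `p` in `SL₃(4)` -/
def gp : SL3 := ⟨Pm, Pm_det⟩
/-- the image of `w` in `SL₃(4)` -/
def gw : SL3 := ⟨Wm, Wm_det⟩

theorem cm_gx : cm gx = Xm := rfl
theorem cm_gp : cm gp = Pm := rfl
theorem cm_gw : cm gw = Wm := rfl
theorem cm_gxi : cm gx⁻¹ = Xi := cm_inv gx Xm Xi cm_gx Xm_inv
theorem cm_gpi : cm gp⁻¹ = Pi := cm_inv gp Pm Pi cm_gp Pm_inv
theorem cm_gwi : cm gw⁻¹ = Wi := cm_inv gw Wm Wi cm_gw Wm_inv

theorem mk_eq_one_of_one (g : SL3) (h : cm g = 1) : (QuotientGroup.mk g : PSL3) = 1 := by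
  have : g = 1 := cm_injective (by rw [h, cm_one])
  rw [this]
  rfl

theorem mk_eq_one_of_scalar (g : SL3) (c : GF4) (hc : c ^ 3 = 1)
    (h : cm g = Matrix.diagonal fun _ => c) : (QuotientGroup.mk g : PSL3) = 1 := by
  rw [QuotientGroup.eq_one_iff, Matrix.SpecialLinearGroup.mem_center_iff]
  refine ⟨c, ?_, ?_⟩
  · rw [Fintype.card_fin]; exact hc
  · rw [Matrix.scalar_apply]; exact h.symm

theorem gr1 : (QuotientGroup.mk (gx * gx * gx * gx * gx) : PSL3) = 1 := by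
  apply mk_eq_one_of_one
  simp only [cm_mul, cm_gx, cm_gp, cm_gw, cm_gxi, cm_gpi, cm_gwi]
  exact mr1

theorem gr2 : (QuotientGroup.mk (gp * gp * gp * gp * gp) : PSL3) = 1 := by
  apply mk_eq_one_of_one
  simp only [cm_mul, cm_gx, cm_gp, cm_gw, cm_gxi, cm_gpi, cm_gwi]
  exact mr2

theorem gr3 : (QuotientGroup.mk (gw * gw * gw * gw * gw * gw * gw) : PSL3) = 1 := by
  apply mk_eq_one_of_one
  simp only [cm_mul, cm_gx, cm_gp, cm_gw, cm_gxi, cm_gpi, cm_gwi]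
  exact mr3

theorem gr4 : (QuotientGroup.mk (gp * gx⁻¹ * gp * gx⁻¹ * gp * gx * gp⁻¹ * gx * gp⁻¹ * gx) : PSL3) = 1 := by
  apply mk_eq_one_of_one
  simp only [cm_mul, cm_gx, cm_gp, cm_gw, cm_gxi, cm_gpi, cm_gwi]
  exact mr4

theorem gr5 : (QuotientGroup.mk (gp⁻¹ * gx⁻¹ * gx⁻¹ * gp * gx⁻¹ * gp * gx * gp⁻¹ * gx * gx * gp * gx) : PSL3) = 1 := by
  apply mk_eq_one_of_one
  simp only [cm_mul, cm_gx, cm_gp, cm_gw, cm_gxi, cm_gpi, cm_gwi]
  exact mr5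

theorem gr6 : (QuotientGroup.mk (gp * gx⁻¹ * gp * gx⁻¹ * gp * gp * gx * gp⁻¹ * gx * gp⁻¹ * gx * gx) : PSL3) = 1 := by
  apply mk_eq_one_of_one
  simp only [cm_mul, cm_gx, cm_gp, cm_gw, cm_gxi, cm_gpi, cm_gwi]
  exact mr6

theorem gr7 : (QuotientGroup.mk (gp⁻¹ * gx * gp⁻¹ * gx * gp * gp * gx⁻¹ * gp * gx⁻¹ * gp * gx * gx) : PSL3) = 1 := by
  apply mk_eq_one_of_one
  simp only [cm_mul, cm_gx, cm_gp, cm_gw, cm_gxi, cm_gpi, cm_gwi]
  exact mr7

theorem gr8 : (QuotientGroup.mk (gx * gp * gp * gx⁻¹ * gp * gx * gp⁻¹ * gx * gp⁻¹ * gp⁻¹ * gx⁻¹ * gp) : PSL3) = 1 := by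
  apply mk_eq_one_of_one
  simp only [cm_mul, cm_gx, cm_gp, cm_gw, cm_gxi, cm_gpi, cm_gwi]
  exact mr8

theorem gr9 : (QuotientGroup.mk (gx⁻¹ * gw⁻¹ * gx * gp⁻¹ * gp⁻¹ * gx * gw * gx⁻¹ * gp * gp * gx⁻¹ * gw * gx * gw⁻¹ * gw⁻¹) : PSL3) = 1 := by
  apply mk_eq_one_of_one
  simp only [cm_mul, cm_gx, cm_gp, cm_gw, cm_gxi, cm_gpi, cm_gwi]
  exact mr9

theorem gr10 : (QuotientGroup.mk (gw * gp * gx⁻¹ * gx⁻¹ * gp * gx⁻¹ * gw⁻¹ * gx * gw * gx * gp⁻¹ * gx * gx * gp⁻¹ * gw⁻¹ * gx) : PSL3) = 1 := by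
  apply mk_eq_one_of_one
  simp only [cm_mul, cm_gx, cm_gp, cm_gw, cm_gxi, cm_gpi, cm_gwi]
  exact mr10

theorem gr11 : (QuotientGroup.mk (gw * gp * gx * gx * gw * gp * gx⁻¹ * gp * gx * gp⁻¹ * gw⁻¹ * gx⁻¹ * gx⁻¹ * gp⁻¹ * gw⁻¹ * gx⁻¹) : PSL3) = 1 := by
  apply mk_eq_one_of_one
  simp only [cm_mul, cm_gx, cm_gp, cm_gw, cm_gxi, cm_gpi, cm_gwi]
  exact mr11

theorem gr12 : (QuotientGroup.mk (gx⁻¹ * gp * gw⁻¹ * gx⁻¹ * gx⁻¹ * gp⁻¹ * gw⁻¹ * gp * gw * gp * gx * gx * gw * gp⁻¹ * gx * gp) : PSL3) = 1 := by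
  apply mk_eq_one_of_one
  simp only [cm_mul, cm_gx, cm_gp, cm_gw, cm_gxi, cm_gpi, cm_gwi]
  exact mr12

theorem gr13 : (QuotientGroup.mk (gw⁻¹ * gp⁻¹ * gx⁻¹ * gw * gp * gx * gw⁻¹ * gx * gw * gx⁻¹ * gp⁻¹ * gw⁻¹ * gx * gp * gw * gx) : PSL3) = 1 := by
  apply mk_eq_one_of_one
  simp only [cm_mul, cm_gx, cm_gp, cm_gw, cm_gxi, cm_gpi, cm_gwi]
  exact mr13

theorem gr14 : (QuotientGroup.mk (gw⁻¹ * gp⁻¹ * gx⁻¹ * gw * gp * gx * gw⁻¹ * gp * gw * gx⁻¹ * gp⁻¹ * gw⁻¹ * gx * gp * gw * gp) : PSL3) = 1 := by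
  apply mk_eq_one_of_one
  simp only [cm_mul, cm_gx, cm_gp, cm_gw, cm_gxi, cm_gpi, cm_gwi]
  exact mr14

theorem gr15 : (QuotientGroup.mk (gp⁻¹ * gx * gw * gx⁻¹ * gp⁻¹ * gx * gw * gx * gw⁻¹ * gx⁻¹ * gp * gx * gw⁻¹ * gx⁻¹ * gp * gx) : PSL3) = 1 := by
  apply mk_eq_one_of_one
  simp only [cm_mul, cm_gx, cm_gp, cm_gw, cm_gxi, cm_gpi, cm_gwi]
  exact mr15

theorem gr16 : (QuotientGroup.mk (gx * gp⁻¹ * gw * gx⁻¹ * gp⁻¹ * gx * gw * gp * gw⁻¹ * gx⁻¹ * gp * gx * gw⁻¹ * gp * gx⁻¹ * gp) : PSL3) = 1 := by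
  apply mk_eq_one_of_one
  simp only [cm_mul, cm_gx, cm_gp, cm_gw, cm_gxi, cm_gpi, cm_gwi]
  exact mr16

theorem gr17 : (QuotientGroup.mk (gx * gw * gw * gp⁻¹ * gx * gw * gw * gx * gw⁻¹ * gw⁻¹ * gx⁻¹ * gp * gw⁻¹ * gw⁻¹ * gx⁻¹ * gp⁻¹) : PSL3) = 1 := by
  apply mk_eq_one_of_one
  simp only [cm_mul, cm_gx, cm_gp, cm_gw, cm_gxi, cm_gpi, cm_gwi]
  exact mr17

theorem gr18 : (QuotientGroup.mk (gw * gw * gp⁻¹ * gx * gw * gw * gx⁻¹ * gp * gx * gw⁻¹ * gw⁻¹ * gx⁻¹ * gp * gw⁻¹ * gw⁻¹ * gx⁻¹) : PSL3) = 1 := by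
  apply mk_eq_one_of_one
  simp only [cm_mul, cm_gx, cm_gp, cm_gw, cm_gxi, cm_gpi, cm_gwi]
  exact mr18

theorem gr19 : (QuotientGroup.mk (gx * gw * gx * gx * gp⁻¹ * gp⁻¹ * gx * gw * gx⁻¹ * gp * gp * gx⁻¹ * gx⁻¹ * gw⁻¹ * gx⁻¹ * gw⁻¹ * gw⁻¹) : PSL3) = 1 := by
  apply mk_eq_one_of_one
  simp only [cm_mul, cm_gx, cm_gp, cm_gw, cm_gxi, cm_gpi, cm_gwi]
  exact mr19

theorem gr20 : (QuotientGroup.mk (gx * gx * gp⁻¹ * gp⁻¹ * gx * gw⁻¹ * gx⁻¹ * gw * gw * gx * gw * gx⁻¹ * gp * gp * gx⁻¹ * gx⁻¹ * gw⁻¹) : PSL3) = 1 := by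
  apply mk_eq_one_of_one
  simp only [cm_mul, cm_gx, cm_gp, cm_gw, cm_gxi, cm_gpi, cm_gwi]
  exact mr20

theorem gr21 : (QuotientGroup.mk (gw⁻¹ * gp⁻¹ * gx⁻¹ * gw * gp * gx * gw⁻¹ * gp * gp * gw * gx⁻¹ * gp⁻¹ * gw⁻¹ * gx * gp * gw * gp * gp) : PSL3) = 1 := by
  apply mk_eq_one_of_one
  simp only [cm_mul, cm_gx, cm_gp, cm_gw, cm_gxi, cm_gpi, cm_gwi]
  exact mr21

theorem gr22 : (QuotientGroup.mk (gx * gp⁻¹ * gp⁻¹ * gw * gw * gw * gp * gw * gp⁻¹ * gw⁻¹) : PSL3) = 1 := by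
  apply mk_eq_one_of_scalar _ GF4.w (by decide)
  simp only [cm_mul, cm_gx, cm_gp, cm_gw, cm_gxi, cm_gpi, cm_gwi]
  exact mr22

theorem gr23 : (QuotientGroup.mk (gx * gw * gx * gw * gx * gw) : PSL3) = 1 := by
  apply mk_eq_one_of_one
  simp only [cm_mul, cm_gx, cm_gp, cm_gw, cm_gxi, cm_gpi, cm_gwi]
  exact mr23


/-- the images of the generators in `SL₃(4)` -/
def gmap : PE.Gen → SL3
  | .x => gx
  | .p => gp
  | .w => gw
  | _ => 1

/-- the images of the generators in `PSL₃(4)` -/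
def gmapP (g : PE.Gen) : PSL3 := QuotientGroup.mk (gmap g)

theorem lift_gmapP (r : FreeGroup PE.Gen) :
    FreeGroup.lift gmapP r = (QuotientGroup.mk (FreeGroup.lift gmap r) : PSL3) := by
  have h : FreeGroup.lift gmapP =
      (QuotientGroup.mk' (Subgroup.center SL3)).comp (FreeGroup.lift gmap) := by
    apply FreeGroup.ext_hom
    intro g
    rw [FreeGroup.lift_apply_of, MonoidHom.comp_apply, FreeGroup.lift_apply_of]
    rfl
  rw [h]
  rfl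

theorem lift_gmap_x : FreeGroup.lift gmap PE.x = gx := by
  unfold PE.x; rw [FreeGroup.lift_apply_of]; rfl
theorem lift_gmap_p : FreeGroup.lift gmap PE.p = gp := by
  unfold PE.p; rw [FreeGroup.lift_apply_of]; rfl
theorem lift_gmap_w : FreeGroup.lift gmap PE.w = gw := by
  unfold PE.w; rw [FreeGroup.lift_apply_of]; rfl
theorem lift_gmap_a : FreeGroup.lift gmap PE.a = 1 := by
  unfold PE.a; rw [FreeGroup.lift_apply_of]; rfl
theorem lift_gmap_b : FreeGroup.lift gmap PE.b = 1 := by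
  unfold PE.b; rw [FreeGroup.lift_apply_of]; rfl

theorem gmapP_rels : ∀ r ∈ coxRels PE.edges PE.extra, FreeGroup.lift gmapP r = 1 := by
  intro r hr
  rw [lift_gmapP]
  rcases hr with hr | hr
  · obtain ⟨y, hy, -⟩ := hr
    simp [PE.edges, Cfsg.Spor.coxNodes] at hy
  · have hr' : r ∈ PE.extra := hr
    unfold PE.extra at hr'
    simp only [List.mem_cons, List.not_mem_nil, or_false] at hr'
    rcases hr' with rfl | rfl | rfl | rfl | rfl | rfl | rfl | rfl | rfl | rfl | rfl | rfl | rfl |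
      rfl | rfl | rfl | rfl | rfl | rfl | rfl | rfl | rfl | rfl | rfl | rfl | rfl | rfl | rfl |
      rfl | rfl <;>
    simp only [map_mul, map_inv, lift_gmap_x, lift_gmap_p, lift_gmap_w, lift_gmap_a, lift_gmap_b,
      inv_one, mul_one, one_mul, mul_inv_cancel, QuotientGroup.mk_one]
    · exact gr1
    · exact gr2
    · exact gr3
    · exact gr4
    · exact gr5
    · exact gr6
    · exact gr7
    · exact gr8
    · exact gr9
    · exact gr10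
    · exact gr11
    · exact gr12
    · exact gr13
    · exact gr14
    · exact gr15
    · exact gr16
    · exact gr17
    · exact gr18
    · exact gr19
    · exact gr20
    · exact gr21
    · exact gr22
    · exact gr23

/-- the homomorphism -/
def tau : PresentedGroup (coxRels PE.edges PE.extra) →* PSL3 := PresentedGroup.toGroup gmapP_rels

theorem tau_x : tau (PresentedGroup.of PE.Gen.x) = (QuotientGroup.mk gx : PSL3) := by
  unfold tau; rw [PresentedGroup.toGroup.of]; rfl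
theorem tau_p : tau (PresentedGroup.of PE.Gen.p) = (QuotientGroup.mk gp : PSL3) := by
  unfold tau; rw [PresentedGroup.toGroup.of]; rfl
theorem tau_w : tau (PresentedGroup.of PE.Gen.w) = (QuotientGroup.mk gw : PSL3) := by
  unfold tau; rw [PresentedGroup.toGroup.of]; rfl
theorem tau_a : tau (PresentedGroup.of PE.Gen.a) = 1 := by
  unfold tau; rw [PresentedGroup.toGroup.of]; rfl
theorem tau_b : tau (PresentedGroup.of PE.Gen.b) = 1 := by
  unfold tau; rw [PresentedGroup.toGroup.of]; rfl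

/-- the subgroup of `SL₃(4)` of elements whose image in `PSL₃(4)` lies in the range of `tau` -/
def Rsub : Subgroup SL3 := tau.range.comap (QuotientGroup.mk' (Subgroup.center SL3))

theorem gx_mem : gx ∈ Rsub := ⟨_, tau_x⟩
theorem gp_mem : gp ∈ Rsub := ⟨_, tau_p⟩
theorem gw_mem : gw ∈ Rsub := ⟨_, tau_w⟩
theorem gxi_mem : gx⁻¹ ∈ Rsub := Rsub.inv_mem gx_mem
theorem gpi_mem : gp⁻¹ ∈ Rsub := Rsub.inv_mem gp_mem
theorem gwi_mem : gw⁻¹ ∈ Rsub := Rsub.inv_mem gw_mem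

theorem tv01_1 (hij : (0 : Fin 3) ≠ 1) :
    Matrix.SpecialLinearGroup.transvection hij GF4.o ∈ Rsub := by
  have h : Matrix.SpecialLinearGroup.transvection hij GF4.o = gx * gp := by
    apply cm_injective
    simp only [cm_mul, cm_gx, cm_gp, cm_gw, cm_gxi, cm_gpi, cm_gwi]
    rw [mt01_1]
    rfl
  rw [h]
  exact (Rsub.mul_mem gx_mem gp_mem)

theorem tv01_2 (hij : (0 : Fin 3) ≠ 1) :
    Matrix.SpecialLinearGroup.transvection hij GF4.w ∈ Rsub := by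
  have h : Matrix.SpecialLinearGroup.transvection hij GF4.w = gx * gp⁻¹ * gx * gx * gp⁻¹ := by
    apply cm_injective
    simp only [cm_mul, cm_gx, cm_gp, cm_gw, cm_gxi, cm_gpi, cm_gwi]
    rw [mt01_2]
    rfl
  rw [h]
  exact (Rsub.mul_mem (Rsub.mul_mem (Rsub.mul_mem (Rsub.mul_mem gx_mem gpi_mem) gx_mem) gx_mem) gpi_mem)

theorem tv01_3 (hij : (0 : Fin 3) ≠ 1) :
    Matrix.SpecialLinearGroup.transvection hij GF4.w2 ∈ Rsub := by
  have h : Matrix.SpecialLinearGroup.transvection hij GF4.w2 = gx * gx * gp⁻¹ * gp⁻¹ * gx := by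
    apply cm_injective
    simp only [cm_mul, cm_gx, cm_gp, cm_gw, cm_gxi, cm_gpi, cm_gwi]
    rw [mt01_3]
    rfl
  rw [h]
  exact (Rsub.mul_mem (Rsub.mul_mem (Rsub.mul_mem (Rsub.mul_mem gx_mem gx_mem) gpi_mem) gpi_mem) gx_mem)

theorem tv02_1 (hij : (0 : Fin 3) ≠ 2) :
    Matrix.SpecialLinearGroup.transvection hij GF4.o ∈ Rsub := by
  have h : Matrix.SpecialLinearGroup.transvection hij GF4.o = gx⁻¹ * gp⁻¹ := by
    apply cm_injective
    simp only [cm_mul, cm_gx, cm_gp, cm_gw, cm_gxi, cm_gpi, cm_gwi]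
    rw [mt02_1]
    rfl
  rw [h]
  exact (Rsub.mul_mem gxi_mem gpi_mem)

theorem tv02_2 (hij : (0 : Fin 3) ≠ 2) :
    Matrix.SpecialLinearGroup.transvection hij GF4.w ∈ Rsub := by
  have h : Matrix.SpecialLinearGroup.transvection hij GF4.w = gx * gp⁻¹ * gp⁻¹ * gx * gp⁻¹ := by
    apply cm_injective
    simp only [cm_mul, cm_gx, cm_gp, cm_gw, cm_gxi, cm_gpi, cm_gwi]
    rw [mt02_2]
    rfl
  rw [h]
  exact (Rsub.mul_mem (Rsub.mul_mem (Rsub.mul_mem (Rsub.mul_mem gx_mem gpi_mem) gpi_mem) gx_mem) gpi_mem)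

theorem tv02_3 (hij : (0 : Fin 3) ≠ 2) :
    Matrix.SpecialLinearGroup.transvection hij GF4.w2 ∈ Rsub := by
  have h : Matrix.SpecialLinearGroup.transvection hij GF4.w2 = gx * gp⁻¹ * gp⁻¹ * gx * gx := by
    apply cm_injective
    simp only [cm_mul, cm_gx, cm_gp, cm_gw, cm_gxi, cm_gpi, cm_gwi]
    rw [mt02_3]
    rfl
  rw [h]
  exact (Rsub.mul_mem (Rsub.mul_mem (Rsub.mul_mem (Rsub.mul_mem gx_mem gpi_mem) gpi_mem) gx_mem) gx_mem)

theorem tv10_1 (hij : (1 : Fin 3) ≠ 0) :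
    Matrix.SpecialLinearGroup.transvection hij GF4.o ∈ Rsub := by
  have h : Matrix.SpecialLinearGroup.transvection hij GF4.o = gw * gx⁻¹ * gp⁻¹ * gw⁻¹ := by
    apply cm_injective
    simp only [cm_mul, cm_gx, cm_gp, cm_gw, cm_gxi, cm_gpi, cm_gwi]
    rw [mt10_1]
    rfl
  rw [h]
  exact (Rsub.mul_mem (Rsub.mul_mem (Rsub.mul_mem gw_mem gxi_mem) gpi_mem) gwi_mem)

theorem tv10_2 (hij : (1 : Fin 3) ≠ 0) :
    Matrix.SpecialLinearGroup.transvection hij GF4.w ∈ Rsub := by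
  have h : Matrix.SpecialLinearGroup.transvection hij GF4.w = gp * gw * gp * gw := by
    apply cm_injective
    simp only [cm_mul, cm_gx, cm_gp, cm_gw, cm_gxi, cm_gpi, cm_gwi]
    rw [mt10_2]
    rfl
  rw [h]
  exact (Rsub.mul_mem (Rsub.mul_mem (Rsub.mul_mem gp_mem gw_mem) gp_mem) gw_mem)

theorem tv10_3 (hij : (1 : Fin 3) ≠ 0) :
    Matrix.SpecialLinearGroup.transvection hij GF4.w2 ∈ Rsub := by
  have h : Matrix.SpecialLinearGroup.transvection hij GF4.w2 = gw * gx * gp⁻¹ * gp⁻¹ * gx * gx * gw⁻¹ := by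
    apply cm_injective
    simp only [cm_mul, cm_gx, cm_gp, cm_gw, cm_gxi, cm_gpi, cm_gwi]
    rw [mt10_3]
    rfl
  rw [h]
  exact (Rsub.mul_mem (Rsub.mul_mem (Rsub.mul_mem (Rsub.mul_mem (Rsub.mul_mem (Rsub.mul_mem gw_mem gx_mem) gpi_mem) gpi_mem) gx_mem) gx_mem) gwi_mem)

theorem tv12_1 (hij : (1 : Fin 3) ≠ 2) :
    Matrix.SpecialLinearGroup.transvection hij GF4.o ∈ Rsub := by
  have h : Matrix.SpecialLinearGroup.transvection hij GF4.o = gw * gx * gp * gw⁻¹ := by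
    apply cm_injective
    simp only [cm_mul, cm_gx, cm_gp, cm_gw, cm_gxi, cm_gpi, cm_gwi]
    rw [mt12_1]
    rfl
  rw [h]
  exact (Rsub.mul_mem (Rsub.mul_mem (Rsub.mul_mem gw_mem gx_mem) gp_mem) gwi_mem)

theorem tv12_2 (hij : (1 : Fin 3) ≠ 2) :
    Matrix.SpecialLinearGroup.transvection hij GF4.w ∈ Rsub := by
  have h : Matrix.SpecialLinearGroup.transvection hij GF4.w = gw * gx * gp⁻¹ * gx * gx * gp⁻¹ * gw⁻¹ := by
    apply cm_injective
    simp only [cm_mul, cm_gx, cm_gp, cm_gw, cm_gxi, cm_gpi, cm_gwi]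
    rw [mt12_2]
    rfl
  rw [h]
  exact (Rsub.mul_mem (Rsub.mul_mem (Rsub.mul_mem (Rsub.mul_mem (Rsub.mul_mem (Rsub.mul_mem gw_mem gx_mem) gpi_mem) gx_mem) gx_mem) gpi_mem) gwi_mem)

theorem tv12_3 (hij : (1 : Fin 3) ≠ 2) :
    Matrix.SpecialLinearGroup.transvection hij GF4.w2 ∈ Rsub := by
  have h : Matrix.SpecialLinearGroup.transvection hij GF4.w2 = gw * gx * gx * gp⁻¹ * gp⁻¹ * gx * gw⁻¹ := by
    apply cm_injective
    simp only [cm_mul, cm_gx, cm_gp, cm_gw, cm_gxi, cm_gpi, cm_gwi]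
    rw [mt12_3]
    rfl
  rw [h]
  exact (Rsub.mul_mem (Rsub.mul_mem (Rsub.mul_mem (Rsub.mul_mem (Rsub.mul_mem (Rsub.mul_mem gw_mem gx_mem) gx_mem) gpi_mem) gpi_mem) gx_mem) gwi_mem)

theorem tv20_1 (hij : (2 : Fin 3) ≠ 0) :
    Matrix.SpecialLinearGroup.transvection hij GF4.o ∈ Rsub := by
  have h : Matrix.SpecialLinearGroup.transvection hij GF4.o = gx * gw * gx⁻¹ * gp⁻¹ * gw⁻¹ * gx⁻¹ := by
    apply cm_injective
    simp only [cm_mul, cm_gx, cm_gp, cm_gw, cm_gxi, cm_gpi, cm_gwi]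
    rw [mt20_1]
    rfl
  rw [h]
  exact (Rsub.mul_mem (Rsub.mul_mem (Rsub.mul_mem (Rsub.mul_mem (Rsub.mul_mem gx_mem gw_mem) gxi_mem) gpi_mem) gwi_mem) gxi_mem)

theorem tv20_2 (hij : (2 : Fin 3) ≠ 0) :
    Matrix.SpecialLinearGroup.transvection hij GF4.w ∈ Rsub := by
  have h : Matrix.SpecialLinearGroup.transvection hij GF4.w = gx * gp * gw * gp * gw * gx⁻¹ := by
    apply cm_injective
    simp only [cm_mul, cm_gx, cm_gp, cm_gw, cm_gxi, cm_gpi, cm_gwi]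
    rw [mt20_2]
    rfl
  rw [h]
  exact (Rsub.mul_mem (Rsub.mul_mem (Rsub.mul_mem (Rsub.mul_mem (Rsub.mul_mem gx_mem gp_mem) gw_mem) gp_mem) gw_mem) gxi_mem)

theorem tv20_3 (hij : (2 : Fin 3) ≠ 0) :
    Matrix.SpecialLinearGroup.transvection hij GF4.w2 ∈ Rsub := by
  have h : Matrix.SpecialLinearGroup.transvection hij GF4.w2 = gx⁻¹ * gp * gw * gx⁻¹ * gw⁻¹ * gp⁻¹ := by
    apply cm_injective
    simp only [cm_mul, cm_gx, cm_gp, cm_gw, cm_gxi, cm_gpi, cm_gwi]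
    rw [mt20_3]
    rfl
  rw [h]
  exact (Rsub.mul_mem (Rsub.mul_mem (Rsub.mul_mem (Rsub.mul_mem (Rsub.mul_mem gxi_mem gp_mem) gw_mem) gxi_mem) gwi_mem) gpi_mem)

theorem tv21_1 (hij : (2 : Fin 3) ≠ 1) :
    Matrix.SpecialLinearGroup.transvection hij GF4.o ∈ Rsub := by
  have h : Matrix.SpecialLinearGroup.transvection hij GF4.o = gx * gp * gw⁻¹ * gx⁻¹ * gp⁻¹ * gw := by
    apply cm_injective
    simp only [cm_mul, cm_gx, cm_gp, cm_gw, cm_gxi, cm_gpi, cm_gwi]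
    rw [mt21_1]
    rfl
  rw [h]
  exact (Rsub.mul_mem (Rsub.mul_mem (Rsub.mul_mem (Rsub.mul_mem (Rsub.mul_mem gx_mem gp_mem) gwi_mem) gxi_mem) gpi_mem) gw_mem)

theorem tv21_2 (hij : (2 : Fin 3) ≠ 1) :
    Matrix.SpecialLinearGroup.transvection hij GF4.w ∈ Rsub := by
  have h : Matrix.SpecialLinearGroup.transvection hij GF4.w = gx * gw * gx⁻¹ * gp⁻¹ * gw⁻¹ * gx * gp * gw := by
    apply cm_injective
    simp only [cm_mul, cm_gx, cm_gp, cm_gw, cm_gxi, cm_gpi, cm_gwi]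
    rw [mt21_2]
    rfl
  rw [h]
  exact (Rsub.mul_mem (Rsub.mul_mem (Rsub.mul_mem (Rsub.mul_mem (Rsub.mul_mem (Rsub.mul_mem (Rsub.mul_mem gx_mem gw_mem) gxi_mem) gpi_mem) gwi_mem) gx_mem) gp_mem) gw_mem)

theorem tv21_3 (hij : (2 : Fin 3) ≠ 1) :
    Matrix.SpecialLinearGroup.transvection hij GF4.w2 ∈ Rsub := by
  have h : Matrix.SpecialLinearGroup.transvection hij GF4.w2 = gx⁻¹ * gp⁻¹ * gp⁻¹ * gw * gx⁻¹ * gp⁻¹ * gp⁻¹ * gw := by
    apply cm_injective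
    simp only [cm_mul, cm_gx, cm_gp, cm_gw, cm_gxi, cm_gpi, cm_gwi]
    rw [mt21_3]
    rfl
  rw [h]
  exact (Rsub.mul_mem (Rsub.mul_mem (Rsub.mul_mem (Rsub.mul_mem (Rsub.mul_mem (Rsub.mul_mem (Rsub.mul_mem gxi_mem gpi_mem) gpi_mem) gw_mem) gxi_mem) gpi_mem) gpi_mem) gw_mem)

theorem tv01 (hij : (0 : Fin 3) ≠ 1) (a : GF4) :
    Matrix.SpecialLinearGroup.transvection hij a ∈ Rsub := by
  cases a
  · change Matrix.SpecialLinearGroup.transvection hij (0 : GF4) ∈ Rsub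
    rw [Matrix.SpecialLinearGroup.transvection_coeff_zero]
    exact Rsub.one_mem
  · exact tv01_1 hij
  · exact tv01_2 hij
  · exact tv01_3 hij

theorem tv02 (hij : (0 : Fin 3) ≠ 2) (a : GF4) :
    Matrix.SpecialLinearGroup.transvection hij a ∈ Rsub := by
  cases a
  · change Matrix.SpecialLinearGroup.transvection hij (0 : GF4) ∈ Rsub
    rw [Matrix.SpecialLinearGroup.transvection_coeff_zero]
    exact Rsub.one_mem
  · exact tv02_1 hij
  · exact tv02_2 hij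
  · exact tv02_3 hij

theorem tv10 (hij : (1 : Fin 3) ≠ 0) (a : GF4) :
    Matrix.SpecialLinearGroup.transvection hij a ∈ Rsub := by
  cases a
  · change Matrix.SpecialLinearGroup.transvection hij (0 : GF4) ∈ Rsub
    rw [Matrix.SpecialLinearGroup.transvection_coeff_zero]
    exact Rsub.one_mem
  · exact tv10_1 hij
  · exact tv10_2 hij
  · exact tv10_3 hij

theorem tv12 (hij : (1 : Fin 3) ≠ 2) (a : GF4) :
    Matrix.SpecialLinearGroup.transvection hij a ∈ Rsub := by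
  cases a
  · change Matrix.SpecialLinearGroup.transvection hij (0 : GF4) ∈ Rsub
    rw [Matrix.SpecialLinearGroup.transvection_coeff_zero]
    exact Rsub.one_mem
  · exact tv12_1 hij
  · exact tv12_2 hij
  · exact tv12_3 hij

theorem tv20 (hij : (2 : Fin 3) ≠ 0) (a : GF4) :
    Matrix.SpecialLinearGroup.transvection hij a ∈ Rsub := by
  cases a
  · change Matrix.SpecialLinearGroup.transvection hij (0 : GF4) ∈ Rsub
    rw [Matrix.SpecialLinearGroup.transvection_coeff_zero]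
    exact Rsub.one_mem
  · exact tv20_1 hij
  · exact tv20_2 hij
  · exact tv20_3 hij

theorem tv21 (hij : (2 : Fin 3) ≠ 1) (a : GF4) :
    Matrix.SpecialLinearGroup.transvection hij a ∈ Rsub := by
  cases a
  · change Matrix.SpecialLinearGroup.transvection hij (0 : GF4) ∈ Rsub
    rw [Matrix.SpecialLinearGroup.transvection_coeff_zero]
    exact Rsub.one_mem
  · exact tv21_1 hij
  · exact tv21_2 hij
  · exact tv21_3 hij

theorem tv_mem (i j : Fin 3) (hij : i ≠ j) (a : GF4) :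
    Matrix.SpecialLinearGroup.transvection hij a ∈ Rsub := by
  fin_cases i <;> fin_cases j
  · exact absurd rfl hij
  · exact tv01 hij a
  · exact tv02 hij a
  · exact tv10 hij a
  · exact absurd rfl hij
  · exact tv12 hij a
  · exact tv20 hij a
  · exact tv21 hij a
  · exact absurd rfl hij

theorem Rsub_eq_top : ∀ M : SL3, M ∈ Rsub := by
  intro M
  exact Cfsg.Agent.Helper5.transvection_induction (fun M => M ∈ Rsub) tv_mem
    (fun A B hA hB => Rsub.mul_mem hA hB) M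

theorem exists_tau : ∃ τ : PresentedGroup (coxRels PE.edges PE.extra) →*
      Matrix.ProjectiveSpecialLinearGroup (Fin 3) GF4,
    Function.Surjective τ ∧ τ (PresentedGroup.of PE.Gen.a) = 1 ∧ τ (PresentedGroup.of PE.Gen.b) = 1 := by
  refine ⟨tau, ?_, tau_a, tau_b⟩
  intro y
  obtain ⟨M, rfl⟩ := QuotientGroup.mk_surjective y
  exact Rsub_eq_top M

end Cfsg.Agent.Helper50.L34
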