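import Cfsg.Agent.Helper50.LLemmaConj

set_option autoImplicit false

/-! The L-Lemma (Parker–Parmeter–Stellmacher), proved by induction on the order of a subgroup `H`
of an ambient finite group `G`. -/

namespace Cfsg.Agent.Helper50

open Cfsg Cfsg.Agent.Helper46

section LLemma

variable {G : Type*} [Group G] [Finite G] {p : ℕ} [Fact p.Prime]

theorem cj_iSup {ι : Sort*} (g : G) (s : ι → Subgroup G) : cj g (⨆ i, s i) = ⨆ i, cj g (s i) :=
  Subgroup.map_iSup _ _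

/-- The conclusion of the L-Lemma inside the subgroup `H`, for some `H`-conjugate of `A`. -/
def LConcl (p : ℕ) (H M A : Subgroup G) : Prop :=
  ∃ L : Subgroup G, L ≤ H ∧ ∃ g ∈ H, ∃ k ∈ H,
    cj k A ⊔ pCoreOf p H ≤ L ∧ cj k A ⊔ pCoreOf p L ≤ cj g M ∧ ¬ L ≤ cj g M ∧
    ∀ x ∈ L, x ∉ cj g M → cj k A ⊔ cj x (cj k A) ⊔ pCoreOf p L = L

theorem uniq_cj {H T M : Subgroup G} (huniq : ∀ X : Subgroup G, T ≤ X → X < H → X ≤ M)
    {h : G} (hh : h ∈ H) (X : Subgroup G) (hTX : cj h T ≤ X) (hXH : X < H) : X ≤ cj h M := by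
  have h1 : T ≤ cj h⁻¹ X := cj_le_iff.1 hTX
  have h2 : cj h⁻¹ X < H := cj_lt_of_mem (inv_mem hh) hXH
  have h3 := huniq _ h1 h2
  have h4 := cj_le_iff.1 h3
  rwa [inv_inv] at h4

theorem exists_normalizing_pgroup {R S : Subgroup G} (hS : IsPGroup p S) (h : R < S) :
    ∃ R₁ : Subgroup G, R < R₁ ∧ R₁ ≤ S ∧ R₁ ≤ Subgroup.normalizer (R : Set G) := by
  obtain ⟨s, hsS, hsR, hsN⟩ := exists_normalizing_of_lt hS h
  refine ⟨Subgroup.normalizer (R : Set G) ⊓ S, ?_, inf_le_right, inf_le_left⟩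
  refine lt_of_le_of_ne (le_inf Subgroup.le_normalizer h.le) ?_
  intro heq
  apply hsR
  rw [heq]
  exact Subgroup.mem_inf.2 ⟨hsN, hsS⟩

/-- Case 1: `A O_p(H)` lies in a unique maximal subgroup of `H`; then `L = H` works. -/
theorem lconcl_of_good {H T M A : Subgroup G} (hTM : T ≤ M) (hMH : M < H)
    (huniq : ∀ X : Subgroup G, T ≤ X → X < H → X ≤ M) (hnn : ∃ h ∈ H, cj h M ≠ M)
    (hAH : A ≤ H) {h : G} (hh : h ∈ H) (hBlt : A ⊔ pCoreOf p H < H)
    (hgood : ∀ X : Subgroup G, A ⊔ pCoreOf p H ≤ X → X < H → X ≤ cj h M) :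
    LConcl p H M A := by
  refine ⟨H, le_rfl, h, hh, 1, one_mem _, ?_, ?_, ?_, ?_⟩
  · rw [cj_one]; exact hBlt.le
  · rw [cj_one]; exact hgood _ le_rfl hBlt
  · exact not_le_of_gt (cj_lt_of_mem hh hMH)
  · intro x hx hxM
    rw [cj_one]
    by_contra hne
    have hYH : A ⊔ cj x A ⊔ pCoreOf p H ≤ H :=
      sup_le (sup_le hAH (cj_le_of_mem hx hAH)) (pCoreOf_le H)
    have hYlt : A ⊔ cj x A ⊔ pCoreOf p H < H := lt_of_le_of_ne hYH hne
    have hBY : A ⊔ pCoreOf p H ≤ A ⊔ cj x A ⊔ pCoreOf p H :=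
      sup_le (le_sup_left.trans le_sup_left) le_sup_right
    have hYM := hgood _ hBY hYlt
    have hxA : cj x A ≤ cj h M := (le_sup_right.trans le_sup_left).trans hYM
    have hA' : A ≤ cj x⁻¹ (cj h M) := cj_le_iff.1 hxA
    have hO : pCoreOf p H ≤ cj x⁻¹ (cj h M) := by
      have h1 : pCoreOf p H ≤ cj h M := le_sup_right.trans (hgood _ le_rfl hBlt)
      have h2 : cj x⁻¹ (pCoreOf p H) = pCoreOf p H :=
        cj_eq_self_of_mem_normalizer (pCoreOf_normalized H (inv_mem hx))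
      rw [← h2]
      exact cj_mono h1
    have hM'lt : cj x⁻¹ (cj h M) < H := cj_lt_of_mem (inv_mem hx) (cj_lt_of_mem hh hMH)
    have hM'le := hgood _ (sup_le hA' hO) hM'lt
    have hM'eq : cj x⁻¹ (cj h M) = cj h M :=
      Subgroup.eq_of_le_of_card_ge hM'le (by rw [card_cj x⁻¹])
    have hxn : x⁻¹ ∈ Subgroup.normalizer ((cj h M : Subgroup G) : Set G) :=
      mem_normalizer_of_cj_eq hM'eq
    have hN'lt : Subgroup.normalizer ((cj h M : Subgroup G) : Set G) ⊓ H < H := by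
      refine lt_of_le_of_ne inf_le_right ?_
      intro heq
      have hHn : H ≤ Subgroup.normalizer ((cj h M : Subgroup G) : Set G) := by
        rw [← heq]; exact inf_le_left
      obtain ⟨h', hh', hne'⟩ := hnn
      apply hne'
      have e1 : cj h M = M := by
        have := cj_eq_self_of_mem_normalizer (hHn (inv_mem hh))
        rw [cj_inv_cj] at this
        exact this.symm
      rw [e1] at hHn
      exact cj_eq_self_of_mem_normalizer (hHn hh')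
    have hTN' : cj h T ≤ Subgroup.normalizer ((cj h M : Subgroup G) : Set G) ⊓ H :=
      le_inf ((cj_mono hTM).trans Subgroup.le_normalizer)
        (cj_le_of_mem hh (hTM.trans hMH.le))
    have hN'le := uniq_cj huniq hh _ hTN' hN'lt
    have h5 : x⁻¹ ∈ cj h M := hN'le (Subgroup.mem_inf.2 ⟨hxn, inv_mem hx⟩)
    exact hxM (by simpa using inv_mem h5)

/-- The L-Lemma, for a subgroup `H` of the ambient group, by induction on `|H|`. -/
theorem lLemma_aux : ∀ n : ℕ, ∀ H : Subgroup G, Nat.card H = n → ∀ T M A : Subgroup G,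
    IsSylIn p T H → T ≤ M → M < H → (∀ X : Subgroup G, T ≤ X → X < H → X ≤ M) →
    (∃ h ∈ H, cj h M ≠ M) → A ≤ H → IsPGroup p A → ¬ A ≤ pCoreOf p H → LConcl p H M A := by
  intro n
  induction n using Nat.strong_induction_on with
  | _ n ih =>
  intro H hn T M A hT hTM hMH huniq hnn hAH hpA hAO
  -- a Sylow subgroup of `H` containing `A`
  obtain ⟨P, hP, hAP⟩ := IsSylIn.exists_of_pgroup hAH hpA
  obtain ⟨g0, hg0, hPeq⟩ := hT.exists_conj hP
  have hPeq' : P = cj g0 T := hPeq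
  subst hPeq'
  have hOP : pCoreOf p H ≤ cj g0 T := hP.pCoreOf_le
  have hBP : A ⊔ pCoreOf p H ≤ cj g0 T := sup_le hAP hOP
  have hBlt : A ⊔ pCoreOf p H < H :=
    lt_of_le_of_lt (hBP.trans (cj_mono hTM)) (cj_lt_of_mem hg0 hMH)
  have hpB : IsPGroup p (A ⊔ pCoreOf p H : Subgroup G) := hP.isPGroup.to_le hBP
  by_cases hgoodB : ∃ h ∈ H, ∀ X : Subgroup G, A ⊔ pCoreOf p H ≤ X → X < H → X ≤ cj h M
  · obtain ⟨h, hh, hgood⟩ := hgoodB
    exact lconcl_of_good hTM hMH huniq hnn hAH hh hBlt hgood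
  -- Case 2: a maximal `p`-subgroup `R ≥ A O_p(H)` in at least two maximal subgroups
  have h𝓡 : ({R | R ≤ H ∧ IsPGroup p R ∧ A ⊔ pCoreOf p H ≤ R ∧
      ¬ ∃ h ∈ H, ∀ X : Subgroup G, R ≤ X → X < H → X ≤ cj h M} : Set (Subgroup G)).Nonempty :=
    ⟨_, hBlt.le, hpB, le_rfl, hgoodB⟩
  obtain ⟨R, ⟨hRH, hpR, hBR, hRbad⟩, hRmax⟩ := wellFounded_gt.has_min _ h𝓡
  have hgood_of_gt : ∀ R' : Subgroup G, R' ≤ H → IsPGroup p R' → R < R' →
      ∃ h ∈ H, ∀ X : Subgroup G, R' ≤ X → X < H → X ≤ cj h M := by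
    intro R' h1 h2 h3
    by_contra hb
    exact hRmax R' ⟨h1, h2, hBR.trans h3.le, hb⟩ h3
  obtain ⟨S, hS, hRS⟩ := IsSylIn.exists_of_pgroup hRH hpR
  obtain ⟨g1, hg1, hSeq⟩ := hT.exists_conj hS
  have hSeq' : S = cj g1 T := hSeq
  subst hSeq'
  have hRltS : R < cj g1 T := by
    refine lt_of_le_of_ne hRS ?_
    intro heq
    apply hRbad
    rw [heq]
    exact ⟨g1, hg1, fun X hX hXH => uniq_cj huniq hg1 X hX hXH⟩
  obtain ⟨R₁, hRR₁, hR₁S, hR₁N⟩ := exists_normalizing_pgroup hS.isPGroup hRltS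
  have hR₁H : R₁ ≤ H := hR₁S.trans hS.le
  have hpR₁ : IsPGroup p R₁ := hS.isPGroup.to_le hR₁S
  obtain ⟨h₁, hh₁, hgood₁⟩ := hgood_of_gt R₁ hR₁H hpR₁ hRR₁
  have hM₁H : cj h₁ M < H := cj_lt_of_mem hh₁ hMH
  have hAR : A ≤ R := le_sup_left.trans hBR
  have hNlt : Subgroup.normalizer (R : Set G) ⊓ H < H := by
    refine lt_of_le_of_ne inf_le_right ?_
    intro heq
    have hHn : H ≤ Subgroup.normalizer (R : Set G) := by rw [← heq]; exact inf_le_left
    exact hAO (hAR.trans (le_pCoreOf hRH hpR hHn))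
  have hNM₁ : Subgroup.normalizer (R : Set G) ⊓ H ≤ cj h₁ M :=
    hgood₁ _ (le_inf hR₁N hR₁H) hNlt
  have hRM₁ : R ≤ cj h₁ M := (le_inf Subgroup.le_normalizer hRH).trans hNM₁
  -- a minimal subgroup `Y ≥ R` of `H` not inside `M₁`
  have hbad₁ : ∃ X : Subgroup G, R ≤ X ∧ X < H ∧ ¬ X ≤ cj h₁ M := by
    by_contra hc
    push Not at hc
    exact hRbad ⟨h₁, hh₁, hc⟩
  obtain ⟨X₀, hX₀1, hX₀2, hX₀3⟩ := hbad₁
  have h𝒴 : ({Y | R ≤ Y ∧ Y < H ∧ ¬ Y ≤ cj h₁ M} : Set (Subgroup G)).Nonempty :=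
    ⟨X₀, hX₀1, hX₀2, hX₀3⟩
  obtain ⟨Y, ⟨hRY, hYH, hYM₁⟩, hYmin⟩ := wellFounded_lt.has_min _ h𝒴
  -- `R` is a Sylow subgroup of `Y`
  have hRsylY : IsSylIn p R Y := by
    obtain ⟨P', hP', hRP'⟩ := IsSylIn.exists_of_pgroup hRY hpR
    have hRP'eq : R = P' := by
      by_contra hne
      have hlt : R < P' := lt_of_le_of_ne hRP' hne
      obtain ⟨R₂, hRR₂, hR₂P', hR₂N⟩ := exists_normalizing_pgroup hP'.isPGroup hlt
      have hR₂Y : R₂ ≤ Y := hR₂P'.trans hP'.le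
      have hR₂H : R₂ ≤ H := hR₂Y.trans hYH.le
      obtain ⟨h₂, hh₂, hgood₂⟩ := hgood_of_gt R₂ hR₂H (hP'.isPGroup.to_le hR₂P') hRR₂
      have e1 : cj h₁ M ≤ cj h₂ M := hgood₂ _ ((le_inf hR₂N hR₂H).trans hNM₁) hM₁H
      have e2 : cj h₁ M = cj h₂ M := eq_of_cj_le_cj e1
      have e3 : Y ≤ cj h₂ M := hgood₂ Y hR₂Y hYH
      rw [← e2] at e3
      exact hYM₁ e3
    rw [hRP'eq]
    exact hP'
  have hMY_lt : Y ⊓ cj h₁ M < Y :=
    lt_of_le_of_ne inf_le_left (fun heq => hYM₁ (inf_eq_left.1 heq))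
  have hRMY : R ≤ Y ⊓ cj h₁ M := le_inf hRY hRM₁
  have huniqY : ∀ X : Subgroup G, R ≤ X → X < Y → X ≤ Y ⊓ cj h₁ M := by
    intro X hRX hXY
    refine le_inf hXY.le ?_
    by_contra hXM
    exact hYmin X ⟨hRX, lt_trans hXY hYH, hXM⟩ hXY
  have hnnY : ∃ y ∈ Y, cj y (Y ⊓ cj h₁ M) ≠ Y ⊓ cj h₁ M := by
    by_contra hall
    push Not at hall
    apply hYM₁
    intro y hy
    have hsylMY : IsSylIn p R (Y ⊓ cj h₁ M) := IsSylIn_of_le_of_le hRsylY hRMY inf_le_left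
    have hcjR : IsSylIn p (cj y R) (Y ⊓ cj h₁ M) := by
      apply isSylIn_of_card
      · rw [← hall y hy]; exact cj_mono hRMY
      · rw [card_cj]; exact hsylMY.card
    obtain ⟨m, hm, hmeq⟩ := hsylMY.exists_conj hcjR
    have hmeq' : cj y R = cj m R := hmeq
    have hnorm : cj (m⁻¹ * y) R = R := by rw [cj_mul, hmeq', cj_inv_cj]
    have hm' := Subgroup.mem_inf.1 hm
    have hmem : m⁻¹ * y ∈ Subgroup.normalizer (R : Set G) ⊓ H :=
      Subgroup.mem_inf.2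
        ⟨mem_normalizer_of_cj_eq hnorm, mul_mem (inv_mem (hYH.le hm'.1)) (hYH.le hy)⟩
    have h3 := hNM₁ hmem
    have h4 := mul_mem hm'.2 h3
    simpa using h4
  -- some `H`-conjugate of `A` lies in `Y` but not in `O_p(Y)` (weak closure argument)
  have hexh : ∃ h ∈ H, cj h A ≤ Y ∧ ¬ cj h A ≤ pCoreOf p Y := by
    by_contra hcon
    push Not at hcon
    have hAW : A ≤ ⨆ h : {h : G // h ∈ H ∧ cj h A ≤ R}, cj (h : G) A := by
      have h1 : cj (1 : G) A ≤ ⨆ h : {h : G // h ∈ H ∧ cj h A ≤ R}, cj (h : G) A :=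
        le_iSup (fun h : {h : G // h ∈ H ∧ cj h A ≤ R} => cj (h : G) A)
          ⟨1, one_mem _, by rw [cj_one]; exact hAR⟩
      rwa [cj_one] at h1
    have hWR : (⨆ h : {h : G // h ∈ H ∧ cj h A ≤ R}, cj (h : G) A) ≤ R :=
      iSup_le fun h => h.2.2
    have hQR : pCoreOf p Y ≤ R := hRsylY.pCoreOf_le
    have hcjW : ∀ y : G, y ∈ H → (∀ h : G, h ∈ H → cj h A ≤ R → cj y (cj h A) ≤ R) →
        cj y (⨆ h : {h : G // h ∈ H ∧ cj h A ≤ R}, cj (h : G) A) ≤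
          ⨆ h : {h : G // h ∈ H ∧ cj h A ≤ R}, cj (h : G) A := by
      intro y hy hyp
      rw [cj_iSup]
      apply iSup_le
      intro h
      have h1 : cj (y * h.1) A ≤ R := by rw [cj_mul]; exact hyp h.1 h.2.1 h.2.2
      have h2 := le_iSup (fun h : {h : G // h ∈ H ∧ cj h A ≤ R} => cj (h : G) A)
        ⟨y * h.1, mul_mem hy h.2.1, h1⟩
      simp only [cj_mul] at h2
      exact h2
    have hYW : Y ≤ Subgroup.normalizer
        ((⨆ h : {h : G // h ∈ H ∧ cj h A ≤ R}, cj (h : G) A : Subgroup G) : Set G) := by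
      apply le_normalizer_of_cj_le
      intro y hy
      apply hcjW y (hYH.le hy)
      intro h hh hhR
      have h1 : cj h A ≤ pCoreOf p Y := hcon h hh (hhR.trans hRY)
      have h2 : cj y (pCoreOf p Y) = pCoreOf p Y :=
        cj_eq_self_of_mem_normalizer (pCoreOf_normalized Y hy)
      calc cj y (cj h A) ≤ cj y (pCoreOf p Y) := cj_mono h1
        _ = pCoreOf p Y := h2
        _ ≤ R := hQR
    have hR₁W : R₁ ≤ Subgroup.normalizer
        ((⨆ h : {h : G // h ∈ H ∧ cj h A ≤ R}, cj (h : G) A : Subgroup G) : Set G) := by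
      apply le_normalizer_of_cj_le
      intro t ht
      apply hcjW t (hR₁H ht)
      intro h hh hhR
      have h1 : cj t R = R := cj_eq_self_of_mem_normalizer (hR₁N ht)
      rw [← h1]
      exact cj_mono hhR
    have hNWH : H ≤ Subgroup.normalizer
        ((⨆ h : {h : G // h ∈ H ∧ cj h A ≤ R}, cj (h : G) A : Subgroup G) : Set G) := by
      by_contra hne
      have hlt : Subgroup.normalizer
          ((⨆ h : {h : G // h ∈ H ∧ cj h A ≤ R}, cj (h : G) A : Subgroup G) : Set G) ⊓ H < H :=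
        lt_of_le_of_ne inf_le_right (fun heq => hne (inf_eq_right.1 heq))
      have h1 := hgood₁ _ (le_inf hR₁W hR₁H) hlt
      exact hYM₁ ((le_inf hYW hYH.le).trans h1)
    exact hAO (hAW.trans (le_pCoreOf (hWR.trans hRH) (hpR.to_le hWR) hNWH))
  -- recurse into `Y`
  obtain ⟨h, hh, hhY, hhO⟩ := hexh
  have hcardY : Nat.card Y < n := hn ▸ card_lt_of_lt hYH
  obtain ⟨L, hLY, g, hg, k, hk, c1, c2, c3, c4⟩ :=
    ih (Nat.card Y) hcardY Y rfl R (Y ⊓ cj h₁ M) (cj h A)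
      hRsylY hRMY hMY_lt huniqY hnnY hhY (isPGroup_cj hpA) hhO
  have hgH : g ∈ H := hYH.le hg
  have hkH : k ∈ H := hYH.le hk
  have hcjg : cj g (Y ⊓ cj h₁ M) = Y ⊓ cj (g * h₁) M := by
    rw [cj_inf, cj_eq_self_of_mem hg, cj_mul]
  refine ⟨L, hLY.trans hYH.le, g * h₁, mul_mem hgH hh₁, k * h, mul_mem hkH hh, ?_, ?_, ?_, ?_⟩
  · rw [cj_mul]
    refine sup_le (le_sup_left.trans c1) ?_
    have h1 : pCoreOf p H ≤ pCoreOf p Y :=
      le_pCoreOf ((le_sup_right.trans hBR).trans hRY) (pCoreOf_isPGroup H)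
        (hYH.le.trans (pCoreOf_normalized H))
    exact h1.trans (le_sup_right.trans c1)
  · rw [cj_mul k h]
    rw [hcjg] at c2
    exact c2.trans inf_le_right
  · rw [hcjg] at c3
    intro hc
    exact c3 (le_inf hLY hc)
  · intro x hx hxM
    rw [cj_mul k h]
    apply c4 x hx
    rw [hcjg]
    intro hc
    exact hxM (Subgroup.mem_inf.1 hc).2

end LLemma

end Cfsg.Agent.Helper50
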