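import Cfsg.Prelude.Def_LocalStructure
import Cfsg.Agent.Helper46.SylowIn
import Cfsg.Agent.Helper46.Amalgam

set_option autoImplicit false

/-! Conjugate subgroups `cj g K = g K g⁻¹`, with the small API used for the L-Lemma. -/

namespace Cfsg.Agent.Helper50

open Cfsg Cfsg.Agent.Helper46

section Conj

variable {G : Type*} [Group G]

/-- The conjugate `g K g⁻¹` of the subgroup `K`. -/
def cj (g : G) (K : Subgroup G) : Subgroup G := K.map (MulAut.conj g).toMonoidHom

theorem mem_cj {g x : G} {K : Subgroup G} : x ∈ cj g K ↔ g⁻¹ * x * g ∈ K := by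
  unfold cj
  rw [mem_map_equiv_iff]
  simp [MulAut.conj_symm_apply]

theorem conj_mem_cj {g x : G} {K : Subgroup G} (hx : x ∈ K) : g * x * g⁻¹ ∈ cj g K := by
  rw [mem_cj]
  simpa [mul_assoc] using hx

theorem cj_one (K : Subgroup G) : cj 1 K = K := by
  ext x; simp [mem_cj]

theorem cj_mul (g h : G) (K : Subgroup G) : cj (g * h) K = cj g (cj h K) := by
  ext x; simp [mem_cj, mul_assoc]

theorem cj_mono {g : G} {K K' : Subgroup G} (h : K ≤ K') : cj g K ≤ cj g K' :=
  Subgroup.map_mono h

theorem cj_inv_cj (g : G) (K : Subgroup G) : cj g⁻¹ (cj g K) = K := by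
  rw [← cj_mul]; simp [cj_one]

theorem cj_cj_inv (g : G) (K : Subgroup G) : cj g (cj g⁻¹ K) = K := by
  rw [← cj_mul]; simp [cj_one]

theorem cj_le_iff {g : G} {K K' : Subgroup G} : cj g K ≤ K' ↔ K ≤ cj g⁻¹ K' := by
  constructor
  · intro h
    have := cj_mono (g := g⁻¹) h
    rwa [cj_inv_cj] at this
  · intro h
    have := cj_mono (g := g) h
    rwa [cj_cj_inv] at this

theorem cj_le_cj_iff {g : G} {K K' : Subgroup G} : cj g K ≤ cj g K' ↔ K ≤ K' := by
  rw [cj_le_iff, cj_inv_cj]

theorem cj_eq_self_of_mem {g : G} {K : Subgroup G} (hg : g ∈ K) : cj g K = K := by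
  ext x
  rw [mem_cj]
  constructor
  · intro h
    have := mul_mem (mul_mem hg h) (inv_mem hg)
    simpa [mul_assoc] using this
  · intro h
    exact mul_mem (mul_mem (inv_mem hg) h) hg

theorem cj_eq_self_of_mem_normalizer {g : G} {K : Subgroup G}
    (hg : g ∈ Subgroup.normalizer (K : Set G)) : cj g K = K := by
  ext x
  rw [mem_cj]
  have := Subgroup.mem_normalizer_iff.1 (inv_mem hg) x
  rw [inv_inv] at this
  exact this.symm

theorem mem_normalizer_of_cj_eq {g : G} {K : Subgroup G} (h : cj g K = K) :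
    g ∈ Subgroup.normalizer (K : Set G) := by
  rw [Subgroup.mem_normalizer_iff]
  intro x
  constructor
  · intro hx
    have := conj_mem_cj (g := g) hx
    rwa [h] at this
  · intro hx
    have h2 : g * x * g⁻¹ ∈ cj g K := by rw [h]; exact hx
    rw [mem_cj] at h2
    simpa [mul_assoc] using h2

theorem card_cj (g : G) (K : Subgroup G) : Nat.card (cj g K) = Nat.card K :=
  Subgroup.card_map_of_injective (MulAut.conj g).injective

theorem isPGroup_cj {p : ℕ} {g : G} {K : Subgroup G} (h : IsPGroup p K) : IsPGroup p (cj g K) :=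
  h.map _

theorem cj_le_of_mem {g : G} {K H : Subgroup G} (hg : g ∈ H) (hK : K ≤ H) : cj g K ≤ H := by
  rw [← cj_eq_self_of_mem hg]
  exact cj_mono hK

theorem cj_inf (g : G) (K K' : Subgroup G) : cj g (K ⊓ K') = cj g K ⊓ cj g K' :=
  Subgroup.map_inf _ _ _ (MulAut.conj g).injective

theorem cj_sup (g : G) (K K' : Subgroup G) : cj g (K ⊔ K') = cj g K ⊔ cj g K' :=
  Subgroup.map_sup _ _ _

theorem cj_lt_of_mem {g : G} {K H : Subgroup G} (hg : g ∈ H) (hK : K < H) : cj g K < H := by
  refine lt_of_le_of_ne (cj_le_of_mem hg hK.le) ?_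
  intro h
  have h2 : K = H := by
    have := congrArg (cj g⁻¹) h
    rwa [cj_inv_cj, cj_eq_self_of_mem (inv_mem hg)] at this
  exact hK.ne h2

theorem cj_pCoreOf {p : ℕ} [Fact p.Prime] [Finite G] (g : G) (L : Subgroup G) :
    cj g (pCoreOf p L) = pCoreOf p (cj g L) :=
  (pCoreOf_map_equiv (MulAut.conj g) L).symm

theorem eq_of_cj_le_cj [Finite G] {g h : G} {K : Subgroup G} (hle : cj g K ≤ cj h K) :
    cj g K = cj h K :=
  Subgroup.eq_of_le_of_card_ge hle (by rw [card_cj, card_cj])

/-- A subgroup `Y` normalizes `W` as soon as it conjugates `W` into itself. -/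
theorem le_normalizer_of_cj_le {Y W : Subgroup G} (h : ∀ y ∈ Y, cj y W ≤ W) :
    Y ≤ Subgroup.normalizer (W : Set G) := by
  apply le_normalizer_of_conj_mem
  intro y hy n hn
  exact h y hy (conj_mem_cj hn)

/-- Normalizers grow in `p`-groups. -/
theorem exists_normalizing_of_lt {p : ℕ} [Fact p.Prime] [Finite G] {R S : Subgroup G}
    (hS : IsPGroup p S) (h : R < S) :
    ∃ s ∈ S, s ∉ R ∧ s ∈ Subgroup.normalizer (R : Set G) := by
  haveI : Group.IsNilpotent S := hS.isNilpotent
  have hnc := Group.normalizerCondition_of_isNilpotent (G := S)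
  have hlt : R.subgroupOf S < ⊤ := by
    rw [lt_top_iff_ne_top]
    intro h'
    rw [Subgroup.subgroupOf_eq_top] at h'
    exact (not_le_of_gt h) h'
  have h3 := hnc _ hlt
  obtain ⟨s, hs1, hs2⟩ := SetLike.exists_of_lt h3
  refine ⟨s, s.2, ?_, ?_⟩
  · intro hsR
    exact hs2 (Subgroup.mem_subgroupOf.2 hsR)
  · rw [Subgroup.mem_normalizer_iff] at hs1 ⊢
    intro n
    constructor
    · intro hn
      have := (hs1 ⟨n, h.le hn⟩).1 (Subgroup.mem_subgroupOf.2 hn)
      simpa [Subgroup.mem_subgroupOf] using this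
    · intro hn
      have hnS : n ∈ S := by
        have h1 : (s : G) * n * (s : G)⁻¹ ∈ S := h.le hn
        have := mul_mem (mul_mem (inv_mem s.2) h1) s.2
        simpa [mul_assoc] using this
      have := (hs1 ⟨n, hnS⟩).2 (by simpa [Subgroup.mem_subgroupOf] using hn)
      simpa [Subgroup.mem_subgroupOf] using this

theorem card_lt_of_lt [Finite G] {K H : Subgroup G} (h : K < H) : Nat.card K < Nat.card H := by
  refine lt_of_le_of_ne (Subgroup.card_le_of_le h.le) ?_
  intro hc
  exact h.ne (Subgroup.eq_of_le_of_card_ge h.le hc.ge)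

/-- A Sylow subgroup of `H` lying in the intermediate subgroup `K` is Sylow in `K`. -/
theorem IsSylIn_of_le_of_le {p : ℕ} [Fact p.Prime] [Finite G] {P K H : Subgroup G}
    (h : IsSylIn p P H) (hPK : P ≤ K) (hKH : K ≤ H) : IsSylIn p P K := by
  apply isSylIn_of_card hPK
  have hp : p.Prime := Fact.out
  have hc := h.card
  have hK0 : Nat.card K ≠ 0 := Nat.card_pos.ne'
  have hH0 : Nat.card H ≠ 0 := Nat.card_pos.ne'
  have h1 : (Nat.card K).factorization p ≤ (Nat.card H).factorization p :=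
    (Nat.factorization_le_iff_dvd hK0 hH0).2 (Subgroup.card_dvd_of_le hKH) p
  have h2 : p ^ (Nat.card H).factorization p ∣ Nat.card K := by
    rw [← hc]; exact Subgroup.card_dvd_of_le hPK
  have h3 : (Nat.card H).factorization p ≤ (Nat.card K).factorization p :=
    (hp.pow_dvd_iff_le_factorization hK0).1 h2
  rw [hc, le_antisymm h1 h3]

end Conj

end Cfsg.Agent.Helper50
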