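import Cfsg.Agent.Helper50.LLemma

set_option autoImplicit false

/-! The L-Lemma for the whole group, in the shape of the statement S2834. -/

namespace Cfsg.Agent.Helper50

open Cfsg Cfsg.Agent.Helper46

section LLemmaTop

variable {G : Type*} [Group G] [Finite G] {p : ℕ} [Fact p.Prime]

theorem pCoreOf_top_eq : pCoreOf p (⊤ : Subgroup G) = pCore p G := by
  unfold pCoreOf
  have h := pCore_map_equiv (p := p) (Subgroup.topEquiv : (⊤ : Subgroup G) ≃* G)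
  rw [← h]
  rfl

/-- The L-Lemma in the whole group `G`. -/
theorem lLemma_top {T M A : Subgroup G} (hT : IsSylIn p T ⊤) (hTM : T ≤ M) (hMtop : M < ⊤)
    (huniq : ∀ X : Subgroup G, T ≤ X → X < ⊤ → X ≤ M) (hnn : ∃ h : G, cj h M ≠ M)
    (hpA : IsPGroup p A) (hAO : ¬ A ≤ pCoreOf p (⊤ : Subgroup G)) :
    ∃ L : Subgroup G, A ⊔ pCoreOf p (⊤ : Subgroup G) ≤ L ∧ ∃ L₀ : Subgroup G,
      A ⊔ pCoreOf p L ≤ L₀ ∧ L₀ < L ∧
      (∀ X : Subgroup G, A ⊔ pCoreOf p L ≤ X → X < L → X ≤ L₀) ∧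
      (∃ g : G, L₀ = L ⊓ cj g M) ∧
      ∀ x ∈ L, x ∉ L₀ → A ⊔ cj x A ⊔ pCoreOf p L = L := by
  obtain ⟨h0, hh0⟩ := hnn
  obtain ⟨L, -, g, -, k, -, c1, c2, c3, c4⟩ :=
    lLemma_aux (Nat.card (⊤ : Subgroup G)) ⊤ rfl T M A hT hTM hMtop huniq
      ⟨h0, Subgroup.mem_top _, hh0⟩ le_top hpA hAO
  -- conjugate back by `k⁻¹`
  have hOL' : pCoreOf p (cj k⁻¹ L) = cj k⁻¹ (pCoreOf p L) := (cj_pCoreOf k⁻¹ L).symm
  have hAL' : A ≤ cj k⁻¹ L := cj_le_iff.1 (le_sup_left.trans c1)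
  have hOtop : pCoreOf p (⊤ : Subgroup G) ≤ cj k⁻¹ L := by
    have h1 : cj k⁻¹ (pCoreOf p (⊤ : Subgroup G)) = pCoreOf p (⊤ : Subgroup G) :=
      cj_eq_self_of_mem_normalizer (pCoreOf_normalized ⊤ (Subgroup.mem_top _))
    rw [← h1]
    exact cj_mono (le_sup_right.trans c1)
  have hkey : A ⊔ pCoreOf p (cj k⁻¹ L) = cj k⁻¹ (cj k A ⊔ pCoreOf p L) := by
    rw [cj_sup, cj_inv_cj, hOL']
  have c2' : A ⊔ pCoreOf p (cj k⁻¹ L) ≤ cj (k⁻¹ * g) M := by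
    rw [hkey, cj_mul]
    exact cj_mono c2
  have c3' : ¬ cj k⁻¹ L ≤ cj (k⁻¹ * g) M := by
    rw [cj_mul, cj_le_cj_iff]
    exact c3
  have c4' : ∀ x ∈ cj k⁻¹ L, x ∉ cj (k⁻¹ * g) M →
      A ⊔ cj x A ⊔ pCoreOf p (cj k⁻¹ L) = cj k⁻¹ L := by
    intro x hx hxM
    have hx' : k * x * k⁻¹ ∈ L := by
      have := mem_cj.1 hx
      simpa using this
    have hxM' : k * x * k⁻¹ ∉ cj g M := by
      intro hc
      apply hxM
      rw [cj_mul, mem_cj]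
      simpa using hc
    have h1 := c4 _ hx' hxM'
    have h2 := congrArg (cj k⁻¹) h1
    rw [cj_sup, cj_sup, cj_inv_cj, ← cj_mul, ← cj_mul, ← hOL'] at h2
    have h3 : k⁻¹ * (k * x * k⁻¹) * k = x := by group
    rw [h3] at h2
    exact h2
  refine ⟨cj k⁻¹ L, sup_le hAL' hOtop, cj k⁻¹ L ⊓ cj (k⁻¹ * g) M, ?_, ?_, ?_, ⟨_, rfl⟩, ?_⟩
  · exact le_inf (sup_le hAL' (pCoreOf_le _)) c2'
  · exact lt_of_le_of_ne inf_le_left (fun heq => c3' (inf_eq_left.1 heq))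
  · intro X hX hXL
    refine le_inf hXL.le ?_
    by_contra hXM
    obtain ⟨x, hxX, hxM⟩ := SetLike.not_le_iff_exists.1 hXM
    have h1 := c4' x (hXL.le hxX) hxM
    have h2 : A ⊔ cj x A ⊔ pCoreOf p (cj k⁻¹ L) ≤ X :=
      sup_le (sup_le (le_sup_left.trans hX) (cj_le_of_mem hxX (le_sup_left.trans hX)))
        (le_sup_right.trans hX)
    rw [h1] at h2
    exact (not_le_of_gt hXL) h2
  · intro x hx hxL₀
    apply c4' x hx
    intro hc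
    exact hxL₀ (Subgroup.mem_inf.2 ⟨hx, hc⟩)

end LLemmaTop

end Cfsg.Agent.Helper50
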