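import Cfsg.Agent.Helper50.OmegaTwo
import Cfsg.Agent.Helper1.CoprimeAction

/-!
# Coprime automorphisms acting trivially modulo every maximal subgroup of a `p`-group (helper50)
-/

set_option autoImplicit false

namespace Cfsg.Agent.Helper50

open Cfsg.Agent.Helper24

variable {G : Type*} [Group G]

/-- The elements normalizing `Q` and `F` and acting trivially on `Q` modulo `F`. -/
def commStab (Q F : Subgroup G) : Subgroup G where
  carrier := {b | b ∈ Subgroup.normalizer (Q : Set G) ∧ b ∈ Subgroup.normalizer (F : Set G) ∧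
    ∀ v ∈ Q, b * v * b⁻¹ * v⁻¹ ∈ F}
  one_mem' := ⟨Subgroup.one_mem _, Subgroup.one_mem _, fun v _ => by simp⟩
  mul_mem' := by
    rintro b c ⟨hbQ, hbF, hb⟩ ⟨hcQ, hcF, hc⟩
    refine ⟨Subgroup.mul_mem _ hbQ hcQ, Subgroup.mul_mem _ hbF hcF, fun v hv => ?_⟩
    have h1 : b * (c * v * c⁻¹ * v⁻¹) * b⁻¹ ∈ F := conj_mem_of_mem_normalizer hbF (hc v hv)
    have h2 := hb v hv
    have : b * c * v * (b * c)⁻¹ * v⁻¹ = (b * (c * v * c⁻¹ * v⁻¹) * b⁻¹) * (b * v * b⁻¹ * v⁻¹) := by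
      group
    rw [this]; exact F.mul_mem h1 h2
  inv_mem' := by
    rintro b ⟨hbQ, hbF, hb⟩
    refine ⟨Subgroup.inv_mem _ hbQ, Subgroup.inv_mem _ hbF, fun v hv => ?_⟩
    have hv' : b⁻¹ * v * b ∈ Q := conj_inv_mem_of_mem_normalizer hbQ hv
    have h1 := F.inv_mem (hb _ hv')
    have : b⁻¹ * v * b⁻¹⁻¹ * v⁻¹ = (b * (b⁻¹ * v * b) * b⁻¹ * (b⁻¹ * v * b)⁻¹)⁻¹ := by group
    rw [this]; exact h1

theorem mem_commStab {Q F : Subgroup G} {b : G} : b ∈ commStab Q F ↔
    b ∈ Subgroup.normalizer (Q : Set G) ∧ b ∈ Subgroup.normalizer (F : Set G) ∧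
      ∀ v ∈ Q, b * v * b⁻¹ * v⁻¹ ∈ F := Iff.rfl

/-- **Trivial action modulo the Frattini subgroup.** `Q` a `p`-subgroup, `a` of order coprime to `p`
normalizing `Q` and every subgroup `M` of index `p` of `Q`, with `[a, v] ∈ M` for all `v ∈ Q`.
Then `a` centralizes `Q`. -/
theorem commute_of_commutator_mem_maximal [Finite G] {p : ℕ} [Fact p.Prime] {Q : Subgroup G}
    (hQ : IsPGroup p Q) {a : G} (haQ : a ∈ Subgroup.normalizer (Q : Set G))
    (hcop : (orderOf a).Coprime p)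
    (hM : ∀ M : Subgroup G, M ≤ Q → p * Nat.card M = Nat.card Q →
      a ∈ Subgroup.normalizer (M : Set G) ∧ ∀ v ∈ Q, a * v * a⁻¹ * v⁻¹ ∈ M) :
    ∀ v ∈ Q, a * v = v * a := by
  set 𝓜 : Set (Subgroup G) := {M | M ≤ Q ∧ p * Nat.card M = Nat.card Q} with h𝓜
  set F : Subgroup G := Q ⊓ sInf 𝓜 with hF
  have hFmem : ∀ y, y ∈ F ↔ y ∈ Q ∧ ∀ M ∈ 𝓜, y ∈ M := by
    intro y; rw [hF, Subgroup.mem_inf, Subgroup.mem_sInf]
  have hFQ : F ≤ Q := inf_le_left
  have haF : a ∈ Subgroup.normalizer (F : Set G) := by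
    apply mem_normalizer_of_forall_conj_mem
    · intro y hy
      have hy' := (hFmem y).mp hy
      exact (hFmem _).mpr ⟨conj_mem_of_mem_normalizer haQ hy'.1, fun M hM' =>
        conj_mem_of_mem_normalizer (hM M hM'.1 hM'.2).1 (hy'.2 M hM')⟩
    · intro y hy
      have hy' := (hFmem y).mp hy
      exact (hFmem _).mpr ⟨conj_inv_mem_of_mem_normalizer haQ hy'.1, fun M hM' =>
        conj_inv_mem_of_mem_normalizer (hM M hM'.1 hM'.2).1 (hy'.2 M hM')⟩
  have haB : a ∈ commStab Q F := by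
    refine ⟨haQ, haF, fun v hv => ?_⟩
    rw [hFmem]
    exact ⟨Q.mul_mem (conj_mem_of_mem_normalizer haQ hv) (Q.inv_mem hv), fun M hM' =>
      (hM M hM'.1 hM'.2).2 v hv⟩
  have hAB : Subgroup.zpowers a ≤ commStab Q F := Subgroup.zpowers_le.mpr haB
  obtain ⟨k, hk⟩ := (IsPGroup.iff_card).mp hQ
  have hcopAF : (Nat.card (Subgroup.zpowers a)).Coprime (Nat.card F) := by
    rw [Nat.card_zpowers]
    have h1 : Nat.card F ∣ p ^ k := hk ▸ Subgroup.card_dvd_of_le hFQ
    exact Nat.Coprime.coprime_dvd_right h1 (Nat.Coprime.pow_right k hcop)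
  have hsolv : Group.IsSolvable (Subgroup.zpowers a) := by
    have : IsCyclic (Subgroup.zpowers a) := inferInstance
    let _ : CommGroup (Subgroup.zpowers a) := IsCyclic.commGroup
    exact Group.isSolvable_of_comm (fun x y => mul_comm x y)
  -- every element of `Q` is the product of an element of `F` and an element commuting with `a`
  have hdecomp : ∀ v ∈ Q, ∃ d ∈ F, a * (d * v) = (d * v) * a := by
    intro v hv
    obtain ⟨d, hd, hdv⟩ := Cfsg.Agent.Helper1.exists_mem_coset_centralizer (Subgroup.zpowers a) F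
      (fun b hb => (hAB hb).2.1) hcopAF (Or.inl hsolv) v
      (fun b hb => ⟨b * v * b⁻¹ * v⁻¹, (hAB hb).2.2 v hv, by group⟩)
    refine ⟨d, hd, ?_⟩
    rw [Subgroup.mem_centralizer_iff] at hdv
    exact hdv a (Subgroup.mem_zpowers a)
  set C : Subgroup G := Q ⊓ Subgroup.centralizer ({a} : Set G) with hC
  have hCmem : ∀ x, x ∈ C ↔ x ∈ Q ∧ a * x = x * a := by
    intro x
    rw [hC, Subgroup.mem_inf, Subgroup.mem_centralizer_iff]
    constructor
    · rintro ⟨h1, h2⟩; exact ⟨h1, h2 a rfl⟩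
    · rintro ⟨h1, h2⟩; exact ⟨h1, fun y hy => by rw [Set.mem_singleton_iff.mp hy]; exact h2⟩
  have hCQ : C ≤ Q := inf_le_left
  by_cases hCeq : C = Q
  · intro v hv
    have : v ∈ C := by rw [hCeq]; exact hv
    exact ((hCmem v).mp this).2
  · exfalso
    obtain ⟨n, hn⟩ := exists_card_eq_pow_of_le hQ hCQ
    have hlt : Nat.card C < Nat.card Q := card_lt_of_lt (lt_of_le_of_ne hCQ hCeq)
    have hnk : n < k := by
      rw [hn, hk] at hlt
      exact (Nat.pow_lt_pow_iff_right (Fact.out : p.Prime).one_lt).mp hlt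
    obtain ⟨M, hCM, hMQ, hMcard⟩ := exists_between_card_pow hCQ hn (Nat.le_sub_one_of_lt hnk)
      (hk ▸ pow_dvd_pow p (Nat.sub_le k 1))
    have hM𝓜 : M ∈ 𝓜 := by
      refine ⟨hMQ, ?_⟩
      rw [hMcard, hk, ← pow_succ']
      congr 1; omega
    have hQM : Q ≤ M := by
      intro v hv
      obtain ⟨d, hd, hdv⟩ := hdecomp v hv
      have h1 : d ∈ M := ((hFmem d).mp hd).2 M hM𝓜
      have h2 : d * v ∈ M := hCM ((hCmem _).mpr ⟨Q.mul_mem (hFQ hd) hv, hdv⟩)
      have : v = d⁻¹ * (d * v) := by group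
      rw [this]; exact M.mul_mem (M.inv_mem h1) h2
    have h3 : Nat.card Q ≤ Nat.card M := Nat.le_of_dvd Nat.card_pos (Subgroup.card_dvd_of_le hQM)
    rw [hMcard, hk] at h3
    have := (Nat.pow_le_pow_iff_right (Fact.out : p.Prime).one_lt).mp h3
    omega

/-- `Q` a `2`-subgroup, `a` of odd order normalizing `Q` and every subgroup of index two of `Q`.
Then `a` centralizes `Q`. -/
theorem commute_of_normalizes_index_two [Finite G] {Q : Subgroup G} (hQ : IsPGroup 2 Q) {a : G}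
    (haQ : a ∈ Subgroup.normalizer (Q : Set G)) (hcop : (orderOf a).Coprime 2)
    (hM : ∀ M : Subgroup G, M ≤ Q → 2 * Nat.card M = Nat.card Q →
      a ∈ Subgroup.normalizer (M : Set G)) :
    ∀ v ∈ Q, a * v = v * a := by
  apply commute_of_commutator_mem_maximal hQ haQ hcop
  intro M hMQ hcard
  have haM := hM M hMQ hcard
  refine ⟨haM, fun v hv => ?_⟩
  have hidx : (M.subgroupOf Q).index = 2 := by
    have h1 : Nat.card M * M.relIndex Q = Nat.card Q := by
      rw [← Subgroup.relIndex_bot_left, Subgroup.relIndex_mul_relIndex _ _ _ bot_le hMQ,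
        Subgroup.relIndex_bot_left]
    have h2 : Nat.card M * M.relIndex Q = Nat.card M * 2 := by rw [h1, ← hcard, mul_comm]
    exact Nat.eq_of_mul_eq_mul_left Nat.card_pos h2
  have hcv : a * v * a⁻¹ ∈ Q := conj_mem_of_mem_normalizer haQ hv
  have hiff : a * v * a⁻¹ ∈ M ↔ v ∈ M := by
    constructor
    · intro h
      have := conj_inv_mem_of_mem_normalizer haM h
      have h3 : a⁻¹ * (a * v * a⁻¹) * a = v := by group
      rwa [h3] at this
    · exact fun h => conj_mem_of_mem_normalizer haM h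
  have key := Subgroup.mul_mem_iff_of_index_two hidx (a := (⟨a * v * a⁻¹, hcv⟩ : Q))
    (b := (⟨v⁻¹, Q.inv_mem hv⟩ : Q))
  simp only [Subgroup.mem_subgroupOf] at key
  have : a * v * a⁻¹ * v⁻¹ ∈ M := by
    have h4 : ((⟨a * v * a⁻¹, hcv⟩ * ⟨v⁻¹, Q.inv_mem hv⟩ : Q) : G) = a * v * a⁻¹ * v⁻¹ := rfl
    rw [← h4]
    apply key.mpr
    simp only [inv_mem_iff]
    exact hiff
  exact this

end Cfsg.Agent.Helper50
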