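import Mathlib
import Cfsg.Agent.Helper99.O9.Defs

set_option autoImplicit false
set_option linter.unusedSectionVars false
set_option linter.unusedVariables false

/-!
# S2517 (helper99 O9 farm #13715) piece (NEGI): `neg_inOm`
-/

namespace Cfsg.Agent.Helper50.O9

open Matrix QuadraticMap Cfsg.Agent.Helper44 Cfsg.Agent.Helper44.QType Cfsg.Agent.Helper99.O9

universe u

variable {F : Type u} [Field F] [Fintype F]

/-- (NEGI) -/
theorem neg_inOm {P : OPair F} (hn : P.NegOm) (hP : P.InOm) : P.neg.InOm := by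
  rw [OPair.negOm_def] at hn
  obtain ⟨z, hz, hz1⟩ := hn
  rw [OPair.inOm_def] at hP ⊢
  have hzn : z = Cfsg.Agent.Helper99.O9.negOne P.Q := by
    apply Subtype.ext
    apply Units.ext
    rw [hz1, Cfsg.Agent.Helper99.O9.negOne_coe]
  rw [hzn] at hz
  have hg : P.neg.g = Cfsg.Agent.Helper99.O9.negOne P.Q * P.g := OPair.neg_g P
  show P.neg.g ∈ Cfsg.Omega F ⇑P.Q
  rw [hg]
  exact Subgroup.mul_mem _ hz hP

end Cfsg.Agent.Helper50.O9
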