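import Mathlib
import Cfsg.Agent.Helper99.O9.Defs

set_option autoImplicit false
set_option linter.unusedSectionVars false
set_option linter.unusedVariables false

/-!
# S2517 (helper99 O9 farm #13715) piece (NEGN): `neg_neg_sim`
-/

namespace Cfsg.Agent.Helper50.O9

open Matrix QuadraticMap Cfsg.Agent.Helper44 Cfsg.Agent.Helper44.QType Cfsg.Agent.Helper99.O9

universe u

variable {F : Type u} [Field F] [Fintype F]

/-- `-1` acts as `-1` -/
theorem NEGN_negOne_mulVec {ι : Type} [Fintype ι] [DecidableEq ι] (Q : QuadraticForm F (ι → F))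
    (v : ι → F) :
    (((Cfsg.Agent.Helper99.O9.negOne Q : ↥(Cfsg.isometryGroup F ⇑Q)) : GL ι F) : Matrix ι ι F) *ᵥ v
      = -v := by
  rw [Cfsg.Agent.Helper99.O9.negOne_coe, Matrix.neg_mulVec, Matrix.one_mulVec]

/-- two pairs on the same form whose isometries act in the same way are isometric -/
theorem NEGN_sim_of_mulVec {ι : Type} [Fintype ι] [DecidableEq ι] (Q : QuadraticForm F (ι → F))
    (g g' : ↥(Cfsg.isometryGroup F ⇑Q))
    (h : ∀ v, ((g' : GL ι F) : Matrix ι ι F) *ᵥ v = ((g : GL ι F) : Matrix ι ι F) *ᵥ v) :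
    (OPair.mk ι Q g').Sim (OPair.mk ι Q g) := by
  rw [OPair.sim_def]
  show ∃ (C : (ι → F) ≃ₗ[F] (ι → F)) (hC : ∀ w, Q (C w) = Q w),
    isoTransport ⇑Q ⇑Q C hC g' = g
  have hC : ∀ w : ι → F, Q ((LinearEquiv.refl F (ι → F)) w) = Q w := fun w => by
    rw [LinearEquiv.refl_apply]
  refine ⟨LinearEquiv.refl F (ι → F), hC, ?_⟩
  apply isometryGroup_ext
  intro v
  rw [isoTransport_mulVec]
  exact h v

/-- (NEGN) -/
theorem neg_neg_sim (P : OPair F) : P.neg.neg.Sim P :=
  NEGN_sim_of_mulVec P.Q P.g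
    (Cfsg.Agent.Helper99.O9.negOne P.Q * (Cfsg.Agent.Helper99.O9.negOne P.Q * P.g)) (by
      intro v
      rw [isometryGroup_mul_mulVec, isometryGroup_mul_mulVec, NEGN_negOne_mulVec,
        NEGN_negOne_mulVec, neg_neg])

end Cfsg.Agent.Helper50.O9
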