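import Cfsg.Agent.Helper78.Olsson.Defs
import Cfsg.Agent.Helper16.ContribMajor
import Cfsg.Agent.Helper77.DefectOrder

/-!
# Olsson's theorem (helper78, #7662, S4539): (R2) the power form of the rows

`rowE D (y ^ γ) χ i = ∑_θ A θ i · μ_θ ^ γ` with integers `A θ i = ⟨χ|_H, θ⟩ · x_{θ i}` and
`μ_θ = conj (θ(y) / θ(1))`, a `p ^ n`-th root of unity.
-/

set_option autoImplicit false
set_option linter.style.haveILetI false
set_option linter.unusedSectionVars false
set_option linter.unusedVariables false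

noncomputable section

namespace Cfsg.Agent.Helper50.Olsson

open Cfsg
open scoped ComplexConjugate
open Cfsg.Agent.S4426 (cut)
open Cfsg.Agent.Helper16 (contribE)
open Cfsg.Agent.Helper78.Olsson

section GLevel

variable {G : Type*} [Group G] [Fintype G] {M : Ideal AlgInt} {p : ℕ}

/-- (R2) power form of the rows. -/
theorem exists_rowE_pow_form [Fact p.Prime] (H : Subgroup G) [Fintype H] (yH : H)
    (hyc : yH ∈ Subgroup.center H) (n : ℕ) (hyHpow : yH ^ (p ^ n) = 1)
    {b : Set (IrrCharacter H)} (D : RedData p b) :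
    ∃ μ : IrrCharacter H → ℂ, (∀ θ, μ θ ^ (p ^ n) = 1) ∧
      ∀ χ : IrrCharacter G, ∃ A : IrrCharacter H → Fin 2 → ℤ, ∀ (γ : ℕ) (i : Fin 2),
        rowE D ((yH : G) ^ γ) (χ : G → ℂ) i = ∑ θ : IrrCharacter H, (A θ i : ℂ) * μ θ ^ γ := by
  classical
  choose lam hlam using fun θ : IrrCharacter H => Cfsg.Agent.Helper16.irr_central_mul θ hyc
  have hlamN : ∀ θ : IrrCharacter H, lam θ ^ (p ^ n) = 1 := fun θ =>
    Cfsg.Agent.Helper16.central_scalar_pow_eq_one θ yH (lam θ) (hlam θ) hyHpow
  refine ⟨fun θ => conj (lam θ), fun θ => ?_, fun χ => ?_⟩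
  · rw [← map_pow, hlamN, map_one]
  · -- the restriction of `χ` to `H`
    have hres : IsCharacter H (fun c : H => (χ : G → ℂ) (c : G)) :=
      Helper74.isCharacter_restrict H (Helper74.irr_isCharacter χ)
    have hnat : ∀ θ : IrrCharacter H, ∃ m : ℕ,
        classInner (fun c : H => (χ : G → ℂ) (c : G)) (θ : H → ℂ) = (m : ℂ) := fun θ =>
      Helper74.isCharacter_inner_irr_nat hres θ
    choose aa haa using hnat
    have hexp := Helper74.isCharacter_eq_sum_irr hres
    refine ⟨fun θ i => (aa θ : ℤ) * D.x θ i, fun γ i => ?_⟩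
    -- the shifted function as a combination of irreducible characters
    have hF : (fun c : H => (χ : G → ℂ) ((yH : G) ^ γ * (c : G))) =
        ∑ θ : IrrCharacter H, ((aa θ : ℂ) * lam θ ^ γ) • (θ : H → ℂ) := by
      funext c
      have h1 : (χ : G → ℂ) ((yH : G) ^ γ * (c : G)) =
          (fun c : H => (χ : G → ℂ) (c : G)) (yH ^ γ * c) := by
        simp only [Subgroup.coe_mul, Subgroup.coe_pow]
      rw [h1, hexp, Finset.sum_apply, Finset.sum_apply]
      refine Finset.sum_congr rfl fun θ _ => ?_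
      rw [Pi.smul_apply, Pi.smul_apply, smul_eq_mul, smul_eq_mul, haa θ,
        Cfsg.Agent.Helper16.irr_central_pow_mul θ yH (lam θ) (hlam θ) γ c]
      ring
    unfold rowE
    rw [hF, Helper79.classInner_sum_right]
    refine Finset.sum_congr rfl fun θ _ => ?_
    rw [Helper79.classInner_smul_right, D.hinner i θ, map_mul, map_pow, Complex.conj_natCast]
    push_cast
    ring

end GLevel

end Cfsg.Agent.Helper50.Olsson

end
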