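import Cfsg.Agent.Helper24.OddOmega
import Mathlib.GroupTheory.Sylow
import Mathlib.GroupTheory.SpecificGroups.Cyclic

/-!
# The `Ω₂` lemma for every prime, cyclic `2`-groups, and groups whose maximal subgroups are invariant
(helper50)
-/

set_option autoImplicit false

namespace Cfsg.Agent.Helper50

open Cfsg.Agent.Helper24

variable {G : Type*} [Group G]

/-- **`Ω₂` lemma**, elementwise, any prime `p`: `a` normalizes the `p`-subgroup `P`, has order coprime
to `p` and commutes with every `x ∈ P` with `x ^ p ^ 2 = 1`. Then `a` centralizes `P`. -/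
theorem commute_of_commute_omega_sq [Finite G] {p : ℕ} [hp : Fact p.Prime] {a : G}
    (hcop : (orderOf a).Coprime p) :
    ∀ (P : Subgroup G), IsPGroup p P → a ∈ Subgroup.normalizer (P : Set G) →
      (∀ x ∈ P, x ^ p ^ 2 = 1 → a * x = x * a) → ∀ x ∈ P, a * x = x * a := by
  suffices H : ∀ n : ℕ, ∀ P : Subgroup G, Nat.card P = n → IsPGroup p P →
      a ∈ Subgroup.normalizer (P : Set G) → (∀ x ∈ P, x ^ p ^ 2 = 1 → a * x = x * a) →
      ∀ x ∈ P, a * x = x * a from fun P => H _ P rfl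
  intro n
  induction n using Nat.strong_induction_on with
  | _ n ih => ?_
  intro P hcard hP haP hΩ
  have ih' : ∀ Q : Subgroup G, Q ≤ P → Q ≠ P → a ∈ Subgroup.normalizer (Q : Set G) →
      ∀ x ∈ Q, a * x = x * a := by
    intro Q hQP hne haQ
    have hlt : Nat.card Q < n := hcard ▸ card_lt_of_lt (lt_of_le_of_ne hQP hne)
    exact ih _ hlt Q rfl (hP.to_le hQP) haQ (fun x hx hxp => hΩ x (hQP hx) hxp)
  by_contra hcon
  push Not at hcon
  have hkey : ¬ (∀ x ∈ P, a * (a * x * a⁻¹ * x⁻¹) = (a * x * a⁻¹ * x⁻¹) * a) := by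
    intro h
    obtain ⟨x, hx, hax⟩ := hcon
    apply hax
    have hwP : a * x * a⁻¹ * x⁻¹ ∈ P :=
      P.mul_mem (conj_mem_of_mem_normalizer haP hx) (P.inv_mem hx)
    exact commute_of_commute_commutator a x (h x hx) (coprime_orderOf_of_mem hP hwP hcop)
  have hZ : ∀ N : Subgroup G, N ≤ P → N ≠ P → P ≤ Subgroup.normalizer (N : Set G) →
      a ∈ Subgroup.normalizer (N : Set G) → ∀ n ∈ N, ∀ x ∈ P, n * x = x * n := by
    intro N hNP hNne hPN haN
    have hCN := ih' N hNP hNne haN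
    have hCN' : ∀ x ∈ N, a⁻¹ * x = x * a⁻¹ := fun x hx => inv_mul_comm_of_mul_comm (hCN x hx)
    set Z : Subgroup G := P ⊓ Subgroup.centralizer (N : Set G) with hZdef
    have hZmem : ∀ z, z ∈ Z ↔ z ∈ P ∧ ∀ n ∈ N, n * z = z * n := by
      intro z; rw [hZdef, Subgroup.mem_inf, Subgroup.mem_centralizer_iff]; rfl
    have haZ : a ∈ Subgroup.normalizer (Z : Set G) := mem_normalizer_inf_centralizer haP hCN
    have hwZ : ∀ x ∈ P, a * x * a⁻¹ * x⁻¹ ∈ Z := by
      intro x hx
      rw [hZmem]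
      refine ⟨P.mul_mem (conj_mem_of_mem_normalizer haP hx) (P.inv_mem hx), fun n hn => ?_⟩
      have hmN : x⁻¹ * n * x ∈ N := conj_inv_mem_of_mem_normalizer (hPN hx) hn
      have hm : a⁻¹ * (x⁻¹ * n * x) * a = x⁻¹ * n * x := by
        rw [hCN' _ hmN]; group
      have han : a * n * a⁻¹ = n := by rw [hCN n hn]; group
      have hconj : (a * x * a⁻¹ * x⁻¹) * n * (a * x * a⁻¹ * x⁻¹)⁻¹ = n := by
        calc (a * x * a⁻¹ * x⁻¹) * n * (a * x * a⁻¹ * x⁻¹)⁻¹
            = a * x * (a⁻¹ * (x⁻¹ * n * x) * a) * x⁻¹ * a⁻¹ := by group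
          _ = a * x * (x⁻¹ * n * x) * x⁻¹ * a⁻¹ := by rw [hm]
          _ = a * n * a⁻¹ := by group
          _ = n := han
      calc n * (a * x * a⁻¹ * x⁻¹)
          = ((a * x * a⁻¹ * x⁻¹) * n * (a * x * a⁻¹ * x⁻¹)⁻¹) * (a * x * a⁻¹ * x⁻¹) := by rw [hconj]
        _ = (a * x * a⁻¹ * x⁻¹) * n := by group
    by_cases hZP : Z = P
    · intro n hn x hx
      have hxZ : x ∈ Z := by rw [hZP]; exact hx
      exact ((hZmem x).mp hxZ).2 n hn
    · exfalso
      apply hkey
      intro x hx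
      exact ih' Z inf_le_left hZP haZ _ (hwZ x hx)
  have hPne : P ≠ ⊥ := by
    intro h
    obtain ⟨x, hx, hax⟩ := hcon
    rw [h, Subgroup.mem_bot] at hx
    subst hx
    simp at hax
  obtain ⟨M, hMP, hMne, hMpow, hMcomm⟩ := exists_proper_containing_pow_comm hP hPne
  set S : Set G := {y | ∃ x ∈ P, y = x ^ p} ∪ {y | ∃ x ∈ P, ∃ x' ∈ P, y = x * x' * x⁻¹ * x'⁻¹}
    with hSdef
  set Φ : Subgroup G := Subgroup.closure S with hΦdef
  have hΦM : Φ ≤ M := by
    rw [hΦdef, Subgroup.closure_le]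
    rintro y (⟨x, hx, rfl⟩ | ⟨x, hx, x', hx', rfl⟩)
    · exact hMpow x hx
    · exact hMcomm x hx x' hx'
  have hΦP : Φ ≤ P := le_trans hΦM hMP
  have hΦne : Φ ≠ P := fun h => hMne (le_antisymm hMP (h ▸ hΦM))
  have hnormS : ∀ g ∈ Subgroup.normalizer (P : Set G), ∀ y ∈ S, g * y * g⁻¹ ∈ S := by
    intro g hg y hy
    rcases hy with ⟨x, hx, rfl⟩ | ⟨x, hx, x', hx', rfl⟩
    · left
      exact ⟨g * x * g⁻¹, conj_mem_of_mem_normalizer hg hx, (conj_pow).symm⟩
    · right
      exact ⟨g * x * g⁻¹, conj_mem_of_mem_normalizer hg hx, g * x' * g⁻¹,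
        conj_mem_of_mem_normalizer hg hx', by group⟩
  have hnormΦ : Subgroup.normalizer (P : Set G) ≤ Subgroup.normalizer (Φ : Set G) := by
    intro g hg
    apply Subgroup.normalizer_le_normalizer_closure
    apply mem_normalizer_of_forall_conj_mem (hnormS g hg)
    have := hnormS g⁻¹ (Subgroup.inv_mem _ hg)
    simpa using this
  have hcent := hZ Φ hΦP hΦne (le_trans Subgroup.le_normalizer hnormΦ) (hnormΦ haP)
  have hCΦ := ih' Φ hΦP hΦne (hnormΦ haP)
  apply hkey
  intro x hx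
  set y : G := a * x * a⁻¹ with hydef
  have hyP : y ∈ P := conj_mem_of_mem_normalizer haP hx
  have hxiP : x⁻¹ ∈ P := P.inv_mem hx
  set c : G := x⁻¹ * y * (x⁻¹)⁻¹ * y⁻¹ with hcdef
  have hcΦ : c ∈ Φ := Subgroup.subset_closure (Or.inr ⟨x⁻¹, hxiP, y, hyP, rfl⟩)
  have h : x⁻¹ * y = c * y * x⁻¹ := by rw [hcdef]; group
  have hcy : Commute c y := hcent c hcΦ y hyP
  have hcx : Commute c x⁻¹ := hcent c hcΦ x⁻¹ hxiP
  have hpow := mul_pow_of_central h hcy hcx p
  have hxpΦ : x ^ p ∈ Φ := Subgroup.subset_closure (Or.inl ⟨x, hx, rfl⟩)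
  have hcp : c ^ p = 1 := by
    have h1 := pow_mul_of_central h hcx p
    have hxp : (x⁻¹) ^ p ∈ Φ := by rw [inv_pow]; exact Φ.inv_mem hxpΦ
    have h2 : (x⁻¹) ^ p * y = y * (x⁻¹) ^ p := hcent _ hxp y hyP
    rw [h2] at h1
    have h3 : c ^ p * (y * (x⁻¹) ^ p) = 1 * (y * (x⁻¹) ^ p) := by
      rw [one_mul, ← mul_assoc]; exact h1.symm
    exact mul_right_cancel h3
  have hyp : y ^ p = x ^ p := by
    rw [hydef, conj_pow]
    have := hCΦ (x ^ p) hxpΦ
    rw [this]; group
  have hwp : (a * x * a⁻¹ * x⁻¹) ^ p = c ^ (∑ i ∈ Finset.range p, i) := by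
    rw [← hydef, hpow, hyp, inv_pow]; group
  have hwpp : (a * x * a⁻¹ * x⁻¹) ^ p ^ 2 = 1 := by
    rw [pow_two, pow_mul, hwp, ← pow_mul, mul_comm, pow_mul, hcp, one_pow]
  exact hΩ _ (P.mul_mem hyP hxiP) hwpp

/-- A finite cyclic group has at most one element of order two. -/
theorem eq_of_orderOf_two_of_isCyclic {V : Type*} [Group V] [Finite V] [IsCyclic V] {u v : V}
    (hu : orderOf u = 2) (hv : orderOf v = 2) : u = v := by
  classical
  have : Fintype V := Fintype.ofFinite V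
  by_contra hne
  have hu1 : u ≠ 1 := by
    intro h; rw [h, orderOf_one] at hu; omega
  have hv1 : v ≠ 1 := by
    intro h; rw [h, orderOf_one] at hv; omega
  have hu2 : u ^ 2 = 1 := by rw [← hu]; exact pow_orderOf_eq_one u
  have hv2 : v ^ 2 = 1 := by rw [← hv]; exact pow_orderOf_eq_one v
  have hle := IsCyclic.card_pow_eq_one_le (α := V) (n := 2) (by norm_num)
  have hsub : ({1, u, v} : Finset V) ⊆ Finset.univ.filter (fun a : V => a ^ 2 = 1) := by
    intro z hz
    simp only [Finset.mem_insert, Finset.mem_singleton] at hz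
    simp only [Finset.mem_filter, Finset.mem_univ, true_and]
    rcases hz with rfl | rfl | rfl
    · simp
    · exact hu2
    · exact hv2
  have hcard : ({1, u, v} : Finset V).card = 3 := by
    rw [Finset.card_insert_of_notMem, Finset.card_insert_of_notMem, Finset.card_singleton]
    · simpa using hne
    · simp only [Finset.mem_insert, Finset.mem_singleton, not_or]
      exact ⟨fun h => hu1 h.symm, fun h => hv1 h.symm⟩
  have := Finset.card_le_card hsub
  omega

/-- An element of odd order normalizing a cyclic `2`-subgroup centralizes it. -/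
theorem commute_of_normalizes_cyclic_two [Finite G] {V : Subgroup G} (hV : IsPGroup 2 V)
    (hcyc : IsCyclic V) {a : G} (ha : a ∈ Subgroup.normalizer (V : Set G))
    (hcop : (orderOf a).Coprime 2) : ∀ v ∈ V, a * v = v * a := by
  have hcomm : ∀ x ∈ V, ∀ y ∈ V, x * y = y * x := by
    intro x hx y hy
    have := hcyc.isMulCommutative.is_comm.comm (⟨x, hx⟩ : V) ⟨y, hy⟩
    exact congrArg Subtype.val this
  obtain ⟨k, hk⟩ := (IsPGroup.iff_card).mp hV
  have hcopV : (orderOf a).Coprime (Nat.card V) := by rw [hk]; exact Nat.Coprime.pow_right k hcop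
  apply commute_of_commute_prime_order hcomm ha hcopV
  intro v hv hprime
  have hdvd : orderOf v ∣ 2 ^ k := hk ▸ orderOf_dvd_card_of_mem hv
  have hv2 : orderOf v = 2 := by
    have := (Nat.prime_dvd_prime_iff_eq hprime Nat.prime_two).mp (hprime.dvd_of_dvd_pow hdvd)
    exact this
  have hconjV : a * v * a⁻¹ ∈ V := conj_mem_of_mem_normalizer ha hv
  have hconj2 : orderOf (a * v * a⁻¹) = 2 := by
    rw [← hv2]
    exact orderOf_injective (MulAut.conj a).toMonoidHom (MulAut.conj a).injective v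
  have h1 : orderOf (⟨a * v * a⁻¹, hconjV⟩ : V) = 2 := by rw [Subgroup.orderOf_mk]; exact hconj2
  have h2 : orderOf (⟨v, hv⟩ : V) = 2 := by rw [Subgroup.orderOf_mk]; exact hv2
  have h3 := eq_of_orderOf_two_of_isCyclic h1 h2
  have h4 : a * v * a⁻¹ = v := congrArg Subtype.val h3
  calc a * v = a * v * a⁻¹ * a := by group
    _ = v * a := by rw [h4]

/-- Between a subgroup `H` of order `p ^ n` of a `p`-subgroup `P` and `P` there are subgroups of every
order `p ^ m` with `n ≤ m` and `p ^ m ∣ #P`. -/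
theorem exists_between_card_pow [Finite G] {p : ℕ} [Fact p.Prime] {P H : Subgroup G} (hHP : H ≤ P)
    {n m : ℕ} (hH : Nat.card H = p ^ n) (hnm : n ≤ m) (hdvd : p ^ m ∣ Nat.card P) :
    ∃ K : Subgroup G, H ≤ K ∧ K ≤ P ∧ Nat.card K = p ^ m := by
  have hH' : Nat.card (H.subgroupOf P) = p ^ n := by
    rw [← hH]; exact Nat.card_congr (Subgroup.subgroupOfEquivOfLe hHP).toEquiv
  obtain ⟨K, hK, hHK⟩ := Sylow.exists_subgroup_card_pow_prime_le p hdvd (H.subgroupOf P) hH' hnm
  refine ⟨K.map P.subtype, ?_, Subgroup.map_subtype_le K, ?_⟩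
  · intro x hx
    have : (⟨x, hHP hx⟩ : P) ∈ H.subgroupOf P := by rw [Subgroup.mem_subgroupOf]; exact hx
    exact ⟨⟨x, hHP hx⟩, hHK this, rfl⟩
  · rw [Subgroup.card_map_of_injective P.subtype_injective]; exact hK

/-- The order of a subgroup of a `p`-subgroup is a power of `p`. -/
theorem exists_card_eq_pow_of_le [Finite G] {p : ℕ} [Fact p.Prime] {P H : Subgroup G}
    (hP : IsPGroup p P) (hHP : H ≤ P) : ∃ n : ℕ, Nat.card H = p ^ n :=
  (IsPGroup.iff_card).mp (hP.to_le hHP)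

/-- An element normalizing two subgroups normalizes their join. -/
theorem mem_normalizer_sup_of_mem {A B : Subgroup G} {x : G}
    (hA : x ∈ Subgroup.normalizer (A : Set G)) (hB : x ∈ Subgroup.normalizer (B : Set G)) :
    x ∈ Subgroup.normalizer ((A ⊔ B : Subgroup G) : Set G) := by
  rw [Subgroup.mem_normalizer_iff_map_conj_eq, Subgroup.map_sup,
    Subgroup.mem_normalizer_iff_map_conj_eq.mp hA, Subgroup.mem_normalizer_iff_map_conj_eq.mp hB]

end Cfsg.Agent.Helper50
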