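import Cfsg.Agent.Helper88.PSL3Fus
import Cfsg.Agent.S2364

/-!
# (Q5) of helper88's WANTED #4677 for S5318: the image of a Sylow 2-subgroup of `GL₂(F)` in `SL₃(F)` has
Sylow order (helper50)
-/

set_option autoImplicit false

namespace Cfsg.Agent.Helper50.PSL3W

open Matrix Cfsg.Agent.Helper37.PSL3Inv Cfsg.Agent.Helper37.SU3Inv Cfsg.Agent.Helper37.GL2S2
  Cfsg.Agent.Helper85 Cfsg.Agent.Helper88.PSL3F

theorem blkSL_injective {F : Type*} [Field F] :
    Function.Injective (blkSL : GL (Fin 2) F →* Matrix.SpecialLinearGroup (Fin 3) F) := by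
  intro A B hAB
  have h1 := congrArg Subtype.val hAB
  rw [blkSL_val, blkSL_val] at h1
  exact Units.ext (blk_inj h1).1

/-- the arithmetic: `|SL₃(q)| = |GL₂(q)| * (q² (q² + q + 1))` -/
theorem card_SL3_eq (q : ℕ) (hq : 1 ≤ q) :
    q ^ 2 * ((q ^ 3 - q ^ 0) * (q ^ 3 - q ^ 1)) =
      (q * ((q - 1) * (q ^ 2 - 1))) * (q ^ 2 * (q ^ 2 + q + 1)) := by
  obtain ⟨r, rfl⟩ : ∃ r, q = r + 1 := ⟨q - 1, by omega⟩
  have h1 : (r + 1) ^ 3 - (r + 1) ^ 0 = r ^ 3 + 3 * r ^ 2 + 3 * r :=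
    Nat.sub_eq_of_eq_add (by ring)
  have h2 : (r + 1) ^ 3 - (r + 1) ^ 1 = r ^ 3 + 3 * r ^ 2 + 2 * r :=
    Nat.sub_eq_of_eq_add (by ring)
  have h3 : (r + 1) ^ 2 - 1 = r ^ 2 + 2 * r := Nat.sub_eq_of_eq_add (by ring)
  rw [h1, h2, h3, Nat.add_sub_cancel]
  ring

variable {F : Type*} [Field F] [Fintype F]

theorem card_map_blkSL (hF : Fintype.card F % 2 = 1) (P : Sylow 2 (GL (Fin 2) F)) :
    Nat.card ((P : Subgroup (GL (Fin 2) F)).map blkSL) =
      2 ^ (Nat.card (Matrix.SpecialLinearGroup (Fin 3) F)).factorization 2 := by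
  rw [Subgroup.card_map_of_injective blkSL_injective, Sylow.card_eq_multiplicity]
  congr 1
  have hq1 : 1 ≤ Fintype.card F := Fintype.card_pos
  have hGL := Cfsg.Agent.Helper37.GL2.card_GL2 (F := F)
  have hSL := Cfsg.Agent.S2364.card_SL_formula (F := F) 3 (by norm_num)
  rw [show (3 - 1 : ℕ) = 2 from rfl, Finset.prod_range_succ, Finset.prod_range_succ,
    Finset.prod_range_zero, one_mul, card_SL3_eq _ hq1, ← hGL] at hSL
  have hodd : Odd (Fintype.card F) := Nat.odd_iff.mpr hF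
  have hm : Odd (Fintype.card F ^ 2 * (Fintype.card F ^ 2 + Fintype.card F + 1)) := by
    apply Odd.mul hodd.pow
    have : Even (Fintype.card F ^ 2 + Fintype.card F) := Odd.add_odd hodd.pow hodd
    exact this.add_one
  have hm2 : ¬ 2 ∣ Fintype.card F ^ 2 * (Fintype.card F ^ 2 + Fintype.card F + 1) := by
    intro h2
    exact (Nat.not_even_iff_odd.mpr hm) (even_iff_two_dvd.mpr h2)
  have hGL0 : Nat.card (GL (Fin 2) F) ≠ 0 := Nat.card_pos.ne'
  have hm0 : Fintype.card F ^ 2 * (Fintype.card F ^ 2 + Fintype.card F + 1) ≠ 0 := by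
    intro h0
    rw [h0] at hm2
    exact hm2 (dvd_zero 2)
  rw [hSL, Nat.factorization_mul hGL0 hm0, Finsupp.add_apply,
    Nat.factorization_eq_zero_of_not_dvd hm2, add_zero]

end Cfsg.Agent.Helper50.PSL3W
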