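import Cfsg.Agent.Helper88.PSL3Fus

/-!
# (W2) of helper88's WANTED #4677 for S5318: central involutions of the wreathed Sylow subgroup (helper50)
-/

set_option autoImplicit false

namespace Cfsg.Agent.Helper50.PSL3W

open Matrix Cfsg.Agent.Helper37.PSL3Inv Cfsg.Agent.Helper37.SU3Inv Cfsg.Agent.Helper37.GL2S2
  Cfsg.Agent.Helper85 Cfsg.Agent.Helper88.PSL3F

variable {F : Type*} [Field F]

theorem sw_mul_dg (a b : Fˣ) : (sw : GL (Fin 2) F) * dg a b = dg b a * sw := by
  have h := sw_conj a b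
  rw [← h, inv_mul_cancel_right]

theorem dg_neg_one : dg (-1 : Fˣ) (-1) = (-1 : GL (Fin 2) F) := by
  apply Units.ext
  rw [dg_val]
  ext i j
  fin_cases i <;> fin_cases j <;> simp

theorem sw_mem {P : Subgroup (GL (Fin 2) F)} {ζ : Fˣ} {a : ℕ} (h : WrData P ζ a) : sw ∈ P := by
  rw [h.mem]
  refine ⟨0, 0, Or.inr ?_⟩
  rw [pow_zero, dg_one, one_mul]

theorem dg_pow_mem {P : Subgroup (GL (Fin 2) F)} {ζ : Fˣ} {a : ℕ} (h : WrData P ζ a) (i j : ℕ) :
    dg (ζ ^ i) (ζ ^ j) ∈ P := by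
  rw [h.mem]
  exact ⟨i, j, Or.inl rfl⟩

theorem zeta_ne_one {P : Subgroup (GL (Fin 2) F)} {ζ : Fˣ} {a : ℕ} (h : WrData P ζ a) : ζ ≠ 1 := by
  intro h1
  have h2 := h.hζ
  rw [h1, orderOf_one] at h2
  have h3 : 2 ^ 2 ≤ 2 ^ a := Nat.pow_le_pow_right (by norm_num) h.ha
  omega

theorem wr_cen {P : Subgroup (GL (Fin 2) F)} {ζ : Fˣ} {a : ℕ} (h : WrData P ζ a) :
    ∀ z ∈ P, (∀ x ∈ P, z * x = x * z) → z * z = 1 → z = 1 ∨ z = -1 := by
  intro z hz hcen hzz
  obtain ⟨i, j, hz1 | hz1⟩ := (h.mem z).mp hz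
  · -- diagonal
    set u := ζ ^ i
    set v := ζ ^ j
    have h1 := hcen sw (sw_mem h)
    rw [hz1, sw_mul_dg] at h1
    have h2 : dg u v = dg v u := mul_right_cancel h1
    have huv : u = v := (dg_injective h2).1
    rw [hz1, dg_mul, ← dg_one] at hzz
    have huu : u * u = 1 := (dg_injective hzz).1
    have h3 : (u : F) * (u : F) = 1 := by
      have := congrArg Units.val huu
      simpa using this
    have h4 : ((u : F) - 1) * ((u : F) + 1) = 0 := by ring_nf; rw [pow_two, h3]; ring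
    rcases mul_eq_zero.mp h4 with h5 | h5
    · left
      have hu1 : u = 1 := Units.ext (by simpa using sub_eq_zero.mp h5)
      rw [hz1, ← huv, hu1, dg_one]
    · right
      have hu1 : u = -1 := Units.ext (by
        have : (u : F) = -1 := eq_neg_of_add_eq_zero_left h5
        simpa using this)
      rw [hz1, ← huv, hu1, dg_neg_one]
  · -- antidiagonal: does not commute with `dg ζ 1`
    exfalso
    set u := ζ ^ i
    set v := ζ ^ j
    have hx : dg ζ 1 ∈ P := by
      have := dg_pow_mem h 1 0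
      rwa [pow_one, pow_zero] at this
    have h1 := hcen _ hx
    rw [hz1, mul_assoc, sw_mul_dg, ← mul_assoc, ← mul_assoc, dg_mul, dg_mul] at h1
    have h2 := (dg_injective (mul_right_cancel h1)).1
    -- u * 1 = ζ * u
    rw [mul_one] at h2
    have h3 : ζ = 1 := by
      have : ζ * u = 1 * u := by rw [one_mul]; exact h2.symm
      exact mul_right_cancel this
    exact zeta_ne_one h h3

end Cfsg.Agent.Helper50.PSL3W
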