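import Cfsg.Agent.Helper50.PSL3W2

/-!
# (W4) of helper88's WANTED #4677 for S5318: fusion in the wreathed case (helper50)
-/

set_option autoImplicit false

namespace Cfsg.Agent.Helper50.PSL3W

open Matrix Cfsg.Agent.Helper37.PSL3Inv Cfsg.Agent.Helper37.SU3Inv Cfsg.Agent.Helper37.GL2S2
  Cfsg.Agent.Helper85 Cfsg.Agent.Helper88.PSL3F

variable {F : Type*} [Field F]

/-- the element `[[1,0,0],[0,0,1],[0,-1,0]]` of `SL₃(F)` -/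
noncomputable def kSL (F : Type*) [Field F] : Matrix.SpecialLinearGroup (Fin 3) F :=
  ⟨!![1, 0, 0; 0, 0, 1; 0, -1, 0], by rw [Matrix.det_fin_three]; simp⟩

/-- `diag(u, u⁻¹, 1)` and `diag(u, 1, u⁻¹)` are conjugate in `SL₃(F)` -/
theorem kSL_conj (u : Fˣ) : kSL F * blkSL (dg u u⁻¹) * (kSL F)⁻¹ = blkSL (dg u 1) := by
  rw [mul_inv_eq_iff_eq_mul]
  apply Subtype.ext
  rw [Matrix.SpecialLinearGroup.coe_mul, Matrix.SpecialLinearGroup.coe_mul, blkSL_val, blkSL_val,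
    dg_val, dg_val]
  have hu : (u : F) ≠ 0 := u.ne_zero
  ext i j
  fin_cases i <;> fin_cases j <;>
    simp [kSL, blk, Matrix.mul_apply, Fin.sum_univ_three, Matrix.det_fin_two, hu]

/-- the inverse of a power of `ζ` is a power of `ζ` -/
theorem inv_pow_eq_pow (ζ : Fˣ) (i : ℕ) (hn : 0 < orderOf ζ) :
    (ζ ^ i)⁻¹ = ζ ^ ((orderOf ζ - 1) * i) := by
  apply inv_eq_of_mul_eq_one_right
  rw [← pow_add]
  have : i + (orderOf ζ - 1) * i = orderOf ζ * i := by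
    obtain ⟨m, hm⟩ : ∃ m, orderOf ζ = m + 1 := ⟨orderOf ζ - 1, by omega⟩
    rw [hm, Nat.add_sub_cancel]
    ring
  rw [this, pow_mul, pow_orderOf_eq_one, one_pow]

theorem wr_fus {P : Subgroup (GL (Fin 2) F)} {ζ : Fˣ} {a : ℕ} (h : WrData P ζ a)
    (T₀ : Subgroup (GL (Fin 2) F)) (hT : T₀ ≤ P) (hinv : ∀ t ∈ P, t * t = 1 → t ∈ T₀)
    (hcl : ∀ t ∈ T₀, ∀ g : Matrix.SpecialLinearGroup (Fin 3) F, ∀ s ∈ P,
      g * blkSL t * g⁻¹ = blkSL s → s ∈ T₀) : T₀ = P := by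
  have hn : 0 < orderOf ζ := by rw [h.hζ]; positivity
  have hsw : sw ∈ T₀ := hinv sw (sw_mem h) sw_mul_sw
  -- `dg u u⁻¹ ∈ T₀` for `u` a power of `ζ`
  have h1 : ∀ i : ℕ, dg (ζ ^ i) (ζ ^ i)⁻¹ ∈ T₀ := by
    intro i
    have hmem : dg (ζ ^ i) (ζ ^ i)⁻¹ * sw ∈ P := by
      rw [h.mem]
      exact ⟨i, (orderOf ζ - 1) * i, Or.inr (by rw [inv_pow_eq_pow ζ i hn])⟩
    have hsq : (dg (ζ ^ i) (ζ ^ i)⁻¹ * sw) * (dg (ζ ^ i) (ζ ^ i)⁻¹ * sw) = 1 := by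
      rw [mul_assoc, ← mul_assoc sw, sw_mul_dg, mul_assoc, sw_mul_sw, mul_one, dg_mul,
        mul_inv_cancel, inv_mul_cancel, dg_one]
    have h2 := T₀.mul_mem (hinv _ hmem hsq) hsw
    rwa [mul_assoc, sw_mul_sw, mul_one] at h2
  -- `dg u 1 ∈ T₀`
  have h2 : ∀ i : ℕ, dg (ζ ^ i) 1 ∈ T₀ := by
    intro i
    refine hcl _ (h1 i) (kSL F) _ ?_ (kSL_conj _)
    have := dg_pow_mem h i 0
    rwa [pow_zero] at this
  -- `dg 1 u ∈ T₀`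
  have h3 : ∀ j : ℕ, dg 1 (ζ ^ j) ∈ T₀ := by
    intro j
    have h4 := T₀.mul_mem (T₀.mul_mem hsw (h2 j)) hsw
    rwa [sw_mul_dg, mul_assoc, sw_mul_sw, mul_one] at h4
  have h4 : ∀ i j : ℕ, dg (ζ ^ i) (ζ ^ j) ∈ T₀ := by
    intro i j
    have := T₀.mul_mem (h2 i) (h3 j)
    rwa [dg_mul, mul_one, one_mul] at this
  apply le_antisymm hT
  intro g hg
  obtain ⟨i, j, rfl | rfl⟩ := (h.mem g).mp hg
  · exact h4 i j
  · exact T₀.mul_mem (h4 i j) hsw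

end Cfsg.Agent.Helper50.PSL3W
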