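-- helper50 for helper88's S5320 (#5347): piece (Qb) `C_{SL₂}(Q) = {±1}` for a Sylow 2-subgroup `Q` of `SL₂(F)`, `|F|` odd,
-- and the generic lemma `comm_xy` (an element of `SL₂` commuting with two anticommuting square roots of `-1` is `±1`).
import Cfsg.Agent.Helper88.PSp4Hyp
import Cfsg.Agent.Helper37.SL2Sylow2

set_option autoImplicit false

namespace Cfsg.Agent.Helper50.PSp4Q

open Matrix Cfsg.Agent.Helper42 Cfsg.Agent.Helper88.PSp4F

variable {F : Type*} [Field F]

/-- entries of a product in `SL₂` -/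
theorem sl2_mul_apply (A B : SL2 F) (i j : Fin 2) :
    (A * B).1 i j = A.1 i 0 * B.1 0 j + A.1 i 1 * B.1 1 j := by
  rw [Matrix.SpecialLinearGroup.coe_mul, Matrix.mul_apply, Fin.sum_univ_two]

theorem negOneSL_apply (i j : Fin 2) : (negOneSL F).1 i j = if i = j then -1 else 0 := by
  unfold negOneSL
  simp [Matrix.diagonal_apply]

theorem sl2_det (A : SL2 F) : A.1 0 0 * A.1 1 1 - A.1 0 1 * A.1 1 0 = 1 := by
  have := A.2
  rwa [Matrix.det_fin_two] at this

/-- a square root of `-1` in `SL₂` has trace `0` -/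
theorem trace_zero_of_sq (x : SL2 F) (hx : x * x = negOneSL F) : x.1 0 0 + x.1 1 1 = 0 := by
  have h00 := congrArg (fun M : SL2 F => M.1 0 0) hx
  have h11 := congrArg (fun M : SL2 F => M.1 1 1) hx
  simp only [sl2_mul_apply, negOneSL_apply] at h00 h11
  simp only [if_true] at h00 h11
  have hd := sl2_det x
  have : (x.1 0 0 + x.1 1 1) ^ 2 = 0 := by linear_combination h00 + h11 + 2 * hd
  exact pow_eq_zero_iff (two_ne_zero) |>.1 this

/-- generic lemma: `x² = y² = -1`, `yx = -xy`, `a` commutes with `x` and `y` ⟹ `a = ±1` -/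
theorem comm_xy (h2 : (2 : F) ≠ 0) (x y a : SL2 F) (hx : x * x = negOneSL F) (hy : y * y = negOneSL F)
    (hxy : y * x = negOneSL F * (x * y)) (hax : a * x = x * a) (hay : a * y = y * a) :
    a = 1 ∨ a = negOneSL F := by
  have tx := trace_zero_of_sq x hx
  have ty := trace_zero_of_sq y hy
  have hx00 := congrArg (fun M : SL2 F => M.1 0 0) hx
  have hy00 := congrArg (fun M : SL2 F => M.1 0 0) hy
  have hE := congrArg (fun M : SL2 F => M.1 0 0) hxy
  have hC00 := congrArg (fun M : SL2 F => M.1 0 0) hax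
  have hC01 := congrArg (fun M : SL2 F => M.1 0 1) hax
  have hC10 := congrArg (fun M : SL2 F => M.1 1 0) hax
  have hD00 := congrArg (fun M : SL2 F => M.1 0 0) hay
  have hD01 := congrArg (fun M : SL2 F => M.1 0 1) hay
  have hD10 := congrArg (fun M : SL2 F => M.1 1 0) hay
  simp only [sl2_mul_apply, negOneSL_apply] at hx00 hy00 hE hC00 hC01 hC10 hD00 hD01 hD10
  simp only [if_true] at hx00 hy00 hE
  have hda := sl2_det a
  set p := x.1 0 0
  set q := x.1 0 1
  set r := x.1 1 0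
  set p' := x.1 1 1
  set s := y.1 0 0
  set u := y.1 0 1
  set v := y.1 1 0
  set s' := y.1 1 1
  set a0 := a.1 0 0
  set a1 := a.1 0 1
  set a2 := a.1 1 0
  set a3 := a.1 1 1
  have hp' : p' = -p := by linear_combination tx
  have hs' : s' = -s := by linear_combination ty
  rw [hp'] at hC01 hC10
  rw [hs'] at hD01 hD10
  -- the anticommutation relation (entry 00): 2ps + qv + ru = 0
  have hE' : 2 * p * s + q * v + r * u = 0 := by
    have : (if (0 : Fin 2) = 1 then (-1 : F) else 0) = 0 := by simp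
    simp only [this] at hE
    linear_combination hE
  set d := a0 - a3 with hd
  set Lx := d * p + a1 * r + a2 * q with hLx
  set Ly := d * s + a1 * v + a2 * u with hLy
  have e1 : 2 * (d + Lx * p) = 0 := by
    rw [hLx, hd]; linear_combination (2 * (a0 - a3)) * hx00 - r * hC01 + q * hC10
  have e2 : 2 * (2 * a1 + Lx * q) = 0 := by
    rw [hLx, hd]; linear_combination (4 * a1) * hx00 - (2 * q) * hC00 + (2 * p) * hC01
  have e3 : 2 * (2 * a2 + Lx * r) = 0 := by
    rw [hLx, hd]; linear_combination (4 * a2) * hx00 + (2 * r) * hC00 - (2 * p) * hC10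
  have f1 : 2 * (d + Ly * s) = 0 := by
    rw [hLy, hd]; linear_combination (2 * (a0 - a3)) * hy00 - v * hD01 + u * hD10
  have f2 : 2 * (2 * a1 + Ly * u) = 0 := by
    rw [hLy, hd]; linear_combination (4 * a1) * hy00 - (2 * u) * hD00 + (2 * s) * hD01
  have f3 : 2 * (2 * a2 + Ly * v) = 0 := by
    rw [hLy, hd]; linear_combination (4 * a2) * hy00 + (2 * v) * hD00 - (2 * s) * hD10
  have e1' : d + Lx * p = 0 := (mul_eq_zero.1 e1).resolve_left h2
  have e2' : 2 * a1 + Lx * q = 0 := (mul_eq_zero.1 e2).resolve_left h2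
  have e3' : 2 * a2 + Lx * r = 0 := (mul_eq_zero.1 e3).resolve_left h2
  have f1' : d + Ly * s = 0 := (mul_eq_zero.1 f1).resolve_left h2
  have f2' : 2 * a1 + Ly * u = 0 := (mul_eq_zero.1 f2).resolve_left h2
  have f3' : 2 * a2 + Ly * v = 0 := (mul_eq_zero.1 f3).resolve_left h2
  have hLy0 : 2 * Ly = 0 := by
    have : 2 * Ly = 2 * d * s + 2 * a1 * v + 2 * a2 * u := by rw [hLy]; ring
    rw [this]
    linear_combination (2 * s) * e1' + v * e2' + u * e3' - Lx * hE'
  have hLy0' : Ly = 0 := (mul_eq_zero.1 hLy0).resolve_left h2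
  rw [hLy0'] at f1' f2' f3'
  have hd0 : a0 = a3 := by linear_combination f1'
  have ha1 : a1 = 0 := by
    have : 2 * a1 = 0 := by linear_combination f2'
    exact (mul_eq_zero.1 this).resolve_left h2
  have ha2 : a2 = 0 := by
    have : 2 * a2 = 0 := by linear_combination f3'
    exact (mul_eq_zero.1 this).resolve_left h2
  have hsq : (a0 - 1) * (a0 + 1) = 0 := by
    rw [ha1, ← hd0] at hda
    linear_combination hda
  rcases mul_eq_zero.1 hsq with h | h
  · left
    have ha0 : a0 = 1 := by linear_combination h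
    apply Subtype.ext
    ext i j
    fin_cases i <;> fin_cases j
    · simpa using ha0
    · simpa using ha1
    · simpa using ha2
    · have : a3 = 1 := by rw [← hd0]; exact ha0
      simpa using this
  · right
    have ha0 : a0 = -1 := by linear_combination h
    apply Subtype.ext
    ext i j
    fin_cases i <;> fin_cases j
    · simpa [negOneSL_apply] using ha0
    · simpa [negOneSL_apply] using ha1
    · simpa [negOneSL_apply] using ha2
    · have : a3 = -1 := by rw [← hd0]; exact ha0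
      simpa [negOneSL_apply] using this

theorem orderOf_negOneSL (h2 : (2 : F) ≠ 0) : orderOf (negOneSL F) = 2 :=
  orderOf_eq_prime (by rw [sq]; exact negOneSL_mul_self) (negOneSL_ne_one h2)

/-- the relations in the generalized quaternion group used below -/
theorem quat_rel (k : ℕ) (hk : 1 ≤ k) :
    ∃ X Y Z : QuaternionGroup (2 ^ k), X * X = Z ∧ Y * Y = Z ∧ Y * X = Z * (X * Y) ∧ orderOf Z = 2 := by
  have hn : ((2 ^ k : ℕ) : ZMod (2 * 2 ^ k)) + ((2 ^ k : ℕ) : ZMod (2 * 2 ^ k)) = 0 := by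
    have : ((2 * 2 ^ k : ℕ) : ZMod (2 * 2 ^ k)) = 0 := ZMod.natCast_self _
    rw [← this]; push_cast; ring
  have hh : ((2 ^ (k - 1) : ℕ) : ZMod (2 * 2 ^ k)) + ((2 ^ (k - 1) : ℕ) : ZMod (2 * 2 ^ k))
      = ((2 ^ k : ℕ) : ZMod (2 * 2 ^ k)) := by
    obtain ⟨j, rfl⟩ : ∃ j, k = j + 1 := ⟨k - 1, by omega⟩
    simp only [Nat.add_sub_cancel]
    push_cast; ring
  refine ⟨QuaternionGroup.a ((2 ^ (k - 1) : ℕ) : ZMod (2 * 2 ^ k)), QuaternionGroup.xa 0,
    QuaternionGroup.a ((2 ^ k : ℕ) : ZMod (2 * 2 ^ k)), ?_, ?_, ?_, ?_⟩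
  · rw [QuaternionGroup.a_mul_a, hh]
  · rw [QuaternionGroup.xa_mul_xa]; simp
  · rw [QuaternionGroup.xa_mul_a, QuaternionGroup.a_mul_xa, QuaternionGroup.a_mul_xa]
    congr 1
    linear_combination hn + hh
  · apply orderOf_eq_prime
    · rw [sq, QuaternionGroup.a_mul_a, hn, QuaternionGroup.a_zero]
    · rw [QuaternionGroup.one_def]
      intro h
      have h' : ((2 ^ k : ℕ) : ZMod (2 * 2 ^ k)) = 0 := by
        injection h
      rw [ZMod.natCast_eq_zero_iff] at h'
      have := Nat.le_of_dvd (by positivity) h'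
      have : 0 < 2 ^ k := by positivity
      omega

/-- (Qb) -/
theorem hQb [Fintype F] (hF : Odd (Fintype.card F)) (Q : Sylow 2 (SL2 F)) : HQb (Q : Subgroup (SL2 F)) := by
  have h2 : (2 : F) ≠ 0 := Cfsg.Agent.Helper37.two_ne_zero_of_odd_card hF
  obtain ⟨k, hk, ⟨e⟩⟩ := Cfsg.Agent.Helper37.SL2Q.sylow_two_quaternion hF Q
  obtain ⟨X, Y, Z, hXX, hYY, hYX, hZ⟩ := quat_rel k hk
  intro a ha
  have hz : ((e.symm Z : (Q : Subgroup (SL2 F))) : SL2 F) = negOneSL F := by
    apply Cfsg.Agent.Helper37.SL2Q.eq_of_orderOf_two h2 _ _ _ (orderOf_negOneSL h2)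
    rw [Subgroup.orderOf_coe, MulEquiv.orderOf_eq, hZ]
  refine comm_xy h2 (e.symm X : (Q : Subgroup (SL2 F))) (e.symm Y : (Q : Subgroup (SL2 F))) a ?_ ?_ ?_
    (ha _ (e.symm X).2) (ha _ (e.symm Y).2)
  · rw [← hz, ← Subgroup.coe_mul, ← map_mul, hXX]
  · rw [← hz, ← Subgroup.coe_mul, ← map_mul, hYY]
  · rw [← hz, ← Subgroup.coe_mul, ← Subgroup.coe_mul, ← Subgroup.coe_mul, ← map_mul, ← map_mul, ← map_mul, hYX]

end Cfsg.Agent.Helper50.PSp4Q
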