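-- helper50 for helper88's S5320 (#5347): piece (Qd): for a Sylow 2-subgroup `Q` of `SL₂(F)`, `|F|` odd, `16 ∣ |Q|`, the
-- elements of odd order of `N(Q)` are trivial (a generalized quaternion group of order `≥ 16` has no automorphism of odd order).
import Cfsg.Agent.Helper50.PSp4Qb
import Cfsg.Agent.Helper88.OmegaAut

set_option autoImplicit false

namespace Cfsg.Agent.Helper50.PSp4Q

open Matrix Cfsg.Agent.Helper42 Cfsg.Agent.Helper88.PSp4F

/-- a generalized quaternion group of order `≥ 16` has no nontrivial automorphism of odd order -/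
theorem quat_odd_aut (k : ℕ) (hk : 2 ≤ k) (β : MulAut (QuaternionGroup (2 ^ k))) (m : ℕ) (hm : Odd m)
    (hβ : β ^ m = 1) : β = 1 := by
  have : NeZero (2 ^ k) := ⟨by positivity⟩
  have hcop : m.Coprime (2 * 2 ^ k) := by
    have h2 : m.Coprime 2 := Nat.coprime_two_right.2 hm
    exact Nat.Coprime.mul_right h2 (Nat.Coprime.pow_right k h2)
  have h1 : β (QuaternionGroup.a 1) = QuaternionGroup.a 1 := by
    apply Cfsg.Agent.Helper88.apply_eq_of_mem_zpowers β _ ?_ m hβ ?_
    · have ho : orderOf (β (QuaternionGroup.a 1)) = 2 * 2 ^ k := by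
        rw [MulEquiv.orderOf_eq, QuaternionGroup.orderOf_a_one]
      rcases hb : β (QuaternionGroup.a 1) with j | j
      · rw [Subgroup.mem_zpowers_iff]
        refine ⟨(j.val : ℤ), ?_⟩
        rw [zpow_natCast, QuaternionGroup.a_one_pow, ZMod.natCast_zmod_val]
      · exfalso
        rw [hb, QuaternionGroup.orderOf_xa] at ho
        have : 2 ^ 2 ≤ 2 ^ k := Nat.pow_le_pow_right (by norm_num) hk
        omega
    · rw [QuaternionGroup.orderOf_a_one]
      have h2k : 2 * 2 ^ k = 2 ^ (k + 1) := by ring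
      rw [h2k, Nat.totient_prime_pow Nat.prime_two (by omega)]
      simp only [Nat.add_sub_cancel, Nat.reduceSub, mul_one]
      exact Nat.Coprime.pow_right k (Nat.coprime_two_right.2 hm)
  have hA : ∀ i : ZMod (2 * 2 ^ k), β (QuaternionGroup.a i) = QuaternionGroup.a i := by
    intro i
    rw [← ZMod.natCast_zmod_val i, ← QuaternionGroup.a_one_pow, map_pow, h1]
  obtain ⟨j, hj⟩ : ∃ j, β (QuaternionGroup.xa 0) = QuaternionGroup.xa j := by
    rcases hb : β (QuaternionGroup.xa 0) with j | j
    · exfalso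
      rw [← hA j] at hb
      have := β.injective hb
      injection this
    · exact ⟨j, rfl⟩
  have hX : ∀ i : ZMod (2 * 2 ^ k), β (QuaternionGroup.xa i) = QuaternionGroup.xa (j + i) := by
    intro i
    have : QuaternionGroup.xa i = QuaternionGroup.xa 0 * QuaternionGroup.a i := by
      rw [QuaternionGroup.xa_mul_a, zero_add]
    rw [this, map_mul, hj, hA, QuaternionGroup.xa_mul_a]
  have hpow : ∀ t : ℕ, (β ^ t) (QuaternionGroup.xa 0) = QuaternionGroup.xa ((t : ZMod (2 * 2 ^ k)) * j) := by
    intro t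
    induction t with
    | zero => simp
    | succ t ih =>
      rw [pow_succ', MulAut.mul_apply, ih, hX]
      congr 1
      push_cast; ring
  have hm0 := hpow m
  rw [hβ, MulAut.one_apply] at hm0
  have hj0 : j = 0 := by
    have h' : (m : ZMod (2 * 2 ^ k)) * j = 0 := by
      injection hm0 with h
      exact h.symm
    exact ((ZMod.isUnit_iff_coprime m (2 * 2 ^ k)).2 hcop).mul_right_eq_zero.1 h'
  ext g
  rcases g with i | i
  · rw [hA, MulAut.one_apply]
  · rw [hX, hj0, zero_add, MulAut.one_apply]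

/-- conjugation by an element of the normalizer, as an automorphism of the subgroup -/
def conjAut {G : Type*} [Group G] (H : Subgroup G) (a : G) (ha : a ∈ Subgroup.normalizer (H : Set G)) : MulAut H where
  toFun q := ⟨a * q * a⁻¹, (Subgroup.mem_normalizer_iff.1 ha q).1 q.2⟩
  invFun q := ⟨a⁻¹ * q * a, by
    apply (Subgroup.mem_normalizer_iff.1 ha (a⁻¹ * q * a)).2
    have : a * (a⁻¹ * (q : G) * a) * a⁻¹ = q := by group
    rw [this]
    exact q.2⟩
  left_inv q := by
    apply Subtype.ext
    show a⁻¹ * (a * (q : G) * a⁻¹) * a = q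
    group
  right_inv q := by
    apply Subtype.ext
    show a * (a⁻¹ * (q : G) * a) * a⁻¹ = q
    group
  map_mul' q r := by
    apply Subtype.ext
    show a * ((q : G) * r) * a⁻¹ = (a * q * a⁻¹) * (a * r * a⁻¹)
    group

theorem conjAut_apply {G : Type*} [Group G] (H : Subgroup G) (a : G) (ha : a ∈ Subgroup.normalizer (H : Set G))
    (q : H) : ((conjAut H a ha q : H) : G) = a * q * a⁻¹ := rfl

theorem conjAut_pow_apply {G : Type*} [Group G] (H : Subgroup G) (a : G) (ha : a ∈ Subgroup.normalizer (H : Set G))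
    (t : ℕ) (q : H) : (((conjAut H a ha) ^ t) q : G) = a ^ t * q * (a ^ t)⁻¹ := by
  induction t with
  | zero => simp
  | succ t ih =>
    rw [pow_succ', MulAut.mul_apply, conjAut_apply, ih, pow_succ']
    group

theorem conjAut_pow_orderOf {G : Type*} [Group G] (H : Subgroup G) (a : G)
    (ha : a ∈ Subgroup.normalizer (H : Set G)) : (conjAut H a ha) ^ (orderOf a) = 1 := by
  ext q
  rw [conjAut_pow_apply, pow_orderOf_eq_one, MulAut.one_apply]
  group

variable {F : Type*} [Field F]

/-- (Qd) -/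
theorem odd_normalizer_sylow_SL2 [Fintype F] (hF : Odd (Fintype.card F)) (Q : Sylow 2 (SL2 F))
    (h16 : 16 ∣ Nat.card (Q : Subgroup (SL2 F))) (a : SL2 F)
    (ha : a ∈ Subgroup.normalizer ((Q : Subgroup (SL2 F)) : Set (SL2 F))) (hodd : Odd (orderOf a)) : a = 1 := by
  have h2 : (2 : F) ≠ 0 := Cfsg.Agent.Helper37.two_ne_zero_of_odd_card hF
  obtain ⟨k, hk, ⟨e⟩⟩ := Cfsg.Agent.Helper37.SL2Q.sylow_two_quaternion hF Q
  have : NeZero (2 ^ k) := ⟨by positivity⟩
  have hcard : Nat.card (Q : Subgroup (SL2 F)) = 4 * 2 ^ k := by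
    rw [Nat.card_congr e.toEquiv, Nat.card_eq_fintype_card, QuaternionGroup.card]
  have hk2 : 2 ≤ k := by
    by_contra hlt
    have hk1 : k = 1 := by omega
    rw [hcard, hk1] at h16
    omega
  set φ := conjAut (Q : Subgroup (SL2 F)) a ha with hφ
  have hφm : φ ^ (orderOf a) = 1 := conjAut_pow_orderOf _ a ha
  have hβ : (MulAut.congr e φ) ^ (orderOf a) = 1 := by
    rw [← map_pow, hφm, map_one]
  have hβ1 := quat_odd_aut k hk2 (MulAut.congr e φ) (orderOf a) hodd hβ
  have hφ1 : φ = 1 := by
    have := (MulAut.congr e).injective (hβ1.trans (map_one (MulAut.congr e)).symm)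
    exact this
  have hcomm : ∀ c ∈ (Q : Subgroup (SL2 F)), a * c = c * a := by
    intro c hc
    have h := congrArg (fun ψ : MulAut (Q : Subgroup (SL2 F)) => ((ψ ⟨c, hc⟩ : (Q : Subgroup (SL2 F))) : SL2 F)) hφ1
    simp only [hφ, conjAut_apply, MulAut.one_apply] at h
    calc a * c = a * c * a⁻¹ * a := by group
      _ = c * a := by rw [h]
  rcases hQb hF Q a hcomm with h | h
  · exact h
  · exfalso
    rw [h, orderOf_negOneSL h2] at hodd
    exact (by decide : ¬ Odd 2) hodd

end Cfsg.Agent.Helper50.PSp4Q
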