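-- helper50 for helper88's S5320 (#5347): piece (Qe3): the elements of odd order of `N_{SL₂(F)}(Q₈)` lie in `Q₈⟨w⟩`.
import Cfsg.Agent.Helper50.PSp4Qb

set_option autoImplicit false

namespace Cfsg.Agent.Helper50.PSp4Q

open Matrix Cfsg.Agent.Helper42 Cfsg.Agent.Helper88.PSp4F

/-- automorphisms of odd order of a four-group `{1, X, Y, XY}` inside a group, in the presence of an automorphism `g`
permuting `X → Y → XY → X`: up to a power of `g` they fix `X` and `Y` -/
theorem klein_aut {P : Type*} [Group P] (X Y : P) (hX : X * X = 1) (hY : Y * Y = 1) (hXY : Y * X = X * Y)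
    (hX1 : X ≠ 1) (hY1 : Y ≠ 1) (hXneY : X ≠ Y)
    (f g : MulAut P) (hgX : g X = Y) (hgY : g Y = X * Y)
    (hfX : f X = X ∨ f X = Y ∨ f X = X * Y) (hfY : f Y = X ∨ f Y = Y ∨ f Y = X * Y)
    (m : ℕ) (hm : Odd m) (hfm : f ^ m = 1) :
    ∃ j : ℕ, (f * (g ^ j)⁻¹) X = X ∧ (f * (g ^ j)⁻¹) Y = Y := by
  have hYXY : Y * (X * Y) = X := by rw [← mul_assoc, hXY, mul_assoc, hY, mul_one]
  have hXXY : X * (X * Y) = Y := by rw [← mul_assoc, hX, one_mul]
  have hXYX : X * Y * X = Y := by rw [mul_assoc, hXY, ← mul_assoc, hX, one_mul]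
  have hXYY : X * Y * Y = X := by rw [mul_assoc, hY, mul_one]
  have hgXY : g (X * Y) = X := by rw [map_mul, hgX, hgY, hYXY]
  have hg'Y : g⁻¹ Y = X := by
    have := MulAut.inv_apply_self P g X
    rwa [hgX] at this
  have hg'XY : g⁻¹ (X * Y) = Y := by
    have := MulAut.inv_apply_self P g Y
    rwa [hgY] at this
  have hg'X : g⁻¹ X = X * Y := by
    have := MulAut.inv_apply_self P g (X * Y)
    rwa [hgXY] at this
  have hodd : ∀ Z : P, f (f Z) = Z → f Z = Z := by
    intro Z hZ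
    obtain ⟨t, ht⟩ := hm
    have h1 : ∀ s : ℕ, ((f * f) ^ s) Z = Z := by
      intro s
      induction s with
      | zero => simp
      | succ s ih => rw [pow_succ, MulAut.mul_apply, MulAut.mul_apply, hZ, ih]
    have h2 : f = (f * f) ^ (t + 1) := by
      rw [← pow_two, ← pow_mul]
      have : 2 * (t + 1) = m + 1 := by omega
      rw [this, pow_succ, hfm, one_mul]
    have h3 := h1 (t + 1)
    rw [← h2] at h3
    exact h3
  rcases hfX with h1 | h1 | h1 <;> rcases hfY with h2 | h2 | h2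
  · exact absurd (f.injective (h1.trans h2.symm)) hXneY
  · exact ⟨0, by simp [h1], by simp [h2]⟩
  · exfalso
    have : f (f Y) = Y := by rw [h2, map_mul, h1, h2, hXXY]
    have h3 := hodd Y this
    rw [h2] at h3
    apply hX1
    have : X * Y = 1 * Y := by rw [one_mul]; exact h3
    exact mul_right_cancel this
  · exfalso
    have : f (f X) = X := by rw [h1, h2]
    have h3 := hodd X this
    rw [h1] at h3
    exact hXneY h3.symm
  · exact absurd (f.injective (h1.trans h2.symm)) hXneY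
  · refine ⟨1, ?_, ?_⟩
    · rw [pow_one, MulAut.mul_apply, hg'X, map_mul, h1, h2, hYXY]
    · rw [pow_one, MulAut.mul_apply, hg'Y, h1]
  · refine ⟨2, ?_, ?_⟩
    · rw [pow_two, _root_.mul_inv_rev, MulAut.mul_apply, MulAut.mul_apply, hg'X, hg'XY, h2]
    · rw [pow_two, _root_.mul_inv_rev, MulAut.mul_apply, MulAut.mul_apply, hg'Y, hg'X, map_mul, h1, h2, hXYX]
  · exfalso
    have : f (f X) = X := by rw [h1, map_mul, h1, h2, hXYY]
    have h3 := hodd X this
    rw [h1] at h3
    apply hY1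
    have : X * Y = X * 1 := by rw [mul_one]; exact h3
    exact mul_left_cancel this
  · exact absurd (f.injective (h1.trans h2.symm)) hXneY

variable {F : Type*} [Field F]

theorem center_cases (z : SL2 F) (hz : z ∈ Subgroup.center (SL2 F)) : z = 1 ∨ z = negOneSL F := by
  obtain ⟨r, hr, h⟩ := (Cfsg.Agent.Helper41.sl2_mem_center_iff z).1 hz
  have hr' : (r - 1) * (r + 1) = 0 := by linear_combination hr
  rcases mul_eq_zero.1 hr' with h1 | h1
  · left
    apply Subtype.ext
    rw [h, sub_eq_zero.1 h1]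
    simp
  · right
    apply Subtype.ext
    rw [h, eq_neg_of_add_eq_zero_left h1]
    rfl

theorem negOneSL_comm (g : SL2 F) : g * negOneSL F = negOneSL F * g :=
  Subgroup.mem_center_iff.1 negOneSL_mem_center g

/-- conjugation table of `Q₈` -/
theorem q8_conj_table {x y : SL2 F} (hxy : y * x = negOneSL F * (x * y)) :
    x * y * x⁻¹ = negOneSL F * y ∧ y * x * y⁻¹ = negOneSL F * x := by
  constructor
  · have : x * y = negOneSL F * (y * x) := by rw [hxy, ← mul_assoc, negOneSL_mul_self, one_mul]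
    rw [this]
    group
  · rw [hxy]
    group

/-- an element inducing on `x`, `y` the signs `ε`, `δ` lies in `Q` -/
theorem mem_of_conj_signs (h2 : (2 : F) ≠ 0) {Q : Subgroup (SL2 F)} {x y : SL2 F} (h : Q8Data Q x y) (b ε δ : SL2 F)
    (hε : ε = 1 ∨ ε = negOneSL F) (hδ : δ = 1 ∨ δ = negOneSL F)
    (hbx : b * x * b⁻¹ = ε * x) (hby : b * y * b⁻¹ = δ * y) : b ∈ Q := by
  obtain ⟨t1, t2⟩ := q8_conj_table h.hxy
  have hex : ∃ c ∈ Q, c * x * c⁻¹ = ε * x ∧ c * y * c⁻¹ = δ * y := by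
    rcases hε with rfl | rfl <;> rcases hδ with rfl | rfl
    · exact ⟨1, Q.one_mem, by simp, by simp⟩
    · refine ⟨x, (h.mem x).2 (Or.inr (Or.inr (Or.inl rfl))), by group, t1⟩
    · refine ⟨y, (h.mem y).2 (Or.inr (Or.inr (Or.inr (Or.inr (Or.inl rfl))))), t2, by group⟩
    · refine ⟨x * y, (h.mem (x * y)).2 (Or.inr (Or.inr (Or.inr (Or.inr (Or.inr (Or.inr (Or.inl rfl))))))), ?_, ?_⟩
      · have e1 : x * y * x * (x * y)⁻¹ = x * (y * x * y⁻¹) * x⁻¹ := by group
        rw [e1, t2, ← mul_assoc, negOneSL_comm x]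
        group
      · have e1 : x * y * y * (x * y)⁻¹ = x * y * x⁻¹ := by group
        rw [e1, t1]
  obtain ⟨c, hcQ, hcx, hcy⟩ := hex
  have k1 : c⁻¹ * b * x = x * (c⁻¹ * b) := by
    calc c⁻¹ * b * x = c⁻¹ * (b * x * b⁻¹) * b := by group
      _ = c⁻¹ * (c * x * c⁻¹) * b := by rw [hbx, hcx]
      _ = x * (c⁻¹ * b) := by group
  have k2 : c⁻¹ * b * y = y * (c⁻¹ * b) := by
    calc c⁻¹ * b * y = c⁻¹ * (b * y * b⁻¹) * b := by group
      _ = c⁻¹ * (c * y * c⁻¹) * b := by rw [hby, hcy]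
      _ = y * (c⁻¹ * b) := by group
  have hnQ : negOneSL F ∈ Q := (h.mem _).2 (Or.inr (Or.inl rfl))
  rcases comm_xy h2 x y (c⁻¹ * b) h.hx h.hy h.hxy k1 k2 with h' | h'
  · have : b = c := by
      have := congrArg (fun z => c * z) h'
      simpa using this
    rw [this]; exact hcQ
  · have : b = c * negOneSL F := by
      have := congrArg (fun z => c * z) h'
      simpa using this
    rw [this]; exact Q.mul_mem hcQ hnQ

/-- (Qe3) -/
theorem normalizer_q8 (h2 : (2 : F) ≠ 0) {Q : Subgroup (SL2 F)} {x y w : SL2 F} (h : Q8Data Q x y)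
    (hw : OmData x y w) (a : SL2 F) (ha : a ∈ Subgroup.normalizer (Q : Set (SL2 F))) (hodd : Odd (orderOf a)) :
    ∃ c ∈ Q, ∃ j : ℕ, a = c * w ^ j := by
  set C := Subgroup.center (SL2 F) with hC
  set π := QuotientGroup.mk' C with hπ
  have hn1 : negOneSL F ≠ 1 := negOneSL_ne_one h2
  have hπn : π (negOneSL F) = 1 := (QuotientGroup.eq_one_iff _).2 negOneSL_mem_center
  have hπpm : ∀ z : SL2 F, π (negOneSL F * z) = π z := by
    intro z; rw [map_mul, hπn, one_mul]
  -- pulling back equalities in the quotient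
  have hpull : ∀ u v : SL2 F, π u = π v → ∃ ε : SL2 F, (ε = 1 ∨ ε = negOneSL F) ∧ u = ε * v := by
    intro u v huv
    have : u⁻¹ * v ∈ C := QuotientGroup.eq.1 huv
    have hc : (u⁻¹ * v)⁻¹ ∈ C := C.inv_mem this
    refine ⟨(u⁻¹ * v)⁻¹, center_cases _ hc, ?_⟩
    rw [← Subgroup.mem_center_iff.1 hc v]
    group
  -- no commutation
  have hnocomm : x * y ≠ y * x := by
    intro hc
    rw [h.hxy] at hc
    apply hn1
    have : 1 * (x * y) = negOneSL F * (x * y) := by rw [one_mul]; exact hc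
    exact (mul_right_cancel this).symm
  have hX1 : π x ≠ 1 := by
    intro hx1
    have : x ∈ C := (QuotientGroup.eq_one_iff _).1 hx1
    exact hnocomm (Subgroup.mem_center_iff.1 this y).symm
  have hY1 : π y ≠ 1 := by
    intro hy1
    have : y ∈ C := (QuotientGroup.eq_one_iff _).1 hy1
    exact hnocomm (Subgroup.mem_center_iff.1 this x)
  have hXY : π x ≠ π y := by
    intro hxy
    obtain ⟨ε, hε, he⟩ := hpull x y hxy
    apply hnocomm
    have hεc : ∀ g : SL2 F, g * ε = ε * g := by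
      rcases hε with rfl | rfl
      · intro g; simp
      · exact negOneSL_comm
    rw [he, ← mul_assoc y, hεc y]
  -- elements of `Q` with square `-1`
  have hsq : ∀ g ∈ Q, g * g = negOneSL F → π g = π x ∨ π g = π y ∨ π g = π x * π y := by
    intro g hg hgg
    rcases (h.mem g).1 hg with rfl | rfl | rfl | rfl | rfl | rfl | rfl | rfl
    · exfalso; rw [mul_one] at hgg; exact hn1 hgg.symm
    · exfalso; rw [negOneSL_mul_self] at hgg; exact hn1 hgg.symm
    · exact Or.inl rfl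
    · exact Or.inl (hπpm x)
    · exact Or.inr (Or.inl rfl)
    · exact Or.inr (Or.inl (hπpm y))
    · exact Or.inr (Or.inr (map_mul π x y))
    · exact Or.inr (Or.inr ((hπpm (x * y)).trans (map_mul π x y)))
  have hconj : ∀ z ∈ Q, z * z = negOneSL F →
      (MulAut.conj (π a)) (π z) = π x ∨ (MulAut.conj (π a)) (π z) = π y ∨ (MulAut.conj (π a)) (π z) = π x * π y := by
    intro z hz hzz
    have e1 : (MulAut.conj (π a)) (π z) = π (a * z * a⁻¹) := by
      rw [MulAut.conj_apply, map_mul, map_mul, map_inv]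
    rw [e1]
    apply hsq
    · exact (Subgroup.mem_normalizer_iff.1 ha z).1 hz
    · have : a * z * a⁻¹ * (a * z * a⁻¹) = a * (z * z) * a⁻¹ := by group
      rw [this, hzz, negOneSL_comm a]
      group
  have hxQ : x ∈ Q := (h.mem x).2 (Or.inr (Or.inr (Or.inl rfl)))
  have hyQ : y ∈ Q := (h.mem y).2 (Or.inr (Or.inr (Or.inr (Or.inr (Or.inl rfl)))))
  have hfm : (MulAut.conj (π a)) ^ (orderOf a) = 1 := by
    rw [← map_pow, ← map_pow, pow_orderOf_eq_one, map_one, map_one]
  obtain ⟨j, hj1, hj2⟩ := klein_aut (π x) (π y)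
    (by rw [← map_mul, h.hx, hπn]) (by rw [← map_mul, h.hy, hπn])
    (by rw [← map_mul, h.hxy, hπpm, map_mul]) hX1 hY1 hXY
    (MulAut.conj (π a)) (MulAut.conj (π w))
    (by rw [MulAut.conj_apply, ← map_inv, ← map_mul, ← map_mul, hw.hwx])
    (by rw [MulAut.conj_apply, ← map_inv, ← map_mul, ← map_mul, hw.hwy, map_mul])
    (hconj x hxQ h.hx) (hconj y hyQ h.hy) (orderOf a) hodd hfm
  obtain ⟨b, hb⟩ : ∃ b : SL2 F, b = a * (w ^ j)⁻¹ := ⟨_, rfl⟩
  have hfb : MulAut.conj (π a) * (MulAut.conj (π w) ^ j)⁻¹ = MulAut.conj (π b) := by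
    rw [hb, map_mul π, map_inv π, map_pow π, map_mul MulAut.conj, map_inv MulAut.conj, map_pow MulAut.conj]
  rw [hfb] at hj1 hj2
  have e1 : ∀ z : SL2 F, (MulAut.conj (π b)) (π z) = π (b * z * b⁻¹) := by
    intro z
    rw [MulAut.conj_apply, map_mul, map_mul, map_inv]
  rw [e1] at hj1 hj2
  obtain ⟨ε, hε, hbx⟩ := hpull _ _ hj1
  obtain ⟨δ, hδ, hby⟩ := hpull _ _ hj2
  refine ⟨b, mem_of_conj_signs h2 h b ε δ hε hδ hbx hby, j, ?_⟩
  rw [hb]
  group

end Cfsg.Agent.Helper50.PSp4Q
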