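import Cfsg.Agent.Helper5.PsuE2.Defs
import Cfsg.Agent.Helper33.PsuM_AI
import Cfsg.Agent.Helper41.PsuM_ACONJ
import Cfsg.Agent.Helper55.PsuM_AROOTa
import Cfsg.Agent.Helper61.PsuM_AMAT

/-!
# S2089 block I-even-2 (helper5), piece (RW1): `n_x` (and the matrix of the Weyl element)
-/

set_option autoImplicit false

namespace Cfsg.Agent.Helper50.PsuE2

open Matrix
open scoped commutatorElement
open Cfsg.Agent.Helper43.PsuM.Ev
open Cfsg.Agent.Helper96.StLift
open Cfsg.Agent.Helper5.PsuE2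

universe u

section matrix

variable {K : Type u} [Field K] [Fintype K] {σ : K →+* K} {m : ℕ}

/-- the permutation matrix of `(b c)` in characteristic two -/
def RW_P (K : Type u) [Field K] {m : ℕ} (b c : Fin m) : Matrix (Fin m) (Fin m) K :=
  1 + single b b 1 + single c c 1 + single c b 1 + single b c 1

omit [Fintype K] in
theorem RW_add_self (h2 : ∀ x : K, x + x = 0) (X : Matrix (Fin m) (Fin m) K) : X + X = 0 := by
  ext i j
  exact h2 _

omit [Fintype K] in
theorem RW_two_zsmul (h2 : ∀ x : K, x + x = 0) (X : Matrix (Fin m) (Fin m) K) :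
    (2 : ℤ) • X = 0 := by
  rw [two_zsmul]; exact RW_add_self h2 X

omit [Fintype K] in
theorem RW_neg_two_zsmul (h2 : ∀ x : K, x + x = 0) (X : Matrix (Fin m) (Fin m) K) :
    (-2 : ℤ) • X = 0 := by
  rw [neg_smul, RW_two_zsmul h2, neg_zero]

omit [Fintype K] in
theorem RW_four_zsmul (h2 : ∀ x : K, x + x = 0) (X : Matrix (Fin m) (Fin m) K) :
    (4 : ℤ) • X = 0 := by
  have e : (4 : ℤ) • X = (2 : ℤ) • ((2 : ℤ) • X) := by
    rw [← mul_smul]; norm_num
  rw [e, RW_two_zsmul h2 X, smul_zero]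

omit [Fintype K] in
theorem RW_neg_four_zsmul (h2 : ∀ x : K, x + x = 0) (X : Matrix (Fin m) (Fin m) K) :
    (-4 : ℤ) • X = 0 := by
  rw [neg_smul, RW_four_zsmul h2, neg_zero]

omit [Fintype K] in
theorem RW_P_eq (h2 : ∀ x : K, x + x = 0) {b c : Fin m} (hbc : b ≠ c) :
    (1 + single b c (1 : K)) * (1 + single c b 1) * (1 + single b c 1) = RW_P K b c := by
  unfold RW_P
  simp only [add_mul, mul_add, one_mul, mul_one, single_mul_single_same,
    single_mul_single_of_ne, hbc, hbc.symm, ne_eq, not_false_eq_true, add_zero, zero_add]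
  rw [← sub_eq_zero]
  abel_nf
  exact RW_two_zsmul h2 _

omit [Fintype K] in
/-- `P (1 + t E_ab) = (1 + t E_ac) P` -/
theorem RW_P_mul_x (h2 : ∀ x : K, x + x = 0) {a b c : Fin m} (hab : a ≠ b) (hac : a ≠ c)
    (hbc : b ≠ c) (t : K) :
    RW_P K b c * (1 + single a b t) = (1 + single a c t) * RW_P K b c := by
  unfold RW_P
  simp only [add_mul, mul_add, one_mul, mul_one, single_mul_single_same,
    single_mul_single_of_ne, hab, hab.symm, hac, hac.symm, hbc, hbc.symm, ne_eq, not_false_eq_true,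
    add_zero, zero_add]
  rw [← sub_eq_zero]
  abel_nf
  first
    | rfl
    | simp only [RW_two_zsmul h2, RW_neg_two_zsmul h2, neg_zero, add_zero, zero_add, smul_zero]

/-- the Weyl element in `SL_m` -/
def RW_PS (K : Type u) [Field K] {m : ℕ} {b c : Fin m} (hbc : b ≠ c) :
    SpecialLinearGroup (Fin m) K :=
  SpecialLinearGroup.transvection hbc 1 * SpecialLinearGroup.transvection hbc.symm 1 *
    SpecialLinearGroup.transvection hbc 1

omit [Fintype K] in
theorem RW_PS_coe (h2 : ∀ x : K, x + x = 0) {b c : Fin m} (hbc : b ≠ c) :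
    (RW_PS K hbc).1 = RW_P K b c := by
  have e : (RW_PS K hbc).1 =
      (1 + single b c (1 : K)) * (1 + single c b 1) * (1 + single b c 1) := rfl
  rw [e]
  exact RW_P_eq h2 hbc

omit [Fintype K] in
theorem RW_nE_eq (hσ : ∀ x, σ (σ x) = x) {b c : Fin m} (hbc : b ≠ c) :
    nE σ b c = iE σ (RW_PS K hbc) := by
  unfold nE xE RW_PS
  rw [dif_pos hbc, dif_pos hbc.symm, Cfsg.Agent.Helper33.PsuM.iE_mul hσ,
    Cfsg.Agent.Helper33.PsuM.iE_mul hσ]

omit [Fintype K] in
theorem RW_iE_conj (hσ : ∀ x, σ (σ x) = x) (P A : SpecialLinearGroup (Fin m) K) :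
    iE σ P * iE σ A * (iE σ P)⁻¹ = iE σ (P * A * P⁻¹) := by
  have h1 : ∀ B, Cfsg.Agent.Helper33.PsuM.AI_hom (m := m) (σ := σ) hσ B = iE σ B := fun _ => rfl
  rw [← h1, ← h1, ← h1, map_mul, map_mul, map_inv]

/-- (RW1) -/
theorem n_x (hK : Fintype.card K = 2 ^ 2) (hσq : ∀ x, σ x = x ^ 2) (a b c : Fin m) (hab : a ≠ b)
    (hac : a ≠ c) (hbc : b ≠ c) (t : K) :
    nE σ b c * xE σ a b t * (nE σ b c)⁻¹ = xE σ a c t := by
  have hF := f4Facts hK hσq
  rw [RW_nE_eq hF.invol hbc]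
  unfold xE
  rw [dif_pos hab, dif_pos hac, RW_iE_conj hF.invol]
  congr 1
  rw [mul_inv_eq_iff_eq_mul]
  apply Subtype.ext
  have e : (RW_PS K hbc * SpecialLinearGroup.transvection hab t).1 =
      (RW_PS K hbc).1 * (1 + single a b t) := rfl
  have e' : (SpecialLinearGroup.transvection hac t * RW_PS K hbc).1 =
      (1 + single a c t) * (RW_PS K hbc).1 := rfl
  rw [e, e', RW_PS_coe hF.two hbc]
  exact RW_P_mul_x hF.two hab hac hbc t

end matrix

end Cfsg.Agent.Helper50.PsuE2
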