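import Cfsg.Agent.Helper50.PsuE2_RW1

/-!
# S2089 block I-even-2 (helper5), piece (RW2): `n_z`, `n_c`
-/

set_option autoImplicit false

namespace Cfsg.Agent.Helper50.PsuE2

open Matrix
open scoped commutatorElement
open Cfsg.Agent.Helper43.PsuM.Ev
open Cfsg.Agent.Helper96.StLift
open Cfsg.Agent.Helper5.PsuE2

universe u

section matrix

variable {K : Type u} [Field K] [Fintype K] {σ : K →+* K} {m : ℕ}

omit [Fintype K] in
theorem RW_P_map_transpose (b c : Fin m) : ((RW_P K b c).map σ)ᵀ = RW_P K b c := by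
  unfold RW_P
  rw [Matrix.map_add σ (map_add σ), Matrix.map_add σ (map_add σ), Matrix.map_add σ (map_add σ),
    Matrix.map_add σ (map_add σ), Matrix.map_one σ (map_zero σ) (map_one σ), Matrix.map_single,
    Matrix.map_single, Matrix.map_single, Matrix.map_single, map_one, transpose_add, transpose_add,
    transpose_add, transpose_add, transpose_one, transpose_single, transpose_single,
    transpose_single, transpose_single]
  abel

omit [Fintype K] in
theorem RW_P_z (h2 : ∀ x : K, x + x = 0) {b c : Fin m} (hbc : b ≠ c) :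
    RW_P K b c * single b b (1 : K) * RW_P K b c = single c c 1 := by
  unfold RW_P
  simp only [add_mul, mul_add, one_mul, mul_one, single_mul_single_same,
    single_mul_single_of_ne, hbc, hbc.symm, ne_eq, not_false_eq_true, add_zero, zero_add,
    zero_mul, mul_zero]
  rw [← sub_eq_zero]
  abel_nf
  first
    | rfl
    | simp only [RW_two_zsmul h2, RW_neg_two_zsmul h2, RW_four_zsmul h2, RW_neg_four_zsmul h2, neg_zero, add_zero, zero_add, smul_zero]

omit [Fintype K] in
theorem RW_P_c (h2 : ∀ x : K, x + x = 0) {a b c : Fin m} (hab : a ≠ b) (hac : a ≠ c)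
    (hbc : b ≠ c) (u s : K) :
    RW_P K b c * (single a b u - single b a s) * RW_P K b c = single a c u - single c a s := by
  unfold RW_P
  simp only [add_mul, mul_add, sub_mul, mul_sub, one_mul, mul_one, single_mul_single_same,
    single_mul_single_of_ne, hab, hab.symm, hac, hac.symm, hbc, hbc.symm, ne_eq,
    not_false_eq_true, add_zero, zero_add, zero_mul, mul_zero, sub_zero, zero_sub]
  rw [← sub_eq_zero]
  abel_nf
  first
    | rfl
    | simp only [RW_two_zsmul h2, RW_neg_two_zsmul h2, RW_four_zsmul h2, RW_neg_four_zsmul h2, neg_zero, add_zero, zero_add, smul_zero]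

/-- (RW2) -/
theorem n_z (hK : Fintype.card K = 2 ^ 2) (hσq : ∀ x, σ x = x ^ 2) (b c : Fin m) (hbc : b ≠ c) :
    nE σ b c * zE σ b 1 * (nE σ b c)⁻¹ = zE σ c 1 := by
  have hF := f4Facts hK hσq
  rw [RW_nE_eq hF.invol hbc]
  unfold zE
  have h1 : σ (1 : K) + 1 = 0 := by rw [map_one]; exact hF.two 1
  have hB : single b b (1 : K) ∈ SkewH m σ := Cfsg.Agent.Helper55.PsuM.single_mem_SkewH b h1
  obtain ⟨_, h⟩ := Cfsg.Agent.Helper41.PsuM.iE_conj_qE hF.invol (RW_PS K hbc) hB
  rw [h, RW_PS_coe hF.two hbc, RW_P_map_transpose, RW_P_z hF.two hbc]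

theorem n_c (hK : Fintype.card K = 2 ^ 2) (hσq : ∀ x, σ x = x ^ 2) (a b c : Fin m) (hab : a ≠ b)
    (hac : a ≠ c) (hbc : b ≠ c) (u : K) :
    nE σ b c * cE σ a b u * (nE σ b c)⁻¹ = cE σ a c u := by
  have hF := f4Facts hK hσq
  rw [RW_nE_eq hF.invol hbc]
  unfold cE
  have hB : single a b u - single b a (σ u) ∈ SkewH m σ :=
    Cfsg.Agent.Helper55.PsuM.single_sub_mem_SkewH hF.invol hab u
  obtain ⟨_, h⟩ := Cfsg.Agent.Helper41.PsuM.iE_conj_qE hF.invol (RW_PS K hbc) hB
  rw [h, RW_PS_coe hF.two hbc, RW_P_map_transpose, RW_P_c hF.two hab hac hbc]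

end matrix

end Cfsg.Agent.Helper50.PsuE2
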