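import Cfsg.Agent.Helper58.PsuIo.AbsDefs

/-!
# S2089 block I-odd, abstract part (helper58), piece (AO1): `Ẑ ≤ Z(Q̂)`
-/

set_option autoImplicit false

namespace Cfsg.Agent.Helper50.PsuIo

open scoped commutatorElement
open Cfsg.Agent.Helper43.PsuM Cfsg.Agent.Helper96.StLift Cfsg.Agent.Helper58.PsuIo

universe u

section pieces

variable {Γ G : Type u} [Group Γ] [Group G] (τ : Γ →* G) (hτ : Function.Surjective τ)
  (hc : τ.ker ≤ Subgroup.center Γ)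

include hτ hc

theorem AO1_lc_inv_left {a b : G} (h : Commute a⁻¹ b) : lc hτ a⁻¹ b = (lc hτ a b)⁻¹ := by
  have e := lc_mul_left_of_commute hτ hc (a := a) h
  rw [mul_inv_cancel, lc_one_left hτ hc] at e
  exact eq_inv_of_mul_eq_one_left e.symm

theorem AO1_lc_inv_right {a b : G} (h : Commute a b⁻¹) : lc hτ a b⁻¹ = (lc hτ a b)⁻¹ := by
  have e := lc_mul_right_of_commute hτ hc (b := b) h
  rw [mul_inv_cancel, lc_one_right hτ hc] at e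
  exact eq_inv_of_mul_eq_one_right e.symm

variable {p : ℕ} (D : SiegelData G p)

/-- (a) `lc` vanishes on `Z × Z` -/
theorem AO1_a (Zt : Subgroup Γ) (hZt1 : Zt ⊓ τ.ker = ⊥) (hZt2 : Zt.map τ = D.Z)
    {z' z : G} (hz' : z' ∈ D.Z) (hz : z ∈ D.Z) : lc hτ z' z = 1 := by
  rw [← hZt2] at hz' hz
  obtain ⟨a, ha, rfl⟩ := hz'
  obtain ⟨b, hb, rfl⟩ := hz
  rw [← lc_eq hτ hc]
  have hmem : ⁅a, b⁆ ∈ Zt ⊓ τ.ker := by
    refine ⟨?_, ?_⟩
    · rw [commutatorElement_def]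
      exact Zt.mul_mem (Zt.mul_mem (Zt.mul_mem ha hb) (Zt.inv_mem ha)) (Zt.inv_mem hb)
    · show ⁅a, b⁆ ∈ τ.ker
      rw [MonoidHom.mem_ker, map_commutatorElement, commutatorElement_eq_one_iff_commute]
      have ha' : τ a ∈ D.Z := by rw [← hZt2]; exact Subgroup.mem_map_of_mem τ ha
      have hb' : τ b ∈ D.Z := by rw [← hZt2]; exact Subgroup.mem_map_of_mem τ hb
      exact D.Z_central _ ha' _ (D.Z_le_Q hb')
  rw [hZt1] at hmem
  exact Subgroup.mem_bot.1 hmem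

/-- (b) KILL -/
theorem AO1_b {r : D.ρ} {h x' z : G} (hh : h ∈ D.T) (hfix : ∀ z ∈ D.X r, h * z * h⁻¹ = z)
    (hx' : x' ∈ D.Q) (hz : z ∈ D.X r) : lc hτ ⁅h, x'⁆ z = 1 := by
  have hzZ : z ∈ D.Z := D.X_le r hz
  have hcx : Commute x' z := (D.Z_central z hzZ x' hx').symm
  have hcxi : Commute x'⁻¹ z := hcx.inv_left
  have e1 : ⁅h, x'⁆ = (h * x' * h⁻¹) * x'⁻¹ := rfl
  rw [e1, lc_mul_left_of_commute hτ hc hcxi, AO1_lc_inv_left τ hτ hc hcxi]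
  obtain ⟨g, rfl⟩ := hτ h
  have e2 := lc_conj hτ hc g x' z
  rw [hfix z hz] at e2
  rw [← e2]
  have hcen := lc_mem_center hτ hc hcx
  rw [Subgroup.mem_center_iff] at hcen
  rw [hcen g, mul_inv_cancel_right, inv_mul_cancel]

/-- (c) -/
theorem AO1_c (Zt : Subgroup Γ) (hZt1 : Zt ⊓ τ.ker = ⊥) (hZt2 : Zt.map τ = D.Z)
    {r : D.ρ} {z : G} (hz : z ∈ D.X r) {x : G} (hx : x ∈ D.Q) : lc hτ x z = 1 := by
  have hzZ : z ∈ D.Z := D.X_le r hz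
  have hcz : ∀ a ∈ D.Q, Commute a z := fun a ha => (D.Z_central z hzZ a ha).symm
  let S : Subgroup G :=
    { carrier := {a | a ∈ D.Q ∧ lc hτ a z = 1}
      mul_mem' := by
        rintro a b ⟨ha, ha1⟩ ⟨hb, hb1⟩
        refine ⟨D.Q.mul_mem ha hb, ?_⟩
        rw [lc_mul_left_of_commute hτ hc (hcz b hb), hb1, ha1, mul_one]
      one_mem' := ⟨D.Q.one_mem, lc_one_left hτ hc z⟩
      inv_mem' := by
        rintro a ⟨ha, ha1⟩
        refine ⟨D.Q.inv_mem ha, ?_⟩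
        rw [AO1_lc_inv_left τ hτ hc (hcz a ha).inv_left, ha1, inv_one] }
  have hZS : D.Z ≤ S := fun a ha => ⟨D.Z_le_Q ha, AO1_a τ hτ hc D Zt hZt1 hZt2 ha hzZ⟩
  have hYS : Subgroup.closure (⋃ i, D.Y i) ≤ S := by
    rw [Subgroup.closure_le]
    intro a ha
    rw [Set.mem_iUnion] at ha
    obtain ⟨i, hai⟩ := ha
    obtain ⟨h, hh, hfix, hall⟩ := D.hO1 i r
    obtain ⟨x', hx', z', hz', rfl⟩ := hall a hai
    refine ⟨D.Y_sub i hai, ?_⟩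
    have hcz' : Commute z' z := D.Z_central z' hz' z (D.Z_le_Q hzZ)
    rw [lc_mul_left_of_commute hτ hc hcz', AO1_a τ hτ hc D Zt hZt1 hZt2 hz' hzZ,
      AO1_b τ hτ hc D hh hfix hx' hz, mul_one]
  exact (sup_le hZS hYS (D.Q_gen hx)).2

/-- (AO1) `Ẑ ≤ Z(Q̂)`. -/
theorem commute_comap_Q_comap_Z (Zt : Subgroup Γ) (hZt1 : Zt ⊓ τ.ker = ⊥) (hZt2 : Zt.map τ = D.Z) :
    ∀ x : Γ, τ x ∈ D.Q → ∀ z : Γ, τ z ∈ D.Z → Commute x z := by
  intro x hx z hz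
  rw [← commutatorElement_eq_one_iff_commute, lc_eq hτ hc]
  -- (d)
  have hcx : ∀ b ∈ D.Z, Commute (τ x) b := fun b hb => (D.Z_central b hb (τ x) hx).symm
  let S : Subgroup G :=
    { carrier := {b | b ∈ D.Z ∧ lc hτ (τ x) b = 1}
      mul_mem' := by
        rintro a b ⟨ha, ha1⟩ ⟨hb, hb1⟩
        refine ⟨D.Z.mul_mem ha hb, ?_⟩
        rw [lc_mul_right_of_commute hτ hc (hcx b hb), ha1, hb1, mul_one]
      one_mem' := ⟨D.Z.one_mem, lc_one_right hτ hc (τ x)⟩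
      inv_mem' := by
        rintro a ⟨ha, ha1⟩
        refine ⟨D.Z.inv_mem ha, ?_⟩
        rw [AO1_lc_inv_right τ hτ hc (hcx a ha).inv_right, ha1, inv_one] }
  have hXS : (⨆ r, D.X r) ≤ S := by
    apply iSup_le
    intro r b hb
    exact ⟨D.X_le r hb, AO1_c τ hτ hc D Zt hZt1 hZt2 hb hx⟩
  exact (hXS (D.Z_gen hz)).2

end pieces

end Cfsg.Agent.Helper50.PsuIo
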