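import Cfsg.Agent.Helper58.PsuIo.AbsDefs

/-!
# S2089 block I-odd, abstract part (helper58), piece (AO2): `⁅Q̂, Q̂⁆ ≤ Z̃`
-/

set_option autoImplicit false

namespace Cfsg.Agent.Helper50.PsuIo

open scoped commutatorElement
open Cfsg.Agent.Helper43.PsuM Cfsg.Agent.Helper96.StLift Cfsg.Agent.Helper58.PsuIo

universe u

section pieces

variable {Γ G : Type u} [Group Γ] [Group G] (τ : Γ →* G) (hτ : Function.Surjective τ)
  (hc : τ.ker ≤ Subgroup.center Γ)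

include hτ hc

variable {p : ℕ} (D : SiegelData G p)

section aux

variable (hcent : ∀ x : Γ, τ x ∈ D.Q → ∀ z : Γ, τ z ∈ D.Z → Commute x z)

include hcent

omit hc hcent in
theorem AO2_lc_mem {a b : G} (ha : a ∈ D.Q) (hb : b ∈ D.Q) : τ (lc hτ a b) ∈ D.Z := by
  rw [map_lc]
  exact D.comm_Q (Subgroup.commutator_mem_commutator ha hb)

theorem AO2_mul_left {a a' b : G} (ha : a ∈ D.Q) (ha' : a' ∈ D.Q) (hb : b ∈ D.Q) :
    lc hτ (a * a') b = lc hτ a' b * lc hτ a b := by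
  obtain ⟨x, rfl⟩ := hτ a
  rw [lc_mul_left hτ hc x a' b]
  have hcomm : Commute x (lc hτ a' b) := hcent x ha _ (AO2_lc_mem τ hτ D ha' hb)
  rw [hcomm.eq, mul_inv_cancel_right]

theorem AO2_mul_right {a b b' : G} (ha : a ∈ D.Q) (hb : b ∈ D.Q) (hb' : b' ∈ D.Q) :
    lc hτ a (b * b') = lc hτ a b * lc hτ a b' := by
  obtain ⟨y, rfl⟩ := hτ b
  rw [lc_mul_right hτ hc y a b']
  have hcomm : Commute y (lc hτ a b') := hcent y hb _ (AO2_lc_mem τ hτ D ha hb')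
  rw [hcomm.eq, mul_inv_cancel_right]

theorem AO2_Z_left {a b : G} (ha : a ∈ D.Z) (hb : b ∈ D.Q) : lc hτ a b = 1 := by
  obtain ⟨x, rfl⟩ := hτ a
  obtain ⟨y, rfl⟩ := hτ b
  rw [← lc_eq hτ hc, commutatorElement_eq_one_iff_commute]
  exact (hcent y hb x ha).symm

theorem AO2_Z_right {a b : G} (ha : a ∈ D.Q) (hb : b ∈ D.Z) : lc hτ a b = 1 := by
  obtain ⟨x, rfl⟩ := hτ a
  obtain ⟨y, rfl⟩ := hτ b
  rw [← lc_eq hτ hc, commutatorElement_eq_one_iff_commute]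
  exact hcent x ha y hb

theorem AO2_inv_left {a b : G} (ha : a ∈ D.Q) (hb : b ∈ D.Q) :
    lc hτ a⁻¹ b = (lc hτ a b)⁻¹ := by
  have e := AO2_mul_left τ hτ hc D hcent ha (D.Q.inv_mem ha) hb
  rw [mul_inv_cancel, lc_one_left hτ hc] at e
  exact eq_inv_of_mul_eq_one_left e.symm

theorem AO2_inv_right {a b : G} (ha : a ∈ D.Q) (hb : b ∈ D.Q) :
    lc hτ a b⁻¹ = (lc hτ a b)⁻¹ := by
  have e := AO2_mul_right τ hτ hc D hcent ha hb (D.Q.inv_mem hb)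
  rw [mul_inv_cancel, lc_one_right hτ hc] at e
  exact eq_inv_of_mul_eq_one_right e.symm

/-- lifts of elements of `Z` commute -/
theorem AO2_Zhat_comm {c d : Γ} (hc' : τ c ∈ D.Z) (hd : τ d ∈ D.Z) : Commute c d :=
  hcent c (D.Z_le_Q hc') d hd

omit hτ hcent in
/-- remark (*) -/
theorem AO2_star (Zt : Subgroup Γ) (hZt2 : Zt.map τ = D.Z) {g : Γ}
    (hg : ∀ z ∈ Zt, g * z * g⁻¹ ∈ Zt) {u : Γ} (hu : τ u ∈ D.Z) : g * u * g⁻¹ * u⁻¹ ∈ Zt := by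
  rw [← hZt2] at hu
  obtain ⟨zt, hzt, hzu⟩ := hu
  have ha : zt⁻¹ * u ∈ τ.ker := by
    rw [MonoidHom.mem_ker, map_mul, map_inv, hzu, inv_mul_cancel]
  have hcen : ∀ w : Γ, w * (zt⁻¹ * u) = (zt⁻¹ * u) * w := fun w =>
    Subgroup.mem_center_iff.1 (hc ha) w
  have e : g * u * g⁻¹ * u⁻¹ = (g * zt * g⁻¹) * zt⁻¹ := by
    have hu' : u = zt * (zt⁻¹ * u) := by group
    calc g * u * g⁻¹ * u⁻¹ = g * zt * ((zt⁻¹ * u) * g⁻¹) * (zt⁻¹ * u)⁻¹ * zt⁻¹ := by group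
      _ = g * zt * (g⁻¹ * (zt⁻¹ * u)) * (zt⁻¹ * u)⁻¹ * zt⁻¹ := by rw [hcen g⁻¹]
      _ = (g * zt * g⁻¹) * zt⁻¹ := by group
  rw [e]
  exact Zt.mul_mem (hg zt hzt) (Zt.inv_mem hzt)

/-- the key for `i ≠ j` -/
theorem AO2_key_ne (Zt : Subgroup Γ) (hZt2 : Zt.map τ = D.Z)
    (hTZt : ∀ g : Γ, τ g ∈ D.T → ∀ z ∈ Zt, g * z * g⁻¹ ∈ Zt)
    {i j : D.ι} (hij : i ≠ j) {x y : G} (hx : x ∈ D.Y i) (hy : y ∈ D.Y j) :
    lc hτ x y ∈ Zt := by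
  obtain ⟨h, hh, hYj, hYi⟩ := D.hO2a i j hij
  obtain ⟨x', hx', z', hz', rfl⟩ := hYi x hx
  have hyQ : y ∈ D.Q := D.Y_sub j hy
  have hw : ⁅h, y⁆ ∈ D.Z := hYj y hy
  obtain ⟨g, rfl⟩ := hτ h
  have hconjQ : τ g * x' * (τ g)⁻¹ ∈ D.Q := D.T_Q _ hh _ hx'
  have hcommQ : ⁅τ g, x'⁆ ∈ D.Q := by
    rw [commutatorElement_def]
    exact D.Q.mul_mem hconjQ (D.Q.inv_mem hx')
  -- step 1
  have s1 : lc hτ (⁅τ g, x'⁆ * z') y = lc hτ ⁅τ g, x'⁆ y := by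
    rw [AO2_mul_left τ hτ hc D hcent hcommQ (D.Z_le_Q hz') hyQ,
      AO2_Z_left τ hτ hc D hcent hz' hyQ, one_mul]
  -- step 2
  have s2 : lc hτ ⁅τ g, x'⁆ y = (lc hτ x' y)⁻¹ * lc hτ (τ g * x' * (τ g)⁻¹) y := by
    have e1 : ⁅τ g, x'⁆ = (τ g * x' * (τ g)⁻¹) * x'⁻¹ := rfl
    rw [e1, AO2_mul_left τ hτ hc D hcent hconjQ (D.Q.inv_mem hx') hyQ,
      AO2_inv_left τ hτ hc D hcent hx' hyQ]
  -- step 3
  have s3 : lc hτ (τ g * x' * (τ g)⁻¹) y = g * lc hτ x' y * g⁻¹ := by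
    have e2 := lc_conj hτ hc g x' y
    have e3 : τ g * y * (τ g)⁻¹ = ⁅τ g, y⁆ * y := by
      rw [commutatorElement_def]; group
    rw [e3, AO2_mul_right τ hτ hc D hcent hconjQ (D.Z_le_Q hw) hyQ,
      AO2_Z_right τ hτ hc D hcent hconjQ hw, one_mul] at e2
    exact e2.symm
  rw [s1, s2, s3]
  have hu : τ (lc hτ x' y) ∈ D.Z := AO2_lc_mem τ hτ D hx' hyQ
  have hgu : τ (g * lc hτ x' y * g⁻¹) ∈ D.Z := by
    rw [map_mul, map_mul, map_inv]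
    exact D.T_Z _ hh _ hu
  have hui : τ (lc hτ x' y)⁻¹ ∈ D.Z := by
    rw [map_inv]; exact D.Z.inv_mem hu
  rw [(AO2_Zhat_comm τ hτ hc D hcent hui hgu).eq]
  exact AO2_star τ hc D Zt hZt2 (hTZt g hh) hu

/-- the key for `i = j` -/
theorem AO2_key_eq (Zt : Subgroup Γ) (hZt2 : Zt.map τ = D.Z)
    (hTZt : ∀ g : Γ, τ g ∈ D.T → ∀ z ∈ Zt, g * z * g⁻¹ ∈ Zt)
    (hLZt : ∀ g : Γ, τ g ∈ D.L → ∀ z ∈ Zt, g * z * g⁻¹ ∈ Zt)
    {j : D.ι} {xj xj' : G} (hxj : xj ∈ D.Y j) (hxj' : xj' ∈ D.Y j) :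
    lc hτ xj xj' ∈ Zt := by
  obtain ⟨i, hij, s, hs, xi, hxi, xi', hxi', z, hz, z', hz', e1, e2⟩ := D.hO2b j xj hxj xj' hxj'
  obtain ⟨g, rfl⟩ := hτ s
  have qi : xi ∈ D.Q := D.Y_sub i hxi
  have qi' : xi' ∈ D.Q := D.Y_sub i hxi'
  have qj : xj ∈ D.Q := D.Y_sub j hxj
  have qj' : xj' ∈ D.Q := D.Y_sub j hxj'
  have qz : z ∈ D.Q := D.Z_le_Q hz
  have qz' : z' ∈ D.Q := D.Z_le_Q hz'
  have hA : lc hτ xi xj' ∈ Zt := AO2_key_ne τ hτ hc D hcent Zt hZt2 hTZt hij hxi hxj'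
  have hB : lc hτ xj xi' ∈ Zt := AO2_key_ne τ hτ hc D hcent Zt hZt2 hTZt (Ne.symm hij) hxj hxi'
  have hu : τ (lc hτ xi xi') ∈ D.Z := AO2_lc_mem τ hτ D qi qi'
  have hstar : g * lc hτ xi xi' * g⁻¹ * (lc hτ xi xi')⁻¹ ∈ Zt :=
    AO2_star τ hc D Zt hZt2 (hLZt g hs) hu
  -- expansion of the conjugate
  have hexp : g * lc hτ xi xi' * g⁻¹ =
      (lc hτ xj xi' * lc hτ xj xj') * (lc hτ xi xi' * lc hτ xi xj') := by
    rw [lc_conj hτ hc g xi xi', e1, e2]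
    have qb : xi' * xj' * z' ∈ D.Q := D.Q.mul_mem (D.Q.mul_mem qi' qj') qz'
    rw [AO2_mul_left τ hτ hc D hcent (D.Q.mul_mem qi qj) qz qb,
      AO2_Z_left τ hτ hc D hcent hz qb, one_mul,
      AO2_mul_left τ hτ hc D hcent qi qj qb,
      AO2_mul_right τ hτ hc D hcent qj (D.Q.mul_mem qi' qj') qz',
      AO2_Z_right τ hτ hc D hcent qj hz', mul_one,
      AO2_mul_right τ hτ hc D hcent qj qi' qj',
      AO2_mul_right τ hτ hc D hcent qi (D.Q.mul_mem qi' qj') qz',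
      AO2_Z_right τ hτ hc D hcent qi hz', mul_one,
      AO2_mul_right τ hτ hc D hcent qi qi' qj']
  -- isolate `W = lc xj xj'`
  obtain ⟨u, hudef⟩ : ∃ u, u = lc hτ xi xi' := ⟨_, rfl⟩
  obtain ⟨A, hAdef⟩ : ∃ A, A = lc hτ xi xj' := ⟨_, rfl⟩
  obtain ⟨B, hBdef⟩ : ∃ B, B = lc hτ xj xi' := ⟨_, rfl⟩
  obtain ⟨W, hWdef⟩ : ∃ W, W = lc hτ xj xj' := ⟨_, rfl⟩
  rw [← hudef, ← hAdef, ← hBdef, ← hWdef] at hexp
  rw [← hudef] at hstar hu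
  rw [← hAdef] at hA
  rw [← hBdef] at hB
  rw [← hWdef]
  have hAZ : τ A ∈ D.Z := by rw [hAdef]; exact AO2_lc_mem τ hτ D qi qj'
  have hWZ : τ W ∈ D.Z := by rw [hWdef]; exact AO2_lc_mem τ hτ D qj qj'
  have cuA : Commute u A := AO2_Zhat_comm τ hτ hc D hcent hu hAZ
  have cWu : Commute W u := AO2_Zhat_comm τ hτ hc D hcent hWZ hu
  have cWA : Commute W A := AO2_Zhat_comm τ hτ hc D hcent hWZ hAZ
  -- `g u g⁻¹ u⁻¹ = B * W * A`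
  have e3 : g * u * g⁻¹ * u⁻¹ = B * W * A := by
    rw [hexp]
    calc B * W * (u * A) * u⁻¹ = B * W * (A * u) * u⁻¹ := by rw [cuA.eq]
      _ = B * W * A := by group
  have e4 : W = B⁻¹ * (g * u * g⁻¹ * u⁻¹) * A⁻¹ := by
    rw [e3]; group
  rw [e4]
  exact Zt.mul_mem (Zt.mul_mem (Zt.inv_mem hB) hstar) (Zt.inv_mem hA)

end aux

/-- (AO2) `⁅Q̂, Q̂⁆ ≤ Z̃`. -/
theorem commutator_comap_Q_le (Zt : Subgroup Γ) (hZt1 : Zt ⊓ τ.ker = ⊥) (hZt2 : Zt.map τ = D.Z)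
    (hcent : ∀ x : Γ, τ x ∈ D.Q → ∀ z : Γ, τ z ∈ D.Z → Commute x z)
    (hTZt : ∀ g : Γ, τ g ∈ D.T → ∀ z ∈ Zt, g * z * g⁻¹ ∈ Zt)
    (hLZt : ∀ g : Γ, τ g ∈ D.L → ∀ z ∈ Zt, g * z * g⁻¹ ∈ Zt) :
    ⁅D.Q.comap τ, D.Q.comap τ⁆ ≤ Zt := by
  -- the key
  have key : ∀ i j, ∀ x ∈ D.Y i, ∀ y ∈ D.Y j, lc hτ x y ∈ Zt := by
    intro i j x hx y hy
    by_cases hij : i = j
    · subst hij
      exact AO2_key_eq τ hτ hc D hcent Zt hZt2 hTZt hLZt hx hy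
    · exact AO2_key_ne τ hτ hc D hcent Zt hZt2 hTZt hij hx hy
  -- first variable
  have step1 : ∀ j, ∀ y ∈ D.Y j, ∀ a ∈ D.Q, lc hτ a y ∈ Zt := by
    intro j y hy a ha
    have hyQ : y ∈ D.Q := D.Y_sub j hy
    let S : Subgroup G :=
      { carrier := {a | a ∈ D.Q ∧ lc hτ a y ∈ Zt}
        mul_mem' := by
          rintro a b ⟨ha, ha1⟩ ⟨hb, hb1⟩
          refine ⟨D.Q.mul_mem ha hb, ?_⟩
          rw [AO2_mul_left τ hτ hc D hcent ha hb hyQ]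
          exact Zt.mul_mem hb1 ha1
        one_mem' := ⟨D.Q.one_mem, by rw [lc_one_left hτ hc]; exact Zt.one_mem⟩
        inv_mem' := by
          rintro a ⟨ha, ha1⟩
          refine ⟨D.Q.inv_mem ha, ?_⟩
          rw [AO2_inv_left τ hτ hc D hcent ha hyQ]
          exact Zt.inv_mem ha1 }
    have hZS : D.Z ≤ S := fun a ha =>
      ⟨D.Z_le_Q ha, by rw [AO2_Z_left τ hτ hc D hcent ha hyQ]; exact Zt.one_mem⟩
    have hYS : Subgroup.closure (⋃ i, D.Y i) ≤ S := by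
      rw [Subgroup.closure_le]
      intro a ha
      rw [Set.mem_iUnion] at ha
      obtain ⟨i, hai⟩ := ha
      exact ⟨D.Y_sub i hai, key i j a hai y hy⟩
    exact (sup_le hZS hYS (D.Q_gen ha)).2
  -- second variable
  have step2 : ∀ a ∈ D.Q, ∀ b ∈ D.Q, lc hτ a b ∈ Zt := by
    intro a ha b hb
    let S : Subgroup G :=
      { carrier := {b | b ∈ D.Q ∧ lc hτ a b ∈ Zt}
        mul_mem' := by
          rintro b b' ⟨hb, hb1⟩ ⟨hb', hb1'⟩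
          refine ⟨D.Q.mul_mem hb hb', ?_⟩
          rw [AO2_mul_right τ hτ hc D hcent ha hb hb']
          exact Zt.mul_mem hb1 hb1'
        one_mem' := ⟨D.Q.one_mem, by rw [lc_one_right hτ hc]; exact Zt.one_mem⟩
        inv_mem' := by
          rintro b ⟨hb, hb1⟩
          refine ⟨D.Q.inv_mem hb, ?_⟩
          rw [AO2_inv_right τ hτ hc D hcent ha hb]
          exact Zt.inv_mem hb1 }
    have hZS : D.Z ≤ S := fun b hb =>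
      ⟨D.Z_le_Q hb, by rw [AO2_Z_right τ hτ hc D hcent ha hb]; exact Zt.one_mem⟩
    have hYS : Subgroup.closure (⋃ i, D.Y i) ≤ S := by
      rw [Subgroup.closure_le]
      intro b hb
      rw [Set.mem_iUnion] at hb
      obtain ⟨j, hbj⟩ := hb
      exact ⟨D.Y_sub j hbj, step1 j b hbj a ha⟩
    exact (sup_le hZS hYS (D.Q_gen hb)).2
  rw [Subgroup.commutator_le]
  intro x hx y hy
  rw [lc_eq hτ hc]
  exact step2 _ hx _ hy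

end pieces

end Cfsg.Agent.Helper50.PsuIo
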