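import Mathlib
import Cfsg.Agent.Helper50.QA6
import Cfsg.Agent.Helper73.PGroupCyclic

set_option autoImplicit false

/-!
# From the abelian group `E` to its elements of prime order; bounding `E` (helper50)
-/

namespace Cfsg.Agent.Helper50

section QA7

open Subgroup
open scoped commutatorElement

variable {W : Type*} [Group W]

/-- the elements of order dividing `p` of an abelian group of automorphisms -/
def omegaOne (E : Subgroup (MulAut W)) (hcomm : ∀ x ∈ E, ∀ y ∈ E, x * y = y * x) (p : ℕ) :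
    Subgroup (MulAut W) where
  carrier := {e | e ∈ E ∧ e ^ p = 1}
  one_mem' := ⟨E.one_mem, one_pow p⟩
  mul_mem' := by
    rintro a b ⟨ha, ha'⟩ ⟨hb, hb'⟩
    refine ⟨E.mul_mem ha hb, ?_⟩
    rw [(show Commute a b from hcomm a ha b hb).mul_pow, ha', hb', one_mul]
  inv_mem' := by
    rintro a ⟨ha, ha'⟩
    exact ⟨E.inv_mem ha, by rw [inv_pow, ha', inv_one]⟩

theorem mem_omegaOne {E : Subgroup (MulAut W)} {hcomm : ∀ x ∈ E, ∀ y ∈ E, x * y = y * x} {p : ℕ}
    {e : MulAut W} : e ∈ omegaOne E hcomm p ↔ e ∈ E ∧ e ^ p = 1 := Iff.rfl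

theorem omegaOne_le (E : Subgroup (MulAut W)) (hcomm : ∀ x ∈ E, ∀ y ∈ E, x * y = y * x) (p : ℕ) :
    omegaOne E hcomm p ≤ E := fun _ h => h.1

/-- a noncyclic abelian `p`-group has at least `p ^ 2` elements of order dividing `p` -/
theorem card_omegaOne_ge [Finite W] {p : ℕ} [Fact p.Prime] (E : Subgroup (MulAut W))
    (hcomm : ∀ x ∈ E, ∀ y ∈ E, x * y = y * x) (hE : IsPGroup p E) (hnc : ¬ IsCyclic E) :
    p ^ 2 ≤ Nat.card (omegaOne E hcomm p) := by
  have hp : p.Prime := Fact.out
  by_contra hlt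
  push Not at hlt
  apply hnc
  set D := omegaOne E hcomm p with hD
  have hDp : IsPGroup p D := hE.to_le (omegaOne_le E hcomm p)
  obtain ⟨a, ha⟩ := IsPGroup.iff_card.mp hDp
  have ha1 : a < 2 := by
    rw [ha] at hlt
    exact (Nat.pow_lt_pow_iff_right hp.one_lt).mp hlt
  have hDle : Nat.card D ≤ p := by
    rw [ha]
    calc p ^ a ≤ p ^ 1 := Nat.pow_le_pow_right hp.pos (by omega)
      _ = p := pow_one p
  apply Helper73.isCyclic_of_comm_of_uniqueOrderP hE
  · intro x y
    apply Subtype.ext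
    exact hcomm x x.2 y y.2
  · intro x y hx hy
    have hmem : ∀ w : E, orderOf w = p → (w : MulAut W) ∈ D := by
      intro w hw
      refine ⟨w.2, ?_⟩
      have h1 : w ^ p = 1 := by rw [← hw]; exact pow_orderOf_eq_one w
      have h2 := congrArg (fun t : E => (t : MulAut W)) h1
      simpa using h2
    have hxD := hmem x hx
    have hyD := hmem y hy
    have hzle : zpowers (x : MulAut W) ≤ D := by rw [zpowers_le]; exact hxD
    have hcz : Nat.card (zpowers (x : MulAut W)) = p := by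
      rw [Nat.card_zpowers, Subgroup.orderOf_coe, hx]
    have heq : zpowers (x : MulAut W) = D :=
      Subgroup.eq_of_le_of_card_ge hzle (by rw [hcz]; exact hDle)
    have hy' : (y : MulAut W) ∈ zpowers (x : MulAut W) := by rw [heq]; exact hyD
    obtain ⟨k, hk⟩ := mem_zpowers_iff.mp hy'
    rw [mem_zpowers_iff]
    refine ⟨k, Subtype.ext ?_⟩
    rw [Subgroup.coe_zpow]
    exact hk

/-- building the setup -/
theorem exists_qsetup [Finite W] (hW : IsPGroup 2 W) {p : ℕ} [Fact p.Prime] (hp2 : p ≠ 2)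
    (D : Subgroup (MulAut W)) (hcomm : ∀ x ∈ D, ∀ y ∈ D, x * y = y * x)
    (hexp : ∀ d ∈ D, d ^ p = 1) (hcard : p ^ 2 ≤ Nat.card D)
    (hfix : ∀ e ∈ D, e ≠ 1 → ∀ x y : W, orderOf x = 2 → orderOf y = 2 → e x = x → e y = y → x = y) :
    p = 3 ∧ ∃ z : W, QSetup W D z := by
  have hp : p.Prime := Fact.out
  have hpY : ¬ p ∣ Nat.card (⊤ : Subgroup W) := by
    intro hdvd
    obtain ⟨n, hn⟩ := IsPGroup.iff_card.mp (hW.to_subgroup ⊤)
    rw [hn] at hdvd
    have := (Nat.prime_dvd_prime_iff_eq hp Nat.prime_two).mp (hp.dvd_of_dvd_pow hdvd)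
    exact hp2 this
  have hgen := le_iSup_fixSub D hcomm hexp hcard ⊤ hpY (fun _ _ _ _ => mem_top _)
  have hex : ∃ d ∈ D, d ≠ 1 ∧ ∃ e ∈ D, ∃ x₀ ∈ fixSub d, e x₀ ≠ x₀ := by
    by_contra hcon
    push Not at hcon
    have h1 : ∀ e ∈ D, e = 1 := by
      intro e he
      have hle : (⊤ : Subgroup W) ≤ fixSub e := by
        refine hgen.trans (iSup_le ?_)
        rintro ⟨d, hd, hd1⟩ x ⟨-, hx⟩
        exact hcon d hd hd1 e he x hx
      apply MulEquiv.ext
      intro y
      exact hle (mem_top y)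
    have hD : D = ⊥ := (Subgroup.eq_bot_iff_forall D).mpr h1
    rw [hD, Subgroup.card_bot] at hcard
    have : 2 ^ 2 ≤ p ^ 2 := Nat.pow_le_pow_left hp.two_le 2
    omega
  obtain ⟨d, hd, hd1, e, he, x₀, hx₀, hex₀⟩ := hex
  have huniq : ∀ x ∈ fixSub d, ∀ y ∈ fixSub d, orderOf x = 2 → orderOf y = 2 → x = y :=
    fun x hx y hy hx2 hy2 => hfix d hd hd1 x y hx2 hy2 hx hy
  have hinv : ∀ e' ∈ D, ∀ x ∈ fixSub d, e' x ∈ fixSub d := by
    intro e' he' x hx
    rw [mem_fixSub] at hx ⊢
    have h := hcomm d hd e' he'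
    have : d (e' x) = e' (d x) := by
      have := congrArg (fun f : MulAut W => f x) h
      simpa only [MulAut.mul_apply] using this
    rw [this, hx]
  have hpow : e ^ (p ^ 1) = 1 := by rw [pow_one]; exact hexp e he
  obtain ⟨rfl, h8, z, hzF, hzo, hfixe, -, -⟩ := q8_of_nontrivial_action (fixSub d)
    (hW.to_subgroup _) huniq e (hinv e he) hp2 hpow hx₀ hex₀
  refine ⟨rfl, z, ?_⟩
  have hzfix : ∀ e' ∈ D, e' z = z := by
    intro e' he'
    apply huniq (e' z) (hinv e' he' z hzF) z hzF _ hzo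
    rw [MulEquiv.orderOf_eq, hzo]
  refine ⟨inferInstance, hW, hcomm, hexp, hcard, hfix, hzo, ?_⟩
  intro y
  constructor
  · intro hy
    exact (hfixe y (hy d hd)).mp (hy e he)
  · rintro (rfl | rfl)
    · intro e' _; exact map_one e'
    · exact hzfix

variable {D : Subgroup (MulAut W)} {z : W}

namespace QSetup

variable (S : QSetup W D z)
include S

/-- an element of a quaternion-type subgroup outside `⟨z⟩` has square `z` -/
theorem IsQ.sq_eq_z {F : Subgroup W} (hF : S.IsQ F) {x : W} (hx : x ∈ F) (hxz : x ∉ zpowers z) :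
    x ^ 2 = z := by
  rcases (hF.facts S).2.1 x hx with h | h
  · exfalso
    apply hxz
    by_cases hx1 : x = 1
    · rw [hx1]; exact one_mem _
    · have ho : orderOf x = 2 := orderOf_eq_prime h hx1
      have := hF.uniq S x hx z (hF.z_mem S) ho S.hz
      rw [this]; exact mem_zpowers z
  · exact h

theorem IsQ.inf_le {F F' : Subgroup W} (hF : S.IsQ F) (hF' : S.IsQ F') (hne : F' ≠ F) :
    F ⊓ F' ≤ zpowers z := by
  by_contra hle
  have hH : DInv D (F ⊓ F') := fun e he y hy => ⟨hF.dinv S e he y hy.1, hF'.dinv S e he y hy.2⟩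
  have h1 := hF'.eq_of_le S inf_le_right hH hle
  have hle' : F' ≤ F := by rw [← h1]; exact inf_le_left
  exact hne (hF.eq_of_le' S hF' hle')

/-- there are at least two quaternion-type subgroups -/
theorem exists_two_isQ : ∃ F F', S.IsQ F ∧ S.IsQ F' ∧ F' ≠ F := by
  have hfin : Finite W := S.fin
  obtain ⟨T, hT, hcard⟩ := S.card_eq
  by_cases h2 : 1 < T.card
  · obtain ⟨a, ha, b, hb, hab⟩ := Finset.one_lt_card.mp h2
    exact ⟨a, b, (hT a).mp ha, (hT b).mp hb, Ne.symm hab⟩
  · exfalso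
    obtain ⟨F, hF⟩ := S.exists_isQ
    have hle : Nat.card W ≤ 8 := by
      rw [hcard]
      have : 2 * T.card + 1 ≤ 3 := by omega
      calc 2 ^ (2 * T.card + 1) ≤ 2 ^ 3 := Nat.pow_le_pow_right (by norm_num) this
        _ = 8 := by norm_num
    have htop : F = ⊤ := by
      apply (Subgroup.card_eq_iff_eq_top F).mp
      have h1 : Nat.card F ≤ Nat.card W := Subgroup.card_le_card_group F
      rw [(hF.facts S).1] at h1 ⊢
      omega
    obtain ⟨d, hd, hd1, hFd, -⟩ := hF
    apply hd1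
    apply MulEquiv.ext
    intro y
    have : y ∈ fixSub d := by rw [← hFd, htop]; exact mem_top y
    exact this

/-- the number of quaternion-type subgroups is at most four when `D` has order nine -/
theorem card_isQ_le (h9 : Nat.card D = 9) (T : Finset (Subgroup W)) (hT : ∀ F ∈ T, S.IsQ F) :
    T.card ≤ 4 := by
  classical
  have hfin : Finite W := S.fin
  have hfinA : Finite (MulAut W) := inferInstance
  let s : Finset (MulAut W) :=
    (Set.toFinite {d : MulAut W | d ∈ D ∧ d ≠ 1 ∧ ¬ fixSub d ≤ zpowers z}).toFinset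
  have hs : ∀ d, d ∈ s ↔ (d ∈ D ∧ d ≠ 1 ∧ ¬ fixSub d ≤ zpowers z) := by
    intro d
    rw [Set.Finite.mem_toFinset]; rfl
  have hs8 : s.card ≤ 8 := by
    have h1 : s ⊆ (Set.toFinite ((D : Set (MulAut W)) \ {1})).toFinset := by
      intro d hd
      rw [Set.Finite.mem_toFinset]
      exact ⟨((hs d).mp hd).1, ((hs d).mp hd).2.1⟩
    have h2 := Finset.card_le_card h1
    have h3 : (Set.toFinite ((D : Set (MulAut W)) \ {1})).toFinset.card =
        ((D : Set (MulAut W)) \ {1}).ncard := (Set.ncard_eq_toFinset_card _ _).symm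
    have h4 : ((D : Set (MulAut W)) \ {1}).ncard = (D : Set (MulAut W)).ncard - 1 :=
      Set.ncard_sdiff_singleton_of_mem D.one_mem
    have h5 : (D : Set (MulAut W)).ncard = Nat.card D := (Nat.card_coe_set_eq _).symm
    rw [h3, h4, h5, h9] at h2
    exact h2
  have hfib : ∀ F ∈ s.image fixSub, 2 ≤ (s.filter (fun d => fixSub d = F)).card := by
    intro F hF
    obtain ⟨d, hd, rfl⟩ := Finset.mem_image.mp hF
    obtain ⟨hdD, hd1, hdz⟩ := (hs d).mp hd
    have hinv : fixSub d⁻¹ = fixSub d := by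
      ext y
      rw [mem_fixSub, mem_fixSub]
      constructor
      · intro h
        have h1 : d (d⁻¹ y) = y := MulAut.apply_inv_self W d y
        rw [h] at h1
        exact h1
      · intro h
        have h1 : d⁻¹ (d y) = y := MulAut.inv_apply_self W d y
        rw [h] at h1
        exact h1
    have hdinv : d⁻¹ ∈ s := by
      rw [hs]
      refine ⟨D.inv_mem hdD, fun h => hd1 (inv_eq_one.mp h), ?_⟩
      rw [hinv]; exact hdz
    have hne : d ≠ d⁻¹ := by
      intro h
      have h3 := S.exp3 d hdD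
      have h2 : d ^ 2 = 1 := by
        rw [pow_two]
        nth_rewrite 2 [h]
        exact mul_inv_cancel d
      apply hd1
      calc d = d ^ 3 * (d ^ 2)⁻¹ := by group
        _ = 1 := by rw [h3, h2, inv_one, mul_one]
    have hsub : ({d, d⁻¹} : Finset (MulAut W)) ⊆ s.filter (fun d' => fixSub d' = fixSub d) := by
      intro t ht
      rw [Finset.mem_insert, Finset.mem_singleton] at ht
      rw [Finset.mem_filter]
      rcases ht with rfl | rfl
      · exact ⟨hd, rfl⟩
      · exact ⟨hdinv, hinv⟩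
    have := Finset.card_le_card hsub
    rw [Finset.card_pair hne] at this
    exact this
  have h1 := Finset.mul_card_image_le_card s 2 hfib
  have h2 : T ⊆ s.image fixSub := by
    intro F hF
    obtain ⟨d, hd, hd1, hFd, hFz⟩ := hT F hF
    rw [Finset.mem_image]
    refine ⟨d, (hs d).mpr ⟨hd, hd1, ?_⟩, hFd.symm⟩
    rw [← hFd]; exact hFz
  have h3 := Finset.card_le_card h2
  omega

end QSetup

end QA7

end Cfsg.Agent.Helper50
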