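import Mathlib
import Cfsg.Agent.Helper50.QA7

set_option autoImplicit false

/-!
# Bounding the abelian group `E` (helper50)
-/

namespace Cfsg.Agent.Helper50

section QA8

open Subgroup
open scoped commutatorElement

variable {W : Type*} [Group W] {D : Subgroup (MulAut W)} {z : W}

namespace QSetup

variable (S : QSetup W D z)
include S

theorem fix_z_of_commute {e : MulAut W} (hED : ∀ d ∈ D, e * d = d * e) : e z = z := by
  have h1 : ∀ d ∈ D, d (e z) = e z := by
    intro d hd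
    have h := hED d hd
    have : d (e z) = e (d z) := by
      have := congrArg (fun f : MulAut W => f z) h
      simpa only [MulAut.mul_apply] using this.symm
    rw [this, S.z_fixed d hd]
  rcases (S.hC0 (e z)).mp h1 with h | h
  · exfalso
    have : e z = e 1 := by rw [h, map_one]
    exact S.z_ne_one (e.injective this)
  · exact h

theorem IsQ.inv_of_commute {F : Subgroup W} (hF : S.IsQ F) {e : MulAut W}
    (hED : ∀ d ∈ D, e * d = d * e) {x : W} (hx : x ∈ F) : e x ∈ F := by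
  obtain ⟨d, hd, hd1, rfl, -⟩ := hF
  rw [mem_fixSub] at hx ⊢
  have h := hED d hd
  have : d (e x) = e (d x) := by
    have := congrArg (fun f : MulAut W => f x) h
    simpa only [MulAut.mul_apply] using this.symm
  rw [this, hx]

theorem IsQ.index_stabilizer_le {F : Subgroup W} (hF : S.IsQ F) (E : Subgroup (MulAut W))
    (hE : IsPGroup 3 E) (hED : ∀ e ∈ E, ∀ d ∈ D, e * d = d * e) {x : W} (hx : x ∈ F) :
    (MulAction.stabilizer E x).index ≤ 3 := by
  have hfin : Finite W := S.fin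
  have hfinE : Finite E := inferInstance
  have hsub : MulAction.orbit E x ⊆ (F : Set W) := by
    rintro _ ⟨e, rfl⟩
    show (e : MulAut W) x ∈ F
    exact hF.inv_of_commute S (hED e e.2) hx
  have hle : (MulAction.orbit E x).ncard ≤ 8 := by
    calc (MulAction.orbit E x).ncard ≤ (F : Set W).ncard := Set.ncard_le_ncard hsub (Set.toFinite _)
      _ = Nat.card F := (Nat.card_coe_set_eq _).symm
      _ = 8 := (hF.facts S).1
  have hdvd : (MulAction.stabilizer E x).index ∣ Nat.card E := Subgroup.index_dvd_card _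
  rw [MulAction.index_stabilizer] at hdvd ⊢
  obtain ⟨n, hn⟩ := IsPGroup.iff_card.mp hE
  rw [hn] at hdvd
  obtain ⟨b, -, hb'⟩ := (Nat.dvd_prime_pow Nat.prime_three).mp hdvd
  rw [hb'] at hle ⊢
  have hb1 : b ≤ 1 := by
    by_contra h
    push Not at h
    have : 3 ^ 2 ≤ 3 ^ b := Nat.pow_le_pow_right (by norm_num) h
    omega
  calc 3 ^ b ≤ 3 ^ 1 := Nat.pow_le_pow_right (by norm_num) hb1
    _ = 3 := by norm_num

/-- an automorphism commuting with `D`, fixing elements outside `⟨z⟩` of two different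
quaternion-type subgroups, fixes two involutions -/
theorem exists_two_fixed_involutions {F₁ F₂ : Subgroup W} (hF₁ : S.IsQ F₁) (hF₂ : S.IsQ F₂)
    (hne : F₂ ≠ F₁) {x₁ x₂ : W} (hx₁ : x₁ ∈ F₁) (hx₁z : x₁ ∉ zpowers z) (hx₂ : x₂ ∈ F₂)
    (hx₂z : x₂ ∉ zpowers z) :
    orderOf (x₁ * x₂) = 2 ∧ x₁ * x₂ ≠ z := by
  have hc : x₁ * x₂ = x₂ * x₁ := S.isQ_comm hF₁ hF₂ hne x₁ hx₁ x₂ hx₂
  have hs1 := hF₁.sq_eq_z S hx₁ hx₁z
  have hs2 := hF₂.sq_eq_z S hx₂ hx₂z
  have hinf := hF₁.inf_le S hF₂ hne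
  have hsq : (x₁ * x₂) ^ 2 = 1 := by
    rw [(show Commute x₁ x₂ from hc).mul_pow, hs1, hs2, ← pow_two, S.z_sq]
  have hne1 : x₁ * x₂ ≠ 1 := by
    intro h
    apply hx₂z
    apply hinf
    have : x₂ = x₁⁻¹ := (inv_eq_of_mul_eq_one_right h).symm
    exact ⟨by rw [this]; exact F₁.inv_mem hx₁, hx₂⟩
  have hnez : x₁ * x₂ ≠ z := by
    intro h
    apply hx₂z
    apply hinf
    have : x₂ = x₁⁻¹ * z := by rw [← h, inv_mul_cancel_left]
    exact ⟨by rw [this]; exact F₁.mul_mem (F₁.inv_mem hx₁) (hF₁.z_mem S), hx₂⟩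
  exact ⟨orderOf_eq_prime hsq hne1, hnez⟩

/-- `E` has order nine and consists of elements of order dividing three -/
theorem card_E_eq (E : Subgroup (MulAut W)) (hDE : D ≤ E) (hE : IsPGroup 3 E)
    (hED : ∀ e ∈ E, ∀ d ∈ D, e * d = d * e)
    (hfixE : ∀ e ∈ E, e ≠ 1 → ∀ x y : W, orderOf x = 2 → orderOf y = 2 → e x = x → e y = y → x = y) :
    Nat.card E = 9 ∧ D = E := by
  have hfin : Finite W := S.fin
  have hfinE : Finite E := inferInstance
  obtain ⟨F₁, F₂, hF₁, hF₂, hne⟩ := S.exists_two_isQ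
  obtain ⟨x₁, hx₁, hx₁z⟩ : ∃ x₁ ∈ F₁, x₁ ∉ zpowers z := by
    obtain ⟨d, -, -, -, hnle⟩ := id hF₁
    exact SetLike.not_le_iff_exists.mp hnle
  obtain ⟨x₂, hx₂, hx₂z⟩ : ∃ x₂ ∈ F₂, x₂ ∉ zpowers z := by
    obtain ⟨d, -, -, -, hnle⟩ := id hF₂
    exact SetLike.not_le_iff_exists.mp hnle
  obtain ⟨ho, hnez⟩ := S.exists_two_fixed_involutions hF₁ hF₂ hne hx₁ hx₁z hx₂ hx₂z
  have hbot : MulAction.stabilizer E x₁ ⊓ MulAction.stabilizer E x₂ = ⊥ := by
    rw [eq_bot_iff]
    rintro e ⟨he1, he2⟩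
    rw [Subgroup.mem_bot]
    by_contra hne1
    have he1' : (e : MulAut W) x₁ = x₁ := MulAction.mem_stabilizer_iff.mp he1
    have he2' : (e : MulAut W) x₂ = x₂ := MulAction.mem_stabilizer_iff.mp he2
    have hne1' : (e : MulAut W) ≠ 1 := fun h => hne1 (Subtype.ext h)
    apply hnez
    apply hfixE e e.2 hne1' (x₁ * x₂) z ho S.hz
    · rw [map_mul, he1', he2']
    · exact S.fix_z_of_commute (hED e e.2)
  have h1 := hF₁.index_stabilizer_le S E hE hED hx₁
  have h2 := hF₂.index_stabilizer_le S E hE hED hx₂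
  have h3 : (MulAction.stabilizer E x₁ ⊓ MulAction.stabilizer E x₂).index ≤
      (MulAction.stabilizer E x₁).index * (MulAction.stabilizer E x₂).index :=
    Subgroup.index_inf_le
  rw [hbot, Subgroup.index_bot] at h3
  have hle9 : Nat.card E ≤ 9 := by
    calc Nat.card E ≤ (MulAction.stabilizer E x₁).index * (MulAction.stabilizer E x₂).index := h3
      _ ≤ 3 * 3 := Nat.mul_le_mul h1 h2
  have hDle : Nat.card D ≤ Nat.card E := Subgroup.card_le_of_le hDE
  have h9 := S.card9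
  have hE9 : Nat.card E = 9 := by omega
  refine ⟨hE9, ?_⟩
  exact Subgroup.eq_of_le_of_card_ge hDE (by omega)

end QSetup

end QA8

end Cfsg.Agent.Helper50
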