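import Mathlib
import Cfsg.Agent.Helper77.Res.Defs

/-!
# S5289 swarm (architect helper77, board #14084), piece (C3): `pearl_of_card`
-/

set_option autoImplicit false

universe u

namespace Cfsg.Agent.Helper50.Res

open Subgroup Cfsg.Agent.Helper77.Res

variable {Ω : Type u} [Group Ω] {p : ℕ} [hp : Fact p.Prime]

/-- `b ^ k * a = a * b ^ k * e ^ k` when `b * a = a * b * e` and `e` commutes with `b` -/
theorem C3_pow_comm {G : Type*} [Group G] (a b e : G) (hba : b * a = a * b * e)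
    (heb : Commute e b) (k : ℕ) : b ^ k * a = a * b ^ k * e ^ k := by
  induction k with
  | zero => simp
  | succ k ih =>
    have h1 : e * b ^ k = b ^ k * e := (heb.pow_right k).eq
    calc b ^ (k + 1) * a = b * (b ^ k * a) := by rw [pow_succ']; group
      _ = b * (a * b ^ k * e ^ k) := by rw [ih]
      _ = (b * a) * b ^ k * e ^ k := by group
      _ = a * b * e * b ^ k * e ^ k := by rw [hba]
      _ = a * b * (e * b ^ k) * e ^ k := by group
      _ = a * b * (b ^ k * e) * e ^ k := by rw [h1]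
      _ = a * b ^ (k + 1) * e ^ (k + 1) := by rw [pow_succ' b, pow_succ' e]; group

/-- the power formula in class two -/
theorem C3_mul_pow {G : Type*} [Group G] (a b e : G) (hba : b * a = a * b * e)
    (hea : Commute e a) (heb : Commute e b) (k : ℕ) :
    (a * b) ^ k = a ^ k * b ^ k * e ^ (k.choose 2) := by
  induction k with
  | zero => simp
  | succ k ih =>
    have h1 := C3_pow_comm a b e hba heb k
    have h2 : e ^ (k.choose 2) * a = a * e ^ (k.choose 2) := (hea.pow_left _).eq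
    have h3 : e ^ (k.choose 2) * b = b * e ^ (k.choose 2) := (heb.pow_left _).eq
    have h4 : e ^ k * b = b * e ^ k := (heb.pow_left k).eq
    have hch : (k + 1).choose 2 = k + k.choose 2 := by
      rw [show (2 : ℕ) = 1 + 1 from rfl, Nat.choose_succ_succ' k 1]
      simp
    rw [pow_succ, ih, hch, pow_add e k (k.choose 2)]
    calc a ^ k * b ^ k * e ^ (k.choose 2) * (a * b)
        = a ^ k * b ^ k * (e ^ (k.choose 2) * a) * b := by group
      _ = a ^ k * b ^ k * (a * e ^ (k.choose 2)) * b := by rw [h2]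
      _ = a ^ k * (b ^ k * a) * (e ^ (k.choose 2) * b) := by group
      _ = a ^ k * (a * b ^ k * e ^ k) * (b * e ^ (k.choose 2)) := by rw [h1, h3]
      _ = a ^ k * a * b ^ k * (e ^ k * b) * e ^ (k.choose 2) := by group
      _ = a ^ k * a * b ^ k * (b * e ^ k) * e ^ (k.choose 2) := by rw [h4]
      _ = a ^ (k + 1) * b ^ (k + 1) * (e ^ k * e ^ (k.choose 2)) := by
        rw [pow_succ a, pow_succ b]; group


/-- a subgroup between `V1` (order `p`) and `P` (order `p²`) other than `P` is `V1` -/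
theorem C3_mid (P V1 C : Subgroup Ω) [Finite P] (hPcard : Nat.card P = p ^ 2)
    (hV1card : Nat.card V1 = p) (hV1C : V1 ≤ C) (hCP : C ≤ P) (hne : C ≠ P) : C = V1 := by
  have hfC : Finite C :=
    Finite.of_injective (Subgroup.inclusion hCP) (Subgroup.inclusion_injective hCP)
  have hdvd : Nat.card C ∣ p ^ 2 := hPcard ▸ Subgroup.card_dvd_of_le hCP
  obtain ⟨k, hk, hkc⟩ := (Nat.dvd_prime_pow hp.out).1 hdvd
  have hdvd2 : p ∣ Nat.card C := hV1card ▸ Subgroup.card_dvd_of_le hV1C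
  interval_cases k
  · rw [hkc, pow_zero] at hdvd2
    exact absurd (Nat.dvd_one.1 hdvd2) hp.out.ne_one
  · symm
    apply Subgroup.eq_of_le_of_card_ge hV1C
    rw [hkc, hV1card, pow_one]
  · exact absurd (Subgroup.eq_of_le_of_card_ge hCP (by rw [hkc, hPcard])) hne

section localcfg
variable {T P : Subgroup Ω} {A : Subgroup (MulAut ↥P)} {B : Subgroup (MulAut ↥T)}

/-- (C3) `|P| = p²` ⇒ the pearl alternative. -/
theorem pearl_of_card (h5 : 5 ≤ p) (hc : Cfg p T P A B) (hPcard : Nat.card P = p ^ 2)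
    (m : ℕ) (hm1 : m % p ≠ 1) (hm2 : m ^ 2 % p ≠ 1) (hT : TorusData p T P A B hc.le P ⊥ m) :
    Pearl p T P B := by
  have hpp : p.Prime := hp.out
  have hone : 1 % p = 1 := Nat.one_mod_eq_one.2 hpp.ne_one
  have hfinT : Finite T := hc.fin
  have hfinP : Finite P :=
    Finite.of_injective (Subgroup.inclusion hc.le) (Subgroup.inclusion_injective hc.le)
  obtain ⟨V1, n, h, ψ, -, hV1P, hV1card, hTcard, hcen, hcomm, -, hmn, hhA, hψB, hψcop, hext,
    hV1pow, hPpow, hTpow⟩ := hT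
  have hbot : Nat.card (⊥ : Subgroup Ω) = 1 := Subgroup.card_bot
  rw [hbot, mul_one] at hV1card
  rw [hPcard] at hTcard
  have hmn' : m * n ≡ 1 [MOD p] := by
    show m * n % p = 1 % p
    rw [hmn, hone]
  -- `V1` is central in `T`
  have hcen' : ∀ t ∈ T, ∀ v ∈ V1, t * v = v * t := by
    intro t ht v hv
    have h1 := hcen t ht v hv
    rw [Subgroup.mem_bot] at h1
    have h2 : t * v * t⁻¹ = v := by
      have h3 := congrArg (fun z => v * z) h1
      simpa [mul_assoc] using h3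
    calc t * v = t * v * t⁻¹ * t := by group
      _ = v * t := by rw [h2]
  -- `P` is abelian
  have hPab : ∀ x ∈ P, ∀ y ∈ P, x * y = y * x := by
    intro x hx y hy
    have h1 := (IsPGroup.isMulCommutative_of_card_eq_prime_sq hPcard).is_comm.comm
      (⟨x, hx⟩ : P) ⟨y, hy⟩
    exact congrArg Subtype.val h1
  have hV1exp : ∀ v ∈ V1, v ^ p = 1 := by
    intro v hv
    have h1 := pow_card_eq_one' (G := V1) (x := ⟨v, hv⟩)
    rw [hV1card] at h1
    simpa using congrArg Subtype.val h1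
  have hPexp2 : ∀ x ∈ P, x ^ (p * p) = 1 := by
    intro x hx
    have h1 := pow_card_eq_one' (G := P) (x := ⟨x, hx⟩)
    rw [hPcard, sq] at h1
    simpa using congrArg Subtype.val h1
  have hh_pow : ∀ (x : Ω) (hx : x ∈ P) (k : ℕ),
      ((h ⟨x ^ k, P.pow_mem hx k⟩ : P) : Ω) = ((h ⟨x, hx⟩ : P) : Ω) ^ k := by
    intro x hx k
    have h1 : (⟨x ^ k, P.pow_mem hx k⟩ : P) = (⟨x, hx⟩ : P) ^ k := Subtype.ext (by simp)
    rw [h1, map_pow]
    simp
  -- on `V1`, `h` is the `m`-th power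
  have hV1m : ∀ (z : Ω) (hz : z ∈ P), z ∈ V1 → ((h ⟨z, hz⟩ : P) : Ω) = z ^ m := by
    intro z hz hzV
    have h1 := hV1pow ⟨z, hz⟩ hzV
    rw [Subgroup.mem_bot] at h1
    exact (inv_mul_eq_one.1 h1).symm
  -- `P` has exponent `p`
  have hPexp : ∀ x ∈ P, x ^ p = 1 := by
    intro x hx
    by_contra hne
    let K : Subgroup Ω :=
      { carrier := {y | y ∈ P ∧ y ^ p = 1}
        one_mem' := ⟨P.one_mem, one_pow _⟩
        mul_mem' := by
          rintro a b ⟨ha, ha1⟩ ⟨hb, hb1⟩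
          refine ⟨P.mul_mem ha hb, ?_⟩
          have hcm : Commute a b := hPab a ha b hb
          rw [hcm.mul_pow, ha1, hb1, one_mul]
        inv_mem' := by
          rintro a ⟨ha, ha1⟩
          exact ⟨P.inv_mem ha, by rw [inv_pow, ha1, inv_one]⟩ }
    have hKP : K ≤ P := fun y hy => hy.1
    have hV1K : V1 ≤ K := fun v hv => ⟨hV1P hv, hV1exp v hv⟩
    have hKne : K ≠ P := by
      intro hKP'
      have h1 : x ∈ K := hKP' ▸ hx
      exact hne h1.2
    have hKV1 : K = V1 := C3_mid P V1 K hPcard hV1card hV1K hKP hKne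
    have hxpp : (x ^ p) ^ p = 1 := by rw [← pow_mul]; exact hPexp2 x hx
    have hxpK : x ^ p ∈ K := ⟨P.pow_mem hx p, hxpp⟩
    have hxpV1 : x ^ p ∈ V1 := hKV1 ▸ hxpK
    have e1 : ((h ⟨x ^ p, P.pow_mem hx p⟩ : P) : Ω) = (x ^ p) ^ m :=
      hV1m (x ^ p) (P.pow_mem hx p) hxpV1
    have e2 : ((h ⟨x ^ p, P.pow_mem hx p⟩ : P) : Ω) = (x ^ p) ^ n := by
      rw [hh_pow x hx p]
      have hwV1 : (x ^ n)⁻¹ * ((h ⟨x, hx⟩ : P) : Ω) ∈ V1 := hPpow ⟨x, hx⟩ hx
      have hhx : ((h ⟨x, hx⟩ : P) : Ω) = x ^ n * ((x ^ n)⁻¹ * ((h ⟨x, hx⟩ : P) : Ω)) := by group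
      rw [hhx]
      have hcm : Commute (x ^ n) ((x ^ n)⁻¹ * ((h ⟨x, hx⟩ : P) : Ω)) :=
        hPab _ (P.pow_mem hx n) _ (hV1P hwV1)
      rw [hcm.mul_pow, hV1exp _ hwV1, mul_one, ← pow_mul, ← pow_mul, mul_comm]
    have hord : orderOf (x ^ p) = p := orderOf_eq_prime hxpp hne
    have hmod : m ≡ n [MOD p] := by
      have h1 := e1.symm.trans e2
      rw [pow_eq_pow_iff_modEq, hord] at h1
      exact h1
    apply hm2
    have h1 : m ^ 2 ≡ m * n [MOD p] := by
      rw [sq]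
      exact Nat.ModEq.mul_left m hmod
    have h2 : m ^ 2 % p = m * n % p := h1
    rw [h2, hmn]
  -- `t ^ p ∈ P`
  have hTpP : ∀ t ∈ T, t ^ p ∈ P := by
    intro t ht
    have hN : (P.subgroupOf T).Normal :=
      (Subgroup.normal_subgroupOf_iff_le_normalizer hc.le).2 hc.norm
    have hidx : (P.subgroupOf T).index = p := by
      have h1 := Subgroup.card_mul_index (P.subgroupOf T)
      have h2 : Nat.card (P.subgroupOf T) = Nat.card P :=
        Nat.card_congr (Subgroup.subgroupOfEquivOfLe hc.le).toEquiv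
      rw [h2, hPcard, hTcard] at h1
      have hp2 : 0 < p ^ 2 := pow_pos hpp.pos 2
      exact Nat.eq_of_mul_eq_mul_left hp2 (by rw [h1]; ring)
    have h3 := Subgroup.pow_index_mem (P.subgroupOf T) (⟨t, ht⟩ : T)
    rw [hidx] at h3
    simpa [Subgroup.mem_subgroupOf] using h3
  -- an element of `P` commuting with some `s ∈ T ∖ P` lies in `V1`
  have hcentV1 : ∀ s ∈ T, s ∉ P → ∀ z ∈ P, s * z = z * s → z ∈ V1 := by
    intro s hs hsP z hz hsz
    let C : Subgroup Ω :=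
      { carrier := {y | y ∈ P ∧ s * y = y * s}
        one_mem' := ⟨P.one_mem, by simp⟩
        mul_mem' := by
          rintro a b ⟨ha, ha1⟩ ⟨hb, hb1⟩
          refine ⟨P.mul_mem ha hb, ?_⟩
          calc s * (a * b) = (s * a) * b := by group
            _ = a * (s * b) := by rw [ha1]; group
            _ = a * b * s := by rw [hb1]; group
        inv_mem' := by
          rintro a ⟨ha, ha1⟩
          refine ⟨P.inv_mem ha, ?_⟩
          calc s * a⁻¹ = a⁻¹ * (a * s) * a⁻¹ := by group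
            _ = a⁻¹ * (s * a) * a⁻¹ := by rw [ha1]
            _ = a⁻¹ * s := by group }
    have hCP : C ≤ P := fun y hy => hy.1
    have hV1C : V1 ≤ C := fun v hv => ⟨hV1P hv, hcen' s hs v hv⟩
    have hCne : C ≠ P := by
      intro hCP'
      apply hsP
      apply hc.cent s hs
      intro x hx
      have h1 : x ∈ C := hCP' ▸ hx
      exact h1.2
    have hCV1 : C = V1 := C3_mid P V1 C hPcard hV1card hV1C hCP hCne
    have hzC : z ∈ C := ⟨hz, hsz⟩
    exact hCV1 ▸ hzC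
  -- `T` has exponent `p`
  have hTexp : ∀ t ∈ T, t ^ p = 1 := by
    intro t ht
    by_cases htP : t ∈ P
    · exact hPexp t htP
    have hzP : t ^ p ∈ P := hTpP t ht
    have hzV1 : t ^ p ∈ V1 := by
      apply hcentV1 t ht htP _ hzP
      rw [← pow_succ', ← pow_succ]
    by_contra hne
    have hy : (t ^ (m * m))⁻¹ * ((ψ ⟨t, ht⟩ : T) : Ω) ∈ P := hTpow ⟨t, ht⟩
    have ha : t ^ (m * m) ∈ T := T.pow_mem ht _
    have hcV1 := hcomm (t ^ (m * m)) ha _ hy
    -- notation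
    obtain ⟨a, haeq⟩ : ∃ a, a = t ^ (m * m) := ⟨_, rfl⟩
    rw [← haeq] at hcV1 ha hy
    obtain ⟨y, hyeq⟩ : ∃ y, y = a⁻¹ * ((ψ ⟨t, ht⟩ : T) : Ω) := ⟨_, rfl⟩
    rw [← hyeq] at hcV1 hy
    have hψt : ((ψ ⟨t, ht⟩ : T) : Ω) = a * y := by rw [hyeq]; group
    obtain ⟨c, hceq⟩ : ∃ c, c = y⁻¹ * (a * y * a⁻¹) := ⟨_, rfl⟩
    rw [← hceq] at hcV1
    have hac : a * c = c * a := hcen' a ha c hcV1
    have hyc : y * c = c * y := hcen' y (hc.le hy) c hcV1
    have h1 : y * c * a = a * y := by rw [hceq]; group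
    have hya : y * a = a * y * c⁻¹ := by
      calc y * a = y * (a * c) * c⁻¹ := by group
        _ = y * (c * a) * c⁻¹ := by rw [hac]
        _ = (y * c * a) * c⁻¹ := by group
        _ = a * y * c⁻¹ := by rw [h1]
    have hea : Commute c⁻¹ a := (Commute.inv_left (show Commute c a from hac.symm))
    have hey : Commute c⁻¹ y := (Commute.inv_left (show Commute c y from hyc.symm))
    have hpow := C3_mul_pow a y c⁻¹ hya hea hey p
    have hch : p ∣ p.choose 2 := hpp.dvd_choose_self (by norm_num) (by omega)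
    obtain ⟨j, hj⟩ := hch
    have hcp : c⁻¹ ^ (p.choose 2) = 1 := by
      rw [hj, pow_mul, inv_pow, hV1exp c hcV1, inv_one, one_pow]
    rw [hcp, mul_one, hPexp y hy, mul_one] at hpow
    -- `(ψ t) ^ p = (t ^ p) ^ (m * m)`
    have e1 : ((ψ ⟨t, ht⟩ : T) : Ω) ^ p = (t ^ p) ^ (m * m) := by
      rw [hψt, hpow, haeq, ← pow_mul, ← pow_mul, mul_comm]
    -- `(ψ t) ^ p = ψ (t ^ p) = h (t ^ p) = (t ^ p) ^ m`
    have e2 : ((ψ ⟨t, ht⟩ : T) : Ω) ^ p = (t ^ p) ^ m := by
      have h2 : ((ψ ⟨t, ht⟩ : T) : Ω) ^ p = ((ψ ((⟨t, ht⟩ : T) ^ p) : T) : Ω) := by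
        rw [map_pow]; simp
      have h3 : ((⟨t, ht⟩ : T) ^ p) = ⟨t ^ p, hc.le hzP⟩ := Subtype.ext (by simp)
      rw [h2, h3, hext ⟨t ^ p, hzP⟩]
      exact hV1m (t ^ p) hzP hzV1
    have hord : orderOf (t ^ p) = p := orderOf_eq_prime (hV1exp _ hzV1) hne
    have hmod : m * m ≡ m [MOD p] := by
      have h2 := e1.symm.trans e2
      rw [pow_eq_pow_iff_modEq, hord] at h2
      exact h2
    apply hm1
    have h3 : m * m * n ≡ m * n [MOD p] := hmod.mul_right n
    have h4 : m * m * n ≡ m [MOD p] := by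
      have h5 : m * (m * n) ≡ m * 1 [MOD p] := hmn'.mul_left m
      rw [mul_one, ← mul_assoc] at h5
      exact h5
    have h6 : m ≡ 1 [MOD p] := (h4.symm.trans h3).trans hmn'
    have h7 : m % p = 1 % p := h6
    rw [h7, hone]
  refine ⟨hPcard, by rw [hTcard]; ring, hTexp, ψ, hψB, n, ?_, hψcop, ?_⟩
  · intro hn2
    apply hm2
    have h2 : n ^ 2 ≡ 1 [MOD p] := by
      show n ^ 2 % p = 1 % p
      rw [hn2, hone]
    have h3 : (m * n) ^ 2 ≡ 1 [MOD p] := by simpa using hmn'.pow 2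
    have h4 : m ^ 2 * n ^ 2 ≡ m ^ 2 * 1 [MOD p] := h2.mul_left _
    rw [mul_one, ← mul_pow] at h4
    have h5 : m ^ 2 ≡ 1 [MOD p] := h4.symm.trans h3
    have h6 : m ^ 2 % p = 1 % p := h5
    rw [h6, hone]
  · intro x hxP
    have e := hext ⟨(x : Ω), hxP⟩
    have hx' : (⟨(x : Ω), hc.le hxP⟩ : T) = x := Subtype.ext rfl
    rw [hx'] at e
    refine ⟨by rw [e]; exact (h ⟨(x : Ω), hxP⟩).2, ?_⟩
    intro t ht
    have hw : ((x : Ω) ^ n)⁻¹ * ((ψ x : T) : Ω) ∈ V1 := by
      rw [e]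
      exact hPpow ⟨(x : Ω), hxP⟩ hxP
    exact (hcen' t ht _ hw).symm

end localcfg

end Cfsg.Agent.Helper50.Res
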