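import Mathlib
import Cfsg.Agent.Helper77.Res.Defs

/-!
# S5289 swarm (architect helper77, board #14084), piece (D2) `extraspecial_contra`: the BACK HALF

`d2_back`: the abstract endgame of (D2) — from the chain `C ≤ E1 ≤ A1 ≤ T`, `E0 = Ω₁(E1) ≅ C_p²` centralized by `A1`,
`|A1 : E1| = p` and an automorphism `ψ` of `T` acting as `m²`, `m`, `1` on `A1/E1`, `E1/C`, `C`, derive a contradiction with the
rank hypothesis (an elementary abelian subgroup of order `p³`).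
-/

set_option autoImplicit false

universe u

namespace Cfsg.Agent.Helper50.Res

open Subgroup Cfsg.Agent.Helper77.Res

variable {Ω : Type u} [Group Ω] {p : ℕ} [hp : Fact p.Prime]

/-- step 1: `A1` is abelian -/
theorem D2b_abelian (T C E0 E1 A1 : Subgroup Ω) [Finite T] (hTp : IsPGroup p T)
    (hCE1 : C ≤ E1) (hE0E1 : E0 ≤ E1) (hE1A1 : E1 ≤ A1) (hA1T : A1 ≤ T)
    (hE1gen : ∀ x ∈ E1, ∃ e ∈ E0, ∃ c ∈ C, x = e * c)
    (hCab : ∀ x ∈ C, ∀ y ∈ C, x * y = y * x)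
    (hA1E0 : ∀ t ∈ A1, ∀ e ∈ E0, t * e = e * t)
    (hA1card : Nat.card A1 = p * Nat.card E1)
    (hCnorm : ∀ t ∈ A1, ∀ c ∈ C, t * c * t⁻¹ ∈ C)
    (ψ : MulAut T) (m : ℕ) (hm : ¬ p ∣ m) (hm2 : m ^ 2 % p ≠ 1)
    (hψC : ∀ t : T, (t : Ω) ∈ C → ((ψ t : T) : Ω) = t)
    (hψA1 : ∀ t : T, (t : Ω) ∈ A1 → ((t : Ω) ^ (m * m))⁻¹ * ((ψ t : T) : Ω) ∈ E1) :
    ∀ x ∈ A1, ∀ y ∈ A1, x * y = y * x := by
  have hpp : p.Prime := hp.out
  have hone : 1 % p = 1 := Nat.one_mod_eq_one.2 hpp.ne_one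
  have hE0A1 : E0 ≤ A1 := hE0E1.trans hE1A1
  have hCA1 : C ≤ A1 := hCE1.trans hE1A1
  -- `E1` is abelian
  have hE1ab : ∀ x ∈ E1, ∀ y ∈ E1, x * y = y * x := by
    intro x hx y hy
    obtain ⟨e, he, c, hc, rfl⟩ := hE1gen x hx
    obtain ⟨e', he', c', hc', rfl⟩ := hE1gen y hy
    have h1 : e * e' = e' * e := hA1E0 e (hE0A1 he) e' he'
    have h2 : c * e' = e' * c := hA1E0 c (hCA1 hc) e' he'
    have h3 : c' * e = e * c' := hA1E0 c' (hCA1 hc') e he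
    have h4 : c * c' = c' * c := hCab c hc c' hc'
    calc e * c * (e' * c') = e * (c * e') * c' := by group
      _ = e * (e' * c) * c' := by rw [h2]
      _ = (e * e') * (c * c') := by group
      _ = (e' * e) * (c' * c) := by rw [h1, h4]
      _ = e' * (e * c') * c := by group
      _ = e' * (c' * e) * c := by rw [h3]
      _ = e' * c' * (e * c) := by group
  have hm0 : 1 ≤ m * m := by
    rcases Nat.eq_zero_or_pos m with h0 | h0
    · exfalso
      apply hm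
      rw [h0]
      exact dvd_zero p
    · exact Nat.mul_pos h0 h0
  -- `C` is central in `A1`
  have hCcen : ∀ t ∈ A1, ∀ c ∈ C, t * c = c * t := by
    intro t ht c hc
    have hcA1 : c ∈ A1 := hCA1 hc
    have hd : t * c * t⁻¹ * c⁻¹ ∈ C := C.mul_mem (hCnorm t ht c hc) (C.inv_mem hc)
    -- `ψ` fixes `d = [t, c]`
    have h1 := hψC (⟨t, hA1T ht⟩ * ⟨c, hA1T hcA1⟩ * (⟨t, hA1T ht⟩ : T)⁻¹ * (⟨c, hA1T hcA1⟩ : T)⁻¹) hd
    rw [map_mul, map_mul, map_mul, map_inv, map_inv] at h1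
    have h2 : ((ψ ⟨c, hA1T hcA1⟩ : T) : Ω) = c := hψC ⟨c, hA1T hcA1⟩ hc
    have he : (t ^ (m * m))⁻¹ * ((ψ ⟨t, hA1T ht⟩ : T) : Ω) ∈ E1 := hψA1 ⟨t, hA1T ht⟩ ht
    obtain ⟨e, heq⟩ : ∃ e, e = (t ^ (m * m))⁻¹ * ((ψ ⟨t, hA1T ht⟩ : T) : Ω) := ⟨_, rfl⟩
    rw [← heq] at he
    have h3 : ((ψ ⟨t, hA1T ht⟩ : T) : Ω) = t ^ (m * m) * e := by rw [heq]; group
    have hec : e * c = c * e := hE1ab e he c (hCE1 hc)
    have h4 : t ^ (m * m) * e * c * (t ^ (m * m) * e)⁻¹ * c⁻¹ = t * c * t⁻¹ * c⁻¹ := by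
      have h5 := h1
      simp only [Subgroup.coe_mul, Subgroup.coe_inv, h2, h3] at h5
      exact h5
    -- `s = t ^ (m * m - 1)` commutes with `c`
    have hs : t ^ (m * m - 1) * c = c * t ^ (m * m - 1) := by
      have h6 : t ^ (m * m) = t * t ^ (m * m - 1) := by
        rw [← pow_succ']
        congr 1
        omega
      rw [h6] at h4
      have h7 : t * t ^ (m * m - 1) * e * c * (t * t ^ (m * m - 1) * e)⁻¹ * c⁻¹
          = t * (t ^ (m * m - 1) * (e * c) * e⁻¹ * (t ^ (m * m - 1))⁻¹) * t⁻¹ * c⁻¹ := by group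
      rw [h7, hec] at h4
      have h8 : t ^ (m * m - 1) * (c * e) * e⁻¹ * (t ^ (m * m - 1))⁻¹ = c := by
        have h9 := congrArg (fun z => t⁻¹ * (z * c) * t) h4
        beta_reduce at h9
        have h10 : t⁻¹ * (t * (t ^ (m * m - 1) * (c * e) * e⁻¹ * (t ^ (m * m - 1))⁻¹) * t⁻¹ * c⁻¹ * c) * t
            = t ^ (m * m - 1) * (c * e) * e⁻¹ * (t ^ (m * m - 1))⁻¹ := by group
        have h11 : t⁻¹ * (t * c * t⁻¹ * c⁻¹ * c) * t = c := by group
        rw [h10, h11] at h9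
        exact h9
      calc t ^ (m * m - 1) * c = (t ^ (m * m - 1) * (c * e) * e⁻¹ * (t ^ (m * m - 1))⁻¹)
            * t ^ (m * m - 1) := by group
        _ = c * t ^ (m * m - 1) := by rw [h8]
    -- `t` is a power of `s`
    have hcop : (m * m - 1).Coprime (orderOf t) := by
      obtain ⟨k, hk⟩ := hTp ⟨t, hA1T ht⟩
      have hk' : t ^ p ^ k = 1 := by simpa using congrArg Subtype.val hk
      have hdvd : orderOf t ∣ p ^ k := orderOf_dvd_of_pow_eq_one hk'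
      obtain ⟨j, -, hj⟩ := (Nat.dvd_prime_pow hpp).1 hdvd
      rw [hj]
      apply Nat.Coprime.pow_right
      rw [Nat.coprime_comm, hpp.coprime_iff_not_dvd]
      intro hdv
      apply hm2
      have h12 : m ^ 2 = (m * m - 1) + 1 := by rw [sq]; omega
      rw [h12, Nat.add_mod, Nat.mod_eq_zero_of_dvd hdv, zero_add, Nat.mod_mod, hone]
    obtain ⟨r, hr⟩ := exists_pow_eq_self_of_coprime hcop
    have hcomm : Commute (t ^ (m * m - 1)) c := hs
    have := (hcomm.pow_left r).eq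
    rw [hr] at this
    exact this
  -- `E1` is central in `A1`
  have hE1cen : ∀ t ∈ A1, ∀ x ∈ E1, t * x = x * t := by
    intro t ht x hx
    obtain ⟨e, he, c, hc, rfl⟩ := hE1gen x hx
    have h1 := hA1E0 t ht e he
    have h2 := hCcen t ht c hc
    calc t * (e * c) = (t * e) * c := by group
      _ = e * (t * c) := by rw [h1]; group
      _ = e * c * t := by rw [h2]; group
  -- `A1 / E1` is cyclic of order `p` and `E1` is central
  have hfinA1 : Finite A1 :=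
    Finite.of_injective (Subgroup.inclusion hA1T) (Subgroup.inclusion_injective hA1T)
  have hfinE1 : Finite E1 :=
    Finite.of_injective (Subgroup.inclusion (hE1A1.trans hA1T))
      (Subgroup.inclusion_injective (hE1A1.trans hA1T))
  have hNcen : E1.subgroupOf A1 ≤ Subgroup.center A1 := by
    intro x hx
    rw [Subgroup.mem_center_iff]
    intro g
    apply Subtype.ext
    have h1 : ((x : A1) : Ω) ∈ E1 := Subgroup.mem_subgroupOf.1 hx
    exact hE1cen (g : Ω) g.2 (x : Ω) h1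
  have hN : (E1.subgroupOf A1).Normal := by
    constructor
    intro n hn g
    have h1 := hNcen hn
    rw [Subgroup.mem_center_iff] at h1
    have h2 : g * n * g⁻¹ = n := by rw [h1 g]; group
    rw [h2]
    exact hn
  have hidx : (E1.subgroupOf A1).index = p := by
    have h1 := Subgroup.card_mul_index (E1.subgroupOf A1)
    have h2 : Nat.card (E1.subgroupOf A1) = Nat.card E1 :=
      Nat.card_congr (Subgroup.subgroupOfEquivOfLe hE1A1).toEquiv
    rw [h2, hA1card] at h1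
    have hpos : 0 < Nat.card E1 := Nat.card_pos
    exact Nat.eq_of_mul_eq_mul_left hpos (by rw [h1]; ring)
  have hcardQ : Nat.card (A1 ⧸ E1.subgroupOf A1) = p := by
    rw [← Subgroup.index_eq_card]
    exact hidx
  have hcyc : IsCyclic (A1 ⧸ E1.subgroupOf A1) := isCyclic_of_prime_card hcardQ
  intro x hx y hy
  have h1 := ((QuotientGroup.mk' (E1.subgroupOf A1)).isMulCommutative_of_isCyclic_of_ker_le_center
    (by rw [QuotientGroup.ker_mk']; exact hNcen)).is_comm.comm (⟨x, hx⟩ : A1) ⟨y, hy⟩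
  exact congrArg Subtype.val h1

/-- step 2, in an abstract commutative group: an endomorphism `φ` acting as `m²`, `m`, `1` on `G/E`, `E/C`, `C`
(`|G : E| = p`) produces an element of order `p` outside `E` -/
theorem D2b_comm {G : Type*} [CommGroup G] [Finite G] (E C : Subgroup G)
    (hidx : E.index = p) (φ : G →* G) (m : ℕ) (hm : ¬ p ∣ m) (hm1 : m % p ≠ 1) (hm2 : m ^ 2 % p ≠ 1)
    (hφC : ∀ x ∈ C, φ x = x) (hφE : ∀ x ∈ E, φ x / x ^ m ∈ C) (hφG : ∀ x, φ x / x ^ (m * m) ∈ E)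
    (t : G) (ht : t ∉ E) : ∃ t' : G, t' ∉ E ∧ t' ^ p = 1 := by
  have hpp : p.Prime := hp.out
  have hone : 1 % p = 1 := Nat.one_mod_eq_one.2 hpp.ne_one
  let f1 : G →* G := MonoidHom.mk' (fun x => φ x / x ^ m) (by
    intro a b
    simp only [map_mul, mul_pow]
    rw [mul_div_mul_comm])
  let f2 : G →* G := MonoidHom.mk' (fun x => φ x / x) (by
    intro a b
    simp only [map_mul]
    rw [mul_div_mul_comm])
  have hf1 : ∀ x, f1 x = φ x / x ^ m := fun x => rfl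
  have hf2 : ∀ x, f2 x = φ x / x := fun x => rfl
  have hθE : ∀ x ∈ E, f2 (f1 x) = 1 := by
    intro x hx
    have h1 : f1 x ∈ C := hφE x hx
    rw [hf2, hφC _ h1, div_self']
  have htp : t ^ p ∈ E := by
    have h1 := Subgroup.pow_index_mem E t
    rwa [hidx] at h1
  refine ⟨f2 (f1 t), ?_, ?_⟩
  · intro hmem
    -- the quotient
    have hcardQ : Nat.card (G ⧸ E) = p := by rw [← Subgroup.index_eq_card]; exact hidx
    have hq1 : (QuotientGroup.mk' E t) ≠ 1 := by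
      intro h1
      exact ht ((QuotientGroup.eq_one_iff t).1 h1)
    have hqp : (QuotientGroup.mk' E t) ^ p = 1 := by
      have h1 := pow_card_eq_one' (G := G ⧸ E) (x := QuotientGroup.mk' E t)
      rwa [hcardQ] at h1
    have hord : orderOf (QuotientGroup.mk' E t) = p := orderOf_eq_prime hqp hq1
    have hπφ : ∀ x, QuotientGroup.mk' E (φ x) = (QuotientGroup.mk' E x) ^ (m * m) := by
      intro x
      have h1 : QuotientGroup.mk' E (φ x / x ^ (m * m)) = 1 :=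
        (QuotientGroup.eq_one_iff _).2 (hφG x)
      rw [map_div, map_pow, div_eq_one] at h1
      exact h1
    have h1 : QuotientGroup.mk' E (f2 (f1 t)) = 1 := (QuotientGroup.eq_one_iff _).2 hmem
    rw [hf2, map_div, hπφ, hf1, map_div, hπφ, map_pow] at h1
    -- in terms of `q`
    obtain ⟨q, hq⟩ : ∃ q, q = QuotientGroup.mk' E t := ⟨_, rfl⟩
    rw [← hq] at h1 hord
    have h2 : q ^ (((m : ℤ) * m - m) * ((m : ℤ) * m - 1)) = 1 := by
      have h3 : (q ^ (m * m) / q ^ m) = q ^ ((m : ℤ) * m - m) := by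
        rw [zpow_sub, ← Nat.cast_mul, zpow_natCast, zpow_natCast, div_eq_mul_inv]
      rw [h3, div_eq_one] at h1
      obtain ⟨a, ha⟩ : ∃ a : ℤ, a = (m : ℤ) * m - m := ⟨_, rfl⟩
      rw [← ha] at h1 ⊢
      have h5 : a * ((m : ℤ) * m - 1) = a * ((m * m : ℕ) : ℤ) - a := by
        rw [Nat.cast_mul]; ring
      rw [h5, zpow_sub, zpow_mul, zpow_natCast, h1, mul_inv_cancel]
    have h4 : (p : ℤ) ∣ ((m : ℤ) * m - m) * ((m : ℤ) * m - 1) := by
      have := orderOf_dvd_iff_zpow_eq_one.2 h2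
      rwa [hord] at this
    have hpi : Prime (p : ℤ) := Nat.prime_iff_prime_int.1 hpp
    rcases hpi.dvd_or_dvd h4 with h5 | h5
    · have h6 : (m : ℤ) * m - m = m * ((m : ℤ) - 1) := by ring
      rw [h6] at h5
      rcases hpi.dvd_or_dvd h5 with h7 | h7
      · exact hm (Int.natCast_dvd_natCast.1 h7)
      · apply hm1
        have h8 : 1 ≡ m [MOD p] := (Nat.modEq_iff_dvd).2 (by simpa using h7)
        have h9 : 1 % p = m % p := h8
        rw [← h9, hone]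
    · apply hm2
      have h8 : 1 ≡ m ^ 2 [MOD p] := (Nat.modEq_iff_dvd).2 (by
        rw [sq]
        simpa using h5)
      have h9 : 1 % p = m ^ 2 % p := h8
      rw [← h9, hone]
  · rw [← map_pow, ← map_pow]
    exact hθE _ htp


/-- **(D2), back half.**  `C ≤ E1 ≤ A1 ≤ T`, `E0 ≤ E1` elementary abelian of order `p²` centralized by `A1`, `E1 = E0 C`, `C` abelian and
normalized by `A1`, `|A1 : E1| = p`, and `ψ ∈ Aut(T)` acting as `m²`, `m`, `1` on `A1/E1`, `E1/C`, `C` (`p ∤ m`, `m, m² ≢ 1`): contradiction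
with the rank hypothesis. -/
theorem d2_back (T C E0 E1 A1 : Subgroup Ω) [Finite T] (hTp : IsPGroup p T)
    (hrank : ∀ E : Subgroup Ω, E ≤ T → (∀ a ∈ E, ∀ b ∈ E, a * b = b * a) → (∀ e ∈ E, e ^ p = 1) →
      Nat.card E ≤ p ^ 2)
    (hCE1 : C ≤ E1) (hE0E1 : E0 ≤ E1) (hE1A1 : E1 ≤ A1) (hA1T : A1 ≤ T)
    (hE0card : Nat.card E0 = p ^ 2) (hE0exp : ∀ e ∈ E0, e ^ p = 1)
    (hE1gen : ∀ x ∈ E1, ∃ e ∈ E0, ∃ c ∈ C, x = e * c)
    (hCab : ∀ x ∈ C, ∀ y ∈ C, x * y = y * x)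
    (hA1E0 : ∀ t ∈ A1, ∀ e ∈ E0, t * e = e * t)
    (hA1card : Nat.card A1 = p * Nat.card E1)
    (hCnorm : ∀ t ∈ A1, ∀ c ∈ C, t * c * t⁻¹ ∈ C)
    (ψ : MulAut T) (m : ℕ) (hm : ¬ p ∣ m) (hm1 : m % p ≠ 1) (hm2 : m ^ 2 % p ≠ 1)
    (hψC : ∀ t : T, (t : Ω) ∈ C → ((ψ t : T) : Ω) = t)
    (hψE1 : ∀ t : T, (t : Ω) ∈ E1 → ((t : Ω) ^ m)⁻¹ * ((ψ t : T) : Ω) ∈ C)
    (hψA1 : ∀ t : T, (t : Ω) ∈ A1 → ((t : Ω) ^ (m * m))⁻¹ * ((ψ t : T) : Ω) ∈ E1) : False := by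
  have hpp : p.Prime := hp.out
  have hA1ab : ∀ x ∈ A1, ∀ y ∈ A1, x * y = y * x :=
    D2b_abelian T C E0 E1 A1 hTp hCE1 hE0E1 hE1A1 hA1T hE1gen hCab hA1E0 hA1card hCnorm ψ m hm hm2
      hψC hψA1
  have hfinA1 : Finite A1 :=
    Finite.of_injective (Subgroup.inclusion hA1T) (Subgroup.inclusion_injective hA1T)
  have hfinE1 : Finite E1 :=
    Finite.of_injective (Subgroup.inclusion (hE1A1.trans hA1T))
      (Subgroup.inclusion_injective (hE1A1.trans hA1T))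
  have hidx : (E1.subgroupOf A1).index = p := by
    have h1 := Subgroup.card_mul_index (E1.subgroupOf A1)
    have h2 : Nat.card (E1.subgroupOf A1) = Nat.card E1 :=
      Nat.card_congr (Subgroup.subgroupOfEquivOfLe hE1A1).toEquiv
    rw [h2, hA1card] at h1
    have hpos : 0 < Nat.card E1 := Nat.card_pos
    exact Nat.eq_of_mul_eq_mul_left hpos (by rw [h1]; ring)
  -- an element of `A1` outside `E1`
  obtain ⟨t0, ht0⟩ : ∃ t0 : A1, t0 ∉ E1.subgroupOf A1 := by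
    by_contra hcon
    push Not at hcon
    have h1 : E1.subgroupOf A1 = ⊤ := by
      rw [eq_top_iff]
      intro x _
      exact hcon x
    rw [h1, Subgroup.index_top] at hidx
    exact hpp.ne_one hidx.symm
  -- `ψ` maps `A1` into `A1`
  have hψmem : ∀ x : A1, ((ψ ⟨(x : Ω), hA1T x.2⟩ : T) : Ω) ∈ A1 := by
    intro x
    have h1 := hψA1 ⟨(x : Ω), hA1T x.2⟩ x.2
    have h2 : ((ψ ⟨(x : Ω), hA1T x.2⟩ : T) : Ω)
        = (x : Ω) ^ (m * m) * (((x : Ω) ^ (m * m))⁻¹ * ((ψ ⟨(x : Ω), hA1T x.2⟩ : T) : Ω)) := by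
      group
    rw [h2]
    exact A1.mul_mem (A1.pow_mem x.2 _) (hE1A1 h1)
  let cg : CommGroup A1 :=
    { (inferInstance : Group A1) with
      mul_comm := fun a b => Subtype.ext (hA1ab a a.2 b b.2) }
  let ψA : A1 →* A1 := MonoidHom.mk' (fun x => ⟨((ψ ⟨(x : Ω), hA1T x.2⟩ : T) : Ω), hψmem x⟩) (by
    intro a b
    apply Subtype.ext
    have h1 : (⟨((a * b : A1) : Ω), hA1T (a * b).2⟩ : T)
        = ⟨(a : Ω), hA1T a.2⟩ * ⟨(b : Ω), hA1T b.2⟩ := Subtype.ext rfl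
    show ((ψ ⟨((a * b : A1) : Ω), hA1T (a * b).2⟩ : T) : Ω) = _
    rw [h1, map_mul]
    rfl)
  have hψA : ∀ x : A1, ((ψA x : A1) : Ω) = ((ψ ⟨(x : Ω), hA1T x.2⟩ : T) : Ω) := fun x => rfl
  have hφC : ∀ x ∈ C.subgroupOf A1, ψA x = x := by
    intro x hx
    apply Subtype.ext
    rw [hψA]
    exact hψC ⟨(x : Ω), hA1T x.2⟩ (Subgroup.mem_subgroupOf.1 hx)
  have hφE : ∀ x ∈ E1.subgroupOf A1, ψA x / x ^ m ∈ C.subgroupOf A1 := by
    intro x hx
    rw [Subgroup.mem_subgroupOf]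
    have h1 := hψE1 ⟨(x : Ω), hA1T x.2⟩ (Subgroup.mem_subgroupOf.1 hx)
    have h2 : ((ψA x / x ^ m : A1) : Ω)
        = ((ψ ⟨(x : Ω), hA1T x.2⟩ : T) : Ω) * ((x : Ω) ^ m)⁻¹ := by
      rw [div_eq_mul_inv]
      rfl
    rw [h2, hA1ab _ (hψmem x) _ (A1.inv_mem (A1.pow_mem x.2 m))]
    exact h1
  have hφG : ∀ x : A1, ψA x / x ^ (m * m) ∈ E1.subgroupOf A1 := by
    intro x
    rw [Subgroup.mem_subgroupOf]
    have h1 := hψA1 ⟨(x : Ω), hA1T x.2⟩ x.2
    have h2 : ((ψA x / x ^ (m * m) : A1) : Ω)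
        = ((ψ ⟨(x : Ω), hA1T x.2⟩ : T) : Ω) * ((x : Ω) ^ (m * m))⁻¹ := by
      rw [div_eq_mul_inv]
      rfl
    rw [h2, hA1ab _ (hψmem x) _ (A1.inv_mem (A1.pow_mem x.2 (m * m)))]
    exact h1
  obtain ⟨t', ht'E, ht'p⟩ := D2b_comm (G := A1) (E1.subgroupOf A1) (C.subgroupOf A1)
    hidx ψA m hm hm1 hm2 hφC hφE hφG t0 ht0
  -- back to `Ω`
  obtain ⟨x, hxeq⟩ : ∃ x : Ω, x = (t' : Ω) := ⟨_, rfl⟩
  have hxA1 : x ∈ A1 := hxeq ▸ t'.2
  have hxE1 : x ∉ E1 := by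
    intro h1
    apply ht'E
    rw [Subgroup.mem_subgroupOf, ← hxeq]
    exact h1
  have hxp : x ^ p = 1 := by
    have h1 := congrArg (Subtype.val) ht'p
    rw [hxeq]
    exact h1
  have hxE0 : ∀ e ∈ E0, Commute x e := fun e he => hA1E0 x hxA1 e he
  have hE0ab : ∀ e ∈ E0, ∀ e' ∈ E0, e * e' = e' * e :=
    fun e he e' he' => hA1E0 e (hE1A1 (hE0E1 he)) e' he'
  let E : Subgroup Ω :=
    { carrier := {y | ∃ e ∈ E0, ∃ k : ℤ, y = e * x ^ k}
      one_mem' := ⟨1, E0.one_mem, 0, by simp⟩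
      mul_mem' := by
        rintro _ _ ⟨e1, he1, k1, rfl⟩ ⟨e2, he2, k2, rfl⟩
        refine ⟨e1 * e2, E0.mul_mem he1 he2, k1 + k2, ?_⟩
        have h1 : x ^ k1 * e2 = e2 * x ^ k1 := ((hxE0 e2 he2).zpow_left k1).eq
        calc e1 * x ^ k1 * (e2 * x ^ k2) = e1 * (x ^ k1 * e2) * x ^ k2 := by group
          _ = e1 * (e2 * x ^ k1) * x ^ k2 := by rw [h1]
          _ = e1 * e2 * x ^ (k1 + k2) := by rw [zpow_add]; group
      inv_mem' := by
        rintro _ ⟨e, he, k, rfl⟩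
        refine ⟨e⁻¹, E0.inv_mem he, -k, ?_⟩
        have h1 : x ^ (-k) * e⁻¹ = e⁻¹ * x ^ (-k) :=
          (((hxE0 e he).inv_right).zpow_left (-k)).eq
        rw [mul_inv_rev, ← zpow_neg, h1] }
  have hEmem : ∀ y, y ∈ E ↔ ∃ e ∈ E0, ∃ k : ℤ, y = e * x ^ k := fun y => Iff.rfl
  have hET : E ≤ T := by
    rintro _ ⟨e, he, k, rfl⟩
    exact T.mul_mem (hA1T (hE1A1 (hE0E1 he))) (T.zpow_mem (hA1T hxA1) k)
  have hEab : ∀ a ∈ E, ∀ b ∈ E, a * b = b * a := by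
    rintro _ ⟨e1, he1, k1, rfl⟩ _ ⟨e2, he2, k2, rfl⟩
    have h1 : x ^ k1 * e2 = e2 * x ^ k1 := ((hxE0 e2 he2).zpow_left k1).eq
    have h2 : x ^ k2 * e1 = e1 * x ^ k2 := ((hxE0 e1 he1).zpow_left k2).eq
    have h3 : e1 * e2 = e2 * e1 := hE0ab e1 he1 e2 he2
    have h4 : x ^ k1 * x ^ k2 = x ^ k2 * x ^ k1 := by rw [← zpow_add, ← zpow_add, add_comm]
    calc e1 * x ^ k1 * (e2 * x ^ k2) = e1 * (x ^ k1 * e2) * x ^ k2 := by group
      _ = e1 * (e2 * x ^ k1) * x ^ k2 := by rw [h1]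
      _ = (e1 * e2) * (x ^ k1 * x ^ k2) := by group
      _ = (e2 * e1) * (x ^ k2 * x ^ k1) := by rw [h3, h4]
      _ = e2 * (e1 * x ^ k2) * x ^ k1 := by group
      _ = e2 * (x ^ k2 * e1) * x ^ k1 := by rw [h2]
      _ = e2 * x ^ k2 * (e1 * x ^ k1) := by group
  have hEexp : ∀ y ∈ E, y ^ p = 1 := by
    rintro _ ⟨e, he, k, rfl⟩
    have h1 : Commute e (x ^ k) := ((hxE0 e he).zpow_left k).symm
    rw [h1.mul_pow, hE0exp e he, one_mul, ← zpow_natCast, ← zpow_mul, mul_comm, zpow_mul,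
      zpow_natCast, hxp, one_zpow]
  have hcardE := hrank E hET hEab hEexp
  have hE0E : E0 ≤ E := fun e he => ⟨e, he, 0, by simp⟩
  have hxE : x ∈ E := ⟨1, E0.one_mem, 1, by simp⟩
  have hfinE : Finite E :=
    Finite.of_injective (Subgroup.inclusion hET) (Subgroup.inclusion_injective hET)
  have hEE0 : E0 = E := Subgroup.eq_of_le_of_card_ge hE0E (by rw [hE0card]; exact hcardE)
  apply hxE1
  apply hE0E1
  rw [hEE0]
  exact hxE

end Cfsg.Agent.Helper50.Res
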