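import Mathlib
import Cfsg.Agent.Helper77.Res.Defs
import Cfsg.Agent.Helper79.BlkIDX
import Cfsg.Agent.S0120
import Cfsg.Agent.Helper50.ResC3
import Cfsg.Agent.Helper50.ResD2b

/-!
# S5289 swarm (architect helper77, board #14084), piece (D2): `extraspecial_contra`

Front half (the chain `C = Z(P) ≤ E1 = V1 ≤ A1 = C_T(E0) ≤ T`, `E0 = Ω₁(P) ∩ V1`) + `d2_back` of `ResD2b.lean`.
-/

set_option autoImplicit false
set_option linter.unusedVariables false

universe u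

namespace Cfsg.Agent.Helper50.Res

open Subgroup Cfsg.Agent.Helper77.Res

variable {Ω : Type u} [Group Ω] {p : ℕ} [hp : Fact p.Prime]

/-- a subgroup between `V` and `P` with `|P| = p |V|`, other than `P`, is `V` -/
theorem D2_mid (P V X : Subgroup Ω) [Finite P] (hcard : Nat.card P = p * Nat.card V)
    (hVX : V ≤ X) (hXP : X ≤ P) (hne : X ≠ P) : X = V := by
  have hpp : p.Prime := hp.out
  have hfX : Finite X :=
    Finite.of_injective (Subgroup.inclusion hXP) (Subgroup.inclusion_injective hXP)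
  have hfV : Finite V :=
    Finite.of_injective (Subgroup.inclusion (hVX.trans hXP))
      (Subgroup.inclusion_injective (hVX.trans hXP))
  obtain ⟨d, hd⟩ := Subgroup.card_dvd_of_le hVX
  obtain ⟨d', hd'⟩ := Subgroup.card_dvd_of_le hXP
  have hVpos : 0 < Nat.card V := Nat.card_pos
  have h1 : p = d * d' := by
    have h2 : Nat.card V * p = Nat.card V * (d * d') := by
      rw [mul_comm, ← hcard, hd', hd, mul_assoc]
    exact Nat.eq_of_mul_eq_mul_left hVpos h2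
  have h3 : d ∣ p := ⟨d', h1⟩
  rcases (Nat.dvd_prime hpp).1 h3 with h4 | h4
  · symm
    apply Subgroup.eq_of_le_of_card_ge hVX
    rw [hd, h4, mul_one]
  · exfalso
    apply hne
    apply Subgroup.eq_of_le_of_card_ge hXP
    rw [hcard, hd, h4, mul_comm]


/-- bilinearity of the commutator in class two -/
theorem D2_bilin {G : Type*} [Group G] (a b z : G) (hab : a * b = b * a * z)
    (hza : Commute z a) (hzb : Commute z b) (k l : ℕ) :
    a ^ k * b ^ l = b ^ l * a ^ k * z ^ (k * l) := by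
  have h1 : a ^ k * b = b * a ^ k * z ^ k := C3_pow_comm b a z hab hza k
  have hzk : Commute (z ^ k) b := hzb.pow_left k
  induction l with
  | zero => simp
  | succ l ih =>
    have h2 : z ^ (k * l) * b = b * z ^ (k * l) := (hzb.pow_left _).eq
    calc a ^ k * b ^ (l + 1) = (a ^ k * b ^ l) * b := by rw [pow_succ]; group
      _ = b ^ l * a ^ k * z ^ (k * l) * b := by rw [ih]
      _ = b ^ l * a ^ k * (z ^ (k * l) * b) := by group
      _ = b ^ l * a ^ k * (b * z ^ (k * l)) := by rw [h2]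
      _ = b ^ l * (a ^ k * b) * z ^ (k * l) := by group
      _ = b ^ l * (b * a ^ k * z ^ k) * z ^ (k * l) := by rw [h1]
      _ = b ^ (l + 1) * a ^ k * (z ^ k * z ^ (k * l)) := by rw [pow_succ b]; group
      _ = b ^ (l + 1) * a ^ k * z ^ (k * (l + 1)) := by rw [← pow_add]; congr 2; ring

/-- `P / Z(P)` of order `p²` is abelian: commutators of `P` lie in `Z(P)` -/
theorem D2_comm_center (P : Subgroup Ω) [Finite P]
    (hcard : Nat.card P = p ^ 2 * Nat.card (zOf P)) :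
    ∀ a ∈ P, ∀ b ∈ P, a * b * a⁻¹ * b⁻¹ ∈ zOf P := by
  have hZP : zOf P ≤ P := inf_le_left
  have hfinZ : Finite (zOf P) :=
    Finite.of_injective (Subgroup.inclusion hZP) (Subgroup.inclusion_injective hZP)
  have hNcen : (zOf P).subgroupOf P ≤ Subgroup.center P := by
    intro x hx
    rw [Subgroup.mem_center_iff]
    intro g
    apply Subtype.ext
    have h1 : ((x : P) : Ω) ∈ zOf P := Subgroup.mem_subgroupOf.1 hx
    exact (Subgroup.mem_centralizer_iff.1 h1.2) (g : Ω) g.2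
  have hN : ((zOf P).subgroupOf P).Normal := by
    constructor
    intro n hn g
    have h1 := hNcen hn
    rw [Subgroup.mem_center_iff] at h1
    have h2 : g * n * g⁻¹ = n := by rw [h1 g]; group
    rw [h2]
    exact hn
  have hidx : ((zOf P).subgroupOf P).index = p ^ 2 := by
    have h1 := Subgroup.card_mul_index ((zOf P).subgroupOf P)
    have h2 : Nat.card ((zOf P).subgroupOf P) = Nat.card (zOf P) :=
      Nat.card_congr (Subgroup.subgroupOfEquivOfLe hZP).toEquiv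
    rw [h2, hcard] at h1
    have hpos : 0 < Nat.card (zOf P) := Nat.card_pos
    exact Nat.eq_of_mul_eq_mul_left hpos (by rw [h1]; ring)
  have hcardQ : Nat.card (P ⧸ (zOf P).subgroupOf P) = p ^ 2 := by
    rw [← Subgroup.index_eq_card]
    exact hidx
  have hcomm := (IsPGroup.isMulCommutative_of_card_eq_prime_sq hcardQ).is_comm.comm
  intro a ha b hb
  have h1 : (QuotientGroup.mk' ((zOf P).subgroupOf P))
      ((⟨a, ha⟩ : P) * ⟨b, hb⟩ * (⟨a, ha⟩ : P)⁻¹ * (⟨b, hb⟩ : P)⁻¹) = 1 := by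
    rw [map_mul, map_mul, map_mul, map_inv, map_inv,
      hcomm (QuotientGroup.mk' _ (⟨a, ha⟩ : P)) (QuotientGroup.mk' _ (⟨b, hb⟩ : P))]
    group
  have h2 := (QuotientGroup.eq_one_iff _).1 h1
  exact Subgroup.mem_subgroupOf.1 h2

section localcfg
variable {T P : Subgroup Ω} {A : Subgroup (MulAut ↥P)} {B : Subgroup (MulAut ↥T)}

/-- (D2) the extraspecial case is impossible. -/
theorem extraspecial_contra (h5 : 5 ≤ p) (hc : Cfg p T P A B)
    (hRexp : ∀ r ∈ Cfsg.omegaOne p P, r ^ p = 1) (hRcard : Nat.card (Cfsg.omegaOne p P) = p ^ 3)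
    (hRna : ∃ a ∈ Cfsg.omegaOne p P, ∃ b ∈ Cfsg.omegaOne p P, a * b ≠ b * a)
    (hZcyc : IsCyclic ↥(zOf P)) (hPcard : Nat.card P = p ^ 2 * Nat.card (zOf P))
    (hRZ : Nat.card (Cfsg.omegaOne p P ⊓ zOf P : Subgroup Ω) = p)
    (hPRZ : ∀ x ∈ P, ∃ r ∈ Cfsg.omegaOne p P, ∃ c ∈ zOf P, x = r * c)
    (m : ℕ) (hm1 : m % p ≠ 1) (hm2 : m ^ 2 % p ≠ 1) (hm3 : m ^ 3 % p ≠ 1)
    (hT : TorusData p T P A B hc.le P (zOf P) m) : False := by
  have hpp : p.Prime := hp.out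
  have hone : 1 % p = 1 := Nat.one_mod_eq_one.2 hpp.ne_one
  have hfinT : Finite T := hc.fin
  have hfinP : Finite P :=
    Finite.of_injective (Subgroup.inclusion hc.le) (Subgroup.inclusion_injective hc.le)
  obtain ⟨V1, n, h, ψ, hCV1, hV1P, hV1card, hTcard, hTV1, hTPV1, -, hmn, hhA, hψB, hψcop, hext,
    hV1pow, hPpow, hTpow⟩ := hT
  -- notation
  obtain ⟨R, hRdef⟩ : ∃ R, R = Cfsg.omegaOne p P := ⟨_, rfl⟩
  obtain ⟨C, hCdef⟩ : ∃ C, C = zOf P := ⟨_, rfl⟩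
  rw [← hRdef] at hRexp hRcard hRna hRZ hPRZ
  rw [← hCdef] at hZcyc hPcard hRZ hPRZ hCV1 hV1card hTV1 hV1pow
  have hm : ¬ p ∣ m := by
    intro hdv
    have h1 : m * n % p = 0 := Nat.mod_eq_zero_of_dvd (Dvd.dvd.mul_right hdv n)
    rw [h1] at hmn
    exact zero_ne_one hmn
  have hRP : R ≤ P := by
    rw [hRdef, Cfsg.omegaOne, Subgroup.closure_le]
    intro x hx
    exact hx.1
  have hRmem : ∀ x ∈ P, x ^ p = 1 → x ∈ R := by
    intro x hx hxp
    rw [hRdef]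
    exact Subgroup.subset_closure ⟨hx, hxp⟩
  have hCP : C ≤ P := by
    rw [hCdef]
    exact inf_le_left
  have hCcen : ∀ c ∈ C, ∀ x ∈ P, c * x = x * c := by
    intro c hc' x hx
    rw [hCdef] at hc'
    exact ((Subgroup.mem_centralizer_iff.1 hc'.2) x hx).symm
  have hCmem : ∀ c ∈ P, (∀ x ∈ P, c * x = x * c) → c ∈ C := by
    intro c hcP hcc
    rw [hCdef]
    exact ⟨hcP, Subgroup.mem_centralizer_iff.2 (fun x hx => (hcc x hx).symm)⟩
  have hfinR : Finite R :=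
    Finite.of_injective (Subgroup.inclusion hRP) (Subgroup.inclusion_injective hRP)
  have hfinC : Finite C :=
    Finite.of_injective (Subgroup.inclusion hCP) (Subgroup.inclusion_injective hCP)
  have hfinV1 : Finite V1 :=
    Finite.of_injective (Subgroup.inclusion hV1P) (Subgroup.inclusion_injective hV1P)
  have hCpos : 0 < Nat.card C := Nat.card_pos
  -- `T` normalizes `P`, `R`, `C`, `V1`
  have hTP : ∀ t ∈ T, ∀ x ∈ P, t * x * t⁻¹ ∈ P := by
    intro t ht x hx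
    exact ((Subgroup.mem_set_normalizer_iff.1 (hc.norm ht)) x).1 hx
  have hTR : ∀ t ∈ T, ∀ r ∈ R, t * r * t⁻¹ ∈ R := by
    intro t ht r hr
    apply hRmem _ (hTP t ht r (hRP hr))
    rw [conj_pow, hRexp r hr, mul_one, mul_inv_cancel]
  have hTC : ∀ t ∈ T, ∀ c ∈ C, t * c * t⁻¹ ∈ C := by
    intro t ht c hc'
    apply hCmem _ (hTP t ht c (hCP hc'))
    intro x hx
    have h1 : t⁻¹ * x * t ∈ P := by
      have h0 := hTP t⁻¹ (T.inv_mem ht) x hx
      simpa using h0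
    have h2 := hCcen c hc' _ h1
    calc t * c * t⁻¹ * x = t * (c * (t⁻¹ * x * t)) * t⁻¹ := by group
      _ = t * ((t⁻¹ * x * t) * c) * t⁻¹ := by rw [h2]
      _ = x * (t * c * t⁻¹) := by group
  have hTV1' : ∀ t ∈ T, ∀ v ∈ V1, t * v * t⁻¹ ∈ V1 := by
    intro t ht v hv
    have h1 := hCV1 (hTV1 t ht v hv)
    have h2 : t * v * t⁻¹ = v * (v⁻¹ * (t * v * t⁻¹)) := by group
    rw [h2]
    exact V1.mul_mem hv h1
  -- `E0 = R ∩ V1`
  obtain ⟨E0, hE0def⟩ : ∃ E0, E0 = R ⊓ V1 := ⟨_, rfl⟩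
  have hE0R : E0 ≤ R := hE0def ▸ inf_le_left
  have hE0V1 : E0 ≤ V1 := hE0def ▸ inf_le_right
  have hE0exp : ∀ e ∈ E0, e ^ p = 1 := fun e he => hRexp e (hE0R he)
  have hV1gen : ∀ x ∈ V1, ∃ e ∈ E0, ∃ c ∈ C, x = e * c := by
    intro x hx
    obtain ⟨r, hr, c, hc', rfl⟩ := hPRZ x (hV1P hx)
    refine ⟨r, ?_, c, hc', rfl⟩
    rw [hE0def]
    refine ⟨hr, ?_⟩
    have h1 : r = r * c * c⁻¹ := by group
    rw [h1]
    exact V1.mul_mem hx (V1.inv_mem (hCV1 hc'))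
  have hTE0 : ∀ t ∈ T, ∀ e ∈ E0, t * e * t⁻¹ ∈ E0 := by
    intro t ht e he
    rw [hE0def] at he ⊢
    exact ⟨hTR t ht e he.1, hTV1' t ht e he.2⟩
  have hZ1E0 : R ⊓ C ≤ E0 := by
    rw [hE0def]
    exact inf_le_inf_left R hCV1
  have hE0card : Nat.card E0 = p ^ 2 := by
    have hdvd : Nat.card E0 ∣ p ^ 3 := hRcard ▸ Subgroup.card_dvd_of_le hE0R
    obtain ⟨k, hk, hkc⟩ := (Nat.dvd_prime_pow hpp).1 hdvd
    have hpdvd : p ∣ Nat.card E0 := hRZ ▸ Subgroup.card_dvd_of_le hZ1E0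
    have hfinE0 : Finite E0 :=
      Finite.of_injective (Subgroup.inclusion hE0R) (Subgroup.inclusion_injective hE0R)
    interval_cases k
    · rw [hkc, pow_zero] at hpdvd
      exact absurd (Nat.dvd_one.1 hpdvd) hpp.ne_one
    · exfalso
      have h1 : R ⊓ C = E0 := Subgroup.eq_of_le_of_card_ge hZ1E0 (by rw [hkc, hRZ, pow_one])
      have h2 : V1 ≤ C := by
        intro x hx
        obtain ⟨e, he, c, hc', rfl⟩ := hV1gen x hx
        have h0 : e ∈ R ⊓ C := h1 ▸ he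
        exact C.mul_mem h0.2 hc'
      have h3 := Subgroup.card_le_of_le h2
      rw [hV1card] at h3
      nlinarith [hpp.two_le]
    · exact hkc
    · exfalso
      have h1 : E0 = R := Subgroup.eq_of_le_of_card_ge hE0R (by rw [hkc, hRcard])
      have h2 : P ≤ V1 := by
        intro x hx
        obtain ⟨r, hr, c, hc', rfl⟩ := hPRZ x hx
        exact V1.mul_mem (hE0V1 (h1 ▸ hr)) (hCV1 hc')
      have h3 := Subgroup.card_le_of_le h2
      rw [hV1card, hPcard] at h3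
      nlinarith [hpp.two_le]
  -- `E0`, `V1` abelian
  have hE0P : E0 ≤ P := hE0V1.trans hV1P
  have hE0ab : ∀ x ∈ E0, ∀ y ∈ E0, x * y = y * x := by
    intro x hx y hy
    have h1 := (IsPGroup.isMulCommutative_of_card_eq_prime_sq hE0card).is_comm.comm
      (⟨x, hx⟩ : E0) ⟨y, hy⟩
    exact congrArg Subtype.val h1
  have hV1ab : ∀ x ∈ V1, ∀ y ∈ V1, x * y = y * x := by
    intro x hx y hy
    obtain ⟨e, he, c, hc', rfl⟩ := hV1gen x hx
    obtain ⟨e', he', c', hc'', rfl⟩ := hV1gen y hy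
    have h1 := hE0ab e he e' he'
    have h2 := hCcen c hc' e' (hE0P he')
    have h3 := hCcen c' hc'' e (hE0P he)
    have h4 := hCcen c hc' c' (hCP hc'')
    calc e * c * (e' * c') = e * (c * e') * c' := by group
      _ = e * (e' * c) * c' := by rw [h2]
      _ = (e * e') * (c * c') := by group
      _ = (e' * e) * (c' * c) := by rw [h1, h4]
      _ = e' * (e * c') * c := by group
      _ = e' * (c' * e) * c := by rw [h3]
      _ = e' * c' * (e * c) := by group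
  -- `A1 = C_T(E0)`
  obtain ⟨A1, hA1def⟩ : ∃ A1, A1 = T ⊓ Subgroup.centralizer (E0 : Set Ω) := ⟨_, rfl⟩
  have hA1T : A1 ≤ T := hA1def ▸ inf_le_left
  have hA1E0 : ∀ t ∈ A1, ∀ e ∈ E0, t * e = e * t := by
    intro t ht e he
    rw [hA1def] at ht
    exact ((Subgroup.mem_centralizer_iff.1 ht.2) e he).symm
  have hA1mem : ∀ t ∈ T, (∀ e ∈ E0, t * e = e * t) → t ∈ A1 := by
    intro t ht hte
    rw [hA1def]
    exact ⟨ht, Subgroup.mem_centralizer_iff.2 (fun e he => (hte e he).symm)⟩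
  have hV1A1 : V1 ≤ A1 := fun x hx =>
    hA1mem x (hc.le (hV1P hx)) (fun e he => hV1ab x hx e (hE0V1 he))
  -- `r1 ∈ E0 ∖ C`
  obtain ⟨r1, hr1E0, hr1C⟩ : ∃ r1 ∈ E0, r1 ∉ C := by
    by_contra hcon
    push Not at hcon
    have h1 : E0 ≤ R ⊓ C := fun e he => ⟨hE0R he, hcon e he⟩
    have hfinRC : Finite (R ⊓ C : Subgroup Ω) :=
      Finite.of_injective (Subgroup.inclusion (inf_le_left : R ⊓ C ≤ R))
        (Subgroup.inclusion_injective _)
    have h2 := Subgroup.card_le_of_le h1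
    rw [hE0card, hRZ] at h2
    nlinarith [hpp.two_le]
  obtain ⟨x1, hx1P, hx1⟩ : ∃ x ∈ P, r1 * x ≠ x * r1 := by
    by_contra hcon
    push Not at hcon
    exact hr1C (hCmem r1 (hE0P hr1E0) hcon)
  have hPA1 : ¬ P ≤ A1 := fun hle => hx1 ((hA1E0 x1 (hle hx1P) r1 hr1E0).symm)
  have hTp : IsPGroup p T := hc.pgrp
  have hA1card : Nat.card A1 = p * Nat.card V1 := by
    have hN : (E0.subgroupOf T).Normal := by
      constructor
      intro n hn g
      rw [Subgroup.mem_subgroupOf] at hn ⊢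
      exact hTE0 g g.2 n hn
    have hcardE0' : Nat.card (E0.subgroupOf T) = p ^ 2 := by
      rw [← hE0card]
      exact Nat.card_congr (Subgroup.subgroupOfEquivOfLe (hE0P.trans hc.le)).toEquiv
    have hidx := Cfsg.Agent.Helper79.Blk.index_centralizer_dvd hTp (E0.subgroupOf T) hcardE0'
    have hcent : Subgroup.centralizer ((E0.subgroupOf T : Subgroup T) : Set T)
        = A1.subgroupOf T := by
      ext x
      rw [Subgroup.mem_centralizer_iff, Subgroup.mem_subgroupOf]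
      constructor
      · intro hx
        apply hA1mem x x.2
        intro e he
        have h0 := hx ⟨e, (hE0P.trans hc.le) he⟩ (by
          rw [SetLike.mem_coe, Subgroup.mem_subgroupOf]
          exact he)
        exact (congrArg Subtype.val h0).symm
      · intro hx e he
        rw [SetLike.mem_coe, Subgroup.mem_subgroupOf] at he
        apply Subtype.ext
        exact (hA1E0 x hx e he).symm
    rw [hcent] at hidx
    have hidx' : (A1.subgroupOf T).index = p := by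
      rcases (Nat.dvd_prime hpp).1 hidx with h1 | h1
      · exfalso
        rw [Subgroup.index_eq_one] at h1
        apply hPA1
        intro x hx
        have h0 : (⟨x, hc.le hx⟩ : T) ∈ A1.subgroupOf T := by
          rw [h1]
          exact Subgroup.mem_top _
        exact Subgroup.mem_subgroupOf.1 h0
      · exact h1
    have h1 := Subgroup.card_mul_index (A1.subgroupOf T)
    have h2 : Nat.card (A1.subgroupOf T) = Nat.card A1 :=
      Nat.card_congr (Subgroup.subgroupOfEquivOfLe hA1T).toEquiv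
    rw [h2, hidx', hTcard, hPcard] at h1
    rw [hV1card]
    exact Nat.eq_of_mul_eq_mul_right hpp.pos (by rw [h1]; ring)
  have hPV1card : Nat.card P = p * Nat.card V1 := by
    rw [hPcard, hV1card]
    ring
  have hA1P : A1 ⊓ P = V1 :=
    D2_mid P V1 (A1 ⊓ P) hPV1card (le_inf hV1A1 hV1P) inf_le_right (by
      intro h1
      apply hPA1
      rw [← h1]
      exact inf_le_left)
  -- `h` on elements of `P`
  have hhP : ∀ (x : Ω) (hx : x ∈ P), ((h ⟨x, hx⟩ : P) : Ω) ∈ P := fun x hx => (h ⟨x, hx⟩).2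
  have hhpow : ∀ (x : Ω) (hx : x ∈ P) (k : ℕ),
      ((h ⟨x ^ k, P.pow_mem hx k⟩ : P) : Ω) = ((h ⟨x, hx⟩ : P) : Ω) ^ k := by
    intro x hx k
    have h1 : (⟨x ^ k, P.pow_mem hx k⟩ : P) = (⟨x, hx⟩ : P) ^ k := Subtype.ext (by simp)
    rw [h1, map_pow]
    simp
  have hhR : ∀ (x : Ω) (hx : x ∈ R), ((h ⟨x, hRP hx⟩ : P) : Ω) ∈ R := by
    intro x hx
    apply hRmem _ (hhP x (hRP hx))
    rw [← hhpow x (hRP hx) p]
    have h1 : (⟨x ^ p, P.pow_mem (hRP hx) p⟩ : P) = 1 := Subtype.ext (hRexp x hx)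
    rw [h1, map_one]
    rfl
  have hhC : ∀ (c : Ω) (hc' : c ∈ C), ((h ⟨c, hCP hc'⟩ : P) : Ω) ∈ C := by
    intro c hc'
    apply hCmem _ (hhP c (hCP hc'))
    intro x hx
    have h1 : (⟨c, hCP hc'⟩ : P) * h.symm ⟨x, hx⟩ = h.symm ⟨x, hx⟩ * ⟨c, hCP hc'⟩ :=
      Subtype.ext (hCcen c hc' _ (h.symm ⟨x, hx⟩).2)
    have h2 := congrArg (fun z => ((h z : P) : Ω)) h1
    simp only [map_mul, MulEquiv.apply_symm_apply, Subgroup.coe_mul] at h2
    exact h2
  have hhV1 : ∀ (x : Ω) (hx : x ∈ V1), ((h ⟨x, hV1P hx⟩ : P) : Ω) ∈ V1 := by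
    intro x hx
    have h1 := hCV1 (hV1pow ⟨x, hV1P hx⟩ hx)
    have h2 : ((h ⟨x, hV1P hx⟩ : P) : Ω) = x ^ m * ((x ^ m)⁻¹ * ((h ⟨x, hV1P hx⟩ : P) : Ω)) := by
      group
    rw [h2]
    exact V1.mul_mem (V1.pow_mem hx m) h1
  have hhE0 : ∀ (e : Ω) (he : e ∈ E0), ((h ⟨e, hE0P he⟩ : P) : Ω) ∈ E0 := by
    intro e he
    rw [hE0def]
    exact ⟨hhR e (hE0R he), hhV1 e (hE0V1 he)⟩
  -- `ψ` on `P` is `h`
  have hψh : ∀ (x : Ω) (hx : x ∈ P), ((ψ ⟨x, hc.le hx⟩ : T) : Ω) = ((h ⟨x, hx⟩ : P) : Ω) :=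
    fun x hx => hext ⟨x, hx⟩
  -- `ψ` maps `E0` onto `E0`, hence `A1` into `A1`
  have hE0T : E0 ≤ T := hE0P.trans hc.le
  have hfinE0 : Finite E0 :=
    Finite.of_injective (Subgroup.inclusion hE0T) (Subgroup.inclusion_injective hE0T)
  have hψE0 : ∀ (e : Ω) (he : e ∈ E0), ((ψ ⟨e, hE0T he⟩ : T) : Ω) ∈ E0 := by
    intro e he
    rw [hψh e (hE0P he)]
    exact hhE0 e he
  have hsurj : ∀ e ∈ E0, ∃ e' : Ω, ∃ he' : e' ∈ E0, ((ψ ⟨e', hE0T he'⟩ : T) : Ω) = e := by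
    have hinj : Function.Injective
        (fun e : E0 => (⟨((ψ ⟨(e : Ω), hE0T e.2⟩ : T) : Ω), hψE0 e e.2⟩ : E0)) := by
      intro a b hab
      have h1 : ((ψ ⟨(a : Ω), hE0T a.2⟩ : T) : Ω) = ((ψ ⟨(b : Ω), hE0T b.2⟩ : T) : Ω) :=
        congrArg (fun z : E0 => (z : Ω)) hab
      have h2 : (⟨(a : Ω), hE0T a.2⟩ : T) = ⟨(b : Ω), hE0T b.2⟩ := ψ.injective (Subtype.ext h1)
      exact Subtype.ext (congrArg (fun z : T => (z : Ω)) h2)
    have hsur := Finite.surjective_of_injective hinj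
    intro e he
    obtain ⟨e', he'⟩ := hsur ⟨e, he⟩
    exact ⟨(e' : Ω), e'.2, congrArg Subtype.val he'⟩
  have hψA1mem : ∀ (t : Ω) (ht : t ∈ A1), ((ψ ⟨t, hA1T ht⟩ : T) : Ω) ∈ A1 := by
    intro t ht
    apply hA1mem _ (ψ ⟨t, hA1T ht⟩).2
    intro e he
    obtain ⟨e', he', hee⟩ := hsurj e he
    rw [← hee]
    have h1 : (⟨t, hA1T ht⟩ : T) * ⟨e', hE0T he'⟩ = ⟨e', hE0T he'⟩ * ⟨t, hA1T ht⟩ :=
      Subtype.ext (hA1E0 t ht e' he')
    have h2 := congrArg (fun z => ((ψ z : T) : Ω)) h1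
    simp only [map_mul, Subgroup.coe_mul] at h2
    exact h2
  -- the three actions
  have hψE1 : ∀ t : T, (t : Ω) ∈ V1 → ((t : Ω) ^ m)⁻¹ * ((ψ t : T) : Ω) ∈ C := by
    intro t ht
    have h1 := hV1pow ⟨(t : Ω), hV1P ht⟩ ht
    have h2 : (⟨(t : Ω), hc.le (hV1P ht)⟩ : T) = t := Subtype.ext rfl
    have h3 := hψh (t : Ω) (hV1P ht)
    rw [h2] at h3
    rw [h3]
    exact h1
  have hψA1 : ∀ t : T, (t : Ω) ∈ A1 → ((t : Ω) ^ (m * m))⁻¹ * ((ψ t : T) : Ω) ∈ V1 := by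
    intro t ht
    have h1 := hTpow t
    have h2 : (⟨(t : Ω), hA1T ht⟩ : T) = t := Subtype.ext rfl
    have h3 := hψA1mem (t : Ω) ht
    rw [h2] at h3
    rw [← hA1P]
    exact ⟨A1.mul_mem (A1.inv_mem (A1.pow_mem ht _)) h3, h1⟩
  have hfinRC : Finite (R ⊓ C : Subgroup Ω) :=
    Finite.of_injective (Subgroup.inclusion (inf_le_left : R ⊓ C ≤ R))
      (Subgroup.inclusion_injective _)
  -- `h` fixes `R ∩ C` pointwise
  have hfixZ1 : ∀ (y : Ω) (hy : y ∈ R ⊓ C), ((h ⟨y, hCP hy.2⟩ : P) : Ω) = y := by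
    obtain ⟨r2, hr2, c2, hc2, hx1eq⟩ := hPRZ x1 hx1P
    have hr1P : r1 ∈ P := hE0P hr1E0
    have hr2P : r2 ∈ P := hRP hr2
    have hr1V1 : r1 ∈ V1 := hE0V1 hr1E0
    have hr12 : r1 * r2 ≠ r2 * r1 := by
      intro h1
      apply hx1
      rw [hx1eq]
      have h2 := hCcen c2 hc2 r1 hr1P
      calc r1 * (r2 * c2) = (r1 * r2) * c2 := by group
        _ = r2 * r1 * c2 := by rw [h1]
        _ = r2 * (r1 * c2) := by group
        _ = r2 * (c2 * r1) := by rw [h2]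
        _ = r2 * c2 * r1 := by group
    obtain ⟨z, hzdef⟩ : ∃ z, z = (r2 * r1)⁻¹ * (r1 * r2) := ⟨_, rfl⟩
    have hab : r1 * r2 = r2 * r1 * z := by rw [hzdef]; group
    have hz1 : z ≠ 1 := by
      intro h1
      rw [h1, mul_one] at hab
      exact hr12 hab
    have hzC : z ∈ C := by
      have h1 := D2_comm_center P (hCdef ▸ hPcard) r1⁻¹ (P.inv_mem hr1P) r2⁻¹ (P.inv_mem hr2P)
      rw [← hCdef] at h1
      have h2 : z = r1⁻¹ * r2⁻¹ * r1⁻¹⁻¹ * r2⁻¹⁻¹ := by rw [hzdef]; group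
      rw [h2]
      exact h1
    have hzR : z ∈ R := by
      rw [hzdef]
      exact R.mul_mem (R.inv_mem (R.mul_mem hr2 (hE0R hr1E0))) (R.mul_mem (hE0R hr1E0) hr2)
    have hzP : z ∈ P := hCP hzC
    have hzp : z ^ p = 1 := hRexp z hzR
    have hzr1 : Commute z r1 := hCcen z hzC r1 hr1P
    have hzr2 : Commute z r2 := hCcen z hzC r2 hr2P
    have hbil := D2_bilin r1 r2 z hab hzr1 hzr2 m n
    have hzmn : z ^ (m * n) = z := by
      have h1 : m * n = p * (m * n / p) + 1 := by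
        have h0 := Nat.div_add_mod (m * n) p
        rw [hmn] at h0
        exact h0.symm
      rw [h1, pow_succ, pow_mul, hzp, one_pow, one_mul]
    rw [hzmn] at hbil
    obtain ⟨c1, hc1def⟩ : ∃ c1, c1 = (r1 ^ m)⁻¹ * ((h ⟨r1, hr1P⟩ : P) : Ω) := ⟨_, rfl⟩
    have hc1C : c1 ∈ C := hc1def ▸ hV1pow ⟨r1, hr1P⟩ hr1V1
    obtain ⟨e2, he2def⟩ : ∃ e2, e2 = (r2 ^ n)⁻¹ * ((h ⟨r2, hr2P⟩ : P) : Ω) := ⟨_, rfl⟩
    have he2V1 : e2 ∈ V1 := he2def ▸ hPpow ⟨r2, hr2P⟩ hr2P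
    have hhr1 : ((h ⟨r1, hr1P⟩ : P) : Ω) = r1 ^ m * c1 := by rw [hc1def]; group
    have hhr2 : ((h ⟨r2, hr2P⟩ : P) : Ω) = r2 ^ n * e2 := by rw [he2def]; group
    have hhz : ((h ⟨z, hzP⟩ : P) : Ω) = z := by
      have h1 : (⟨z, hzP⟩ : P) = (⟨r2, hr2P⟩ * ⟨r1, hr1P⟩)⁻¹ * (⟨r1, hr1P⟩ * ⟨r2, hr2P⟩) :=
        Subtype.ext hzdef
      rw [h1, map_mul, map_inv, map_mul, map_mul]
      simp only [Subgroup.coe_mul, Subgroup.coe_inv]
      rw [hhr1, hhr2]
      have hc1a : c1 * r2 ^ n = r2 ^ n * c1 := hCcen c1 hc1C _ (P.pow_mem hr2P n)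
      have he2a : e2 * r1 ^ m = r1 ^ m * e2 := hV1ab e2 he2V1 _ (V1.pow_mem hr1V1 m)
      have hzc : z * (c1 * e2) = (c1 * e2) * z :=
        hCcen z hzC _ (P.mul_mem (hCP hc1C) (hV1P he2V1))
      have hc1e2 : c1 * e2 = e2 * c1 := hCcen c1 hc1C e2 (hV1P he2V1)
      calc (r2 ^ n * e2 * (r1 ^ m * c1))⁻¹ * (r1 ^ m * c1 * (r2 ^ n * e2))
          = (r2 ^ n * (e2 * r1 ^ m) * c1)⁻¹ * (r1 ^ m * (c1 * r2 ^ n) * e2) := by group
        _ = (r2 ^ n * (r1 ^ m * e2) * c1)⁻¹ * (r1 ^ m * (r2 ^ n * c1) * e2) := by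
          rw [he2a, hc1a]
        _ = (r2 ^ n * r1 ^ m * (e2 * c1))⁻¹ * ((r1 ^ m * r2 ^ n) * (c1 * e2)) := by group
        _ = (r2 ^ n * r1 ^ m * (c1 * e2))⁻¹ * ((r2 ^ n * r1 ^ m * z) * (c1 * e2)) := by
          rw [hbil, hc1e2]
        _ = (c1 * e2)⁻¹ * (z * (c1 * e2)) := by group
        _ = (c1 * e2)⁻¹ * ((c1 * e2) * z) := by rw [hzc]
        _ = z := by group
    have hzpow : Subgroup.zpowers z = R ⊓ C :=
      Subgroup.eq_of_le_of_card_ge (by rw [Subgroup.zpowers_le]; exact ⟨hzR, hzC⟩)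
        (by rw [hRZ, Nat.card_zpowers, orderOf_eq_prime hzp hz1])
    intro y hy
    have hy' : y ∈ Subgroup.zpowers z := hzpow ▸ hy
    obtain ⟨k, hk⟩ := Subgroup.mem_zpowers_iff.1 hy'
    have h1 : (⟨y, hCP hy.2⟩ : P) = (⟨z, hzP⟩ : P) ^ k := Subtype.ext (by simp [hk])
    rw [h1, map_zpow]
    simp only [Subgroup.coe_zpow]
    rw [hhz, hk]
  -- `ψ` is the identity on `C`
  have hCT : C ≤ T := hCP.trans hc.le
  have hψC : ∀ t : T, (t : Ω) ∈ C → ((ψ t : T) : Ω) = t := by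
    have hψCmem : ∀ (c : Ω) (hc' : c ∈ C), ((ψ ⟨c, hCT hc'⟩ : T) : Ω) ∈ C := by
      intro c hc'
      rw [hψh c (hCP hc')]
      exact hhC c hc'
    let f : C →* C := MonoidHom.mk'
      (fun c => ⟨((ψ ⟨(c : Ω), hCT c.2⟩ : T) : Ω), hψCmem c c.2⟩) (by
        intro a b
        apply Subtype.ext
        have h1 : (⟨((a * b : C) : Ω), hCT (a * b).2⟩ : T)
            = ⟨(a : Ω), hCT a.2⟩ * ⟨(b : Ω), hCT b.2⟩ := Subtype.ext rfl
        show ((ψ ⟨((a * b : C) : Ω), hCT (a * b).2⟩ : T) : Ω) = _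
        rw [h1, map_mul]
        rfl)
    have hfinj : Function.Injective f := by
      intro a b hab
      have h1 : ((ψ ⟨(a : Ω), hCT a.2⟩ : T) : Ω) = ((ψ ⟨(b : Ω), hCT b.2⟩ : T) : Ω) :=
        congrArg (fun z : C => (z : Ω)) hab
      have h2 := ψ.injective (Subtype.ext h1)
      exact Subtype.ext (congrArg (fun z : T => (z : Ω)) h2)
    have hfbij : Function.Bijective f := ⟨hfinj, Finite.surjective_of_injective hfinj⟩
    let a : MulAut C := MulEquiv.ofBijective f hfbij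
    have ha_apply : ∀ c : C, ((a c : C) : Ω) = ((ψ ⟨(c : Ω), hCT c.2⟩ : T) : Ω) := fun c => rfl
    have hapow : ∀ (k : ℕ) (c : C),
        (((a ^ k) c : C) : Ω) = (((ψ ^ k) ⟨(c : Ω), hCT c.2⟩ : T) : Ω) := by
      intro k
      induction k with
      | zero => intro c; simp
      | succ k ih =>
        intro c
        rw [pow_succ, pow_succ, MulAut.mul_apply, MulAut.mul_apply, ih (a c)]
        have h1 : (⟨((a c : C) : Ω), hCT (a c).2⟩ : T) = ψ ⟨(c : Ω), hCT c.2⟩ :=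
          Subtype.ext (ha_apply c)
        rw [h1]
    have haord : orderOf a ∣ orderOf ψ := by
      apply orderOf_dvd_of_pow_eq_one
      ext c
      have h0 := hapow (orderOf ψ) c
      rw [pow_orderOf_eq_one] at h0
      simpa using h0
    have hacop : Nat.Coprime (orderOf a) p := Nat.Coprime.coprime_dvd_left haord hψcop
    have hp2 : p ≠ 2 := by omega
    have hCp : IsPGroup p C := hTp.to_le hCT
    have hfix : ∀ x : C, x ^ p = 1 → a x = x := by
      intro x hx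
      apply Subtype.ext
      rw [ha_apply, hψh (x : Ω) (hCP x.2)]
      have hxp : (x : Ω) ^ p = 1 := by simpa using congrArg (fun z : C => (z : Ω)) hx
      exact hfixZ1 (x : Ω) ⟨hRmem _ (hCP x.2) hxp, x.2⟩
    have ha1 : a = 1 := Cfsg.Agent.S0120.result hp2 hCp a hacop hfix
    intro t ht
    have h1 := ha_apply ⟨(t : Ω), ht⟩
    rw [ha1] at h1
    have h2 : (⟨((⟨(t : Ω), ht⟩ : C) : Ω), hCT ht⟩ : T) = t := Subtype.ext rfl
    rw [h2] at h1
    simpa using h1.symm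
  have hCab : ∀ x ∈ C, ∀ y ∈ C, x * y = y * x := fun x hx y hy => hCcen x hx y (hCP hy)
  have hCnorm : ∀ t ∈ A1, ∀ c ∈ C, t * c * t⁻¹ ∈ C := fun t ht => hTC t (hA1T ht)
  exact d2_back T C E0 V1 A1 hTp hc.rank hCV1 hE0V1 hV1A1 hA1T hE0card hE0exp hV1gen hCab hA1E0
    hA1card hCnorm ψ m hm hm1 hm2 hψC hψE1 hψA1

end localcfg

end Cfsg.Agent.Helper50.Res
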