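import Cfsg.Agent.Helper8.S3AWalk

/-!
# S2858 farm (helper8), wave 2, leaf (TJ): `T2_comm`
-/

set_option autoImplicit false

namespace Cfsg.Agent.Helper50.S3A

open Cfsg Cfsg.Agent.Helper8.S3A

variable {G : Type*} [Group G] {M₁ M₂ : Subgroup G}

/-- for `b = 2`: `Z_u ≤ Q_v` on an edge -/
theorem TJ_Z_le_Q_nbr (hmin : Min M₁ M₂ 2) {u v : Vx M₁ M₂} (h : Adj u v) : Z u ≤ Q v := by
  have hw : IsWalk (cons u (fun _ => v)) 1 := by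
    intro i hi
    have : i = 0 := by omega
    subst this
    exact h
  exact hmin (cons u (fun _ => v)) 1 (by norm_num) hw

section PartT2
variable (A : Core M₁ M₂) (GA : GoodAPI M₁ M₂) (C : CAPI M₁ M₂ 2) (hmin : Min M₁ M₂ 2)
  {s : Bool} (hK : KProp M₁ M₂ s)
include A GA C hmin hK

/-- (TJ) `(α₁, μ, α₂)` is a critical walk: `C.comm_mem`, `C.R_eq`, `C.Z_inf_Q` (reversed), `GA.comm_ne_one`. -/
theorem T2_comm {μ α₁ α₂ : Vx M₁ M₂} (h1 : Adj μ α₁) (h2 : Adj μ α₂) (hne : α₁ ≠ α₂)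
    (hc : ¬ Z α₁ ≤ Q α₂) {a₁ a₂ : G} (ha₁ : a₁ ∈ Z α₁) (ha₁' : a₁ ∉ ZE α₁ μ) (ha₂ : a₂ ∈ Z α₂)
    (ha₂' : a₂ ∉ ZE α₂ μ) :
    a₁ * a₂ * a₁⁻¹ * a₂⁻¹ ∈ R α₁ μ ∧ a₁ * a₂ * a₁⁻¹ * a₂⁻¹ ≠ 1 ∧ R α₁ μ = R α₂ μ ∧
      a₂ ∈ St α₁ ∧ a₂ ∈ St μ ∧ a₂ ∉ Q α₁ := by
  have h1' : Adj α₁ μ := A.adj_symm h1
  obtain ⟨γ, hγdef⟩ : ∃ γ : ℕ → Vx M₁ M₂, γ = cons α₁ (cons μ (fun _ => α₂)) := ⟨_, rfl⟩
  have g0 : γ 0 = α₁ := by rw [hγdef]; rfl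
  have g1 : γ 1 = μ := by rw [hγdef]; rfl
  have g2 : γ 2 = α₂ := by rw [hγdef]; rfl
  have hγ : Crit γ 2 := by
    refine ⟨?_, ?_⟩
    · intro i hi
      have : i = 0 ∨ i = 1 := by omega
      rcases this with rfl | rfl
      · rw [g0, g1]; exact h1'
      · rw [g1, g2]; exact h2
    · rw [g0, g2]; exact hc
  have hrev : Crit (rev 2 γ) 2 := C.rev hγ
  have r0 : rev 2 γ 0 = α₂ := by rw [rev_zero, g2]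
  have r1 : rev 2 γ 1 = μ := by rw [rev_one]; exact g1
  have r2 : rev 2 γ 2 = α₁ := by rw [rev_b, g0]
  have hZQ : Z α₂ ⊓ Q α₁ = ZE α₂ μ := by
    have := C.Z_inf_Q hrev
    rwa [r0, r1, r2] at this
  have ha₂Q : a₂ ∈ Q μ := TJ_Z_le_Q_nbr hmin (A.adj_symm h2) ha₂
  have ha₂μ : a₂ ∈ St μ := A.Q_le_St μ ha₂Q
  have ha₂α : a₂ ∈ St α₁ := A.Q_le_nbr h1 ha₂Q
  have ha₂n : a₂ ∉ Q α₁ := by
    intro hq
    apply ha₂'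
    rw [← hZQ]
    exact ⟨ha₂, hq⟩
  refine ⟨?_, ?_, ?_, ha₂α, ha₂μ, ha₂n⟩
  · have := C.comm_mem (γ := γ) (x := a₁) (y := a₂) hγ (by rw [g0]; exact ha₁) (by rw [g2]; exact ha₂)
    rwa [g0, g1] at this
  · exact GA.comm_ne_one h1' ha₁ ha₁' ha₂α ha₂μ ha₂n
  · have := C.R_eq hγ
    have e : (2 : ℕ) - 1 = 1 := rfl
    rwa [e, g0, g1, g2] at this

end PartT2

end Cfsg.Agent.Helper50.S3A
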