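import Mathlib
import Cfsg.Agent.Helper62.S6.Defs
import Cfsg.Agent.Helper47.D8Coords
import Cfsg.Agent.S3805

/-!
# S3333 (helper62), piece (CV) `case_V4`, with (R4) `simple_normalClosure`, (R5) `transfer` and
(RW) `word_mem` as hypotheses
-/

set_option autoImplicit false
set_option linter.unusedSectionVars false
open Cfsg

namespace Cfsg.Agent.Helper50.S6

open Cfsg.Agent.Helper62.S6 Cfsg.Agent.Helper62.D8

universe u

variable {G : Type u} [Group G] [Finite G]
variable {S : Subgroup G} {x y t f : G}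

/-- the four words of the Klein four-group `⟨f², t⟩` are involutions -/
theorem CV_word_sq (hd : NData8 S x y t f) (a b : Fin 2) :
    (f ^ (2 * a.val) * t ^ b.val) * (f ^ (2 * a.val) * t ^ b.val) = 1 := by
  have hf4 : f ^ 2 * f ^ 2 = 1 := by rw [← pow_add]; exact hd.f4
  have ht2 : t * t = 1 := by rw [← pow_two]; exact hd.t2
  have htf2 : t * f ^ 2 * t⁻¹ = (f⁻¹) ^ 2 := by rw [← conj_pow, hd.tf]
  have htf2' : t * f ^ 2 = (f⁻¹) ^ 2 * t := by
    rw [← htf2]; group
  fin_cases a <;> fin_cases b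
  · simp
  · simpa using ht2
  · simpa using hf4
  · show (f ^ (2 * 1) * t ^ 1) * (f ^ (2 * 1) * t ^ 1) = 1
    rw [mul_one, pow_one]
    calc f ^ 2 * t * (f ^ 2 * t) = f ^ 2 * (t * f ^ 2) * t := by group
      _ = f ^ 2 * ((f⁻¹) ^ 2 * t) * t := by rw [htf2']
      _ = t * t := by group
      _ = 1 := ht2

/-- (CV), from the statements of (R4), (R5), (RW) -/
theorem case_V4_of (h : Cfg S x y t f) (hn : ¬ S.Normal)
    (hf : f ∉ Subgroup.normalClosure (S : Set G)) (ht : t ∈ Subgroup.normalClosure (S : Set G))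
    (hsimple : IsSimpleGroup ↥(Subgroup.normalClosure (S : Set G)))
    (htr : ∃ PL : Sylow 3 ↥(Subgroup.normalClosure (S : Set G)),
      (PL : Subgroup ↥(Subgroup.normalClosure (S : Set G))) =
        S.subgroupOf (Subgroup.normalClosure (S : Set G)) ∧
      Nat.card (PL : Subgroup ↥(Subgroup.normalClosure (S : Set G))) = 9 ∧
      (∀ a ∈ (PL : Subgroup ↥(Subgroup.normalClosure (S : Set G))),
        ∀ b ∈ (PL : Subgroup ↥(Subgroup.normalClosure (S : Set G))), a * b = b * a) ∧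
      (∀ a ∈ (PL : Subgroup ↥(Subgroup.normalClosure (S : Set G))), a ^ 3 = 1) ∧
      Subgroup.centralizer ((PL : Subgroup ↥(Subgroup.normalClosure (S : Set G))) :
        Set ↥(Subgroup.normalClosure (S : Set G))) =
          (PL : Subgroup ↥(Subgroup.normalClosure (S : Set G))) ∧
      Subgroup.normalizer ((PL : Subgroup ↥(Subgroup.normalClosure (S : Set G))) :
        Set ↥(Subgroup.normalClosure (S : Set G))) =
        (Subgroup.normalizer (S : Set G)).subgroupOf (Subgroup.normalClosure (S : Set G)) ∧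
      (∀ u ∈ (PL : Subgroup ↥(Subgroup.normalClosure (S : Set G))), u ≠ 1 →
        Subgroup.centralizer ({u} : Set ↥(Subgroup.normalClosure (S : Set G))) ≤
          Subgroup.normalizer ((PL : Subgroup ↥(Subgroup.normalClosure (S : Set G))) :
            Set ↥(Subgroup.normalClosure (S : Set G)))))
    (hw : (∀ s ∈ S, ∀ i j : ℕ, s * (f ^ i * t ^ j) ∈ Subgroup.normalClosure (S : Set G) ↔
        f ^ i * t ^ j ∈ Subgroup.normalClosure (S : Set G)) ∧
      (f ^ 2 * t ∈ Subgroup.normalClosure (S : Set G) → t ∈ Subgroup.normalClosure (S : Set G)) ∧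
      (f ^ 3 * t ∈ Subgroup.normalClosure (S : Set G) →
        f * t ∈ Subgroup.normalClosure (S : Set G)) ∧
      (f ^ 3 ∈ Subgroup.normalClosure (S : Set G) → f ∈ Subgroup.normalClosure (S : Set G)) ∧
      (t ∈ Subgroup.normalClosure (S : Set G) → f ^ 2 ∈ Subgroup.normalClosure (S : Set G)) ∧
      (f * t ∈ Subgroup.normalClosure (S : Set G) → f ^ 2 ∈ Subgroup.normalClosure (S : Set G)) ∧
      (f ∈ Subgroup.normalClosure (S : Set G) → f ^ 2 ∈ Subgroup.normalClosure (S : Set G))) :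
    False := by
  classical
  set L : Subgroup G := Subgroup.normalClosure (S : Set G) with hL
  set N : Subgroup G := Subgroup.normalizer (S : Set G) with hN
  have hd := h.nd
  have hSL : S ≤ L := Subgroup.le_normalClosure
  obtain ⟨hw1, -, hw3, hw4, hw5, -, -⟩ := hw
  obtain ⟨PL, hPL, hPLcard, hPLcomm, hPLexp, hPLcent, hPLnorm, hPLloc⟩ := htr
  have hf2L : f ^ 2 ∈ L := hw5 ht
  have hftL : f * t ∉ L := by
    intro hc
    apply hf
    have : f = (f * t) * t⁻¹ := by group
    rw [this]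
    exact L.mul_mem hc (L.inv_mem ht)
  have hf3tL : f ^ 3 * t ∉ L := fun hc => hftL (hw3 hc)
  have hf3L : f ^ 3 ∉ L := fun hc => hf (hw4 hc)
  -- the words of `N ∩ L`
  have hwordL : ∀ a b : Fin 2, f ^ (2 * a.val) * t ^ b.val ∈ L := by
    intro a b
    exact L.mul_mem (by rw [pow_mul]; exact L.pow_mem hf2L _) (L.pow_mem ht _)
  have hwords : ∀ i j : ℕ, i < 4 → j < 2 → f ^ i * t ^ j ∈ L →
      ∃ a b : Fin 2, i = 2 * a.val ∧ j = b.val := by
    intro i j hi hj hmem
    interval_cases i <;> interval_cases j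
    · exact ⟨0, 0, rfl, rfl⟩
    · exact ⟨0, 1, rfl, rfl⟩
    · exfalso; apply hf; simpa using hmem
    · exfalso; apply hftL; simpa using hmem
    · exact ⟨1, 0, rfl, rfl⟩
    · exact ⟨1, 1, rfl, rfl⟩
    · exfalso; apply hf3L; simpa using hmem
    · exfalso; apply hf3tL; simpa using hmem
  -- `|N ⊓ L| = 36`
  have hmemNL : ∀ p : S × (Fin 2 × Fin 2),
      (p.1 : G) * (f ^ (2 * p.2.1.val) * t ^ p.2.2.val) ∈ N ⊓ L := by
    intro p
    refine ⟨mul_mem (Subgroup.le_normalizer p.1.2) (mul_mem (pow_mem hd.fN _) (pow_mem hd.tN _)), ?_⟩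
    exact L.mul_mem (hSL p.1.2) (hwordL _ _)
  have hbij : Function.Bijective (fun p : S × (Fin 2 × Fin 2) =>
      (⟨(p.1 : G) * (f ^ (2 * p.2.1.val) * t ^ p.2.2.val), hmemNL p⟩ : ↥(N ⊓ L))) := by
    constructor
    · rintro ⟨s, a, b⟩ ⟨s', a', b'⟩ hh
      have h' : (s : G) * (f ^ (2 * a.val) * t ^ b.val) =
          (s' : G) * (f ^ (2 * a'.val) * t ^ b'.val) := congrArg Subtype.val hh
      obtain ⟨h1, h2, h3⟩ := Cfsg.Agent.Helper47.D8.decomp_unique8 hd s.2 s'.2
        (by have := a.2; omega) (by have := a'.2; omega) b.2 b'.2 h'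
      have e1 : s = s' := Subtype.ext h1
      have e2 : a = a' := Fin.ext (by omega)
      have e3 : b = b' := Fin.ext h3
      rw [e1, e2, e3]
    · rintro ⟨n, hnN, hnL⟩
      obtain ⟨s, hs, i, j, hi, hj, rfl⟩ := hd.memN n hnN
      obtain ⟨a, b, rfl, rfl⟩ := hwords i j hi hj ((hw1 s hs i j).mp hnL)
      exact ⟨(⟨s, hs⟩, a, b), rfl⟩
  have hcardNL : Nat.card ↥(N ⊓ L) = 36 := by
    rw [← Nat.card_eq_of_bijective _ hbij, Nat.card_prod, h.card]
    simp
  -- the normalizer of `PL` in `L`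
  have hcardNPL : Nat.card ↥(Subgroup.normalizer ((PL : Subgroup ↥L) : Set ↥L)) = 36 := by
    rw [hPLnorm, ← Subgroup.inf_subgroupOf_right,
      Nat.card_congr (Subgroup.subgroupOfEquivOfLe (inf_le_right : N ⊓ L ≤ L)).toEquiv]
    exact hcardNL
  -- the squares
  have hsq : ∀ n : ↥(Subgroup.normalizer ((PL : Subgroup ↥L) : Set ↥L)),
      ((n : ↥L) * (n : ↥L)) ∈ (PL : Subgroup ↥L) := by
    rintro ⟨m, hm⟩
    show m * m ∈ (PL : Subgroup ↥L)
    have hn' : m ∈ N.subgroupOf L := by rw [← hPLnorm]; exact hm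
    rw [Subgroup.mem_subgroupOf] at hn'
    rw [hPL, Subgroup.mem_subgroupOf]
    obtain ⟨s, hs, i, j, hi, hj, hnij⟩ := hd.memN _ hn'
    have hnL : s * (f ^ i * t ^ j) ∈ L := by rw [← hnij]; exact m.2
    obtain ⟨a, b, rfl, rfl⟩ := hwords i j hi hj ((hw1 s hs i j).mp hnL)
    show (m : G) * (m : G) ∈ S
    rw [hnij]
    set w := f ^ (2 * a.val) * t ^ b.val with hwdef
    have hwN : w ∈ N := mul_mem (pow_mem hd.fN _) (pow_mem hd.tN _)
    have hw2 : w * w = 1 := CV_word_sq hd a b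
    have hconj : w * s * w⁻¹ ∈ S := (Subgroup.mem_normalizer_iff.mp hwN s).mp hs
    have e : s * w * (s * w) = s * (w * s * w⁻¹) * (w * w) := by group
    rw [e, hw2, mul_one]
    exact S.mul_mem hs hconj
  have hnormal : ((PL : Subgroup ↥L).subgroupOf
      (Subgroup.normalizer ((PL : Subgroup ↥L) : Set ↥L))).Normal := inferInstance
  -- the quotient is a Klein four-group
  have hcardQ : Nat.card (↥(Subgroup.normalizer ((PL : Subgroup ↥L) : Set ↥L)) ⧸
      (PL : Subgroup ↥L).subgroupOf (Subgroup.normalizer ((PL : Subgroup ↥L) : Set ↥L))) = 4 := by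
    have h1 := Subgroup.card_eq_card_quotient_mul_card_subgroup
      ((PL : Subgroup ↥L).subgroupOf (Subgroup.normalizer ((PL : Subgroup ↥L) : Set ↥L)))
    rw [hcardNPL, Nat.card_congr (Subgroup.subgroupOfEquivOfLe
      (Subgroup.le_normalizer : (PL : Subgroup ↥L) ≤ _)).toEquiv, hPLcard] at h1
    omega
  have hK : IsKleinFour (↥(Subgroup.normalizer ((PL : Subgroup ↥L) : Set ↥L)) ⧸
      (PL : Subgroup ↥L).subgroupOf (Subgroup.normalizer ((PL : Subgroup ↥L) : Set ↥L))) := by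
    refine ⟨hcardQ, ?_⟩
    have hdvd : Monoid.exponent (↥(Subgroup.normalizer ((PL : Subgroup ↥L) : Set ↥L)) ⧸
        (PL : Subgroup ↥L).subgroupOf (Subgroup.normalizer ((PL : Subgroup ↥L) : Set ↥L))) ∣ 2 := by
      apply Monoid.exponent_dvd_of_forall_pow_eq_one
      intro q
      induction q using QuotientGroup.induction_on with
      | H n =>
        rw [← QuotientGroup.mk_pow, QuotientGroup.eq_one_iff, Subgroup.mem_subgroupOf, pow_two]
        exact hsq n
    have hne1 : Monoid.exponent (↥(Subgroup.normalizer ((PL : Subgroup ↥L) : Set ↥L)) ⧸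
        (PL : Subgroup ↥L).subgroupOf (Subgroup.normalizer ((PL : Subgroup ↥L) : Set ↥L))) ≠ 1 := by
      intro hc
      rw [Monoid.exp_eq_one_iff] at hc
      have := Nat.card_eq_one_iff_unique.mpr ⟨hc, ⟨1⟩⟩
      omega
    rcases (Nat.dvd_prime Nat.prime_two).mp hdvd with h1 | h2
    · exact absurd h1 hne1
    · exact h2
  have hT : Cfsg.IsElementaryAbelian 3 (PL : Subgroup ↥L) := by
    refine ⟨⟨⟨fun a b => ?_⟩⟩, hPLexp⟩
    exact Subtype.ext (hPLcomm a.1 a.2 b.1 b.2)
  have htop := Cfsg.Agent.S3805.result PL hT hPLcard hPLcent hK hPLloc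
  have hPLn : (PL : Subgroup ↥L).Normal := Subgroup.normalizer_eq_top_iff.mp htop
  rcases hPLn.eq_bot_or_eq_top with hb | htp
  · rw [hb, Subgroup.card_bot] at hPLcard
    omega
  · rw [hPL, Subgroup.subgroupOf_eq_top] at htp
    have hLS : L = S := le_antisymm htp hSL
    apply hn
    rw [← hLS]
    exact Subgroup.normalClosure_normal

end Cfsg.Agent.Helper50.S6
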