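import Mathlib
import Cfsg.Agent.Helper62.S6.Defs
import Cfsg.Agent.Helper62.S6.Lemmas
import Cfsg.Agent.Helper65.S6R5
import Cfsg.Agent.Helper24.S6RW
import Cfsg.Agent.Helper50.S6CVa

/-!
# S3333 (helper62), piece (CV) `case_V4`, verbatim skeleton statement

`case_V4_of` (file `S6CVa`) with (R4) `Helper62.S6.simple_normalClosure`, (R5) `Helper65.S6.transfer`,
(RW) `Helper24.S6.word_mem`.
-/

set_option autoImplicit false
open Cfsg

namespace Cfsg.Agent.Helper50.S6

open Cfsg.Agent.Helper62.S6 Cfsg.Agent.Helper62.D8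

universe u

variable {G : Type u} [Group G] [Finite G]
variable {S : Subgroup G} {x y t f : G}

/-- (CV) `N ∩ L = S⟨f², t⟩`: S3805. -/
theorem case_V4 (h : Cfg S x y t f) (hn : ¬ S.Normal)
    (hf : f ∉ Subgroup.normalClosure (S : Set G)) (ht : t ∈ Subgroup.normalClosure (S : Set G)) :
    False :=
  case_V4_of h hn hf ht (Cfsg.Agent.Helper62.S6.simple_normalClosure h hn)
    (Cfsg.Agent.Helper65.S6.transfer h _ Subgroup.le_normalClosure)
    (Cfsg.Agent.Helper24.S6.word_mem h _ Subgroup.le_normalClosure)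

end Cfsg.Agent.Helper50.S6
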