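import Mathlib
import Cfsg.Agent.Helper47.SGDefs
import Cfsg.Agent.S3736
import Cfsg.Agent.Helper50.SGW7

/-!
# (W8') for helper47's Shult–Gross plan (S3793)

helper62's proof of (W8) (`Cfsg/Agent/Helper62/SGW8.lean`), copied verbatim except for the last call, which
now feeds the corrected special case `KLSpecialStmt'` (with `Q ≠ ⊥`, available here since `⁅Q, A⁆ ≠ ⊥`).
-/

set_option autoImplicit false

namespace Cfsg.Agent.Helper50.SGW

open Cfsg.Agent.Helper47.SG
open scoped commutatorElement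

universe uΓ uW

/-- W8 with the corrected special case (proof by helper62) -/
theorem kl_reduced_of' (h1 : KLAbelianStmt.{uΓ, uW}) (h2 : KLSpecialStmt'.{uΓ, uW}) :
    KLReducedStmt.{uΓ, uW} := by
  intro Γ _ _ W _ _ p q r n φ Q _ x hp hq hr hp2 hpq hpr hqr hWexp hQ hx hfaith hQfix hWfix hmin
  by_contra hcon
  haveI : Fact q.Prime := ⟨hq⟩
  set x1 : Γ := x ^ (p ^ n) with hx1
  set A : Subgroup Γ := Subgroup.zpowers x1 with hA
  set B : Subgroup Γ := Subgroup.zpowers x with hB
  have hx1B : x1 ∈ B := Subgroup.pow_mem _ (Subgroup.mem_zpowers x) _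
  have hAB : A ≤ B := (Subgroup.zpowers_le).2 hx1B
  have hBP : B ≤ Subgroup.normalizer (Q : Set Γ) := by
    rw [Subgroup.normalizer_eq_top]
    exact le_top
  have hAn : B ≤ Subgroup.normalizer (A : Set Γ) := by
    rw [hB, Subgroup.zpowers_le, Subgroup.mem_normalizer_iff]
    intro y
    have hcomm : ∀ y ∈ A, x * y * x⁻¹ = y := by
      intro y hy
      obtain ⟨k, rfl⟩ := Subgroup.mem_zpowers_iff.1 hy
      have h3 : Commute x (x1 ^ k) := ((Commute.refl x).pow_right _).zpow_right k
      rw [h3.eq, mul_inv_cancel_right]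
    constructor
    · intro hy
      rw [hcomm y hy]; exact hy
    · intro hy
      have h3 := hcomm _ hy
      have h4 : x * y * x⁻¹ = y := by
        have h5 : x * (x * y * x⁻¹) * x⁻¹ = x * y * x⁻¹ := h3
        exact mul_left_cancel (mul_right_cancel h5)
      rw [← h4]; exact hy
  have hx1p : x1 ^ p = 1 := by
    rw [hx1, ← pow_mul, ← pow_succ]; exact hx
  have hAp : (Nat.card A).Coprime q := by
    rw [hA, Nat.card_zpowers]
    have h3 : orderOf x1 ∣ p := orderOf_dvd_of_pow_eq_one hx1p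
    rcases (Nat.dvd_prime hp).1 h3 with h4 | h4
    · rw [h4]; exact Nat.coprime_one_left q
    · rw [h4]; exact (Nat.coprime_primes hp hq).2 hpq
  have hnt : ⁅Q, A⁆ ≠ ⊥ := by
    intro hb
    apply hcon
    intro a ha
    have h3 := (Subgroup.commutator_eq_bot_iff_le_centralizer).1 hb ha
    exact Subgroup.mem_centralizer_iff.1 h3 x1 (Subgroup.mem_zpowers x1)
  have hmin' : ∀ U : Subgroup Γ, U < Q → B ≤ Subgroup.normalizer (U : Set Γ) → ⁅U, A⁆ = ⊥ := by
    intro U hU hBU
    rw [Subgroup.commutator_eq_bot_iff_le_centralizer]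
    intro a ha
    rw [Subgroup.mem_centralizer_iff]
    intro y hy
    obtain ⟨k, rfl⟩ := Subgroup.mem_zpowers_iff.1 hy
    have h3 : Commute x1 a := hmin U hU hBU a ha
    exact (h3.zpow_left k).eq
  obtain ⟨hQA, hstruct, hirr, -⟩ :=
    Cfsg.Agent.S3736.result B A Q hQ hBP hAB hAn hAp hnt hmin'
  rcases hstruct with hab | hsp
  · have hcomm : ∀ a ∈ Q, ∀ b ∈ Q, a * b = b * a := by
      intro a ha b hb
      have h3 := hab.1.is_comm.comm (⟨a, ha⟩ : ↥Q) ⟨b, hb⟩
      exact congrArg Subtype.val h3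
    have hQbot := h1 Γ W p q r n φ Q x hp hq hr hpq hpr hqr hWexp hQ hcomm hx hfaith hWfix hQA
    apply hnt
    rw [hQbot]
    exact Subgroup.commutator_bot_left A
  · have hQne : Q ≠ ⊥ := by
      intro hb
      apply hnt
      rw [hb]
      exact Subgroup.commutator_bot_left A
    exact h2 Γ W p q r n φ Q x hp hq hr hp2 hpq hpr hqr hWexp hQ hsp hQne hx hfaith hQfix hWfix hQA
      hirr

end Cfsg.Agent.Helper50.SGW
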