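-- helper50: pure group theory for (X3) of helper85's S5287 split: the quasi-dihedral 2-groups contain a central
-- involution z and a non-central involution s whose centralizer is the four-group {1, z, s, z s}.
import Mathlib
import Cfsg.Prelude.Def_CaseTheorems

set_option autoImplicit false

namespace Cfsg.Agent.Helper50.SSX3

open Cfsg

/-- Structure of a quasi-dihedral group, in the form needed by the Klein-four fusion construction. -/
theorem quasidihedral_four {T : Type*} [Group T] [Finite T] (hqd : IsQuasiDihedral T) :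
    IsPGroup 2 T ∧ ∃ z s : T, orderOf z = 2 ∧ orderOf s = 2 ∧ z ≠ s ∧ (∀ g : T, g * z = z * g) ∧
      (∀ g : T, g * s = s * g → g = 1 ∨ g = z ∨ g = s ∨ g = z * s) ∧
      ∃ g : T, ¬ (g = 1 ∨ g = z ∨ g = s ∨ g = z * s) := by
  obtain ⟨n, hn, hcard, x, y, hx, hy, hxy⟩ := hqd
  refine ⟨IsPGroup.of_card hcard, ?_⟩
  -- numerology: N = 2^n = 2k, k = 2^(n-1) = 2j, j = 2^(n-2) ≥ 2 even
  obtain ⟨t, rfl⟩ : ∃ t, n = t + 3 := ⟨n - 3, by omega⟩
  set j : ℕ := 2 ^ (t + 1) with hj
  have hj2 : 2 ≤ j := by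
    have : 2 ^ 1 ≤ 2 ^ (t + 1) := Nat.pow_le_pow_right (by norm_num) (by omega)
    simpa [hj] using this
  have hjeven : Even j := ⟨2 ^ t, by rw [hj, pow_succ]; ring⟩
  have hk : 2 ^ (t + 3 - 1) = 2 * j := by
    rw [hj]; have : t + 3 - 1 = (t + 1) + 1 := by omega
    rw [this, pow_succ]; ring
  have hN : (2 : ℕ) ^ (t + 3) = 4 * j := by
    rw [hj]; have : t + 3 = (t + 1) + 2 := by omega
    rw [this, pow_add]; ring
  rw [hN] at hx
  rw [hk] at hxy
  -- conjugation by y on powers of x
  have hy2 : y * y = 1 := by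
    have := pow_orderOf_eq_one y
    rw [hy, pow_two] at this; exact this
  have hyinv : y⁻¹ = y := inv_eq_of_mul_eq_one_right hy2
  have hconj : ∀ i : ℕ, y * x ^ i * y⁻¹ = x ^ ((2 * j - 1) * i) := by
    intro i
    have : y * x ^ i * y⁻¹ = (y * x * y⁻¹) ^ i := by
      rw [← MulAut.conj_apply, map_pow, MulAut.conj_apply]
    rw [this, hxy, ← pow_mul]
  -- y is not a power of x
  have hynot : y ∉ Subgroup.zpowers x := by
    intro hmem
    obtain ⟨i, hi⟩ := hmem
    have hcomm : y * x = x * y := by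
      rw [← hi]; exact (Commute.zpow_self x i).symm.eq ▸ rfl
    have h1 : x ^ (2 * j - 1) = x ^ 1 := by
      rw [← hxy, hcomm, mul_inv_cancel_right, pow_one]
    rw [pow_eq_pow_iff_modEq, hx] at h1
    have h2 : (2 * j - 1) % (4 * j) = 1 % (4 * j) := h1
    rw [Nat.mod_eq_of_lt (by omega), Nat.mod_eq_of_lt (by omega)] at h2
    omega
  -- index two
  have hidx : (Subgroup.zpowers x).index = 2 := by
    have h1 := Subgroup.index_mul_card (Subgroup.zpowers x)
    rw [Nat.card_zpowers, hx, hcard] at h1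
    have : 2 ^ (t + 3 + 1) = 2 * (4 * j) := by
      rw [pow_succ, hN]; ring
    rw [this] at h1
    have hpos : 0 < 4 * j := by omega
    exact Nat.eq_of_mul_eq_mul_right hpos h1
  -- every element is x^i or x^i * y
  have hform : ∀ g : T, (∃ i : ℕ, g = x ^ i) ∨ ∃ i : ℕ, g = x ^ i * y := by
    intro g
    have hpow : ∀ h : T, h ∈ Subgroup.zpowers x → ∃ i : ℕ, h = x ^ i := by
      intro h hh
      rw [← mem_powers_iff_mem_zpowers] at hh
      obtain ⟨i, hi⟩ := hh
      exact ⟨i, hi.symm⟩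
    by_cases hg : g ∈ Subgroup.zpowers x
    · exact Or.inl (hpow g hg)
    · right
      have h1 : g * y ∈ Subgroup.zpowers x := by
        rw [Subgroup.mul_mem_iff_of_index_two hidx]
        exact ⟨fun h => absurd h hg, fun h => absurd h hynot⟩
      obtain ⟨i, hi⟩ := hpow _ h1
      refine ⟨i, ?_⟩
      rw [← hi, mul_assoc, hy2, mul_one]
  -- the central involution z = x^(2j)
  obtain ⟨u, hu⟩ : ∃ u, j = u + 2 := ⟨j - 2, by omega⟩
  have hx4 : x ^ (4 * j) = 1 := by rw [← hx]; exact pow_orderOf_eq_one x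
  obtain ⟨z, hz⟩ : ∃ z : T, z = x ^ (2 * j) := ⟨_, rfl⟩
  have hz2 : z * z = 1 := by
    rw [hz, ← pow_add]
    have : 2 * j + 2 * j = 4 * j := by ring
    rw [this, hx4]
  have hz1 : z ≠ 1 := by
    rw [hz]
    apply pow_ne_one_of_lt_orderOf (by omega)
    rw [hx]; omega
  have hzord : orderOf z = 2 := by
    have : Fact (Nat.Prime 2) := ⟨Nat.prime_two⟩
    exact orderOf_eq_prime (by rw [pow_two]; exact hz2) hz1
  have hzmem : z ∈ Subgroup.zpowers x := ⟨(2 * j : ℕ), by rw [hz]; exact zpow_natCast x _⟩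
  have hzy : z ≠ y := fun h => hynot (h ▸ hzmem)
  have hyz : y * z = z * y := by
    have h1 := hconj (2 * j)
    have h2 : x ^ ((2 * j - 1) * (2 * j)) = z := by
      rw [hz, pow_eq_pow_iff_modEq, hx]
      have : (2 * j - 1) * (2 * j) = 2 * j + 4 * j * (u + 1) := by
        rw [hu]
        have : 2 * (u + 2) - 1 = 2 * u + 3 := by omega
        rw [this]; ring
      rw [this]
      exact Nat.add_mul_mod_self_left _ _ _
    rw [h2, ← hz] at h1
    calc y * z = (y * z * y⁻¹) * y := by group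
      _ = z * y := by rw [h1]
  have hzc : ∀ g : T, g * z = z * g := by
    intro g
    rcases hform g with ⟨i, rfl⟩ | ⟨i, rfl⟩
    · rw [hz, ← pow_add, ← pow_add, add_comm]
    · have h1 : x ^ i * z = z * x ^ i := by rw [hz, ← pow_add, ← pow_add, add_comm]
      rw [mul_assoc, hyz, ← mul_assoc, h1, mul_assoc]
  -- powers of x commuting with y
  have hcoprime : Nat.Coprime (2 * j) (u + 1) := by
    have h2 : 2 * j = 2 ^ (t + 2) := by rw [hj, pow_succ]; ring
    rw [h2]
    apply Nat.Coprime.pow_left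
    rw [Nat.coprime_comm, Nat.coprime_two_right]
    obtain ⟨c, hc⟩ := hjeven
    exact ⟨c - 1, by omega⟩
  have hpowcomm : ∀ i : ℕ, y * x ^ i * y⁻¹ = x ^ i → x ^ i = 1 ∨ x ^ i = z := by
    intro i hi
    rw [hconj i, pow_eq_pow_iff_modEq, hx] at hi
    have hle : i ≤ (2 * j - 1) * i := by
      have : 1 ≤ 2 * j - 1 := by omega
      calc i = 1 * i := (one_mul i).symm
        _ ≤ (2 * j - 1) * i := Nat.mul_le_mul_right i this
    have hdvd := (Nat.modEq_iff_dvd' hle).mp hi.symm
    have he : (2 * j - 1) * i - i = 2 * ((u + 1) * i) := by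
      have : 2 * j - 1 = 2 * (u + 1) + 1 := by omega
      rw [this]
      have : (2 * (u + 1) + 1) * i = 2 * ((u + 1) * i) + i := by ring
      rw [this]; omega
    rw [he] at hdvd
    have h4 : 4 * j = 2 * (2 * j) := by ring
    rw [h4] at hdvd
    have hdvd2 : 2 * j ∣ (u + 1) * i := (Nat.mul_dvd_mul_iff_left (by norm_num)).mp hdvd
    obtain ⟨c, hc⟩ := hcoprime.dvd_of_dvd_mul_left hdvd2
    rw [hc, pow_mul, ← hz]
    rcases Nat.even_or_odd c with ⟨d, hd⟩ | ⟨d, hd⟩
    · left
      rw [hd, ← two_mul, pow_mul, pow_two, hz2, one_pow]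
    · right
      rw [hd, pow_succ, pow_mul, pow_two, hz2, one_pow, one_mul]
  refine ⟨z, y, hzord, hy, hzy, hzc, ?_, ?_⟩
  · intro g hg
    rcases hform g with ⟨i, rfl⟩ | ⟨i, rfl⟩
    · have h1 : y * x ^ i * y⁻¹ = x ^ i := by
        rw [← hg, mul_inv_cancel_right]
      rcases hpowcomm i h1 with h | h
      · exact Or.inl h
      · exact Or.inr (Or.inl h)
    · have h1 : y * x ^ i * y⁻¹ = x ^ i := by
        have h2 : x ^ i * y * y = y * (x ^ i * y) := hg
        rw [mul_assoc, hy2, mul_one] at h2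
        rw [hyinv, mul_assoc, ← h2]
      rcases hpowcomm i h1 with h | h
      · right; right; left
        rw [h, one_mul]
      · right; right; right
        rw [h]
  · refine ⟨x, ?_⟩
    rintro (h | h | h | h)
    · have := orderOf_one (G := T)
      rw [← h, hx] at this
      omega
    · have h1 : x ^ 1 = x ^ (2 * j) := by rw [pow_one, ← hz]; exact h
      rw [pow_eq_pow_iff_modEq, hx] at h1
      have h2 : 1 % (4 * j) = (2 * j) % (4 * j) := h1
      rw [Nat.mod_eq_of_lt (by omega), Nat.mod_eq_of_lt (by omega)] at h2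
      omega
    · exact hynot (h ▸ Subgroup.mem_zpowers x)
    · apply hynot
      have : y = z⁻¹ * x := by rw [h]; group
      rw [this]
      exact Subgroup.mul_mem _ (Subgroup.inv_mem _ hzmem) (Subgroup.mem_zpowers x)

end Cfsg.Agent.Helper50.SSX3
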