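-- helper50: (X3) of helper85's S5287 split: a quasi-dihedral 2-group carries a saturated fusion system without a
-- chain of strongly closed subgroups with cyclic steps (via helper60's Klein-four construction (V)).
import Mathlib
import Cfsg.Prelude.Def_CaseTheorems
import Cfsg.Prelude.Def_FusionSystem
import Cfsg.Agent.Helper85.SS.Chain
import Cfsg.Agent.Helper60.SSV
import Cfsg.Agent.Helper50.SSX3Core

set_option autoImplicit false

namespace Cfsg.Agent.Helper50.SSX3

open Cfsg Cfsg.FusionSystem Cfsg.Agent.Helper85.SS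

variable {Ω : Type*} [Group Ω]

theorem exists_bad_quasidihedral {S : Subgroup Ω} [Finite S] (hqd : IsQuasiDihedral ↥S) :
    ∃ F : FusionSystem S, F.IsSaturated 2 ∧ ¬ HasChain F := by
  obtain ⟨hS, z, s, hz2, hs2, hzs, hzc, hcent, g, hg⟩ := quasidihedral_four hqd
  have hord : ∀ a : ↥S, orderOf (a : Ω) = orderOf a := fun a => Subgroup.orderOf_coe a
  refine Cfsg.Agent.Helper60.SSV.exists_bad_of_four hS (z : Ω) (s : Ω) z.2 s.2 ?_ ?_ ?_ ?_ ?_ ?_
  · rw [hord, hz2]
  · rw [hord, hs2]
  · exact fun h => hzs (Subtype.ext h)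
  · intro a ha
    have := hzc ⟨a, ha⟩
    exact congrArg Subtype.val this
  · intro a ha hcomm
    have h1 : (⟨a, ha⟩ : ↥S) * s = s * ⟨a, ha⟩ := Subtype.ext hcomm
    rcases hcent ⟨a, ha⟩ h1 with h | h | h | h
    · exact Or.inl (congrArg Subtype.val h)
    · exact Or.inr (Or.inl (congrArg Subtype.val h))
    · exact Or.inr (Or.inr (Or.inl (congrArg Subtype.val h)))
    · exact Or.inr (Or.inr (Or.inr (congrArg Subtype.val h)))
  · refine ⟨(g : Ω), g.2, ?_⟩
    rintro (h | h | h | h)
    · exact hg (Or.inl (Subtype.ext h))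
    · exact hg (Or.inr (Or.inl (Subtype.ext h)))
    · exact hg (Or.inr (Or.inr (Or.inl (Subtype.ext h))))
    · exact hg (Or.inr (Or.inr (Or.inr (Subtype.ext h))))

end Cfsg.Agent.Helper50.SSX3
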