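-- helper50: piece (FLD0) `gen_facts` of helper84's S2289 farm (WANTED #12729).
import Mathlib
import Cfsg.Agent.Helper84.SU3P.Defs

set_option autoImplicit false

namespace Cfsg.Agent.Helper50.SU3P

open Matrix Polynomial Cfsg.Agent.Helper84.RU3 Cfsg.Agent.Helper96.SLPres
  Cfsg.Agent.Helper96.StemSLTwo Cfsg.Agent.Helper96.StPres

section E

variable {K : Type*} [Field K] [Fintype K] (bar : K →+* K)

theorem fld0_two_le {q : ℕ} (hK : Fintype.card K = q ^ 2) : 2 ≤ q := by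
  have h1 : 1 < Fintype.card K := Fintype.one_lt_card
  rw [hK] at h1
  by_contra h
  have h01 : q = 0 ∨ q = 1 := by omega
  rcases h01 with rfl | rfl <;> simp at h1

theorem fld0_gen_ne_zero {q : ℕ} (hK : Fintype.card K = q ^ 2)
    {ζ : K} (hζ : ∀ x : K, x ≠ 0 → ∃ n : ℕ, ζ ^ n = x) : ζ ≠ 0 := by
  classical
  have hq2 : 2 ≤ q := fld0_two_le hK
  intro h0
  have hcard : 2 < Fintype.card K := by rw [hK]; nlinarith
  have hex : ∃ x : K, x ≠ 0 ∧ x ≠ 1 := by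
    by_contra hall
    push Not at hall
    have hsub : (Finset.univ : Finset K) ⊆ {0, 1} := by
      intro x _
      by_cases hx : x = 0
      · simp [hx]
      · simp [hall x hx]
    have hle := Finset.card_le_card hsub
    rw [Finset.card_univ] at hle
    have h2 : ({0, 1} : Finset K).card ≤ 2 := Finset.card_le_two
    omega
  obtain ⟨x, hx0, hx1⟩ := hex
  obtain ⟨n, hn⟩ := hζ x hx0
  rcases Nat.eq_zero_or_pos n with rfl | hpos
  · rw [pow_zero] at hn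
    exact hx1 hn.symm
  · rw [h0, zero_pow (by omega)] at hn
    exact hx0 hn.symm

theorem fld0_orderOf {q : ℕ} (hK : Fintype.card K = q ^ 2)
    {ζ : K} (hζ : ∀ x : K, x ≠ 0 → ∃ n : ℕ, ζ ^ n = x) : orderOf ζ = q ^ 2 - 1 := by
  classical
  have hζ0 : ζ ≠ 0 := fld0_gen_ne_zero hK hζ
  have hmem : ∀ x : Kˣ, x ∈ Subgroup.zpowers (Units.mk0 ζ hζ0) := by
    intro x
    obtain ⟨n, hn⟩ := hζ (x : K) x.ne_zero
    refine ⟨(n : ℤ), ?_⟩
    apply Units.ext
    simp only [zpow_natCast, Units.val_pow_eq_pow_val, Units.val_mk0]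
    exact hn
  have h1 := orderOf_eq_card_of_forall_mem_zpowers hmem
  rw [Nat.card_eq_fintype_card, Fintype.card_units, hK] at h1
  rw [← h1, ← orderOf_units, Units.val_mk0]

/-- (FLD0) the order of a generator; the norm of a generator generates the fixed field -/
theorem gen_facts {q : ℕ} (hK : Fintype.card K = q ^ 2) (hq : ∀ x, bar x = x ^ q)
    {ζ : K} (hζ : ∀ x : K, x ≠ 0 → ∃ n : ℕ, ζ ^ n = x) :
    ζ ≠ 0 ∧ ζ ^ (q ^ 2 - 1) = 1 ∧ (∀ i : ℤ, ζ ^ i = 1 → ((q ^ 2 - 1 : ℕ) : ℤ) ∣ i) ∧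
    (∀ x : K, x ≠ 0 → bar x = x → ∃ n : ℕ, (ζ * bar ζ) ^ n = x) ∧ (ζ * bar ζ) ^ (q - 1) = 1 ∧
    bar ζ = ζ ^ q ∧ 2 ≤ q := by
  classical
  have hq2 : 2 ≤ q := fld0_two_le hK
  have hζ0 : ζ ≠ 0 := fld0_gen_ne_zero hK hζ
  have hord : orderOf ζ = q ^ 2 - 1 := fld0_orderOf hK hζ
  have hfac : q ^ 2 - 1 = (q + 1) * (q - 1) := by
    have h1 : 1 ≤ q := by omega
    zify [h1, Nat.one_le_pow 2 q (by omega)]
    ring
  have hpow : ζ ^ (q ^ 2 - 1) = 1 := by
    rw [← hord]; exact pow_orderOf_eq_one ζ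
  have hnorm : ζ * bar ζ = ζ ^ (q + 1) := by rw [hq, pow_succ']
  refine ⟨hζ0, hpow, ?_, ?_, ?_, hq ζ, hq2⟩
  · intro i hi
    have hu : (Units.mk0 ζ hζ0) ^ i = 1 := by
      apply Units.ext
      rw [Units.val_zpow_eq_zpow_val, Units.val_mk0, Units.val_one]
      exact hi
    have h2 := orderOf_dvd_iff_zpow_eq_one.mpr hu
    rw [← orderOf_units, Units.val_mk0, hord] at h2
    exact h2
  · intro x hx0 hxb
    obtain ⟨m, hm⟩ := hζ x hx0
    rw [hq] at hxb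
    have h1 : ζ ^ (m * (q - 1)) = 1 := by
      have h3 : ζ ^ (m * (q - 1)) * ζ ^ m = 1 * ζ ^ m := by
        rw [← pow_add, one_mul]
        have h4 : m * (q - 1) + m = m * q := by
          obtain ⟨k, rfl⟩ : ∃ k, q = k + 1 := ⟨q - 1, by omega⟩
          simp only [Nat.add_sub_cancel]; ring
        rw [h4, pow_mul, hm, hxb]
      exact mul_right_cancel₀ (pow_ne_zero m hζ0) h3
    have h2 := orderOf_dvd_of_pow_eq_one h1
    rw [hord, hfac] at h2
    have h3 : q + 1 ∣ m := Nat.dvd_of_mul_dvd_mul_right (by omega : 0 < q - 1) h2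
    obtain ⟨n, rfl⟩ := h3
    exact ⟨n, by rw [hnorm, ← pow_mul]; exact hm⟩
  · rw [hnorm, ← pow_mul, ← hfac]; exact hpow

end E

end Cfsg.Agent.Helper50.SU3P
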