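-- helper50: piece (FLD3) `exists_seed` of helper84's S2289 farm (WANTED #12729).
import Mathlib
import Cfsg.Agent.Helper84.SU3P.Defs

set_option autoImplicit false

namespace Cfsg.Agent.Helper50.SU3P

open Matrix Polynomial Cfsg.Agent.Helper84.RU3 Cfsg.Agent.Helper96.SLPres
  Cfsg.Agent.Helper96.StemSLTwo Cfsg.Agent.Helper96.StPres

section E

variable {K : Type*} [Field K] [Fintype K] (bar : K →+* K)

theorem fld3_two_le {q : ℕ} (hK : Fintype.card K = q ^ 2) : 2 ≤ q := by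
  have h1 : 1 < Fintype.card K := Fintype.one_lt_card
  rw [hK] at h1
  by_contra h
  have h01 : q = 0 ∨ q = 1 := by omega
  rcases h01 with rfl | rfl <;> simp at h1

/-- an element of order `q + 1` -/
theorem fld3_exists_order {q : ℕ} (hK : Fintype.card K = q ^ 2) :
    ∃ z : K, orderOf z = q + 1 := by
  classical
  have hq : 2 ≤ q := fld3_two_le hK
  obtain ⟨θ, hθ⟩ := IsCyclic.exists_ofOrder_eq_natCard (α := Kˣ)
  have hcard : Nat.card Kˣ = q ^ 2 - 1 := by
    rw [Nat.card_eq_fintype_card, Fintype.card_units, hK]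
  rw [hcard] at hθ
  have hfac : q ^ 2 - 1 = (q + 1) * (q - 1) := by
    have h1 : 1 ≤ q := by omega
    zify [h1, Nat.one_le_pow 2 q (by omega)]
    ring
  have hord : orderOf (θ ^ (q - 1)) = q + 1 := by
    rw [orderOf_pow' θ (by omega : q - 1 ≠ 0), hθ, hfac, Nat.gcd_mul_left_left,
      Nat.mul_div_cancel _ (by omega : 0 < q - 1)]
  refine ⟨((θ ^ (q - 1) : Kˣ) : K), ?_⟩
  rw [orderOf_units]; exact hord

/-- (FLD3) a seed parameter whose invariant generates the norm one group -/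
theorem exists_seed {q : ℕ} (hK : Fintype.card K = q ^ 2) (hq : ∀ x, bar x = x ^ q) :
    ∃ b₀ : K, b₀ + bar b₀ + 1 * bar 1 = 0 ∧
      ∀ y : K, y * bar y = 1 → ∃ n : ℕ, (-(b₀ / bar b₀)) ^ n = y := by
  classical
  have hq2 : 2 ≤ q := fld3_two_le hK
  obtain ⟨y₀, hord⟩ := fld3_exists_order (K := K) hK
  have hprim : IsPrimitiveRoot y₀ (q + 1) := hord ▸ IsPrimitiveRoot.orderOf y₀
  have hy1 : y₀ ≠ 1 := by
    intro h
    rw [h, orderOf_one] at hord
    omega
  have hpow : y₀ ^ (q + 1) = 1 := hprim.pow_eq_one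
  have hy0 : y₀ ≠ 0 := by
    intro h
    rw [h, zero_pow (by omega)] at hpow
    exact zero_ne_one hpow
  have hbar : bar y₀ = y₀⁻¹ := by
    rw [hq]
    apply eq_inv_of_mul_eq_one_left
    rw [← pow_succ]
    exact hpow
  have h1y : 1 - y₀ ≠ 0 := by
    intro h
    exact hy1 (sub_eq_zero.mp h).symm
  have hbb : bar (y₀ / (1 - y₀)) = -1 / (1 - y₀) := by
    rw [map_div₀, map_sub, map_one, hbar]
    have h2 : (1 : K) - y₀⁻¹ ≠ 0 := by
      intro h
      have h3 : y₀⁻¹ = 1 := (sub_eq_zero.mp h).symm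
      exact hy1 (inv_eq_one.mp h3)
    field_simp
    ring
  refine ⟨y₀ / (1 - y₀), ?_, ?_⟩
  · rw [hbb, map_one]
    field_simp
    ring
  · have hinv : -(y₀ / (1 - y₀) / bar (y₀ / (1 - y₀))) = y₀ := by
      rw [hbb]
      field_simp
    rw [hinv]
    intro y hy
    rw [hq, ← pow_succ'] at hy
    have : NeZero (q + 1) := ⟨by omega⟩
    obtain ⟨i, -, hi⟩ := hprim.eq_pow_of_pow_eq_one hy
    exact ⟨i, hi⟩

end E

end Cfsg.Agent.Helper50.SU3P
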