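-- helper50 for helper71's S4394 (#5897): piece (B3b): the case `|S : Z(S)| ≠ p ^ 2` is impossible.
import Mathlib
import Cfsg.Prelude.Def_Local
import Cfsg.Agent.Helper71.SchDefs
import Cfsg.Agent.Lib.Cores
import Cfsg.Agent.Helper50.SchB3a

set_option autoImplicit false

namespace Cfsg.Agent.Helper50.Sch

open scoped commutatorElement
open Cfsg Cfsg.Agent.Helper71.Sch

/-- (B3b) the case `|S : Z(S)| ≠ p ^ 2`. -/
theorem false_of_big {Γ : Type*} [Group Γ] [Finite Γ] {p : ℕ} [Fact p.Prime]
    (hC : Subgroup.centralizer (Cfsg.pCore p Γ : Set Γ) ≤ Cfsg.pCore p Γ)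
    (S : Sylow p Γ) (hS : SchIn p (S : Subgroup Γ))
    (hidx : Nat.card (S : Subgroup Γ) = p * Nat.card (Cfsg.pCore p Γ))
    (hbig : Nat.card (S : Subgroup Γ) ≠
      p ^ 2 * Nat.card ↥((S : Subgroup Γ) ⊓ Subgroup.centralizer ((S : Subgroup Γ) : Set Γ))) :
    False := by
  classical
  have hp : p.Prime := Fact.out
  obtain ⟨hZp, u, huR, hucR, hunS⟩ := card_center_eq hC S hS hidx
  set R := Cfsg.pCore p Γ with hR
  set Z := (S : Subgroup Γ) ⊓ Subgroup.centralizer ((S : Subgroup Γ) : Set Γ) with hZ
  have hRS : R ≤ (S : Subgroup Γ) := Cfsg.Agent.Lib.pCore_le_sylow S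
  have hRp : IsPGroup p R := Cfsg.Agent.Lib.isPGroup_pCore p
  have hRpos : 0 < Nat.card R := Nat.card_pos
  have hZR : Z ≤ R := fun z hz => hC (Subgroup.centralizer_le (by exact_mod_cast hRS) hz.2)
  -- `S ≤ R` is impossible
  have hnotle : ¬ (S : Subgroup Γ) ≤ R := by
    intro hle
    have hcard : Nat.card (S : Subgroup Γ) ≤ Nat.card R := Subgroup.card_le_of_le hle
    have : 2 * Nat.card R ≤ p * Nat.card R := Nat.mul_le_mul_right _ hp.two_le
    omega
  have hcommZ : ∀ a ∈ (S : Subgroup Γ), ∀ b ∈ (S : Subgroup Γ), ⁅a, b⁆ ∈ Z := by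
    intro a ha b hb
    refine ⟨?_, hS.comm_mem a ha b hb⟩
    rw [commutatorElement_def]
    exact Subgroup.mul_mem _ (Subgroup.mul_mem _ (Subgroup.mul_mem _ ha hb) (Subgroup.inv_mem _ ha))
      (Subgroup.inv_mem _ hb)
  by_cases hab : ∀ a ∈ R, ∀ b ∈ R, a * b = b * a
  · -- `R` abelian
    obtain ⟨x, hxS, hxR⟩ : ∃ x ∈ (S : Subgroup Γ), x ∉ R := by
      by_contra hcon
      push Not at hcon
      exact hnotle hcon
    -- `S = R ⊔ ⟨x⟩`
    set K := R ⊔ Subgroup.zpowers x with hK
    have hRK : R ≤ K := le_sup_left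
    have hKS : K ≤ (S : Subgroup Γ) := sup_le hRS (by rw [Subgroup.zpowers_le]; exact hxS)
    have hrelRS : R.relIndex (S : Subgroup Γ) = p := by
      have h1 := (R.subgroupOf (S : Subgroup Γ)).card_mul_index
      have h2 : Nat.card (R.subgroupOf (S : Subgroup Γ)) = Nat.card R :=
        Nat.card_congr (Subgroup.subgroupOfEquivOfLe hRS).toEquiv
      rw [h2, hidx] at h1
      have : Nat.card R * (R.subgroupOf (S : Subgroup Γ)).index = Nat.card R * p := by rw [h1, mul_comm]
      exact Nat.eq_of_mul_eq_mul_left hRpos this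
    have hSK : (S : Subgroup Γ) ≤ K := by
      have h1 := Subgroup.relIndex_mul_relIndex R K (S : Subgroup Γ) hRK hKS
      rw [hrelRS] at h1
      have hd : R.relIndex K ∣ p := Dvd.intro _ h1
      rcases (Nat.dvd_prime hp).1 hd with h | h
      · exfalso
        apply hxR
        have := Subgroup.relIndex_eq_one.1 h
        exact this (by rw [hK]; exact (le_sup_right : Subgroup.zpowers x ≤ _) (Subgroup.mem_zpowers x))
      · rw [h] at h1
        have : K.relIndex (S : Subgroup Γ) = 1 := by
          have hp0 : 0 < p := hp.pos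
          have : p * K.relIndex (S : Subgroup Γ) = p * 1 := by rw [h1, mul_one]
          exact Nat.eq_of_mul_eq_mul_left hp0 this
        exact Subgroup.relIndex_eq_one.1 this
    -- the hom `ψ : R → Z`, `w ↦ ⁅x, w⁆`
    set ψ : ↥R →* ↥Z := (commHom (S : Subgroup Γ) hS x hxS).comp (Subgroup.inclusion hRS) with hψ
    have hψapp : ∀ w : ↥R, ((ψ w : ↥Z) : Γ) = ⁅x, (w : Γ)⁆ := fun w => rfl
    -- kernel of `ψ` embeds in `Z`
    have hkerZ : ∀ w : ↥R, w ∈ ψ.ker → (w : Γ) ∈ Z := by
      intro w hw
      rw [MonoidHom.mem_ker] at hw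
      have h1 : ⁅x, (w : Γ)⁆ = 1 := by rw [← hψapp, hw]; rfl
      rw [commutatorElement_eq_one_iff_commute] at h1
      refine ⟨hRS w.2, ?_⟩
      -- `w` commutes with `R` and with `x`, hence with `K ⊇ S`
      have hKle : K ≤ Subgroup.centralizer ({(w : Γ)} : Set Γ) := by
        rw [hK]
        apply sup_le
        · intro r hr
          rw [Subgroup.mem_centralizer_singleton_iff]
          exact hab r hr w w.2
        · rw [Subgroup.zpowers_le, Subgroup.mem_centralizer_singleton_iff]
          exact h1.eq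
      show (w : Γ) ∈ Subgroup.centralizer ((S : Subgroup Γ) : Set Γ)
      rw [Subgroup.mem_centralizer_iff]
      intro s hs
      have := hKle (hSK hs)
      rw [Subgroup.mem_centralizer_singleton_iff] at this
      exact this
    have hkercard : Nat.card ψ.ker ≤ p := by
      rw [← hZp]
      apply Nat.card_le_card_of_injective (fun w : ψ.ker => (⟨(w : ↥R), hkerZ w.1 w.2⟩ : ↥Z))
      intro a b h
      have := congrArg (fun z : ↥Z => (z : Γ)) h
      exact Subtype.ext (Subtype.ext this)
    have hrange : Nat.card ψ.range ∣ p := by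
      rw [← hZp]
      exact Subgroup.card_subgroup_dvd_card _
    have hRcard : Nat.card ψ.ker * Nat.card ψ.range = Nat.card R := by
      rw [← Subgroup.index_ker]
      exact ψ.ker.card_mul_index
    have hRle : Nat.card R ≤ p * p := by
      rw [← hRcard]
      exact Nat.mul_le_mul hkercard (Nat.le_of_dvd hp.pos hrange)
    obtain ⟨k, hk⟩ := IsPGroup.iff_card.1 hRp
    have hk2 : k = 2 := by
      have hk_le : k ≤ 2 := by
        by_contra hlt
        have h3 : 3 ≤ k := by omega
        have : p ^ 3 ≤ p ^ k := Nat.pow_le_pow_right hp.pos h3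
        have hp2 : 2 ≤ p := hp.two_le
        have : p * p * 2 ≤ p ^ 3 := by
          have : p ^ 3 = p * p * p := by ring
          rw [this]
          exact Nat.mul_le_mul_left _ hp2
        have hpp : 0 < p * p := Nat.mul_pos hp.pos hp.pos
        rw [hk] at hRle
        omega
      have hk_ge : 2 ≤ k := by
        by_contra hlt
        have hk1 : Nat.card R ≤ p := by
          rw [hk]
          calc p ^ k ≤ p ^ 1 := Nat.pow_le_pow_right hp.pos (by omega)
            _ = p := pow_one p
        have hZeqR : Z = R := Subgroup.eq_of_le_of_card_ge hZR (by rw [hZp]; exact hk1)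
        apply hunS
        have : u ∈ Z := by rw [hZeqR]; exact huR
        exact this.2
      omega
    apply hbig
    rw [hidx, hk, hk2, hZp]
    ring
  · -- `R` nonabelian
    push Not at hab
    obtain ⟨a, haR, b, hbR, hne⟩ := hab
    have : R.Normal := Cfsg.pCore_normal p Γ
    set N : Subgroup Γ := ⁅R, R⁆ with hN
    have hNZ : N ≤ Z := by
      rw [hN, Subgroup.commutator_le]
      intro g₁ h₁ g₂ h₂
      exact hcommZ g₁ (hRS h₁) g₂ (hRS h₂)
    have hNne : N ≠ ⊥ := by
      intro h
      have h1 : ⁅a, b⁆ ∈ N := Subgroup.commutator_mem_commutator haR hbR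
      rw [h, Subgroup.mem_bot, commutatorElement_eq_one_iff_commute] at h1
      exact hne h1.eq
    have hNeqZ : N = Z := by
      have hd : Nat.card N ∣ p := by
        rw [← hZp]
        exact Subgroup.card_dvd_of_le hNZ
      rcases (Nat.dvd_prime hp).1 hd with h | h
      · exact absurd (Subgroup.card_eq_one.1 h) hNne
      · exact Subgroup.eq_of_le_of_card_ge hNZ (by rw [hZp, h])
    apply hnotle
    apply le_pCore_of_stabilizes hC N (S : Subgroup Γ) (hNZ.trans hZR)
    · intro r hr s hs
      rw [hNeqZ]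
      exact hcommZ r (hRS hr) s hs
    · intro n hn s hs
      have : n ∈ Z := hNZ hn
      exact Subgroup.mem_centralizer_iff.1 this.2 s hs

end Cfsg.Agent.Helper50.Sch
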