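-- helper50: leaf (P5) `not_seven` of helper8's S3385/S3685 farm (WANTED #12989).
import Cfsg.Agent.Helper8.Sims3Defs
import Cfsg.Agent.Helper8.Sims3Basic
import Cfsg.Agent.Helper50.Sims3_P5a

set_option autoImplicit false

namespace Cfsg.Agent.Helper50.Sims3

open Cfsg.Agent.Helper8.Sims3 Pointwise

variable {G : Type*} [Group G]

/-- (P5) `s = 7`, `l = 4` is impossible. -/
theorem not_seven {y : ℤ → G} (h : Tower 7 y) (hl : IsLam y 4) : False :=
  not_seven_of_comm_mem h hl (fun a d hd => tower_comm_mem h a d hd)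

end Cfsg.Agent.Helper50.Sims3
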