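-- helper50: leaf (T4F) `tower_of_G1` of helper8's S3385/S3685 farm (WANTED #12989).
import Cfsg.Agent.Helper8.Sims3Defs

set_option autoImplicit false

namespace Cfsg.Agent.Helper50.Sims3

open Cfsg.Agent.Helper8.Sims3 Pointwise

variable {G : Type*} [Group G]

theorem t4f_mem_conj_smul {H : Subgroup G} {c x : G} :
    x ∈ MulAut.conj c • H ↔ c⁻¹ * x * c ∈ H := by
  rw [Subgroup.mem_pointwise_smul_iff_inv_smul_mem, MulAut.smul_def, MulAut.conj_inv_apply]

/-- `E P g (i + k) m = g^k (E P g i m) g^-k` -/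
theorem t4f_conj_E (P : Subgroup G) (g : G) (i k : ℤ) (m : ℕ) :
    E P g (i + k) m = MulAut.conj (g ^ k) • E P g i m := by
  ext x
  rw [t4f_mem_conj_smul, mem_E, mem_E]
  constructor
  · intro hx j hj1 hj2
    have h1 := hx (j + k) (by omega) (by omega)
    rw [t4f_mem_conj_smul] at h1 ⊢
    have e : (g ^ (j + k))⁻¹ * x * g ^ (j + k) = (g ^ j)⁻¹ * ((g ^ k)⁻¹ * x * g ^ k) * g ^ j := by
      group
    rw [← e]
    exact h1
  · intro hx j hj1 hj2
    have h1 := hx (j - k) (by omega) (by omega)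
    rw [t4f_mem_conj_smul] at h1 ⊢
    have e : (g ^ j)⁻¹ * x * g ^ j = (g ^ (j - k))⁻¹ * ((g ^ k)⁻¹ * x * g ^ k) * g ^ (j - k) := by
      group
    rw [e]
    exact h1

theorem t4f_card_E (P : Subgroup G) (g : G) (i : ℤ) (m : ℕ) :
    Nat.card ↥(E P g i m) = Nat.card ↥(E P g 0 m) := by
  have h1 : E P g i m = MulAut.conj (g ^ i) • E P g 0 m := by
    rw [← t4f_conj_E, zero_add]
  rw [h1]
  exact (Nat.card_congr (Subgroup.equivSMul (MulAut.conj (g ^ i)) (E P g 0 m)).toEquiv).symm

theorem t4f_E_zero (P : Subgroup G) (g : G) : E P g 0 0 = P := by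
  ext x
  rw [mem_E]
  constructor
  · intro hx
    have h1 := hx 0 le_rfl (by simp)
    rw [t4f_mem_conj_smul, zpow_zero, inv_one, one_mul, mul_one] at h1
    exact h1
  · intro hx k hk1 hk2
    have hk : k = 0 := by
      have : k ≤ 0 := by simpa using hk2
      omega
    subst hk
    rw [t4f_mem_conj_smul, zpow_zero, inv_one, one_mul, mul_one]
    exact hx

theorem t4f_E_one (P : Subgroup G) (g : G) : E P g 0 1 = P ⊓ MulAut.conj g • P := by
  ext x
  rw [mem_E, Subgroup.mem_inf]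
  constructor
  · intro hx
    refine ⟨?_, ?_⟩
    · have h1 := hx 0 le_rfl (by simp)
      rw [t4f_mem_conj_smul, zpow_zero, inv_one, one_mul, mul_one] at h1
      exact h1
    · have h1 := hx 1 (by norm_num) (by simp)
      rw [zpow_one] at h1
      exact h1
  · rintro ⟨hx0, hx1⟩ k hk1 hk2
    have hk : k = 0 ∨ k = 1 := by
      have : k ≤ 1 := by simpa using hk2
      omega
    rcases hk with rfl | rfl
    · rw [t4f_mem_conj_smul, zpow_zero, inv_one, one_mul, mul_one]
      exact hx0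
    · rw [zpow_one]
      exact hx1

/-- `P ⊔ gPg⁻¹ = ⊤` -/
theorem t4f_sup_top [Finite G] {P : Subgroup G} {g : G} (h : Setup P g) :
    P ⊔ MulAut.conj g • P = ⊤ := by
  by_contra hne
  have hle : MulAut.conj g • P ≤ P := by
    by_contra hnle
    have hlt : P < P ⊔ MulAut.conj g • P := by
      refine lt_of_le_of_ne le_sup_left ?_
      intro heq
      apply hnle
      have h3 : MulAut.conj g • P ≤ P ⊔ MulAut.conj g • P := le_sup_right
      rw [← heq] at h3
      exact h3
    exact hne (h.coatom.2 _ hlt)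
  have hcard : Nat.card ↥(MulAut.conj g • P) = Nat.card ↥P :=
    (Nat.card_congr (Subgroup.equivSMul (MulAut.conj g) P).toEquiv).symm
  have heq : MulAut.conj g • P = P := Subgroup.eq_of_le_of_card_ge hle hcard.ge
  have hidx := h.idx
  rw [heq, inf_idem, Subgroup.relIndex_self] at hidx
  omega

theorem t4f_card_P [Finite G] {P : Subgroup G} {g : G} (h : Setup P g) (s : ℕ) (hs : 2 ≤ s)
    (hE : ∀ j, 1 ≤ j → j ≤ s → Nat.card ↥(E P g 0 j) = 2 ^ (s - j)) :
    Nat.card ↥P = 3 * 2 ^ (s - 1) := by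
  have h1 := hE 1 le_rfl (by omega)
  rw [t4f_E_one] at h1
  have h2 := Subgroup.relIndex_mul_relIndex (H := (⊥ : Subgroup G))
    (K := P ⊓ MulAut.conj g • P) (L := P) bot_le inf_le_left
  rw [Subgroup.relIndex_bot_left, Subgroup.relIndex_bot_left, h.idx, h1] at h2
  rw [← h2, mul_comm]

/-- (T4F) the tower, given (T4G). -/
theorem tower_of_G1 [Finite G] {P : Subgroup G} {g : G} (h : Setup P g) (s : ℕ) (hs : 2 ≤ s)
    (hE : ∀ j, 1 ≤ j → j ≤ s → Nat.card ↥(E P g 0 j) = 2 ^ (s - j))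
    (y0 : G) (hy0 : y0 ≠ 1) (hy0E : y0 ∈ E P g 0 (s - 1))
    (y : ℤ → G) (hy : ∀ k : ℤ, y k = g ^ (k + 1 - s) * y0 * (g ^ (k + 1 - s))⁻¹)
    (hG1 : ∀ (a : ℤ) (m : ℕ), 1 ≤ m → m ≤ s → U y a m = E P g (a + m - s) (s - m)) :
    Tower s y ∧ U y 0 s = P := by
  have hUs : ∀ a : ℤ, U y a s = MulAut.conj (g ^ a) • P := by
    intro a
    rw [hG1 a s (by omega) le_rfl, Nat.sub_self, add_sub_cancel_right]
    have h1 := t4f_conj_E P g 0 a 0
    rw [zero_add, t4f_E_zero] at h1
    exact h1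
  refine ⟨⟨?_, ?_, ?_, ?_, ?_, ?_⟩, ?_⟩
  · -- sq
    intro i
    have hc : Nat.card ↥(E P g 0 (s - 1)) = 2 := by
      rw [hE (s - 1) (by omega) (by omega)]
      have : s - (s - 1) = 1 := by omega
      rw [this, pow_one]
    have h1 : (⟨y0, hy0E⟩ : ↥(E P g 0 (s - 1))) ^ 2 = 1 := by
      rw [← hc]; exact pow_card_eq_one'
    have h2 : y0 * y0 = 1 := by
      have h3 := congrArg Subtype.val h1
      rw [Subgroup.coe_pow, Subgroup.coe_one, pow_two] at h3
      exact h3
    rw [hy i]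
    have : g ^ (i + 1 - s) * y0 * (g ^ (i + 1 - s))⁻¹ * (g ^ (i + 1 - s) * y0 * (g ^ (i + 1 - s))⁻¹)
        = g ^ (i + 1 - s) * (y0 * y0) * (g ^ (i + 1 - s))⁻¹ := by
      simp only [mul_assoc, inv_mul_cancel_left]
    rw [this, h2, mul_one, mul_inv_cancel]
  · -- card_lt
    intro a m hm
    rcases Nat.eq_zero_or_pos m with rfl | hm0
    · have : U y a 0 = ⊥ := by
        unfold U
        rw [Nat.cast_zero, add_zero, Set.Ico_self, Set.image_empty, Subgroup.closure_empty]
      rw [this, Subgroup.card_bot, pow_zero]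
    · rw [hG1 a m hm0 hm.le, t4f_card_E, hE (s - m) (by omega) (by omega)]
      congr 1
      omega
  · -- card_top
    intro a
    rw [hUs a]
    rw [← Nat.card_congr (Subgroup.equivSMul (MulAut.conj (g ^ a)) P).toEquiv]
    exact t4f_card_P h s hs hE
  · -- gen
    intro a
    have h1 : U y a s ≤ U y a (s + 1) := by
      unfold U
      apply Subgroup.closure_mono
      apply Set.image_mono
      apply Set.Ico_subset_Ico le_rfl
      push_cast
      omega
    have h2 : U y (a + 1) s ≤ U y a (s + 1) := by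
      unfold U
      apply Subgroup.closure_mono
      apply Set.image_mono
      apply Set.Ico_subset_Ico (by omega)
      push_cast
      omega
    rw [hUs] at h1 h2
    have h3 : MulAut.conj (g ^ a) • P ⊔ MulAut.conj (g ^ (a + 1)) • P = ⊤ := by
      have e1 : MulAut.conj (g ^ (a + 1)) • P = MulAut.conj (g ^ a) • (MulAut.conj g • P) := by
        rw [← mul_smul, ← map_mul, zpow_add, zpow_one]
      rw [e1, ← Subgroup.smul_sup, t4f_sup_top h]
      ext x
      rw [t4f_mem_conj_smul]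
      simp
    rw [eq_top_iff, ← h3]
    exact sup_le h1 h2
  · -- core
    intro a N hN hle
    rw [hUs a] at hle
    have h1 : MulAut.conj (g ^ a) • N = N := Subgroup.Normal.conj_smul_eq_self (g ^ a) N
    rw [← h1, Subgroup.pointwise_smul_le_pointwise_smul_iff] at hle
    exact h.core N hN hle
  · -- shift
    refine ⟨g, fun i => ?_⟩
    rw [hy (i + 1), hy i]
    have e : i + 1 + 1 - (s : ℤ) = 1 + (i + 1 - s) := by ring
    rw [e, zpow_add, zpow_one, mul_inv_rev]
    simp only [mul_assoc]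
  · have h1 := hUs 0
    rw [zpow_zero] at h1
    rw [h1]
    ext x
    rw [t4f_mem_conj_smul]
    simp

end Cfsg.Agent.Helper50.Sims3
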