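import Mathlib
import Cfsg.Agent.Helper50.LocallyCentral

/-!
Least (sub)normal supplements to a normal subgroup with perfect quotient (helper50).
-/

set_option autoImplicit false

namespace Cfsg.Agent.Helper50

open Subgroup
open scoped commutatorElement

variable {G : Type*} [Group G]

/-- If `K₁` and `K₂` normalize `M` and `[H, Kᵢ] ≤ M`, then `[H, K₁ ⊔ K₂] ≤ M`.
(Same statement as `Cfsg.Agent.Helper47.commutator_sup_right_le`; reproved here to keep this file independent.) -/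
theorem comm_sup_right_le {H K₁ K₂ M : Subgroup G}
    (h₁ : ⁅H, K₁⁆ ≤ M) (h₂ : ⁅H, K₂⁆ ≤ M)
    (n₁ : K₁ ≤ Subgroup.normalizer (M : Set G)) (n₂ : K₂ ≤ Subgroup.normalizer (M : Set G)) :
    ⁅H, K₁ ⊔ K₂⁆ ≤ M := by
  rw [Subgroup.commutator_le]
  intro h hh l hl
  have key : l ∈ Subgroup.normalizer (M : Set G) ∧ ∀ h ∈ H, ⁅h, l⁆ ∈ M := by
    rw [Subgroup.sup_eq_closure] at hl
    induction hl using Subgroup.closure_induction with
    | mem x hx =>
      rcases hx with hx | hx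
      · exact ⟨n₁ hx, fun h hh => h₁ (Subgroup.commutator_mem_commutator hh hx)⟩
      · exact ⟨n₂ hx, fun h hh => h₂ (Subgroup.commutator_mem_commutator hh hx)⟩
    | one => exact ⟨one_mem _, fun h _ => by simp⟩
    | mul x y _ _ ihx ihy =>
      refine ⟨mul_mem ihx.1 ihy.1, fun h hh => ?_⟩
      rw [commutatorElement_mul_right_eq_mul_conj, mul_assoc, mul_assoc]
      refine mul_mem (ihx.2 h hh) ?_
      rw [← mul_assoc]
      exact (Subgroup.mem_normalizer_iff.mp ihx.1 _).mp (ihy.2 h hh)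
    | inv x _ ihx =>
      refine ⟨inv_mem ihx.1, fun h hh => ?_⟩
      rw [commutatorElement_inv_right]
      have h1 : ⁅x, h⁆ ∈ M := by
        rw [← commutatorElement_inv]; exact inv_mem (ihx.2 h hh)
      have := (Subgroup.mem_normalizer_iff.mp (inv_mem ihx.1) _).mp h1
      simpa using this
  exact key.2 h hh

theorem comm_sup_left_le {H K₁ K₂ M : Subgroup G}
    (h₁ : ⁅K₁, H⁆ ≤ M) (h₂ : ⁅K₂, H⁆ ≤ M)
    (n₁ : K₁ ≤ Subgroup.normalizer (M : Set G)) (n₂ : K₂ ≤ Subgroup.normalizer (M : Set G)) :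
    ⁅K₁ ⊔ K₂, H⁆ ≤ M := by
  rw [Subgroup.commutator_comm]
  apply comm_sup_right_le _ _ n₁ n₂
  · rwa [Subgroup.commutator_comm]
  · rwa [Subgroup.commutator_comm]

theorem sup_le_normalizer_sup {X A B : Subgroup G} (hA : X ≤ normalizer (A : Set G))
    (hB : X ≤ normalizer (B : Set G)) : X ≤ normalizer ((A ⊔ B : Subgroup G) : Set G) := by
  intro x hx
  rw [Subgroup.mem_normalizer_iff_map_conj_eq, Subgroup.map_sup]
  rw [Subgroup.mem_normalizer_iff_map_conj_eq.mp (hA hx), Subgroup.mem_normalizer_iff_map_conj_eq.mp (hB hx)]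

theorem inf_le_normalizer_inf {X A B : Subgroup G} (hA : X ≤ normalizer (A : Set G))
    (hB : X ≤ normalizer (B : Set G)) : X ≤ normalizer ((A ⊓ B : Subgroup G) : Set G) :=
  le_trans (le_inf hA hB) Subgroup.inf_normalizer_le_normalizer_inf

/-- `N` is a supplement to `E` in `X`, normalized by `X`. -/
def IsNSupp (X E N : Subgroup G) : Prop :=
  N ≤ X ∧ X ≤ normalizer (N : Set G) ∧ N ⊔ E = X

/-- Normal supplements to `E` in `X` are closed under intersection when `X = X' E`. -/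
theorem isNSupp_inf {X E N₁ N₂ : Subgroup G} (hEX : E ≤ X) (hE : X ≤ normalizer (E : Set G))
    (hperf : ⁅X, X⁆ ⊔ E = X) (h₁ : IsNSupp X E N₁) (h₂ : IsNSupp X E N₂) :
    IsNSupp X E (N₁ ⊓ N₂) := by
  obtain ⟨h1X, h1N, h1S⟩ := h₁
  obtain ⟨h2X, h2N, h2S⟩ := h₂
  refine ⟨le_trans inf_le_left h1X, inf_le_normalizer_inf h1N h2N, ?_⟩
  set Y := (N₁ ⊓ N₂) ⊔ E with hY
  have hYX : Y ≤ X := sup_le (le_trans inf_le_left h1X) hEX
  have hYn : X ≤ normalizer (Y : Set G) := sup_le_normalizer_sup (inf_le_normalizer_inf h1N h2N) hE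
  apply le_antisymm hYX
  have hEY : E ≤ Y := le_sup_right
  -- [X, X] ≤ Y
  have hc : ⁅X, X⁆ ≤ Y := by
    have e1 : ⁅N₁ ⊔ E, N₂ ⊔ E⁆ ≤ Y := by
      apply comm_sup_right_le _ _ (le_trans h2X hYn) (le_trans hEX hYn)
      · apply comm_sup_left_le _ _ (le_trans h1X hYn) (le_trans hEX hYn)
        · -- [N₁, N₂] ≤ N₁ ⊓ N₂
          refine le_trans (le_inf ?_ ?_) le_sup_left
          · exact (Subgroup.le_normalizer_iff_commutator_le_left).mp (le_trans h2X h1N)
          · exact (Subgroup.le_normalizer_iff_commutator_le_right).mp (le_trans h1X h2N)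
        · exact le_trans ((Subgroup.le_normalizer_iff_commutator_le_left).mp (le_trans h2X hE)) hEY
      · exact le_trans ((Subgroup.le_normalizer_iff_commutator_le_right).mp
          (le_trans (sup_le h1X hEX) hE)) hEY
    rw [h1S, h2S] at e1
    exact e1
  calc X = ⁅X, X⁆ ⊔ E := hperf.symm
    _ ≤ Y := sup_le hc hEY

/-- There is a least normal supplement. -/
theorem exists_least_isNSupp [Finite G] {X E : Subgroup G} (hEX : E ≤ X) (hE : X ≤ normalizer (E : Set G))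
    (hperf : ⁅X, X⁆ ⊔ E = X) :
    ∃ N : Subgroup G, IsNSupp X E N ∧ ∀ N', IsNSupp X E N' → N ≤ N' := by
  let 𝒯 := {T : Subgroup G // IsNSupp X E T}
  have : Nonempty 𝒯 := ⟨⟨X, le_rfl, le_normalizer, sup_eq_left.mpr hEX⟩⟩
  obtain ⟨⟨T, hT⟩, hmin⟩ := Finite.exists_min (fun T : 𝒯 => Nat.card (T : Subgroup G))
  refine ⟨T, hT, fun N' hN' => ?_⟩
  have h1 := isNSupp_inf hEX hE hperf hT hN'
  have h2 := hmin ⟨T ⊓ N', h1⟩
  have h3 : T ⊓ N' = T := Subgroup.eq_of_le_of_card_ge inf_le_left h2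
  rw [← h3]
  exact inf_le_right

theorem isNSupp_top_iff {D N : Subgroup G} : IsNSupp ⊤ D N ↔ N.Normal ∧ N ⊔ D = ⊤ := by
  unfold IsNSupp
  constructor
  · rintro ⟨_, h2, h3⟩
    exact ⟨Subgroup.normalizer_eq_top_iff.mp (top_le_iff.mp h2), h3⟩
  · rintro ⟨h1, h2⟩
    exact ⟨le_top, le_of_eq (Subgroup.normalizer_eq_top_iff.mpr h1).symm, h2⟩

/-- Main theorem: the least normal supplement to `D` (with `G = G' D`) lies in every subnormal supplement. -/
theorem least_supplement [Finite G] (D : Subgroup G) [hD : D.Normal]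
    (hperf : ⁅(⊤ : Subgroup G), (⊤ : Subgroup G)⁆ ⊔ D = ⊤) :
    ∃ B : Subgroup G, B.Normal ∧ B ⊔ D = ⊤ ∧ ∀ B' : Subgroup G, B'.IsSubnormal → B' ⊔ D = ⊤ → B ≤ B' := by
  have hDn : (⊤ : Subgroup G) ≤ normalizer (D : Set G) :=
    le_of_eq (Subgroup.normalizer_eq_top_iff.mpr hD).symm
  obtain ⟨B₀, hB₀, hleast⟩ := exists_least_isNSupp (le_top : D ≤ ⊤) hDn hperf
  obtain ⟨hB₀n, hB₀D⟩ := isNSupp_top_iff.mp hB₀
  refine ⟨B₀, hB₀n, hB₀D, ?_⟩
  have hB₀N : ∀ X : Subgroup G, X ≤ normalizer (B₀ : Set G) := fun X =>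
    le_trans le_top (le_of_eq (Subgroup.normalizer_eq_top_iff.mpr hB₀n).symm)
  have hDN : ∀ X : Subgroup G, X ≤ normalizer (D : Set G) := fun X => le_trans le_top hDn
  -- B₀ is perfect
  have hperfB₀ : ⁅B₀, B₀⁆ = B₀ := by
    apply le_antisymm (Subgroup.commutator_le_left B₀ B₀)
    apply hleast
    rw [isNSupp_top_iff]
    refine ⟨inferInstance, ?_⟩
    have hYn : ∀ X : Subgroup G, X ≤ normalizer ((⁅B₀, B₀⁆ ⊔ D : Subgroup G) : Set G) := fun X =>
      le_trans le_top (le_of_eq (Subgroup.normalizer_eq_top_iff.mpr inferInstance).symm)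
    have e1 : ⁅B₀ ⊔ D, B₀ ⊔ D⁆ ≤ ⁅B₀, B₀⁆ ⊔ D := by
      apply comm_sup_right_le _ _ (hYn _) (hYn _)
      · apply comm_sup_left_le _ _ (hYn _) (hYn _)
        · exact le_sup_left
        · exact le_trans (Subgroup.commutator_le_left D B₀) le_sup_right
      · exact le_trans (Subgroup.commutator_le_right _ D) le_sup_right
    rw [hB₀D] at e1
    apply top_le_iff.mp
    calc (⊤ : Subgroup G) = ⁅(⊤ : Subgroup G), (⊤ : Subgroup G)⁆ ⊔ D := hperf.symm
      _ ≤ ⁅B₀, B₀⁆ ⊔ D := sup_le e1 le_sup_right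
  intro B hB
  induction hB with
  | top => intro _; exact le_top
  | step B K hBK hK hN ih =>
    intro hBD
    have hKD : K ⊔ D = ⊤ := top_le_iff.mp (hBD ▸ sup_le_sup_right hBK D)
    have hB₀K : B₀ ≤ K := ih hKD
    have hKB : K ≤ normalizer (B : Set G) := (Subgroup.normal_subgroupOf_iff_le_normalizer hBK).mp hN
    have hB₀B : B₀ ≤ normalizer (B : Set G) := le_trans hB₀K hKB
    -- D₀ = B₀ ⊓ D, M = B ⊓ B₀
    have hD₀n : (B₀ ⊓ D).Normal := inferInstance
    have hD₀N : ∀ X : Subgroup G, X ≤ normalizer ((B₀ ⊓ D : Subgroup G) : Set G) := fun X =>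
      le_trans le_top (le_of_eq (Subgroup.normalizer_eq_top_iff.mpr hD₀n).symm)
    set M := B ⊓ B₀ with hM
    have hMB₀ : M ≤ B₀ := inf_le_right
    -- D normalizes M ⊔ D₀
    have hDnorm : D ≤ normalizer ((M ⊔ (B₀ ⊓ D) : Subgroup G) : Set G) := by
      intro d hd
      apply mem_normalizer_of_cjg_le
      unfold cjg
      rw [Subgroup.map_sup]
      apply sup_le
      · rintro _ ⟨m, hm, rfl⟩
        have hmB₀ : m ∈ B₀ := hMB₀ hm
        have h1 : d * m * d⁻¹ * m⁻¹ ∈ B₀ ⊓ D := by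
          constructor
          · exact B₀.mul_mem (hB₀n.conj_mem m hmB₀ d) (B₀.inv_mem hmB₀)
          · have : d * m * d⁻¹ * m⁻¹ = d * (m * d⁻¹ * m⁻¹) := by group
            rw [this]
            exact D.mul_mem hd (hD.conj_mem _ (D.inv_mem hd) m)
        have h2 : (MulAut.conj d).toMonoidHom m = (d * m * d⁻¹ * m⁻¹) * m := by
          simp [MulAut.conj_apply]
        rw [h2]
        exact mul_mem ((le_sup_right : B₀ ⊓ D ≤ M ⊔ (B₀ ⊓ D)) h1) ((le_sup_left : M ≤ M ⊔ (B₀ ⊓ D)) hm)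
      · have : (B₀ ⊓ D).map (MulAut.conj d).toMonoidHom = B₀ ⊓ D :=
          Subgroup.mem_normalizer_iff_map_conj_eq.mp (hD₀N ⊤ (mem_top d))
        rw [this]
        exact le_sup_right
    have hBnorm : B ≤ normalizer ((M ⊔ (B₀ ⊓ D) : Subgroup G) : Set G) :=
      sup_le_normalizer_sup (inf_le_normalizer_inf le_normalizer (hB₀N B)) (hD₀N B)
    -- Claim 1: M ⊔ D₀ = B₀
    have claim1 : M ⊔ (B₀ ⊓ D) = B₀ := by
      apply le_antisymm (sup_le hMB₀ inf_le_left)
      have e1 : ⁅B₀, B ⊔ D⁆ ≤ M ⊔ (B₀ ⊓ D) := by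
        apply comm_sup_right_le _ _ hBnorm hDnorm
        · refine le_trans (le_inf ?_ ?_) le_sup_left
          · exact (Subgroup.le_normalizer_iff_commutator_le_right).mp hB₀B
          · exact Subgroup.commutator_le_left B₀ B
        · exact le_trans (le_inf (Subgroup.commutator_le_left B₀ D) (Subgroup.commutator_le_right B₀ D)) le_sup_right
      rw [hBD] at e1
      calc B₀ = ⁅B₀, B₀⁆ := hperfB₀.symm
        _ ≤ ⁅B₀, ⊤⁆ := Subgroup.commutator_mono le_rfl le_top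
        _ ≤ _ := e1
    -- Claim 2: conjugates of M are normal supplements to D₀ in B₀
    have hB₀MN : B₀ ≤ normalizer (M : Set G) := inf_le_normalizer_inf hB₀B (hB₀N B₀)
    have claim2 : ∀ g : G, IsNSupp B₀ (B₀ ⊓ D) (cjg g M) := by
      intro g
      have hgB₀ : cjg g B₀ = B₀ := Subgroup.mem_normalizer_iff_map_conj_eq.mp (hB₀N ⊤ (mem_top g))
      have hgD₀ : cjg g (B₀ ⊓ D) = B₀ ⊓ D := Subgroup.mem_normalizer_iff_map_conj_eq.mp (hD₀N ⊤ (mem_top g))
      refine ⟨?_, ?_, ?_⟩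
      · rw [← hgB₀]; exact cjg_mono g hMB₀
      · calc B₀ = cjg g B₀ := hgB₀.symm
          _ ≤ cjg g (normalizer (M : Set G)) := cjg_mono g hB₀MN
          _ ≤ _ := cjg_normalizer_le g M
      · calc cjg g M ⊔ (B₀ ⊓ D) = cjg g M ⊔ cjg g (B₀ ⊓ D) := by rw [hgD₀]
          _ = cjg g (M ⊔ (B₀ ⊓ D)) := (Subgroup.map_sup _ _ _).symm
          _ = cjg g B₀ := by rw [claim1]
          _ = B₀ := hgB₀
    have hperf' : ⁅B₀, B₀⁆ ⊔ (B₀ ⊓ D) = B₀ := by
      rw [hperfB₀]; exact sup_eq_left.mpr inf_le_left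
    obtain ⟨N, hN, hNleast⟩ := exists_least_isNSupp (inf_le_left : B₀ ⊓ D ≤ B₀) (hD₀N B₀) hperf'
    -- N lies in the normal core of M
    have hNcore : N ≤ M.normalCore := by
      intro x hx b
      have h1 : x ∈ cjg b⁻¹ M := hNleast _ (claim2 b⁻¹) hx
      obtain ⟨m, hm, rfl⟩ := mem_cjg.mp h1
      have : b * (b⁻¹ * m * b⁻¹⁻¹) * b⁻¹ = m := by group
      rw [this]
      exact hm
    have hcoreD : M.normalCore ⊔ D = ⊤ := by
      apply top_le_iff.mp
      calc (⊤ : Subgroup G) = B₀ ⊔ D := hB₀D.symm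
        _ = (N ⊔ (B₀ ⊓ D)) ⊔ D := by rw [hN.2.2]
        _ ≤ M.normalCore ⊔ D := sup_le (sup_le (le_trans hNcore le_sup_left) (le_trans inf_le_right le_sup_right)) le_sup_right
    have h3 : B₀ ≤ M.normalCore := hleast _ (isNSupp_top_iff.mpr ⟨inferInstance, hcoreD⟩)
    exact le_trans h3 (le_trans M.normalCore_le inf_le_left)

end Cfsg.Agent.Helper50
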