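import Mathlib
import Cfsg.Agent.Helper95.TIC.Defs
import Cfsg.Agent.S3375

/-!
# S4064 (helper95), batch 3, piece (ZK): no non-trivial normal subgroup meets `A` trivially
-/

set_option autoImplicit false

namespace Cfsg.Agent.Helper50.TICent

open Subgroup Cfsg Cfsg.Agent.Helper95.TICent

universe u

variable {G : Type u} [Group G]

/-- (ZK) -/
theorem no_normal_disjoint [Finite G]
    (hB7 : ∀ K : Subgroup G, K.Normal → K ≠ ⊥ → (∀ a ∈ K, ∀ b ∈ K, a * b = b * a) →
      ∃ M : Subgroup G, IsBlock M ∧ M.Normal)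
    (hA : ¬ ∃ M : Subgroup G, IsBlock M ∧ M.Normal) (A : Subgroup G) {t : G}
    (ht : orderOf t = 2) (hC : centralizer ({t} : Set G) ≤ A) :
    ∀ K : Subgroup G, K.Normal → K ⊓ A = ⊥ → K = ⊥ := by
  intro K hKn hKA
  by_contra hne
  have hp : Fact (Nat.Prime 2) := ⟨Nat.prime_two⟩
  -- conjugation by `t` on `K`
  let γ : MulAut K := MulAut.conjNormal t
  have hγapp : ∀ k : K, ((γ k : K) : G) = t * k * t⁻¹ := fun k => MulAut.conjNormal_apply t k
  have ht2 : t ^ 2 = 1 := by rw [← ht]; exact pow_orderOf_eq_one t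
  -- fixed points are trivial
  have hfix : ∀ k : K, γ k = k → k = 1 := by
    intro k hk
    have h1 : t * (k : G) * t⁻¹ = k := by rw [← hγapp, hk]
    have h2 : (k : G) ∈ centralizer ({t} : Set G) := by
      rw [Subgroup.mem_centralizer_singleton_iff]
      calc (k : G) * t = (t * (k : G) * t⁻¹) * t := by rw [h1]
        _ = t * (k : G) := by group
    have h3 : (k : G) ∈ K ⊓ A := ⟨k.2, hC h2⟩
    rw [hKA, Subgroup.mem_bot] at h3
    exact Subtype.ext h3
  have hγ2 : γ ^ 2 = 1 := by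
    show (MulAut.conjNormal t : MulAut K) ^ 2 = 1
    rw [← map_pow, ht2, map_one]
  have hγ1 : γ ≠ 1 := by
    intro h
    apply hne
    rw [Subgroup.eq_bot_iff_forall]
    intro k hk
    have := hfix ⟨k, hk⟩ (by rw [h]; rfl)
    exact congrArg Subtype.val this
  have hγo : orderOf γ = 2 := orderOf_eq_prime hγ2 hγ1
  have hab := ((Cfsg.Agent.S3375.result γ hγo).1 hfix).1
  obtain ⟨M, hM⟩ := hB7 K hKn hne (fun a ha b hb => by
    have := hab ⟨a, ha⟩ ⟨b, hb⟩
    exact congrArg Subtype.val this)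
  exact hA ⟨M, hM⟩

end Cfsg.Agent.Helper50.TICent
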