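import Mathlib

/-!
Evaluation of the transfer `G →* A` of `ϕ : M →* A` on elements of `M`, when
`M ∩ g⁻¹ M g ≤ ker ϕ` for all `g ∉ M` (helper50).
-/

set_option autoImplicit false

namespace Cfsg.Agent.Helper50

open Subgroup

/-- If every `g⁻¹ z g ∈ M` with `z ∈ M`, `g ∉ M` is killed by `ϕ`, then the transfer of `ϕ` restricts to `ϕ` on `M`. -/
theorem transfer_eq_of_forall {G : Type*} [Group G] [Finite G] (M : Subgroup G) {A : Type*}
    [CommGroup A] (ϕ : M →* A)
    (hB : ∀ g : G, g ∉ M → ∀ z ∈ M, ∀ hz : g⁻¹ * z * g ∈ M, ϕ ⟨g⁻¹ * z * g, hz⟩ = 1)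
    (y : G) (hy : y ∈ M) : MonoidHom.transfer ϕ y = ϕ ⟨y, hy⟩ := by
  classical
  haveI : Fintype (Quotient (MulAction.orbitRel (zpowers y) (G ⧸ M))) := Fintype.ofFinite _
  rw [MonoidHom.transfer_eq_prod_quotient_orbitRel_zpowers_quot]
  have hfix : ∀ z : zpowers y, z • ((1 : G) : G ⧸ M) = ((1 : G) : G ⧸ M) := by
    rintro ⟨z, hz⟩
    have hzM : z ∈ M := (zpowers_le.mpr hy) hz
    show ((z * 1 : G) : G ⧸ M) = ((1 : G) : G ⧸ M)
    rw [QuotientGroup.eq]
    simpa using M.inv_mem hzM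
  have key1 : ∀ c : G ⧸ M, c.out ∈ M → c = ((1 : G) : G ⧸ M) := by
    intro c hc
    rw [← QuotientGroup.out_eq' c, QuotientGroup.eq]
    simpa using M.inv_mem hc
  have key2 : ∀ c : G ⧸ M, c = ((1 : G) : G ⧸ M) →
      ∀ hmem : c.out⁻¹ * y ^ Function.minimalPeriod (y • ·) c * c.out ∈ M,
        ϕ ⟨c.out⁻¹ * y ^ Function.minimalPeriod (y • ·) c * c.out, hmem⟩ = ϕ ⟨y, hy⟩ := by
    intro c hc hmem
    have ha : c.out ∈ M := by
      have h1 : ((c.out : G) : G ⧸ M) = ((1 : G) : G ⧸ M) := by rw [QuotientGroup.out_eq' c, hc]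
      rw [QuotientGroup.eq] at h1
      have := M.inv_mem h1
      simpa using this
    have hper : Function.minimalPeriod (y • ·) c = 1 := by
      rw [Function.minimalPeriod_eq_one_iff_isFixedPt]
      show y • c = c
      rw [hc]
      exact hfix ⟨y, mem_zpowers y⟩
    have h2 : (⟨c.out⁻¹ * y ^ Function.minimalPeriod (y • ·) c * c.out, hmem⟩ : M)
        = (⟨c.out, ha⟩ : M)⁻¹ * ⟨y, hy⟩ * ⟨c.out, ha⟩ := by
      apply Subtype.ext
      simp [hper]
    rw [h2, map_mul, map_mul, map_inv, mul_right_comm, inv_mul_cancel, one_mul]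
  set q₀ : Quotient (MulAction.orbitRel (zpowers y) (G ⧸ M)) :=
    Quotient.mk'' (((1 : G) : G ⧸ M)) with hq₀
  have hq₀out : q₀.out = ((1 : G) : G ⧸ M) := by
    have h1 : (Quotient.mk'' q₀.out : Quotient (MulAction.orbitRel (zpowers y) (G ⧸ M))) = q₀ :=
      Quotient.out_eq' q₀
    rw [hq₀] at h1
    have h2 := Quotient.exact' h1
    have h3 : q₀.out ∈ MulAction.orbit (zpowers y) (((1 : G) : G ⧸ M)) := h2
    obtain ⟨z, hz⟩ := h3
    rw [← hz]
    exact hfix z
  rw [Finset.prod_eq_single q₀]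
  · exact key2 q₀.out hq₀out _
  · intro q _ hne
    apply hB
    · intro hq
      apply hne
      have h1 := key1 q.out hq
      rw [← Quotient.out_eq' q, hq₀, h1]
    · exact M.pow_mem hy _
  · intro h
    exact absurd (Finset.mem_univ _) h

end Cfsg.Agent.Helper50
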