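import Cfsg.Agent.Helper61.TwoPDefs

/-!
# S4707 (helper61), piece (U2): a point stabilizer fixes no second point
-/

set_option autoImplicit false
set_option linter.unusedSectionVars false

namespace Cfsg.Agent.Helper50.TwoP

open Cfsg MulAction Cfsg.Agent.Helper66.PD2 Cfsg.Agent.Helper61.TwoP

variable {G : Type*} [Group G] [Fintype G] {α : Type*} [Fintype α] [DecidableEq α] [MulAction G α]
  {p : ℕ} [Fact p.Prime] {P : Sylow p G}

/-- (U2) a point stabilizer fixes no second point. -/
theorem exists_moves (S : Setup G α p P) (a b : α) (hab : a ≠ b) :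
    ∃ h ∈ stabilizer G a, h • b ≠ b := by
  by_contra hcon
  push Not at hcon
  have hprim : IsPreprimitive G α := S.prim
  have htrans : IsPretransitive G α := hprim.toIsPretransitive
  have hp5 := S.hp5
  have hnt : Nontrivial α := by
    rw [← Fintype.one_lt_card_iff_nontrivial, S.hα]
    omega
  have hle : stabilizer G a ≤ stabilizer G b := fun h hh => hcon h hh
  obtain ⟨g, hg⟩ := exists_smul_eq G a b
  have hconj : stabilizer G b = (stabilizer G a).map (MulAut.conj g).toMonoidHom := by
    rw [← hg, stabilizer_smul_eq_stabilizer_map_conj]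
  have hcard : Nat.card (stabilizer G b) = Nat.card (stabilizer G a) := by
    rw [hconj]
    exact Subgroup.card_map_of_injective (MulAut.conj g).injective
  have heq : stabilizer G a = stabilizer G b := Subgroup.eq_of_le_of_card_ge hle hcard.le
  -- `g` normalizes `G_a`
  have hgN : g ∈ Subgroup.normalizer ((stabilizer G a : Subgroup G) : Set G) := by
    rw [Subgroup.mem_normalizer_iff]
    intro h
    constructor
    · intro hh
      have : g * h * g⁻¹ ∈ stabilizer G b := by
        rw [hconj]
        exact ⟨h, hh, by simp [MulAut.conj_apply]⟩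
      rwa [← heq] at this
    · intro hh
      rw [heq] at hh
      rw [mem_stabilizer_iff] at hh ⊢
      have h1 : g⁻¹ • b = a := by rw [← hg, inv_smul_smul]
      have h2 : g⁻¹ • ((g * h * g⁻¹) • b) = g⁻¹ • b := by rw [hh]
      rw [mul_smul, mul_smul, inv_smul_smul, h1] at h2
      exact h2
  have hgnot : g ∉ stabilizer G a := by
    intro hga
    rw [mem_stabilizer_iff] at hga
    exact hab (hga.symm.trans hg)
  have hco : IsCoatom (stabilizer G a) := IsPreprimitive.isCoatom_stabilizer_of_isPreprimitive (G := G) a
  -- the normalizer is everything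
  have hNtop : Subgroup.normalizer ((stabilizer G a : Subgroup G) : Set G) = ⊤ := by
    refine hco.2 _ (lt_of_le_of_ne Subgroup.le_normalizer ?_)
    intro hEq
    exact hgnot (hEq ▸ hgN)
  -- so `G_a` fixes every point
  have hfix : ∀ h ∈ stabilizer G a, ∀ c : α, h • c = c := by
    intro h hh c
    obtain ⟨k, hk⟩ := exists_smul_eq G a c
    have hkN : k⁻¹ ∈ Subgroup.normalizer ((stabilizer G a : Subgroup G) : Set G) := by
      rw [hNtop]; exact Subgroup.mem_top _
    have h1 : k⁻¹ * h * k⁻¹⁻¹ ∈ stabilizer G a := (Subgroup.mem_normalizer_iff.1 hkN h).1 hh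
    rw [inv_inv, mem_stabilizer_iff, mul_smul, mul_smul, hk] at h1
    have h2 : k • (k⁻¹ • (h • c)) = k • a := by rw [h1]
    rw [smul_inv_smul, hk] at h2
    exact h2
  have hbot : stabilizer G a = ⊥ := by
    rw [eq_bot_iff]
    intro h hh
    rw [Subgroup.mem_bot]
    exact S.faithful h (hfix h hh)
  rw [hbot] at hco
  -- `P = ⊤`
  have hPne : (P : Subgroup G) ≠ ⊥ := by
    intro hP
    have := S.cardP
    rw [hP, Subgroup.card_bot] at this
    omega
  have hPtop : (P : Subgroup G) = ⊤ := hco.2 _ (bot_lt_iff_ne_bot.2 hPne)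
  have hcardG : Nat.card G = p := by
    rw [← S.cardP, hPtop, Subgroup.card_top]
  have hidx : (stabilizer G a).index = Nat.card α := index_stabilizer_of_transitive G a
  rw [hbot, Subgroup.index_bot, hcardG, Nat.card_eq_fintype_card, S.hα] at hidx
  omega

end Cfsg.Agent.Helper50.TwoP
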