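import Cfsg.Agent.Helper61.TwoPDefs

/-!
# S4707 (helper61), piece (U3a): a suborbit of length `3` when `p = 5`
-/

set_option autoImplicit false
set_option linter.unusedSectionVars false

namespace Cfsg.Agent.Helper50.TwoP

open Cfsg MulAction Cfsg.Agent.Helper66.PD2 Cfsg.Agent.Helper61.TwoP

variable {G : Type*} [Group G] [Fintype G] {α : Type*} [Fintype α] [DecidableEq α] [MulAction G α]
  {p : ℕ} [Fact p.Prime] {P : Sylow p G}

/-- arithmetic core of (U3a) -/
theorem three_of_smooth_add_eq_nine {N x y : ℕ} (hN : ∀ q : ℕ, q.Prime → q ∣ N → q = 2 ∨ q = 3)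
    (hx : x ∣ N) (hy : y ∣ N) (hx2 : 2 ≤ x) (hy2 : 2 ≤ y) (hxy : x + y = 9) : x = 3 ∨ y = 3 := by
  have hx7 : x ≤ 7 := by omega
  have h5 : ¬ 5 ∣ N := fun h => by
    have := hN 5 (by norm_num) h
    omega
  have h7 : ¬ 7 ∣ N := fun h => by
    have := hN 7 (by norm_num) h
    omega
  interval_cases x
  · -- x = 2, y = 7
    have : y = 7 := by omega
    subst this
    exact absurd hy h7
  · exact Or.inl rfl
  · -- x = 4, y = 5
    have : y = 5 := by omega
    subst this
    exact absurd hy h5
  · exact absurd hx h5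
  · right; omega
  · exact absurd hx h7

/-- (U3a) a suborbit of length `3` when `p = 5`. -/
theorem exists_suborbit_three (hp : p = 5) (S : Setup G α p P) (a : α)
    (hrank : Nat.card (orbitRel.Quotient (stabilizer G a) α) = 3)
    (hmove : ∀ b : α, a ≠ b → ∃ h ∈ stabilizer G a, h • b ≠ b)
    (hsmooth : ∀ q : ℕ, q.Prime → q ∣ Nat.card (stabilizer G a) → q = 2 ∨ q = 3) :
    ∃ b : α, b ≠ a ∧ Nat.card (orbit (stabilizer G a) b) = 3 := by
  classical
  have hα : Fintype.card α = 10 := by rw [S.hα, hp]
  -- notation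
  set H : Subgroup G := stabilizer G a with hH
  -- the orbit of `a` is `{a}`
  have hOa : orbit H a = {a} := by
    ext x
    rw [mem_orbit_iff, Set.mem_singleton_iff]
    constructor
    · rintro ⟨h, rfl⟩
      exact h.2
    · rintro rfl
      exact ⟨1, one_smul _ _⟩
  -- orbit sizes divide `|H|`
  have hdvd : ∀ b : α, (orbit H b).ncard ∣ Nat.card H := fun b => by
    rw [← index_stabilizer H b]
    exact Subgroup.index_dvd_card _
  -- orbits of points `≠ a` have at least two points
  have htwo : ∀ b : α, a ≠ b → 2 ≤ (orbit H b).ncard := fun b hb => by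
    obtain ⟨h, hh, hne⟩ := hmove b hb
    have : 1 < (orbit H b).ncard := by
      rw [Set.one_lt_ncard_iff (Set.toFinite _)]
      exact ⟨b, (⟨h, hh⟩ : H) • b, mem_orbit_self b, mem_orbit b _, fun e => hne e.symm⟩
    omega
  -- a point `b ≠ a`
  obtain ⟨b, hba⟩ : ∃ b : α, b ≠ a := by
    have : Nontrivial α := by
      rw [← Fintype.one_lt_card_iff_nontrivial, hα]; omega
    exact exists_ne a
  -- the classes of points
  have hcls : ∀ x y : α, (Quotient.mk'' x : orbitRel.Quotient H α) = Quotient.mk'' y ↔
      x ∈ orbit H y := fun x y =>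
    (orbitRel.Quotient.mem_orbit (x := (Quotient.mk'' y : orbitRel.Quotient H α))).symm
  have hfin : Finite (orbitRel.Quotient H α) := Nat.finite_of_card_ne_zero (by rw [hrank]; omega)
  have hqab : (Quotient.mk'' a : orbitRel.Quotient H α) ≠ Quotient.mk'' b := by
    intro e
    have h1 : b ∈ orbit H a := (hcls b a).1 e.symm
    rw [hOa, Set.mem_singleton_iff] at h1
    exact hba h1
  -- a third class
  obtain ⟨qc, hqca, hqcb⟩ : ∃ qc : orbitRel.Quotient H α,
      qc ≠ Quotient.mk'' a ∧ qc ≠ Quotient.mk'' b := by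
    by_contra hcon
    push Not at hcon
    have hsub : (Set.univ : Set (orbitRel.Quotient H α)) ⊆
        {Quotient.mk'' a, Quotient.mk'' b} := by
      intro q _
      by_cases hq : q = Quotient.mk'' a
      · exact Or.inl hq
      · exact Or.inr (hcon q hq)
    have h1 := Set.ncard_le_ncard hsub (Set.toFinite _)
    rw [Set.ncard_univ, hrank, Set.ncard_pair hqab] at h1
    omega
  obtain ⟨c, rfl⟩ : ∃ c : α, (Quotient.mk'' c : orbitRel.Quotient H α) = qc :=
    Quotient.exists_rep qc
  -- every class is one of the three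
  have hall : ∀ x : α, x ∈ orbit H a ∨ x ∈ orbit H b ∨ x ∈ orbit H c := by
    intro x
    by_contra hcon
    push Not at hcon
    obtain ⟨hxa, hxb, hxc⟩ := hcon
    have hsub : ({Quotient.mk'' a, Quotient.mk'' b, Quotient.mk'' c, Quotient.mk'' x} :
        Set (orbitRel.Quotient H α)) ⊆ Set.univ := Set.subset_univ _
    have h1 := Set.ncard_le_ncard hsub (Set.toFinite _)
    rw [Set.ncard_univ, hrank] at h1
    have h2 : ({Quotient.mk'' a, Quotient.mk'' b, Quotient.mk'' c, Quotient.mk'' x} :
        Set (orbitRel.Quotient H α)).ncard = 4 := by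
      rw [Set.ncard_insert_of_notMem, Set.ncard_insert_of_notMem, Set.ncard_pair]
      · intro e
        exact hxc ((hcls x c).1 e.symm)
      · simp only [Set.mem_insert_iff, Set.mem_singleton_iff, not_or]
        exact ⟨fun e => hqcb e.symm, fun e => hxb ((hcls x b).1 e.symm)⟩
      · simp only [Set.mem_insert_iff, Set.mem_singleton_iff, not_or]
        exact ⟨hqab, fun e => hqca e.symm, fun e => hxa ((hcls x a).1 e.symm)⟩
    omega
  have hca : a ≠ c := by
    rintro rfl
    exact hqca rfl
  -- counting
  have hdisj1 : Disjoint (orbit H b) (orbit H c) := by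
    rw [Set.disjoint_left]
    intro x hxb hxc
    exact hqcb (((hcls x c).2 hxc).symm.trans ((hcls x b).2 hxb))
  have hdisj2 : Disjoint ({a} : Set α) (orbit H b ∪ orbit H c) := by
    rw [Set.disjoint_left]
    intro x hx hx'
    rw [Set.mem_singleton_iff] at hx
    subst hx
    rcases hx' with hx' | hx'
    · exact hqab ((hcls x b).2 hx')
    · exact hqca ((hcls x c).2 hx').symm
  have huniv : (Set.univ : Set α) = {a} ∪ (orbit H b ∪ orbit H c) := by
    ext x
    simp only [Set.mem_univ, Set.mem_union, true_iff]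
    rcases hall x with hx | hx | hx
    · left; rwa [hOa] at hx
    · right; left; exact hx
    · right; right; exact hx
  have hcount : 10 = 1 + ((orbit H b).ncard + (orbit H c).ncard) := by
    have h1 : (Set.univ : Set α).ncard = 10 := by
      rw [Set.ncard_univ, Nat.card_eq_fintype_card, hα]
    rw [huniv, Set.ncard_union_eq hdisj2 (Set.toFinite _) (Set.toFinite _),
      Set.ncard_union_eq hdisj1 (Set.toFinite _) (Set.toFinite _), Set.ncard_singleton] at h1
    exact h1.symm
  have h3 := three_of_smooth_add_eq_nine hsmooth (hdvd b) (hdvd c) (htwo b hba.symm) (htwo c hca)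
    (by omega)
  rcases h3 with h3 | h3
  · exact ⟨b, hba, by rw [Nat.card_coe_set_eq]; exact h3⟩
  · exact ⟨c, hca.symm, by rw [Nat.card_coe_set_eq]; exact h3⟩

end Cfsg.Agent.Helper50.TwoP
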