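import Cfsg.Agent.Helper61.TwoPDefs

/-!
# S4707 (helper61), piece (U3b): the point stabilizer has order not divisible by `4`
-/

set_option autoImplicit false
set_option linter.unusedSectionVars false
set_option linter.unusedVariables false

namespace Cfsg.Agent.Helper50.TwoP

open Cfsg MulAction Cfsg.Agent.Helper66.PD2 Cfsg.Agent.Helper61.TwoP

variable {G : Type*} [Group G] [Fintype G] {α : Type*} [Fintype α] [DecidableEq α] [MulAction G α]
  {p : ℕ} [Fact p.Prime] {P : Sylow p G}

/-- (U3b) the stabilizer has order not divisible by `4`. -/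
theorem not_four_dvd_card_stabilizer (S : Setup G α p P) (a b : α) (hb : b ≠ a)
    (h3 : Nat.card (orbit (stabilizer G a) b) = 3)
    (hfx : ∀ t : G, orderOf t = 2 → fx α t = 0 ∨ fx α t = 2) :
    ¬ 4 ∣ Nat.card (stabilizer G a) := by
  classical
  set H : Subgroup G := stabilizer G a with hH
  -- `a` is not in the orbit of `b`
  have haΓ : a ∉ orbit H b := by
    rintro ⟨h, hh⟩
    have h1 : (h : G) • b = a := hh
    have h2 : (h : G) • a = a := h.2
    have h3 : (h : G)⁻¹ • ((h : G) • b) = (h : G)⁻¹ • ((h : G) • a) := by rw [h1, h2]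
    rw [inv_smul_smul, inv_smul_smul] at h3
    exact hb h3
  -- the action on the orbit
  let φ : H →* Equiv.Perm (orbit H b) := MulAction.toPermHom H (orbit H b)
  have hcard : Nat.card φ.ker * Nat.card φ.range = Nat.card H := by
    rw [← Subgroup.index_ker, Subgroup.card_mul_index]
  have hrange : Nat.card φ.range ∣ 6 := by
    have h1 : Nat.card φ.range ∣ Nat.card (Equiv.Perm (orbit H b)) :=
      Subgroup.card_subgroup_dvd_card _
    rw [Nat.card_perm, h3] at h1
    exact h1
  -- the kernel has odd order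
  have hodd : ¬ 2 ∣ Nat.card φ.ker := by
    intro h2
    obtain ⟨k, hk⟩ := exists_prime_orderOf_dvd_card' 2 h2
    have hkφ : φ (k : H) = 1 := k.2
    set t : G := ((k : H) : G) with ht
    have hot : orderOf t = 2 := by
      rw [ht, Subgroup.orderOf_coe, Subgroup.orderOf_coe, hk]
    have hsub : ({a} ∪ orbit H b : Set α) ⊆ fixedBy α t := by
      intro x hx
      rw [mem_fixedBy]
      rcases hx with hx | hx
      · rw [Set.mem_singleton_iff] at hx
        subst hx
        exact (k : H).2
      · have h1 : φ (k : H) ⟨x, hx⟩ = ⟨x, hx⟩ := by rw [hkφ]; rfl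
        have h2 : ((φ (k : H) ⟨x, hx⟩ : orbit H b) : α) = x := by rw [h1]
        exact h2
    have hcardU : ({a} ∪ orbit H b : Set α).ncard = 4 := by
      rw [Set.ncard_union_eq (Set.disjoint_singleton_left.2 haΓ) (Set.toFinite _) (Set.toFinite _),
        Set.ncard_singleton, ← Nat.card_coe_set_eq, h3]
    have h4 : 4 ≤ fx α t := by
      unfold fx
      rw [Nat.card_coe_set_eq, ← hcardU]
      exact Set.ncard_le_ncard hsub (Set.toFinite _)
    rcases hfx t hot with h0 | h0 <;> omega
  intro h4
  rw [← hcard] at h4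
  have hcop : Nat.Coprime 4 (Nat.card φ.ker) := by
    have : Nat.Coprime 2 (Nat.card φ.ker) := (Nat.Prime.coprime_iff_not_dvd Nat.prime_two).2 hodd
    exact Nat.Coprime.pow_left 2 this
  have h5 : 4 ∣ Nat.card φ.range := hcop.dvd_of_dvd_mul_left h4
  have h6 : 4 ∣ 6 := h5.trans hrange
  omega

end Cfsg.Agent.Helper50.TwoP
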